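import Mathlib

/-!
Orders of `GL`, `SL`, `PSL`, `PGL` and of the centre of `SL` over a finite field.
-/

set_option autoImplicit false

namespace CfsgLib.Classical

open Matrix

variable {ι F : Type*} [Fintype ι] [DecidableEq ι] [Field F]

/-- `SL` embedded in `GL` is the kernel of `det`. -/
theorem range_toGL :
    (Matrix.SpecialLinearGroup.toGL : Matrix.SpecialLinearGroup ι F →* GL ι F).range =
      (Matrix.GeneralLinearGroup.det : GL ι F →* Fˣ).ker := by
  ext g
  constructor
  · rintro ⟨s, rfl⟩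
    rw [MonoidHom.mem_ker, Units.ext_iff]
    simp
  · intro hg
    rw [MonoidHom.mem_ker, Units.ext_iff] at hg
    refine ⟨⟨(g : Matrix ι ι F), by simpa using hg⟩, ?_⟩
    ext i j
    rfl

theorem card_ker_det :
    Nat.card (Matrix.GeneralLinearGroup.det : GL ι F →* Fˣ).ker =
      Nat.card (Matrix.SpecialLinearGroup ι F) := by
  rw [← range_toGL]
  exact (Nat.card_congr
    (MonoidHom.ofInjective Matrix.SpecialLinearGroup.toGL_injective).toEquiv).symm

/-- `(q - 1) |SL_ι(F)| = |GL_ι(F)|`. -/
theorem card_units_mul_card_sl [Finite F] [Nonempty ι] :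
    Nat.card Fˣ * Nat.card (Matrix.SpecialLinearGroup ι F) = Nat.card (GL ι F) := by
  rw [← card_ker_det]
  have h := Subgroup.card_eq_card_quotient_mul_card_subgroup
    (Matrix.GeneralLinearGroup.det : GL ι F →* Fˣ).ker
  rw [Nat.card_congr (QuotientGroup.quotientKerEquivOfSurjective _
    (Matrix.GeneralLinearGroup.det_surjective (n := ι) (R := F))).toEquiv] at h
  exact h.symm

theorem card_sl_mul [Fintype F] {n : ℕ} (hn : 1 ≤ n) :
    (Fintype.card F - 1) * Nat.card (Matrix.SpecialLinearGroup (Fin n) F) =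
      ∏ i : Fin n, (Fintype.card F ^ n - Fintype.card F ^ (i : ℕ)) := by
  have : Nonempty (Fin n) := ⟨⟨0, hn⟩⟩
  rw [← Matrix.card_GL_field, ← card_units_mul_card_sl, Nat.card_units,
    Nat.card_eq_fintype_card (α := F)]

/-- The centre of `SL_ι(F)` has order `gcd(#ι, q - 1)`. -/
theorem card_center_sl [Fintype F] [Nonempty ι] :
    Nat.card (Subgroup.center (Matrix.SpecialLinearGroup ι F)) =
      Nat.gcd (Fintype.card ι) (Fintype.card F - 1) := by
  rw [Nat.card_congr (Matrix.SpecialLinearGroup.center_equiv_rootsOfUnity'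
    (Classical.arbitrary ι)).toEquiv]
  have h1 : rootsOfUnity (Fintype.card ι) F =
      (powMonoidHom (Fintype.card ι) : Fˣ →* Fˣ).ker := by
    ext u; simp [mem_rootsOfUnity]
  rw [h1, IsCyclic.card_powMonoidHom_ker, Nat.card_units, Nat.card_eq_fintype_card (α := F),
    Nat.gcd_comm]

theorem card_center_sl_mul_card_psl :
    Nat.card (Subgroup.center (Matrix.SpecialLinearGroup ι F)) *
        Nat.card (Matrix.ProjectiveSpecialLinearGroup ι F) =
      Nat.card (Matrix.SpecialLinearGroup ι F) := by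
  rw [Subgroup.card_eq_card_quotient_mul_card_subgroup
    (Subgroup.center (Matrix.SpecialLinearGroup ι F))]
  exact mul_comm _ _

theorem card_psl_mul [Fintype F] {n : ℕ} (hn : 1 ≤ n) :
    Nat.gcd n (Fintype.card F - 1) *
        ((Fintype.card F - 1) * Nat.card (Matrix.ProjectiveSpecialLinearGroup (Fin n) F)) =
      ∏ i : Fin n, (Fintype.card F ^ n - Fintype.card F ^ (i : ℕ)) := by
  have : Nonempty (Fin n) := ⟨⟨0, hn⟩⟩
  rw [← card_sl_mul hn, ← card_center_sl_mul_card_psl (ι := Fin n), card_center_sl,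
    Fintype.card_fin]
  ring

theorem card_center_gl [Finite F] [Nonempty ι] :
    Nat.card (Subgroup.center (GL ι F)) = Nat.card Fˣ := by
  rw [Matrix.GeneralLinearGroup.center_eq_range_scalar]
  refine (Nat.card_congr (MonoidHom.ofInjective ?_).toEquiv).symm
  intro a b h
  have h' := congrArg (fun g : GL ι F => (g : Matrix ι ι F) (Classical.arbitrary ι)
    (Classical.arbitrary ι)) h
  exact Units.ext (by simpa using h')

/-- `|PGL_ι(F)| = |SL_ι(F)|`. -/
theorem card_pgl [Finite F] :
    Nat.card (Matrix.ProjGenLinGroup ι F) = Nat.card (Matrix.SpecialLinearGroup ι F) := by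
  rcases isEmpty_or_nonempty ι with h | h
  · have : Subsingleton (Matrix.ProjGenLinGroup ι F) :=
      Matrix.ProjGenLinGroup.mk_surjective.subsingleton
    rw [Nat.card_eq_one_iff_unique.2 ⟨this, ⟨1⟩⟩, Nat.card_eq_one_iff_unique.2 ⟨inferInstance, ⟨1⟩⟩]
  · have h := Subgroup.card_eq_card_quotient_mul_card_subgroup (Subgroup.center (GL ι F))
    rw [card_center_gl, ← card_units_mul_card_sl, mul_comm (Nat.card Fˣ)] at h
    exact (Nat.eq_of_mul_eq_mul_right Nat.card_pos h).symm

end CfsgLib.Classical
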