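import Mathlib
import Cfsg.Agent.Lib.Classical.SLOrder

/-!
`PSL_2(q)` as a permutation group of the projective line, and small isomorphisms.
-/

set_option autoImplicit false

namespace CfsgLib.Classical

open scoped LinearAlgebra.Projectivization

variable {F : Type*} [Field F] [Fintype F]

theorem card_line : Nat.card (ℙ F (Fin 2 → F)) = Fintype.card F + 1 := by
  rw [Projectivization.card_of_finrank_two (k := F) (V := Fin 2 → F) (by simp),
    Nat.card_eq_fintype_card]

theorem exists_psl_two_embedding :
    ∃ f : Matrix.ProjectiveSpecialLinearGroup (Fin 2) F →*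
      Equiv.Perm (Fin (Fintype.card F + 1)), Function.Injective f := by
  have e : ℙ F (Fin 2 → F) ≃ Fin (Fintype.card F + 1) := Nat.equivFinOfCardPos (by rw [card_line]; omega) |>.trans
    (finCongr card_line)
  exact ⟨e.permCongrHom.toMonoidHom.comp (Projectivization.PSLAction.toPermHom (K := F) (ι := Fin 2)),
    e.permCongrHom.injective.comp Matrix.ProjectiveSpecialLinearGroup.toPermHom_injective⟩

/-- A group embedded in `S_n` with half its order is `A_n`. -/
theorem equiv_alternating_of_embedding {G α : Type*} [Group G] [Fintype α] [DecidableEq α]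
    (f : G →* Equiv.Perm α) (hf : Function.Injective f)
    (hcard : 2 * Nat.card G = (Fintype.card α).factorial) :
    Nonempty (G ≃* alternatingGroup α) := by
  have hr : f.range.index = 2 := by
    have h := f.range.card_mul_index
    rw [← Nat.card_congr (MonoidHom.ofInjective hf).toEquiv, Nat.card_perm,
      Nat.card_eq_fintype_card (α := α), ← hcard, mul_comm 2] at h
    rcases Nat.eq_zero_or_pos (Nat.card G) with h0 | h0
    · exact absurd hcard (by rw [h0, mul_zero]; exact (Nat.factorial_pos _).ne)
    · exact Nat.eq_of_mul_eq_mul_left h0 h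
  exact ⟨(MonoidHom.ofInjective hf).trans
    (MulEquiv.subgroupCongr (Equiv.Perm.eq_alternatingGroup_of_index_eq_two hr))⟩

theorem card_psl_two_mul :
    Nat.gcd 2 (Fintype.card F - 1) * Nat.card (Matrix.ProjectiveSpecialLinearGroup (Fin 2) F) =
      Fintype.card F * (Fintype.card F ^ 2 - 1) := by
  have h := card_psl_mul (F := F) (n := 2) (by norm_num)
  rw [Fin.prod_univ_two] at h
  have hq : 1 < Fintype.card F := Fintype.one_lt_card
  refine Nat.eq_of_mul_eq_mul_left (show 0 < Fintype.card F - 1 by omega) ?_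
  rw [mul_left_comm]
  refine h.trans ?_
  obtain ⟨r, hr⟩ : ∃ r, Fintype.card F = r + 1 := ⟨Fintype.card F - 1, by omega⟩
  rw [hr, Nat.add_sub_cancel]
  have e1 : (r + 1) ^ 2 - 1 = r * (r + 2) :=
    Nat.sub_eq_of_eq_add (by ring)
  have e2 : (r + 1) ^ 2 - (r + 1) = r * (r + 1) := Nat.sub_eq_of_eq_add (by ring)
  simp only [Fin.val_zero, Fin.val_one, pow_zero, pow_one, e1, e2]
  ring

theorem card_psl_two_eq {q : ℕ} (hF : Fintype.card F = q) (N : ℕ)
    (hN : q * (q ^ 2 - 1) = Nat.gcd 2 (q - 1) * N) :
    Nat.card (Matrix.ProjectiveSpecialLinearGroup (Fin 2) F) = N := by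
  subst hF
  refine Nat.eq_of_mul_eq_mul_left (Nat.pos_of_ne_zero fun h => ?_) (card_psl_two_mul.trans hN)
  simp [Nat.gcd_eq_zero_iff] at h

end CfsgLib.Classical
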