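import Mathlib

/-!
`SL_ι(F)` is generated by the elementary transvections; perfectness; simplicity of `PSL_ι(F)`.
-/

set_option autoImplicit false

namespace CfsgLib.Classical

open Matrix Matrix.SpecialLinearGroup
open scoped commutatorElement LinearAlgebra.Projectivization

variable {ι F : Type*} [Fintype ι] [DecidableEq ι] [Field F]

theorem transvection_smul_apply {i j : ι} (hij : i ≠ j) (c : F) (w : ι → F) (k : ι) :
    (Matrix.SpecialLinearGroup.transvection hij c • w) k =
      if k = i then w k + c * w j else w k := by
  rw [Matrix.SpecialLinearGroup.smul_def, smul_eq_mulVec, transvection_coe, add_mulVec, one_mulVec,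
    single_mulVec_eq]
  split_ifs with h <;> simp [h]

theorem sl_ext_smul {A B : Matrix.SpecialLinearGroup ι F} (h : ∀ w : ι → F, A • w = B • w) :
    A = B :=
  Subtype.ext (Matrix.ext_iff_smul.2 h)

theorem diag2n_eq_transvection_prod {i j : ι} (hij : i ≠ j) (a : F) (ha : a ≠ 0) :
    diag2n hij a ha =
      Matrix.SpecialLinearGroup.transvection hij a *
        Matrix.SpecialLinearGroup.transvection hij.symm (-a⁻¹) *
      Matrix.SpecialLinearGroup.transvection hij a *
      Matrix.SpecialLinearGroup.transvection hij (-1) *
      Matrix.SpecialLinearGroup.transvection hij.symm 1 *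
      Matrix.SpecialLinearGroup.transvection hij (-1) := by
  have hji : j ≠ i := hij.symm
  refine sl_ext_smul fun w => funext fun k => ?_
  simp only [mul_smul, transvection_smul_apply]
  rw [Matrix.SpecialLinearGroup.smul_def, smul_eq_mulVec, diag2n_coe, mulVec_diagonal]
  by_cases hki : k = i
  · subst hki
    simp [hij, hji]
    field_simp
    ring
  · by_cases hkj : k = j
    · subst hkj
      simp [hij, hji]
      field_simp
      ring
    · simp [hki, hkj]

/-- `SL_ι(F)` is generated by elementary transvections. -/
theorem sl_transvection_induction (H : Subgroup (Matrix.SpecialLinearGroup ι F))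
    (h : ∀ (i j : ι) (hij : i ≠ j) (c : F),
      Matrix.SpecialLinearGroup.transvection hij c ∈ H) : H = ⊤ := by
  rw [eq_top_iff]
  intro A _
  rcases subsingleton_or_nontrivial ι with hι | hι
  · rw [Subsingleton.elim A 1]; exact one_mem H
  · refine diagonal_transvection_induction' (fun A => A ∈ H) A ?_ h (fun _ _ => mul_mem)
    intro i j hij c hc
    rw [diag2n_eq_transvection_prod hij c hc]
    exact mul_mem (mul_mem (mul_mem (mul_mem (mul_mem (h ..) (h ..)) (h ..)) (h ..)) (h ..)) (h ..)

theorem sl_generated_by_transvections :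
    Subgroup.closure {g : Matrix.SpecialLinearGroup ι F |
      ∃ (i j : ι) (hij : i ≠ j) (c : F), g = Matrix.SpecialLinearGroup.transvection hij c} = ⊤ :=
  sl_transvection_induction _ fun i j hij c => Subgroup.subset_closure ⟨i, j, hij, c, rfl⟩

theorem commutator_transvection_transvection {i j k : ι} (hij : i ≠ j) (hjk : j ≠ k) (hik : i ≠ k)
    (a b : F) : ⁅Matrix.SpecialLinearGroup.transvection hij a,
      Matrix.SpecialLinearGroup.transvection hjk b⁆ =
      Matrix.SpecialLinearGroup.transvection hik (a * b) := by
  rw [commutatorElement_def, transvection_inv, transvection_inv]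
  refine sl_ext_smul fun w => funext fun p => ?_
  simp only [mul_smul, transvection_smul_apply]
  by_cases hpi : p = i
  · subst hpi
    simp [hij, hik, hij.symm, hik.symm, hjk, hjk.symm]
    ring
  · by_cases hpj : p = j
    · subst hpj
      simp [hij.symm, hjk, hjk.symm, hpi, hik.symm]
    · simp [hpi, hpj]

/-- `SL_ι(F)` is perfect if `ι` has at least three elements. -/
theorem commutator_sl_eq_top (hι : 3 ≤ Fintype.card ι) :
    commutator (Matrix.SpecialLinearGroup ι F) = ⊤ := by
  refine sl_transvection_induction _ fun i k hik c => ?_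
  obtain ⟨j, -, hj⟩ := Finset.exists_mem_notMem_of_card_lt_card
    (s := ({i, k} : Finset ι)) (t := Finset.univ) (by
      rw [Finset.card_univ]; exact lt_of_le_of_lt Finset.card_le_two (by omega))
  simp only [Finset.mem_insert, Finset.mem_singleton, not_or] at hj
  rw [← one_mul c, ← commutator_transvection_transvection (Ne.symm hj.1) hj.2 hik 1 c]
  exact Subgroup.commutator_mem_commutator (Subgroup.mem_top _) (Subgroup.mem_top _)

theorem iSup_lineStab_eq_top :
    (⨆ p : ℙ F (ι → F), lineStab p.submodule) = (⊤ : Subgroup (Matrix.SpecialLinearGroup ι F)) := by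
  refine sl_transvection_induction _ fun i j hij c => ?_
  have hv : (Pi.single i 1 : ι → F) ≠ 0 := Pi.single_ne_zero_iff.2 one_ne_zero
  refine Subgroup.mem_iSup_of_mem (Projectivization.mk F _ hv) ?_
  rw [Projectivization.submodule_mk]
  exact SL2Gen.transvection_mem_lineStab hij c

/-- The Iwasawa structure of `PSL_ι(F)` on the points of projective space. -/
theorem exists_iwasawa_psl :
    Nonempty (MulAction.IwasawaStructure (Matrix.ProjectiveSpecialLinearGroup ι F) (ℙ F (ι → F))) := by
  refine ⟨⟨PSL.iwasawaT, fun p => ?_, fun g p => ?_, ?_⟩⟩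
  · have hSL : IsMulCommutative (lineStab (F := F) (ι := ι) p.submodule) := by
      rw [← Projectivization.mk_rep p, Projectivization.submodule_mk]
      exact lineStab_isMulCommutative_of_span p.rep p.rep_nonzero
    exact Subgroup.map_isMulCommutative _ _
  · obtain ⟨g_SL, rfl⟩ := QuotientGroup.mk_surjective g
    rw [Matrix.ProjectiveSpecialLinearGroup.smul_proj_mk]
    change Subgroup.map _ _ = _
    rw [PSL.smul_submodule, Matrix.SpecialLinearGroup.lineStab_smul, PSL.iwasawaT_map_conj]
  · rw [show iSup (PSL.iwasawaT (F := F) (ι := ι)) = Subgroup.map (QuotientGroup.mk' _)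
        (⨆ p : ℙ F (ι → F), lineStab p.submodule) by rw [Subgroup.map_iSup],
      iSup_lineStab_eq_top]
    exact Subgroup.map_top_of_surjective _ (QuotientGroup.mk'_surjective _)

/-- If `SL_ι(F)` is perfect, then `PSL_ι(F)` is simple. -/
theorem isSimpleGroup_psl_of_perfect [Nontrivial ι]
    (h : commutator (Matrix.SpecialLinearGroup ι F) = ⊤) :
    IsSimpleGroup (Matrix.ProjectiveSpecialLinearGroup ι F) := by
  obtain ⟨w⟩ := exists_iwasawa_psl (ι := ι) (F := F)
  refine w.isSimpleGroup ?_ inferInstance
  have : Group.IsPerfect (Matrix.SpecialLinearGroup ι F) := ⟨h⟩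
  exact (inferInstance : Group.IsPerfect (Matrix.ProjectiveSpecialLinearGroup ι F)).commutator_eq_top

theorem isSimpleGroup_psl (hι : 3 ≤ Fintype.card ι) :
    IsSimpleGroup (Matrix.ProjectiveSpecialLinearGroup ι F) := by
  have : Nontrivial ι := Fintype.one_lt_card_iff_nontrivial.1 (by omega)
  exact isSimpleGroup_psl_of_perfect (commutator_sl_eq_top hι)

end CfsgLib.Classical
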