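import Mathlib
import Cfsg.Agent.Lib.Geom.WittSesq
import Cfsg.Agent.Lib.Geom.WittQuad

/-!
Stabilisers in isometry groups: the pointwise stabiliser of a non-degenerate subspace is the isometry
group of its orthogonal complement; orbit–stabiliser bookkeeping.
-/

set_option autoImplicit false

namespace CfsgLib.Classical

open CfsgLib.Geom
open QuadraticMap (polar)

variable {F V : Type*} [Field F] [AddCommGroup V] [Module F V]

/-- Restriction of a sesquilinear form to a submodule. -/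
def restrictSesq {σ : F →+* F} (B : V →ₛₗ[σ] V →ₗ[F] F) (W : Submodule F V) :
    W →ₛₗ[σ] W →ₗ[F] F :=
  LinearMap.mk₂'ₛₗ σ (RingHom.id F) (fun x y => B (x : V) (y : V)) (fun x x' y => by simp)
    (fun c x y => by simp) (fun x y y' => by simp) (fun c x y => by simp)

@[simp] theorem restrictSesq_apply {σ : F →+* F} (B : V →ₛₗ[σ] V →ₗ[F] F) (W : Submodule F V)
    (x y : W) : restrictSesq B W x y = B (x : V) (y : V) := rfl

/-- The pointwise stabiliser of `W` in a subgroup of automorphisms. -/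
def fixingIn (G : Subgroup (V ≃ₗ[F] V)) (W : Submodule F V) : Subgroup (V ≃ₗ[F] V) where
  carrier := {g | g ∈ G ∧ ∀ w ∈ W, g w = w}
  mul_mem' {a b} ha hb := ⟨mul_mem ha.1 hb.1, fun w hw => by
    rw [LinearEquiv.mul_apply, hb.2 w hw, ha.2 w hw]⟩
  one_mem' := ⟨one_mem G, fun w _ => rfl⟩
  inv_mem' {a} ha := ⟨inv_mem ha.1, fun w hw => by
    conv_lhs => rw [← ha.2 w hw]
    exact a.symm_apply_apply w⟩

theorem mem_fixingIn {G : Subgroup (V ≃ₗ[F] V)} {W : Submodule F V} {g : V ≃ₗ[F] V} :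
    g ∈ fixingIn G W ↔ g ∈ G ∧ ∀ w ∈ W, g w = w := Iff.rfl

/-- Extension of an automorphism of a complement by the identity. -/
theorem exists_extend {W W' : Submodule F V} (hc : IsCompl W W') (h : W' ≃ₗ[F] W') :
    ∃ g : V ≃ₗ[F] V, (∀ w ∈ W, g w = w) ∧ ∀ y : W', g (y : V) = h y := by
  let e := W.prodEquivOfIsCompl W' hc
  refine ⟨(e.symm.trans ((LinearEquiv.refl F W).prodCongr h)).trans e, fun w hw => ?_, fun y => ?_⟩
  · have : e.symm w = ((⟨w, hw⟩ : W), 0) :=
      Submodule.prodEquivOfIsCompl_symm_apply_left W W' hc ⟨w, hw⟩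
    simp [this, e]
  · have : e.symm (y : V) = (0, y) := Submodule.prodEquivOfIsCompl_symm_apply_right W W' hc y
    simp [this, e]

/-- The stabiliser of `W` acts as the full isometry group on a complement `W'`, abstractly. -/
theorem nonempty_fixingIn_equiv {G : Subgroup (V ≃ₗ[F] V)} {W W' : Submodule F V}
    (hc : IsCompl W W') (G' : Subgroup (W' ≃ₗ[F] W'))
    (hpres : ∀ g ∈ fixingIn G W, ∀ y ∈ W', g y ∈ W')
    (hres : ∀ (g : V ≃ₗ[F] V), g ∈ fixingIn G W → ∀ h : W' ≃ₗ[F] W',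
      (∀ y : W', g (y : V) = h y) → h ∈ G')
    (hext : ∀ (g : V ≃ₗ[F] V), (∀ w ∈ W, g w = w) → ∀ h ∈ G', (∀ y : W', g (y : V) = h y) → g ∈ G) :
    Nonempty (fixingIn G W ≃* G') := by
  have inv' : ∀ g ∈ fixingIn G W, ∀ y ∈ W', g.symm y ∈ W' := fun g hg y hy =>
    hpres g⁻¹ (inv_mem hg) y hy
  let r : fixingIn G W → (W' ≃ₗ[F] W') := fun g =>
    LinearEquiv.ofSubmodules g.1 W' W' (le_antisymm
      (Submodule.map_le_iff_le_comap.2 fun y hy => hpres g.1 g.2 y hy)
      (fun y hy => ⟨g.1.symm y, inv' g.1 g.2 y hy, g.1.apply_symm_apply y⟩))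
  have hr : ∀ (g : fixingIn G W) (y : W'), (r g y : V) = g.1 (y : V) := fun g y => rfl
  let φ : fixingIn G W →* G' :=
    { toFun := fun g => ⟨r g, hres g.1 g.2 _ fun y => (hr g y).symm⟩
      map_one' := Subtype.ext (LinearEquiv.ext fun y => Subtype.ext (hr 1 y))
      map_mul' := fun a b => Subtype.ext (LinearEquiv.ext fun y => Subtype.ext (by
        simp [hr, LinearEquiv.mul_apply])) }
  refine ⟨MulEquiv.ofBijective φ ⟨fun a b hab => ?_, fun h => ?_⟩⟩
  · refine Subtype.ext (LinearEquiv.ext fun v => ?_)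
    obtain ⟨w, hw, y, hy, rfl⟩ := Submodule.mem_sup.1
      (show v ∈ W ⊔ W' by rw [hc.sup_eq_top]; trivial)
    have := congrArg (fun k : G' => ((k : W' ≃ₗ[F] W') ⟨y, hy⟩ : V)) hab
    rw [map_add, map_add, a.2.2 w hw, b.2.2 w hw]
    exact congrArg (w + ·) (by simpa [φ, hr] using this)
  · obtain ⟨g, hgW, hgW'⟩ := exists_extend hc h.1
    refine ⟨⟨g, hext g hgW h.1 h.2 hgW', hgW⟩, Subtype.ext (LinearEquiv.ext fun y => Subtype.ext ?_)⟩
    simpa [φ, hr] using hgW' y

/-- Pointwise stabiliser of `W` in `formIsoms B` when `W'` is its orthogonal complement. -/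
theorem card_fixingIn_formIsoms {σ : F →+* F} (B : V →ₛₗ[σ] V →ₗ[F] F) {W W' : Submodule F V}
    (hc : IsCompl W W') (h1 : ∀ y, y ∈ W' ↔ ∀ w ∈ W, B w y = 0)
    (h2 : ∀ y ∈ W', ∀ w ∈ W, B y w = 0) :
    Nat.card (fixingIn (formIsoms B) W) = Nat.card (formIsoms (restrictSesq B W')) := by
  obtain ⟨e⟩ := nonempty_fixingIn_equiv (G := formIsoms B) hc (formIsoms (restrictSesq B W'))
    (fun g hg y hy => (h1 _).2 fun w hw => by
      rw [← hg.2 w hw, hg.1]; exact (h1 y).1 hy w hw)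
    (fun g hg h hh x y => by simp [← hh, hg.1 (x : V) (y : V)])
    (fun g hgW h hh hgW' u v => by
      obtain ⟨w, hw, y, hy, rfl⟩ := Submodule.mem_sup.1
        (show u ∈ W ⊔ W' by rw [hc.sup_eq_top]; trivial)
      obtain ⟨w', hw', y', hy', rfl⟩ := Submodule.mem_sup.1
        (show v ∈ W ⊔ W' by rw [hc.sup_eq_top]; trivial)
      have e1 := hgW' ⟨y, hy⟩; have e2 := hgW' ⟨y', hy'⟩
      simp only at e1 e2
      simp only [map_add, LinearMap.add_apply, hgW w hw, hgW w' hw', e1, e2]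
      rw [(h1 _).1 (h ⟨y', hy'⟩).2 w hw, h2 _ (h ⟨y, hy⟩).2 w' hw', (h1 _).1 hy' w hw,
        h2 y hy w' hw']
      have := hh ⟨y, hy⟩ ⟨y', hy'⟩
      simp only [restrictSesq_apply] at this
      rw [this])
  exact Nat.card_congr e.toEquiv

/-- Pointwise stabiliser of `W` in `quadIsoms Q` when `W'` is its orthogonal complement. -/
theorem card_fixingIn_quadIsoms (Q : QuadraticForm F V) {W W' : Submodule F V}
    (hc : IsCompl W W') (h1 : ∀ y, y ∈ W' ↔ ∀ w ∈ W, polar Q w y = 0) :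
    Nat.card (fixingIn (quadIsoms Q) W) = Nat.card (quadIsoms (Q.comp W'.subtype)) := by
  obtain ⟨e⟩ := nonempty_fixingIn_equiv (G := quadIsoms Q) hc (quadIsoms (Q.comp W'.subtype))
    (fun g hg y hy => (h1 _).2 fun w hw => by
      rw [← hg.2 w hw, polar_quadIsom hg.1]; exact (h1 y).1 hy w hw)
    (fun g hg h hh x => by simp [← hh, hg.1 (x : V)])
    (fun g hgW h hh hgW' v => by
      obtain ⟨w, hw, y, hy, rfl⟩ := Submodule.mem_sup.1
        (show v ∈ W ⊔ W' by rw [hc.sup_eq_top]; trivial)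
      have e1 := hgW' ⟨y, hy⟩
      simp only at e1
      rw [map_add g, hgW w hw, e1, QuadraticMap.map_add Q, QuadraticMap.map_add Q,
        (h1 _).1 (h ⟨y, hy⟩).2 w hw, (h1 _).1 hy w hw]
      have := hh ⟨y, hy⟩
      simp only [QuadraticMap.comp_apply, Submodule.subtype_apply] at this
      rw [this])
  exact Nat.card_congr e.toEquiv

theorem card_formIsoms_congr {V' : Type*} [AddCommGroup V'] [Module F V'] {σ : F →+* F}
    (B : V →ₛₗ[σ] V →ₗ[F] F) (B' : V' →ₛₗ[σ] V' →ₗ[F] F) (e : V ≃ₗ[F] V')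
    (he : ∀ x y, B' (e x) (e y) = B x y) : Nat.card (formIsoms B) = Nat.card (formIsoms B') := by
  refine Nat.card_congr
    { toFun := fun g => ⟨(e.symm.trans g.1).trans e, fun u v => ?_⟩
      invFun := fun g => ⟨(e.trans g.1).trans e.symm, fun u v => ?_⟩
      left_inv := fun g => Subtype.ext (LinearEquiv.ext fun x => by simp)
      right_inv := fun g => Subtype.ext (LinearEquiv.ext fun x => by simp) }
  · simp only [LinearEquiv.trans_apply, he, g.2 (e.symm u) (e.symm v)]
    rw [← he, e.apply_symm_apply, e.apply_symm_apply]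
  · simp only [LinearEquiv.trans_apply]
    rw [← he, e.apply_symm_apply, e.apply_symm_apply, g.2, he]

theorem card_quadIsoms_congr {V' : Type*} [AddCommGroup V'] [Module F V']
    (Q : QuadraticForm F V) (Q' : QuadraticForm F V') (e : V ≃ₗ[F] V')
    (he : ∀ x, Q' (e x) = Q x) : Nat.card (quadIsoms Q) = Nat.card (quadIsoms Q') := by
  refine Nat.card_congr
    { toFun := fun g => ⟨(e.symm.trans g.1).trans e, fun u => ?_⟩
      invFun := fun g => ⟨(e.trans g.1).trans e.symm, fun u => ?_⟩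
      left_inv := fun g => Subtype.ext (LinearEquiv.ext fun x => by simp)
      right_inv := fun g => Subtype.ext (LinearEquiv.ext fun x => by simp) }
  · simp only [LinearEquiv.trans_apply, he, g.2 (e.symm u)]
    rw [← he, e.apply_symm_apply]
  · simp only [LinearEquiv.trans_apply]
    rw [← he, e.apply_symm_apply, g.2, he]

/-- Orbit–stabiliser for a single vector. -/
theorem card_eq_orbit_mul_fixing_one (G : Subgroup (V ≃ₗ[F] V)) (e : V) :
    Nat.card G = Nat.card {v : V // ∃ g ∈ G, g e = v} * Nat.card (fixingIn G (F ∙ e)) := by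
  have h := Nat.card_congr (MulAction.orbitProdStabilizerEquivGroup G e).symm
  rw [Nat.card_prod] at h
  rw [h]
  congr 1
  · exact Nat.card_congr (Equiv.subtypeEquivRight fun v =>
      ⟨fun ⟨g, hg⟩ => ⟨g.1, g.2, hg⟩, fun ⟨g, hg, hv⟩ => ⟨⟨g, hg⟩, hv⟩⟩)
  · refine Nat.card_congr
      { toFun := fun g => ⟨g.1.1, g.1.2, fun w hw => ?_⟩
        invFun := fun g => ⟨⟨g.1, g.2.1⟩, g.2.2 e (Submodule.mem_span_singleton_self e)⟩
        left_inv := fun g => rfl
        right_inv := fun g => rfl }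
    obtain ⟨a, rfl⟩ := Submodule.mem_span_singleton.1 hw
    rw [map_smul]
    exact congrArg (a • ·) g.2

/-- Orbit–stabiliser for a pair of vectors. -/
theorem card_eq_orbit_mul_fixing_pair (G : Subgroup (V ≃ₗ[F] V)) (e f : V) :
    Nat.card G = Nat.card {p : V × V // ∃ g ∈ G, g e = p.1 ∧ g f = p.2} *
      Nat.card (fixingIn G (Submodule.span F {e, f})) := by
  have h := Nat.card_congr (MulAction.orbitProdStabilizerEquivGroup G (e, f)).symm
  rw [Nat.card_prod] at h
  rw [h]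
  congr 1
  · exact Nat.card_congr (Equiv.subtypeEquivRight fun v =>
      ⟨fun ⟨g, hg⟩ => ⟨g.1, g.2, congrArg Prod.fst hg, congrArg Prod.snd hg⟩,
        fun ⟨g, hg, h1, h2⟩ => ⟨⟨g, hg⟩, Prod.ext h1 h2⟩⟩)
  · refine Nat.card_congr
      { toFun := fun g => ⟨g.1.1, g.1.2, fun w hw => ?_⟩
        invFun := fun g => ⟨⟨g.1, g.2.1⟩, Prod.ext (g.2.2 e (Submodule.subset_span (by simp)))
          (g.2.2 f (Submodule.subset_span (by simp)))⟩
        left_inv := fun g => rfl
        right_inv := fun g => rfl }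
    obtain ⟨a, b, rfl⟩ := Submodule.mem_span_pair.1 hw
    rw [map_add, map_smul, map_smul]
    exact congrArg₂ (fun x y => a • x + b • y) (congrArg Prod.fst g.2) (congrArg Prod.snd g.2)

end CfsgLib.Classical
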