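import Mathlib
import Cfsg.Prelude.Def_Classical

/-!
Matrix groups defined by `Cfsg.preserving` as groups of linear automorphisms.
-/

set_option autoImplicit false

namespace CfsgLib.Classical

open Matrix

variable {ι : Type} [Fintype ι] [DecidableEq ι] {F : Type*} [Field F]

/-- Invertible matrices as linear automorphisms of `ι → F`. -/
noncomputable def glLin : GL ι F ≃* ((ι → F) ≃ₗ[F] (ι → F)) :=
  Matrix.GeneralLinearGroup.toLin.trans (LinearMap.GeneralLinearGroup.generalLinearEquiv F (ι → F))

theorem glLin_apply (g : GL ι F) (v : ι → F) : glLin g v = (g : Matrix ι ι F) *ᵥ v := by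
  rfl

/-- A subgroup of `GL` cut out by a property of the associated automorphism. -/
theorem card_preserving_eq (f : (ι → F) → (ι → F) → F) (H : Subgroup ((ι → F) ≃ₗ[F] (ι → F)))
    (h : ∀ g : (ι → F) ≃ₗ[F] (ι → F), g ∈ H ↔ ∀ u v, f (g u) (g v) = f u v) :
    Nat.card (Cfsg.preserving (Units.coeHom (Matrix ι ι F)) f) = Nat.card H := by
  refine Nat.card_congr (glLin.toEquiv.subtypeEquiv fun g => ?_)
  show (∀ u v, f ((g : Matrix ι ι F) *ᵥ u) ((g : Matrix ι ι F) *ᵥ v) = f u v) ↔ glLin g ∈ H
  simp only [h, glLin_apply]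

end CfsgLib.Classical
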