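import Mathlib
import Cfsg.Prelude.Def_Classical
import Cfsg.Agent.Lib.Classical.FormStab
import Cfsg.Agent.Lib.Classical.Preserving

/-!
The three standard quadratic forms as bundled quadratic forms, and non-degeneracy of their polar forms.
-/

set_option autoImplicit false

namespace CfsgLib.Classical

open QuadraticMap (polar linMulLin)
open CfsgLib.Geom

variable {F : Type*} [Field F]

/-- `Cfsg.quadFormPlus` as a quadratic form. -/
noncomputable def qfPlus (m : ℕ) (F : Type*) [Field F] : QuadraticForm F (Fin m ⊕ Fin m → F) :=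
  ∑ i : Fin m, linMulLin (LinearMap.proj (Sum.inl i)) (LinearMap.proj (Sum.inr i))

/-- `Cfsg.quadFormOdd` as a quadratic form. -/
noncomputable def qfOdd (m : ℕ) (F : Type*) [Field F] : QuadraticForm F (Unit ⊕ (Fin m ⊕ Fin m) → F) :=
  linMulLin (LinearMap.proj (Sum.inl ())) (LinearMap.proj (Sum.inl ())) +
    ∑ i : Fin m, linMulLin (LinearMap.proj (Sum.inr (Sum.inl i))) (LinearMap.proj (Sum.inr (Sum.inr i)))

/-- `Cfsg.quadFormMinus` as a quadratic form. -/
noncomputable def qfMinus (m : ℕ) (F : Type*) [Field F] (a b : F) :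
    QuadraticForm F ((Fin m ⊕ Fin m) ⊕ Fin 2 → F) :=
  (∑ i : Fin m, linMulLin (LinearMap.proj (Sum.inl (Sum.inl i))) (LinearMap.proj (Sum.inl (Sum.inr i)))) +
    (linMulLin (LinearMap.proj (Sum.inr 0)) (LinearMap.proj (Sum.inr 0)) +
      a • linMulLin (LinearMap.proj (Sum.inr 0)) (LinearMap.proj (Sum.inr 1)) +
      b • linMulLin (LinearMap.proj (Sum.inr 1)) (LinearMap.proj (Sum.inr 1)))

theorem qfPlus_apply (m : ℕ) (v : Fin m ⊕ Fin m → F) : qfPlus m F v = Cfsg.quadFormPlus m F v := by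
  simp [qfPlus, Cfsg.quadFormPlus, QuadraticMap.sum_apply]

theorem qfOdd_apply (m : ℕ) (v : Unit ⊕ (Fin m ⊕ Fin m) → F) :
    qfOdd m F v = Cfsg.quadFormOdd m F v := by
  simp [qfOdd, Cfsg.quadFormOdd, QuadraticMap.sum_apply, sq]

theorem qfMinus_apply (m : ℕ) (a b : F) (v : (Fin m ⊕ Fin m) ⊕ Fin 2 → F) :
    qfMinus m F a b v = Cfsg.quadFormMinus m F a b v := by
  simp [qfMinus, Cfsg.quadFormMinus, QuadraticMap.sum_apply, sq, mul_assoc]

theorem polar_qfPlus (m : ℕ) (v w : Fin m ⊕ Fin m → F) :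
    polar (qfPlus m F) v w = ∑ i, (v (.inl i) * w (.inr i) + w (.inl i) * v (.inr i)) := by
  simp only [QuadraticMap.polar, qfPlus_apply, Cfsg.quadFormPlus, Pi.add_apply,
    ← Finset.sum_sub_distrib]
  exact Finset.sum_congr rfl fun i _ => by ring

theorem polar_qfOdd (m : ℕ) (v w : Unit ⊕ (Fin m ⊕ Fin m) → F) :
    polar (qfOdd m F) v w = 2 * v (.inl ()) * w (.inl ()) +
      ∑ i, (v (.inr (.inl i)) * w (.inr (.inr i)) + w (.inr (.inl i)) * v (.inr (.inr i))) := by
  simp only [QuadraticMap.polar, qfOdd_apply, Cfsg.quadFormOdd, Pi.add_apply, add_sub_add_comm,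
    ← Finset.sum_sub_distrib]
  congr 1
  · ring
  · exact Finset.sum_congr rfl fun i _ => by ring

theorem polar_qfMinus (m : ℕ) (a b : F) (v w : (Fin m ⊕ Fin m) ⊕ Fin 2 → F) :
    polar (qfMinus m F a b) v w =
      (∑ i, (v (.inl (.inl i)) * w (.inl (.inr i)) + w (.inl (.inl i)) * v (.inl (.inr i)))) +
        (v (.inr 0) * (2 * w (.inr 0) + a * w (.inr 1)) +
          v (.inr 1) * (a * w (.inr 0) + 2 * b * w (.inr 1))) := by
  simp only [QuadraticMap.polar, qfMinus_apply, Cfsg.quadFormMinus, Pi.add_apply, add_sub_add_comm,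
    ← Finset.sum_sub_distrib]
  congr 1
  · exact Finset.sum_congr rfl fun i _ => by ring
  · ring

theorem qfPlus_sep (m : ℕ) (x : Fin m ⊕ Fin m → F) (hx : ∀ y, polar (qfPlus m F) x y = 0) : x = 0 := by
  funext i
  rcases i with i | i
  · simpa [polar_qfPlus, Pi.single_apply] using hx (Pi.single (.inr i) 1)
  · simpa [polar_qfPlus, Pi.single_apply] using hx (Pi.single (.inl i) 1)

theorem qfOdd_sep (h2 : (2 : F) ≠ 0) (m : ℕ) (x : Unit ⊕ (Fin m ⊕ Fin m) → F)
    (hx : ∀ y, polar (qfOdd m F) x y = 0) : x = 0 := by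
  funext i
  rcases i with ⟨⟩ | i | i
  · simpa [polar_qfOdd, Pi.single_apply, h2] using hx (Pi.single (.inl ()) 1)
  · simpa [polar_qfOdd, Pi.single_apply] using hx (Pi.single (.inr (.inr i)) 1)
  · simpa [polar_qfOdd, Pi.single_apply] using hx (Pi.single (.inr (.inl i)) 1)

theorem two_ne_zero_of_odd [Fintype F] (h : Odd (Fintype.card F)) : (2 : F) ≠ 0 := by
  intro h2
  have : CharP F 2 := by
    refine CharTwo.of_one_ne_zero_of_two_eq_zero one_ne_zero h2
  obtain ⟨k, -, hk⟩ := FiniteField.card F 2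
  rw [hk] at h
  exact Nat.not_even_iff_odd.2 h (Nat.even_pow.2 ⟨even_two, k.ne_zero⟩)

theorem anisotropic_disc [Fintype F] {a b : F}
    (hab : ∀ z₁ z₂ : F, z₁ ^ 2 + a * z₁ * z₂ + b * z₂ ^ 2 = 0 → z₁ = 0 ∧ z₂ = 0) :
    4 * b - a ^ 2 ≠ 0 := by
  intro h
  by_cases h2 : (2 : F) = 0
  · have hc : ringChar F = 2 := by
      have : CharP F 2 := CharTwo.of_one_ne_zero_of_two_eq_zero one_ne_zero h2
      exact ringChar.eq F 2
    have ha : a = 0 := by
      refine pow_eq_zero_iff two_ne_zero |>.1 ?_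
      linear_combination (2 * b) * h2 - h
    obtain ⟨r, hr⟩ := FiniteField.isSquare_of_char_two hc b
    exact one_ne_zero (hab r 1 (by rw [ha, hr]; linear_combination (r * r) * h2)).2
  · refine one_ne_zero (hab (-a / 2) 1 ?_).2
    field_simp
    linear_combination h

theorem two_ne_zero_or_ne_zero [Fintype F] {a b : F}
    (hab : ∀ z₁ z₂ : F, z₁ ^ 2 + a * z₁ * z₂ + b * z₂ ^ 2 = 0 → z₁ = 0 ∧ z₂ = 0) :
    (2 : F) ≠ 0 ∨ a ≠ 0 := by
  by_contra h
  push Not at h
  exact anisotropic_disc hab (by rw [h.2]; linear_combination (2 * b) * h.1)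

theorem qfMinus_sep [Fintype F] (m : ℕ) {a b : F}
    (hab : ∀ z₁ z₂ : F, z₁ ^ 2 + a * z₁ * z₂ + b * z₂ ^ 2 = 0 → z₁ = 0 ∧ z₂ = 0)
    (x : (Fin m ⊕ Fin m) ⊕ Fin 2 → F) (hx : ∀ y, polar (qfMinus m F a b) x y = 0) : x = 0 := by
  have h0 := hx (Pi.single (.inr 0) 1)
  have h1 := hx (Pi.single (.inr 1) 1)
  simp [polar_qfMinus, Pi.single_apply] at h0 h1
  funext i
  rcases i with (i | i) | i
  · simpa [polar_qfMinus, Pi.single_apply] using hx (Pi.single (.inl (.inr i)) 1)
  · simpa [polar_qfMinus, Pi.single_apply] using hx (Pi.single (.inl (.inl i)) 1)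
  · have hd := anisotropic_disc hab
    have z0 : (4 * b - a ^ 2) * x (.inr 0) = 0 := by linear_combination (2 * b) * h0 - a * h1
    have z1 : (4 * b - a ^ 2) * x (.inr 1) = 0 := by linear_combination 2 * h1 - a * h0
    fin_cases i
    · exact (mul_eq_zero.1 z0).resolve_left hd
    · exact (mul_eq_zero.1 z1).resolve_left hd

/-- The matrix group of a quadratic form given as a function is its abstract isometry group. -/
theorem card_isometryGroup_eq {ι : Type} [Fintype ι] [DecidableEq ι] (f : (ι → F) → F)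
    (Q : QuadraticForm F (ι → F)) (h : ∀ v, Q v = f v) :
    Nat.card (Cfsg.isometryGroup F f) = Nat.card (quadIsoms Q) :=
  card_preserving_eq _ _ fun g => by
    simp only [mem_quadIsoms, h]
    exact ⟨fun hg u _ => hg u, fun hg u => hg u u⟩

end CfsgLib.Classical
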