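import Mathlib
import Cfsg.Agent.Lib.Classical.StdQuad
import Cfsg.Agent.Lib.Geom.WittVec

/-!
Anisotropic binary forms: the conic `Q = 1` has `q + 1` points and the isometry group has order `2(q + 1)`.
-/

set_option autoImplicit false

namespace CfsgLib.Classical

open CfsgLib.Geom
open QuadraticMap (polar)

variable {F : Type*} [Field F] [Fintype F] {a b : F}

theorem binary_ne_zero (hab : ∀ z₁ z₂ : F, z₁ ^ 2 + a * z₁ * z₂ + b * z₂ ^ 2 = 0 → z₁ = 0 ∧ z₂ = 0)
    (s : F) : s ^ 2 + a * s + b ≠ 0 := fun h =>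
  one_ne_zero (hab s 1 (by linear_combination h)).2

theorem card_conic (hab : ∀ z₁ z₂ : F, z₁ ^ 2 + a * z₁ * z₂ + b * z₂ ^ 2 = 0 → z₁ = 0 ∧ z₂ = 0) :
    Nat.card {p : F × F // p.1 ^ 2 + a * p.1 * p.2 + b * p.2 ^ 2 = 1} = Fintype.card F + 1 := by
  classical
  let t : F → F := fun s => -(2 * s + a) / (s ^ 2 + a * s + b)
  let p : Option F → F × F := fun o => o.elim (-1, 0) fun s => (1 + t s * s, t s)
  have hp : ∀ o, (p o).1 ^ 2 + a * (p o).1 * (p o).2 + b * (p o).2 ^ 2 = 1 := by
    rintro (_ | s)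
    · simp [p]
    · simp only [p, Option.elim_some]
      have : t s * (s ^ 2 + a * s + b) = -(2 * s + a) :=
        div_mul_cancel₀ _ (binary_ne_zero hab s)
      linear_combination t s * this
  have ht0 : ∀ s, t s = 0 → 2 * s + a = 0 := by
    intro s h
    have := (div_eq_zero_iff.1 h).resolve_right (binary_ne_zero hab s)
    linear_combination -this
  let P : Option F → {p : F × F // p.1 ^ 2 + a * p.1 * p.2 + b * p.2 ^ 2 = 1} := fun o => ⟨p o, hp o⟩
  have hne : ∀ s, p none ≠ p (some s) := by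
    intro s h
    simp only [p, Option.elim_some, Option.elim_none, Prod.mk.injEq] at h
    obtain ⟨h1, h2⟩ := h
    rw [← h2] at h1
    have h20 : (2 : F) = 0 := by linear_combination -h1
    have ha := (two_ne_zero_or_ne_zero hab).resolve_left (fun h => h h20)
    exact ha (by linear_combination ht0 s h2.symm - s * h20)
  have hinj : Function.Injective P := by
    intro x y hxy
    have h := congrArg Subtype.val hxy
    simp only [P] at h
    rcases x with _ | x <;> rcases y with _ | y
    · rfl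
    · exact absurd h (hne y)
    · exact absurd h.symm (hne x)
    · simp only [p, Option.elim_some, Prod.mk.injEq] at h
      obtain ⟨h1, h2⟩ := h
      rw [← h2] at h1
      by_cases h0 : t x = 0
      · have e1 := ht0 x h0
        have e2 := ht0 y (h2 ▸ h0)
        rcases two_ne_zero_or_ne_zero hab with h20 | ha
        · exact congrArg some (mul_left_cancel₀ h20 (by linear_combination e1 - e2))
        · by_cases h20 : (2 : F) = 0
          · exact absurd (by linear_combination e1 - x * h20) ha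
          · exact congrArg some (mul_left_cancel₀ h20 (by linear_combination e1 - e2))
      · exact congrArg some (mul_left_cancel₀ h0 (add_left_cancel h1))
  have hsurj : Function.Surjective P := by
    rintro ⟨⟨x, y⟩, hxy⟩
    simp only at hxy
    by_cases hy : y = 0
    · subst hy
      by_cases hx : x = -1
      · exact ⟨none, Subtype.ext (by simp [P, p, hx])⟩
      · have h1 : (x - 1) * (x + 1) = 0 := by linear_combination hxy
        have hx1 : x = 1 := sub_eq_zero.1 ((mul_eq_zero.1 h1).resolve_right fun h => hx (eq_neg_of_add_eq_zero_left h))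
        have h20 : (2 : F) ≠ 0 := fun h => hx (by rw [hx1]; linear_combination h)
        have ht : t (-a / 2) = 0 := by
          simp only [t]
          rw [show 2 * (-a / 2) + a = 0 by field_simp; ring, neg_zero, zero_div]
        exact ⟨some (-a / 2), Subtype.ext (by simp [P, p, ht, hx1])⟩
    · obtain ⟨s, hs⟩ : ∃ s, s = (x - 1) / y := ⟨_, rfl⟩
      have hxs : x = 1 + y * s := by rw [hs]; field_simp; ring
      have ht : t s = y := by
        simp only [t]
        rw [div_eq_iff (binary_ne_zero hab s)]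
        refine mul_left_cancel₀ hy ?_
        rw [hxs] at hxy
        linear_combination -hxy
      exact ⟨some s, Subtype.ext (by simp [P, p, ht, hxs])⟩
  rw [← Nat.card_congr (Equiv.ofBijective P ⟨hinj, hsurj⟩), Nat.card_eq_fintype_card,
    Fintype.card_option]

theorem card_binary_isoms (hab : ∀ z₁ z₂ : F, z₁ ^ 2 + a * z₁ * z₂ + b * z₂ ^ 2 = 0 → z₁ = 0 ∧ z₂ = 0) :
    Nat.card (quadIsoms (qfMinus 0 F a b)) = 2 * (Fintype.card F + 1) := by
  classical
  let e : (Fin 0 ⊕ Fin 0) ⊕ Fin 2 → F := Pi.single (.inr 0) 1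
  let f : (Fin 0 ⊕ Fin 0) ⊕ Fin 2 → F := Pi.single (.inr 1) 1
  let pt : F × F → ((Fin 0 ⊕ Fin 0) ⊕ Fin 2 → F) := fun p => p.1 • e + p.2 • f
  have hpt0 : ∀ p, pt p (.inr 0) = p.1 := fun p => by simp [pt, e, f]
  have hpt1 : ∀ p, pt p (.inr 1) = p.2 := fun p => by simp [pt, e, f]
  have hv : ∀ v : (Fin 0 ⊕ Fin 0) ⊕ Fin 2 → F, v = pt (v (.inr 0), v (.inr 1)) := by
    intro v
    funext i
    rcases i with (i | i) | i
    · exact i.elim0
    · exact i.elim0
    · fin_cases i
      · exact (hpt0 (v (.inr 0), v (.inr 1))).symm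
      · exact (hpt1 (v (.inr 0), v (.inr 1))).symm
  have hQ : ∀ v, qfMinus 0 F a b v = v (.inr 0) ^ 2 + a * v (.inr 0) * v (.inr 1) + b * v (.inr 1) ^ 2 :=
    fun v => by simp [qfMinus_apply, Cfsg.quadFormMinus]
  have he0 : e ≠ 0 := Pi.single_ne_zero_iff.2 one_ne_zero
  have heQ : qfMinus 0 F a b e = 1 := by simp [hQ, e]
  rw [card_eq_orbit_mul_fixing_one (quadIsoms (qfMinus 0 F a b)) e, mul_comm 2]
  congr 1
  · rw [← card_conic hab]
    refine Nat.card_congr
      { toFun := fun v => ⟨(v.1 (.inr 0), v.1 (.inr 1)), by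
          obtain ⟨g, hg, hgv⟩ := v.2
          show v.1 (.inr 0) ^ 2 + a * v.1 (.inr 0) * v.1 (.inr 1) + b * v.1 (.inr 1) ^ 2 = 1
          rw [← hQ, ← hgv, hg, heQ]⟩
        invFun := fun p => ⟨pt p.1, by
          have h : qfMinus 0 F a b (pt p.1) = 1 := by rw [hQ, hpt0, hpt1]; exact p.2
          exact exists_isom_vector _ (qfMinus_sep 0 hab) he0 (fun h0 => one_ne_zero
            (h.symm.trans (by rw [h0, map_zero]))) (heQ.trans h.symm)⟩
        left_inv := fun v => Subtype.ext (hv v.1).symm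
        right_inv := fun p => Subtype.ext (Prod.ext (hpt0 _) (hpt1 _)) }
  · obtain ⟨T, hT⟩ : ∃ T : ((Fin 0 ⊕ Fin 0) ⊕ Fin 2 → F) →ₗ[F] ((Fin 0 ⊕ Fin 0) ⊕ Fin 2 → F),
        ∀ v, T v = pt (v (.inr 0) + a * v (.inr 1), -v (.inr 1)) := by
      let p0 : ((Fin 0 ⊕ Fin 0) ⊕ Fin 2 → F) →ₗ[F] F := LinearMap.proj (R := F) (φ := fun _ => F) (Sum.inr 0)
      let p1 : ((Fin 0 ⊕ Fin 0) ⊕ Fin 2 → F) →ₗ[F] F := LinearMap.proj (R := F) (φ := fun _ => F) (Sum.inr 1)
      refine ⟨(p0 + a • p1).smulRight e + (-p1).smulRight f, fun v => ?_⟩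
      simp [pt, p0, p1]
    obtain ⟨r, hr, hrT⟩ := exists_mem_quadIsoms (qfMinus 0 F a b) (qfMinus_sep 0 hab) T
      (fun v => by rw [hQ, hQ, hT, hpt0, hpt1]; ring)
    have hre : r e = e := by rw [hrT, hT]; simp [pt, e]
    have hrmem : r ∈ fixingIn (quadIsoms (qfMinus 0 F a b)) (F ∙ e) := ⟨hr, fun w hw => by
      obtain ⟨c, rfl⟩ := Submodule.mem_span_singleton.1 hw
      rw [map_smul, hre]⟩
    have hne : (1 : fixingIn (quadIsoms (qfMinus 0 F a b)) (F ∙ e)) ≠ ⟨r, hrmem⟩ := by
      intro h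
      have h' : f = r f := by
        have := congrArg (fun g : fixingIn (quadIsoms (qfMinus 0 F a b)) (F ∙ e) => g.1 f) h
        simpa using this
      rw [hrT, hT] at h'
      have e0 := congrFun h' (.inr 0)
      have e1 := congrFun h' (.inr 1)
      rw [hpt0] at e0; rw [hpt1] at e1
      simp [f] at e0 e1
      rcases two_ne_zero_or_ne_zero hab with h20 | ha
      · exact h20 (by linear_combination e1)
      · exact ha e0.symm
    refine Nat.card_eq_two_iff.2 ⟨1, ⟨r, hrmem⟩, hne, Set.eq_univ_of_forall fun g => ?_⟩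
    have hge : g.1 e = e := g.2.2 e (Submodule.mem_span_singleton_self e)
    obtain ⟨x, y, hxy⟩ : ∃ x y, g.1 f = pt (x, y) := ⟨_, _, hv _⟩
    have h1 : polar (qfMinus 0 F a b) (g.1 e) (g.1 f) = polar (qfMinus 0 F a b) e f :=
      polar_quadIsom g.2.1 _ _
    have h2 : qfMinus 0 F a b (g.1 f) = qfMinus 0 F a b f := g.2.1 f
    rw [hge, hxy, polar_qfMinus, polar_qfMinus, hpt0, hpt1] at h1
    rw [hxy, hQ, hQ, hpt0, hpt1] at h2
    simp [e, f] at h1 h2
    have hext : ∀ g' : fixingIn (quadIsoms (qfMinus 0 F a b)) (F ∙ e), g'.1 f = g.1 f → g = g' := by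
      intro g' hg'
      refine Subtype.ext (LinearEquiv.ext fun v => ?_)
      rw [hv v]
      simp only [pt, map_add, map_smul, hge, g'.2.2 e (Submodule.mem_span_singleton_self e), hg']
    have hy : y ^ 2 = 1 := by
      refine mul_left_cancel₀ (anisotropic_disc hab) ?_
      linear_combination 4 * h2 - (2 * x + a * y + a) * h1
    have key : y = 1 ∧ x = 0 ∨ y = -1 ∧ x = a := by
      by_cases h20 : (2 : F) = 0
      · have hy1 : y = 1 := by
          have : (y - 1) ^ 2 = 0 := by linear_combination hy + (1 - y) * h20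
          exact sub_eq_zero.1 (pow_eq_zero_iff two_ne_zero |>.1 this)
        have hx : x * (x + a) = 0 := by rw [hy1] at h2; linear_combination h2
        rcases mul_eq_zero.1 hx with hx | hx
        · exact Or.inl ⟨hy1, hx⟩
        · exact Or.inr ⟨by rw [hy1]; linear_combination h20, by linear_combination hx - a * h20⟩
      · have hy' : (y - 1) * (y + 1) = 0 := by linear_combination hy
        rcases mul_eq_zero.1 hy' with hy' | hy'
        · exact Or.inl ⟨sub_eq_zero.1 hy', mul_left_cancel₀ h20 (by linear_combination h1 - a * hy')⟩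
        · exact Or.inr ⟨eq_neg_of_add_eq_zero_left hy',
            mul_left_cancel₀ h20 (by linear_combination h1 - a * hy')⟩
    rcases key with ⟨hy, hx⟩ | ⟨hy, hx⟩
    · exact Set.mem_insert_iff.2 (Or.inl (hext 1 (by
        rw [hxy, hx, hy]; simp [pt])))
    · refine Set.mem_insert_iff.2 (Or.inr (hext ⟨r, hrmem⟩ ?_))
      show r f = _
      rw [hrT, hT, hxy, hx, hy]
      simp [f]

end CfsgLib.Classical
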