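import Mathlib
import Cfsg.Prelude.Def_Classical

/-!
Counting vectors with a given value of a quadratic or Hermitian form.
-/

set_option autoImplicit false

namespace CfsgLib.Classical

variable {F : Type*} [Field F] [Fintype F]

theorem card_dot_eq_zero_left [DecidableEq F] {ι : Type*} [Fintype ι] (c : F) :
    Nat.card {x : ι → F // ∑ i, x i * (0 : ι → F) i = c} =
      if c = 0 then Fintype.card F ^ Fintype.card ι else 0 := by
  classical
  split_ifs with hc
  · simp [hc]
  · simp [Ne.symm hc]

/-- Fibres of a non-zero linear functional. -/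
theorem card_dot_eq_of_ne_zero {ι : Type*} [Fintype ι] {y : ι → F} (hy : y ≠ 0) (c : F) :
    Nat.card {x : ι → F // ∑ i, x i * y i = c} = Fintype.card F ^ (Fintype.card ι - 1) := by
  classical
  obtain ⟨j, hj⟩ : ∃ j, y j ≠ 0 := by
    by_contra h; push Not at h; exact hy (funext h)
  let e : {x : ι → F // ∑ i, x i * y i = c} ≃ ({i // i ≠ j} → F) :=
    { toFun := fun x i => x.1 i
      invFun := fun z => ⟨fun i => if h : i = j then
          (c - ∑ k : {i // i ≠ j}, z k * y k) / y j else z ⟨i, h⟩, by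
        rw [Fintype.sum_eq_add_sum_compl j]
        simp only [↓reduceDIte]
        rw [div_mul_cancel₀ _ hj, Finset.sum_subtype ({j}ᶜ) (p := fun i => i ≠ j) (by simp)]
        rw [Finset.sum_congr rfl (fun (i : {i // i ≠ j}) _ =>
          congrArg (· * y i.1) (dif_neg i.2 : (if h : i.1 = j then
            (c - ∑ k : {i // i ≠ j}, z k * y k) / y j else z ⟨i.1, h⟩) = z i))]
        exact sub_add_cancel _ _⟩
      left_inv := fun x => by
        apply Subtype.ext
        funext i
        by_cases h : i = j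
        · subst h
          simp only [↓reduceDIte]
          rw [div_eq_iff hj]
          have := x.2
          rw [Fintype.sum_eq_add_sum_compl i,
            Finset.sum_subtype ({i}ᶜ) (p := fun k => k ≠ i) (by simp)] at this
          linear_combination -this
        · simp [h]
      right_inv := fun z => by
        funext i
        simp [i.2] }
  rw [Nat.card_congr e, Nat.card_fun, Nat.card_eq_fintype_card, Nat.card_eq_fintype_card,
    Fintype.card_subtype_compl, Fintype.card_subtype_eq]

/-- Number of solutions of `x ⬝ y + f w = c`. -/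
theorem card_hyperbolic_add {ι W : Type*} [Fintype ι] [Finite W] (f : W → F) (c : F) :
    Nat.card {p : (ι → F) × (ι → F) × W // (∑ i, p.1 i * p.2.1 i) + f p.2.2 = c} =
      Fintype.card F ^ Fintype.card ι * Nat.card {w // f w = c} +
        (Fintype.card F ^ Fintype.card ι - 1) * Fintype.card F ^ (Fintype.card ι - 1) *
          Nat.card W := by
  classical
  haveI := Fintype.ofFinite W
  have e : {p : (ι → F) × (ι → F) × W // (∑ i, p.1 i * p.2.1 i) + f p.2.2 = c} ≃
      Σ yw : (ι → F) × W, {x : ι → F // ∑ i, x i * yw.1 i = c - f yw.2} :=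
    { toFun := fun p => ⟨p.1.2, p.1.1, eq_sub_of_add_eq p.2⟩
      invFun := fun s => ⟨(s.2.1, s.1), by rw [s.2.2]; ring⟩
      left_inv := fun _ => rfl
      right_inv := fun _ => rfl }
  rw [Nat.card_congr e, Nat.card_sigma, Fintype.sum_prod_type,
    Fintype.sum_eq_add_sum_compl (0 : ι → F)]
  congr 1
  · simp only [card_dot_eq_zero_left]
    rw [Finset.sum_ite, Finset.sum_const_zero, add_zero, Finset.sum_const, smul_eq_mul, mul_comm,
      Nat.card_eq_fintype_card, Fintype.card_subtype]
    congr 2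
    ext w
    simp [sub_eq_zero, eq_comm]
  · rw [Finset.sum_congr rfl (fun y hy => Finset.sum_congr rfl (fun w _ =>
      card_dot_eq_of_ne_zero (Finset.mem_compl.1 hy ∘ Finset.mem_singleton.2) _))]
    simp [Finset.card_compl, Nat.card_eq_fintype_card]
    ring

/-- Zeros (and level sets) of the plus-type form. -/
theorem card_quadFormPlus_eq [DecidableEq F] (m : ℕ) (c : F) :
    Nat.card {v : Fin m ⊕ Fin m → F // Cfsg.quadFormPlus m F v = c} =
      Fintype.card F ^ m * (if c = 0 then 1 else 0) +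
        (Fintype.card F ^ m - 1) * Fintype.card F ^ (m - 1) := by
  classical
  let e : (Fin m ⊕ Fin m → F) ≃ (Fin m → F) × (Fin m → F) × Unit :=
    (Equiv.sumArrowEquivProdArrow _ _ _).trans (Equiv.prodCongrRight fun _ => (Equiv.prodPUnit _).symm)
  have := card_hyperbolic_add (F := F) (ι := Fin m) (fun _ : Unit => (0 : F)) c
  rw [Fintype.card_fin] at this
  rw [Nat.card_congr (e.subtypeEquiv (q := fun p =>
    (∑ i, p.1 i * p.2.1 i) + (fun _ : Unit => (0 : F)) p.2.2 = c) fun v => by
      simp [e, Cfsg.quadFormPlus, Equiv.sumArrowEquivProdArrow]), this]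
  split_ifs with hc
  · simp [hc]
  · simp [Ne.symm hc]

/-- Zeros (and level sets) of the odd-dimensional form. -/
theorem card_quadFormOdd_eq (m : ℕ) (c : F) :
    Nat.card {v : Unit ⊕ (Fin m ⊕ Fin m) → F // Cfsg.quadFormOdd m F v = c} =
      Fintype.card F ^ m * Nat.card {t : F // t ^ 2 = c} +
        (Fintype.card F ^ m - 1) * Fintype.card F ^ (m - 1) * Fintype.card F := by
  classical
  let e : (Unit ⊕ (Fin m ⊕ Fin m) → F) ≃ (Fin m → F) × (Fin m → F) × F :=
    { toFun := fun v => (fun i => v (.inr (.inl i)), fun i => v (.inr (.inr i)), v (.inl ()))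
      invFun := fun p => Sum.elim (fun _ => p.2.2) (Sum.elim p.1 p.2.1)
      left_inv := fun v => by funext i; rcases i with i | i | i <;> rfl
      right_inv := fun p => rfl }
  have := card_hyperbolic_add (F := F) (ι := Fin m) (fun t : F => t ^ 2) c
  rw [Fintype.card_fin, Nat.card_eq_fintype_card (α := F)] at this
  rw [Nat.card_congr (e.subtypeEquiv (q := fun p =>
    (∑ i, p.1 i * p.2.1 i) + (fun t : F => t ^ 2) p.2.2 = c) fun v => by
      dsimp [e, Cfsg.quadFormOdd]; rw [add_comm]; rfl), this]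

/-- Zeros (and level sets) of the minus-type form. -/
theorem card_quadFormMinus_eq (m : ℕ) (a b c : F) :
    Nat.card {v : (Fin m ⊕ Fin m) ⊕ Fin 2 → F // Cfsg.quadFormMinus m F a b v = c} =
      Fintype.card F ^ m *
          Nat.card {z : Fin 2 → F // z 0 ^ 2 + a * z 0 * z 1 + b * z 1 ^ 2 = c} +
        (Fintype.card F ^ m - 1) * Fintype.card F ^ (m - 1) * Fintype.card F ^ 2 := by
  classical
  let e : ((Fin m ⊕ Fin m) ⊕ Fin 2 → F) ≃ (Fin m → F) × (Fin m → F) × (Fin 2 → F) :=
    { toFun := fun v => (fun i => v (.inl (.inl i)), fun i => v (.inl (.inr i)), fun i => v (.inr i))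
      invFun := fun p => Sum.elim (Sum.elim p.1 p.2.1) p.2.2
      left_inv := fun v => by funext i; rcases i with (i | i) | i <;> rfl
      right_inv := fun p => rfl }
  have := card_hyperbolic_add (F := F) (ι := Fin m)
    (fun z : Fin 2 → F => z 0 ^ 2 + a * z 0 * z 1 + b * z 1 ^ 2) c
  rw [Fintype.card_fin, Nat.card_fun, Nat.card_eq_fintype_card (α := F), Nat.card_fin] at this
  rw [Nat.card_congr (e.subtypeEquiv (q := fun p => (∑ i, p.1 i * p.2.1 i) +
    (fun z : Fin 2 → F => z 0 ^ 2 + a * z 0 * z 1 + b * z 1 ^ 2) p.2.2 = c) fun v => by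
      dsimp [e, Cfsg.quadFormMinus]; rfl), this]

/-- An anisotropic binary form vanishes only at `0`. -/
theorem card_binary_zero (a b : F)
    (hab : ∀ z₁ z₂ : F, z₁ ^ 2 + a * z₁ * z₂ + b * z₂ ^ 2 = 0 → z₁ = 0 ∧ z₂ = 0) :
    Nat.card {z : Fin 2 → F // z 0 ^ 2 + a * z 0 * z 1 + b * z 1 ^ 2 = 0} = 1 := by
  refine Nat.card_eq_one_iff_unique.2 ⟨⟨fun ⟨z, hz⟩ ⟨w, hw⟩ => ?_⟩, ⟨⟨0, by simp⟩⟩⟩
  obtain ⟨z0, z1⟩ := hab _ _ hz
  obtain ⟨w0, w1⟩ := hab _ _ hw
  exact Subtype.ext (funext fun i => by fin_cases i <;> simp [z0, z1, w0, w1])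

end CfsgLib.Classical
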