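import Mathlib
import Cfsg.Agent.Lib.Classical.FormStab

/-!
Orbit–stabiliser step over a hyperbolic pair of a quadratic form.
-/

set_option autoImplicit false

namespace CfsgLib.Classical

open QuadraticMap (polar)
open CfsgLib.Geom

variable {F V : Type*} [Field F] [Fintype F] [AddCommGroup V] [Module F V] [FiniteDimensional F V]

theorem card_quadIsoms_hyperbolic {V' : Type*} [AddCommGroup V'] [Module F V']
    (Q : QuadraticForm F V) (Q' : QuadraticForm F V') (hQ : ∀ x, (∀ y, polar Q x y = 0) → x = 0)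
    (e f : V) (he : Q e = 0) (hf : Q f = 0) (hef : polar Q e f = 1) (ι : V' →ₗ[F] V)
    (hι : Function.Injective ι) (hι' : ∀ y, polar Q e y = 0 → polar Q f y = 0 → y ∈ LinearMap.range ι)
    (hιe : ∀ z, polar Q e (ι z) = 0) (hιf : ∀ z, polar Q f (ι z) = 0) (hιQ : ∀ z, Q (ι z) = Q' z) :
    Nat.card (quadIsoms Q) =
      (Nat.card {v : V // Q v = 0} - 1) * Nat.card V' * Nat.card (quadIsoms Q') := by
  classical
  have : Finite V := Module.finite_of_finite F
  haveI := Fintype.ofFinite V
  have hee : polar Q e e = 0 := by rw [polar_self_two, he, mul_zero]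
  have hff : polar Q f f = 0 := by rw [polar_self_two, hf, mul_zero]
  have hfe : polar Q f e = 1 := by rw [QuadraticMap.polar_comm, hef]
  let W := Submodule.span F ({e, f} : Set V)
  have hW' : ∀ y, y ∈ LinearMap.range ι ↔ ∀ w ∈ W, polar Q w y = 0 := by
    intro y
    constructor
    · rintro ⟨z, rfl⟩ w hw
      obtain ⟨a, b, rfl⟩ := Submodule.mem_span_pair.1 hw
      simp [QuadraticMap.polar_add_left, QuadraticMap.polar_smul_left, hιe, hιf]
    · intro h
      exact hι' y (h e (Submodule.subset_span (by simp))) (h f (Submodule.subset_span (by simp)))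
  have hc : IsCompl W (LinearMap.range ι) := by
    refine IsCompl.of_eq (eq_bot_iff.2 ?_) (eq_top_iff.2 ?_)
    · rintro x ⟨hx, ⟨z, hz⟩⟩
      obtain ⟨a, b, rfl⟩ := Submodule.mem_span_pair.1 hx
      have h1 := hιe z; have h2 := hιf z
      rw [hz] at h1 h2
      simp [QuadraticMap.polar_add_right, QuadraticMap.polar_smul_right, hee, hef, hfe, hff] at h1 h2
      simp [h1, h2]
    · intro v _
      refine Submodule.mem_sup.2 ⟨polar Q f v • e + polar Q e v • f,
        add_mem (Submodule.smul_mem _ _ (Submodule.subset_span (by simp)))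
          (Submodule.smul_mem _ _ (Submodule.subset_span (by simp))),
        v - (polar Q f v • e + polar Q e v • f), hι' _ ?_ ?_, by abel⟩
      · simp [QuadraticMap.polar_sub_right, QuadraticMap.polar_add_right,
          QuadraticMap.polar_smul_right, hee, hef]
      · simp [QuadraticMap.polar_sub_right, QuadraticMap.polar_add_right,
          QuadraticMap.polar_smul_right, hfe, hff]
  rw [card_eq_orbit_mul_fixing_pair (quadIsoms Q) e f, card_fixingIn_quadIsoms Q hc hW',
    card_quadIsoms_congr Q' (Q.comp (LinearMap.range ι).subtype) (LinearEquiv.ofInjective ι hι)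
      (fun z => by simp [hιQ])]
  congr 1
  -- the orbit
  have hfix : Nat.card {w : V // Q w = 0 ∧ polar Q e w = 1} = Nat.card V' := by
    refine (Nat.card_congr (Equiv.ofBijective
      (fun z : V' => (⟨f + ι z + (-(Q' z)) • e, ?_, ?_⟩ : {w : V // Q w = 0 ∧ polar Q e w = 1}))
      ⟨fun z z' h => ?_, fun w => ?_⟩)).symm
    · rw [quad_map_add_smul, QuadraticMap.map_add Q f (ι z), hf, hιf, hιQ, he,
        QuadraticMap.polar_add_left, hfe, QuadraticMap.polar_comm Q (ι z) e, hιe]
      ring
    · rw [QuadraticMap.polar_add_right, QuadraticMap.polar_add_right, QuadraticMap.polar_smul_right,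
        hef, hιe, hee]
      simp
    · have h1 := congrArg (polar Q f ·.1) h
      simp [QuadraticMap.polar_add_right, QuadraticMap.polar_smul_right, hff, hιf, hfe] at h1
      have h2 := congrArg Subtype.val h
      simp only [h1, add_left_inj, add_right_inj] at h2
      exact hι h2
    · obtain ⟨w, hw0, hw1⟩ := w
      obtain ⟨s, z, hs⟩ : ∃ (s : F) (z : V'), w = f + ι z + s • e := by
        obtain ⟨x, hx, y, ⟨z, rfl⟩, rfl⟩ := Submodule.mem_sup.1
          (show w ∈ W ⊔ LinearMap.range ι by rw [hc.sup_eq_top]; trivial)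
        obtain ⟨a, b, rfl⟩ := Submodule.mem_span_pair.1 hx
        simp [QuadraticMap.polar_add_right, QuadraticMap.polar_smul_right, hee, hef, hιe] at hw1
        exact ⟨a, z, by rw [hw1, one_smul]; abel⟩
      refine ⟨z, Subtype.ext ?_⟩
      subst hs
      rw [quad_map_add_smul, QuadraticMap.map_add Q f (ι z), hf, hιf, hιQ, he,
        QuadraticMap.polar_add_left, hfe, QuadraticMap.polar_comm Q (ι z) e, hιe] at hw0
      simp only
      rw [show -(Q' z) = s by linear_combination -hw0]
  have horb : ∀ v w : V, (∃ g ∈ quadIsoms Q, g e = v ∧ g f = w) ↔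
      v ≠ 0 ∧ Q v = 0 ∧ Q w = 0 ∧ polar Q v w = 1 := by
    intro v w
    constructor
    · rintro ⟨g, hg, rfl, rfl⟩
      exact ⟨fun h => one_ne_zero (hef.symm.trans (by rw [← polar_quadIsom hg, h]; simp)),
        by rw [hg, he], by rw [hg, hf], by rw [polar_quadIsom hg, hef]⟩
    · rintro ⟨-, hv, hw, hvw⟩
      have hwv : polar Q w v = 1 := by rw [QuadraticMap.polar_comm, hvw]
      let φ : W →ₗ[F] V :=
        ((Q.polarBilin f).smulRight v + (Q.polarBilin e).smulRight w).comp W.subtype
      have hφ : ∀ (x : W) (a b : F), a • e + b • f = (x : V) → φ x = a • v + b • w := by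
        intro x a b h
        simp [φ, ← h, QuadraticMap.polar_add_right, QuadraticMap.polar_smul_right, hee, hef, hfe, hff]
      obtain ⟨g, hg, hgW⟩ := witt_quadratic Q hQ W φ (by
          rw [← LinearMap.ker_eq_bot, Submodule.eq_bot_iff]
          intro x hx
          obtain ⟨a, b, hab⟩ := Submodule.mem_span_pair.1 x.2
          rw [LinearMap.mem_ker, hφ x a b hab] at hx
          have hvv : polar Q v v = 0 := by rw [polar_self_two, hv, mul_zero]
          have hww : polar Q w w = 0 := by rw [polar_self_two, hw, mul_zero]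
          have h1 := congrArg (polar Q v) hx
          have h2 := congrArg (polar Q w) hx
          simp [QuadraticMap.polar_add_right, QuadraticMap.polar_smul_right, hvv, hww, hvw, hwv] at h1 h2
          exact Subtype.ext (by rw [← hab, h1, h2]; simp))
        (fun x => by
          obtain ⟨a, b, hab⟩ := Submodule.mem_span_pair.1 x.2
          rw [hφ x a b hab, ← hab]
          simp [quad_map_add_smul, QuadraticMap.map_smul, he, hf, hv, hw,
            QuadraticMap.polar_smul_left, hef, hvw])
      refine ⟨g, hg, ?_, ?_⟩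
      · have := hgW ⟨e, Submodule.subset_span (by simp)⟩
        rw [hφ ⟨e, _⟩ 1 0 (by simp)] at this
        simpa using this
      · have := hgW ⟨f, Submodule.subset_span (by simp)⟩
        rw [hφ ⟨f, _⟩ 0 1 (by simp)] at this
        simpa using this
  have e2 : {p : V × V // ∃ g ∈ quadIsoms Q, g e = p.1 ∧ g f = p.2} ≃
      Σ v : {v : V // Q v = 0 ∧ v ≠ 0}, {w : V // Q w = 0 ∧ polar Q v.1 w = 1} :=
    { toFun := fun p => ⟨⟨p.1.1, ((horb _ _).1 p.2).2.1, ((horb _ _).1 p.2).1⟩,
        p.1.2, ((horb _ _).1 p.2).2.2⟩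
      invFun := fun s => ⟨(s.1.1, s.2.1), (horb _ _).2 ⟨s.1.2.2, s.1.2.1, s.2.2⟩⟩
      left_inv := fun _ => rfl
      right_inv := fun _ => rfl }
  have hfib : ∀ v : {v : V // Q v = 0 ∧ v ≠ 0},
      Nat.card {w : V // Q w = 0 ∧ polar Q v.1 w = 1} = Nat.card V' := by
    intro v
    rw [← hfix]
    obtain ⟨g, hg, hgv⟩ : ∃ g ∈ quadIsoms Q, g e = v.1 := by
      obtain ⟨u, -, hu⟩ := exists_perp_pair Q.polarBilin (fun x hx => hQ x fun y => by simpa using hx y)
        ⊥ (x₀ := v.1) (by simpa using v.2.2)
      simp only [QuadraticMap.polarBilin_apply_apply] at hu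
      have hvv : polar Q v.1 v.1 = 0 := by rw [polar_self_two, v.2.1, mul_zero]
      obtain ⟨g, hg, h1, -⟩ := (horb v.1 (u + (-(Q u)) • v.1)).2 ⟨v.2.2, v.2.1, by
          rw [quad_map_add_smul, v.2.1, QuadraticMap.polar_comm Q u, hu]; ring, by
          rw [QuadraticMap.polar_add_right, QuadraticMap.polar_smul_right, hu, hvv]; simp⟩
      exact ⟨g, hg, h1⟩
    refine (Nat.card_congr (g.toEquiv.subtypeEquiv fun w => ?_)).symm
    show Q w = 0 ∧ polar Q e w = 1 ↔ Q (g w) = 0 ∧ polar Q v.1 (g w) = 1
    rw [← hgv, polar_quadIsom hg, hg]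
  rw [Nat.card_congr e2, Nat.card_sigma, Finset.sum_congr rfl (fun v _ => hfib v)]
  simp only [Finset.sum_const, smul_eq_mul, Finset.card_univ]
  congr 1
  have : Fintype.card {v : V // Q v = 0 ∧ v ≠ 0} + 1 = Fintype.card {v : V // Q v = 0} := by
    rw [Fintype.card_subtype, Fintype.card_subtype, ← Finset.card_insert_of_notMem (a := (0 : V)) (by simp)]
    congr 1
    ext x
    by_cases hx : x = 0 <;> simp [hx]
  rw [Nat.card_eq_fintype_card (α := {v : V // Q v = 0})]
  omega

end CfsgLib.Classical
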