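import Mathlib
import Cfsg.Agent.Lib.Classical.StdQuad
import Cfsg.Agent.Lib.Classical.HypRed
import Cfsg.Agent.Lib.Classical.Counts
import Cfsg.Agent.Lib.Classical.Conic

/-!
Orders of the orthogonal groups of the three standard forms.
-/

set_option autoImplicit false

namespace CfsgLib.Classical

open CfsgLib.Geom
open QuadraticMap (polar)

variable {F : Type*} [Field F] [Fintype F]

theorem card_qfPlus_succ (m : ℕ) :
    Nat.card (quadIsoms (qfPlus (m + 1) F)) =
      (Fintype.card F ^ (m + 1) - 1) * (Fintype.card F ^ m + 1) * Fintype.card F ^ (2 * m) *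
        Nat.card (quadIsoms (qfPlus m F)) := by
  classical
  let ι : (Fin m ⊕ Fin m → F) →ₗ[F] (Fin (m + 1) ⊕ Fin (m + 1) → F) :=
    { toFun := fun z => Sum.elim (Fin.cons 0 fun i => z (.inl i)) (Fin.cons 0 fun i => z (.inr i))
      map_add' := fun z w => funext fun i => by
        rcases i with i | i <;> refine Fin.cases ?_ ?_ i <;> simp
      map_smul' := fun c z => funext fun i => by
        rcases i with i | i <;> refine Fin.cases ?_ ?_ i <;> simp }
  have hι : Function.Injective ι := by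
    intro z w h
    funext i
    rcases i with i | i
    · simpa [ι] using congrFun h (.inl i.succ)
    · simpa [ι] using congrFun h (.inr i.succ)
  rw [card_quadIsoms_hyperbolic (qfPlus (m + 1) F) (qfPlus m F) (qfPlus_sep _)
    (Pi.single (.inl 0) 1) (Pi.single (.inr 0) 1) (by simp [qfPlus_apply, Cfsg.quadFormPlus])
    (by simp [qfPlus_apply, Cfsg.quadFormPlus]) (by simp [polar_qfPlus, Pi.single_apply]) ι hι
    (fun y h1 h2 => ⟨fun i => y (i.map Fin.succ Fin.succ), funext fun i => by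
      simp [polar_qfPlus, Pi.single_apply] at h1 h2
      rcases i with i | i <;> refine Fin.cases ?_ ?_ i <;> simp [ι, h1, h2]⟩)
    (fun z => by simp [ι, polar_qfPlus, Pi.single_apply])
    (fun z => by simp [ι, polar_qfPlus, Pi.single_apply])
    (fun z => by simp [ι, qfPlus_apply, Cfsg.quadFormPlus, Fin.sum_univ_succ])]
  rw [Nat.card_fun, Nat.card_sum, Nat.card_fin, Nat.card_eq_fintype_card (α := F), ← two_mul]
  congr 2
  simp only [qfPlus_apply]
  rw [card_quadFormPlus_eq, if_pos rfl, mul_one, Nat.add_sub_cancel]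
  obtain ⟨A, hA⟩ : ∃ A, Fintype.card F ^ (m + 1) = A + 1 :=
    ⟨_, (Nat.sub_add_cancel (Nat.one_le_pow _ _ Fintype.card_pos)).symm⟩
  rw [hA, Nat.add_sub_cancel]
  have : A + 1 + A * Fintype.card F ^ m = A * (Fintype.card F ^ m + 1) + 1 := by ring
  omega

theorem card_qfPlus_isoms (k : ℕ) :
    Nat.card (quadIsoms (qfPlus (k + 1) F)) =
      2 * Fintype.card F ^ ((k + 1) * k) * (Fintype.card F ^ (k + 1) - 1) *
        ∏ i ∈ Finset.range k, (Fintype.card F ^ (2 * (i + 1)) - 1) := by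
  induction k with
  | zero =>
    have h0 : Nat.card (quadIsoms (qfPlus 0 F)) = 1 := Nat.card_eq_one_iff_unique.2
      ⟨⟨fun a b => Subtype.ext (LinearEquiv.ext fun x => funext fun i => by
        rcases i with i | i <;> exact i.elim0)⟩, ⟨1⟩⟩
    rw [card_qfPlus_succ, h0]
    simp
    ring
  | succ k ih =>
    rw [card_qfPlus_succ, ih, Finset.prod_range_succ]
    obtain ⟨A, hA⟩ : ∃ A, Fintype.card F ^ (k + 1) = A + 1 :=
      ⟨_, (Nat.sub_add_cancel (Nat.one_le_pow _ _ Fintype.card_pos)).symm⟩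
    have hB : Fintype.card F ^ (2 * (k + 1)) - 1 = A * (A + 2) :=
      Nat.sub_eq_of_eq_add (by rw [mul_comm 2, pow_mul, hA]; ring)
    rw [hB, hA, Nat.add_sub_cancel,
      show (k + 1 + 1) * (k + 1) = (k + 1) * k + 2 * (k + 1) by ring, pow_add]
    ring

theorem card_qfOdd_succ (h2 : (2 : F) ≠ 0) (m : ℕ) :
    Nat.card (quadIsoms (qfOdd (m + 1) F)) =
      (Fintype.card F ^ (2 * (m + 1)) - 1) * Fintype.card F ^ (2 * m + 1) *
        Nat.card (quadIsoms (qfOdd m F)) := by
  classical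
  let ι : (Unit ⊕ (Fin m ⊕ Fin m) → F) →ₗ[F] (Unit ⊕ (Fin (m + 1) ⊕ Fin (m + 1)) → F) :=
    { toFun := fun z => Sum.elim (fun u => z (.inl u))
        (Sum.elim (Fin.cons 0 fun i => z (.inr (.inl i))) (Fin.cons 0 fun i => z (.inr (.inr i))))
      map_add' := fun z w => funext fun i => by
        rcases i with i | i | i
        · simp
        all_goals refine Fin.cases ?_ ?_ i <;> simp
      map_smul' := fun c z => funext fun i => by
        rcases i with i | i | i
        · simp
        all_goals refine Fin.cases ?_ ?_ i <;> simp }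
  have hι : Function.Injective ι := by
    intro z w h
    funext i
    rcases i with i | i | i
    · simpa [ι] using congrFun h (.inl i)
    · simpa [ι] using congrFun h (.inr (.inl i.succ))
    · simpa [ι] using congrFun h (.inr (.inr i.succ))
  rw [card_quadIsoms_hyperbolic (qfOdd (m + 1) F) (qfOdd m F) (qfOdd_sep h2 _)
    (Pi.single (.inr (.inl 0)) 1) (Pi.single (.inr (.inr 0)) 1)
    (by simp [qfOdd_apply, Cfsg.quadFormOdd])
    (by simp [qfOdd_apply, Cfsg.quadFormOdd]) (by simp [polar_qfOdd, Pi.single_apply]) ι hι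
    (fun y g1 g2 => ⟨fun i => y (i.map id (fun j => j.map Fin.succ Fin.succ)), funext fun i => by
      simp [polar_qfOdd, Pi.single_apply] at g1 g2
      rcases i with i | i | i
      · simp [ι]
      all_goals refine Fin.cases ?_ ?_ i <;> simp [ι, g1, g2]⟩)
    (fun z => by simp [ι, polar_qfOdd, Pi.single_apply])
    (fun z => by simp [ι, polar_qfOdd, Pi.single_apply])
    (fun z => by simp [ι, qfOdd_apply, Cfsg.quadFormOdd, Fin.sum_univ_succ])]
  rw [Nat.card_fun, Nat.card_sum, Nat.card_sum, Nat.card_fin, Nat.card_eq_fintype_card (α := F),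
    Nat.card_unique (α := Unit), ← two_mul, add_comm 1]
  congr 2
  simp only [qfOdd_apply]
  have h1 : Nat.card {t : F // t ^ 2 = 0} = 1 :=
    Nat.card_eq_one_iff_unique.2 ⟨⟨fun ⟨x, hx⟩ ⟨y, hy⟩ => Subtype.ext (by
      rw [sq_eq_zero_iff] at hx hy; exact hx.trans hy.symm)⟩, ⟨⟨0, by simp⟩⟩⟩
  rw [card_quadFormOdd_eq, h1, mul_one, Nat.add_sub_cancel, mul_assoc, ← pow_succ, Nat.sub_mul,
    one_mul, ← pow_add, show m + 1 + (m + 1) = 2 * (m + 1) by ring]
  rw [Nat.add_sub_cancel' (Nat.pow_le_pow_right Fintype.card_pos (by omega))]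

theorem card_qfOdd_zero (h2 : (2 : F) ≠ 0) : Nat.card (quadIsoms (qfOdd 0 F)) = 2 := by
  have hQ : ∀ v, qfOdd 0 F v = v (.inl ()) ^ 2 := fun v => by simp [qfOdd_apply, Cfsg.quadFormOdd]
  let N : (Unit ⊕ (Fin 0 ⊕ Fin 0) → F) ≃ₗ[F] (Unit ⊕ (Fin 0 ⊕ Fin 0) → F) := LinearEquiv.neg F
  have hN : N ∈ quadIsoms (qfOdd 0 F) := fun v => by simp [N, hQ]
  let e : Unit ⊕ (Fin 0 ⊕ Fin 0) → F := Pi.single (.inl ()) 1
  refine Nat.card_eq_two_iff.2 ⟨1, ⟨N, hN⟩, fun h => ?_, Set.eq_univ_of_forall fun g => ?_⟩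
  · have := congrArg (fun g : quadIsoms (qfOdd 0 F) => g.1 e (.inl ())) h
    simp [N, e] at this
    exact h2 (by linear_combination this)
  · have hv : ∀ v : Unit ⊕ (Fin 0 ⊕ Fin 0) → F, v = v (.inl ()) • e := fun v => funext fun i => by
      rcases i with ⟨⟩ | i | i
      · simp [e]
      · exact i.elim0
      · exact i.elim0
    have hg : qfOdd 0 F (g.1 e) = qfOdd 0 F e := g.2 e
    rw [hQ, hQ] at hg
    simp [e] at hg
    rcases hg with hg | hg
    · refine Set.mem_insert_iff.2 (Or.inl (Subtype.ext (LinearEquiv.ext fun v => ?_)))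
      rw [hv v, map_smul, hv (g.1 e), hg, one_smul]
      simp
    · refine Set.mem_insert_iff.2 (Or.inr (Subtype.ext (LinearEquiv.ext fun v => ?_)))
      rw [hv v, map_smul, hv (g.1 e), hg]
      simp [N]

theorem card_qfOdd_isoms (h2 : (2 : F) ≠ 0) (m : ℕ) :
    Nat.card (quadIsoms (qfOdd m F)) =
      2 * Fintype.card F ^ (m ^ 2) * ∏ i ∈ Finset.range m, (Fintype.card F ^ (2 * (i + 1)) - 1) := by
  induction m with
  | zero => simp [card_qfOdd_zero h2]
  | succ m ih =>
    rw [card_qfOdd_succ h2, ih, Finset.prod_range_succ,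
      show (m + 1) ^ 2 = m ^ 2 + (2 * m + 1) by ring, pow_add _ (m ^ 2)]
    ring

theorem card_qfMinus_succ {a b : F}
    (hab : ∀ z₁ z₂ : F, z₁ ^ 2 + a * z₁ * z₂ + b * z₂ ^ 2 = 0 → z₁ = 0 ∧ z₂ = 0) (m : ℕ) :
    Nat.card (quadIsoms (qfMinus (m + 1) F a b)) =
      (Fintype.card F ^ (m + 2) + 1) * (Fintype.card F ^ (m + 1) - 1) *
        Fintype.card F ^ (2 * (m + 1)) * Nat.card (quadIsoms (qfMinus m F a b)) := by
  classical
  let ι : ((Fin m ⊕ Fin m) ⊕ Fin 2 → F) →ₗ[F] ((Fin (m + 1) ⊕ Fin (m + 1)) ⊕ Fin 2 → F) :=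
    { toFun := fun z => Sum.elim
        (Sum.elim (Fin.cons 0 fun i => z (.inl (.inl i))) (Fin.cons 0 fun i => z (.inl (.inr i))))
        (fun u => z (.inr u))
      map_add' := fun z w => funext fun i => by
        rcases i with (i | i) | i
        · refine Fin.cases ?_ ?_ i <;> simp
        · refine Fin.cases ?_ ?_ i <;> simp
        · simp
      map_smul' := fun c z => funext fun i => by
        rcases i with (i | i) | i
        · refine Fin.cases ?_ ?_ i <;> simp
        · refine Fin.cases ?_ ?_ i <;> simp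
        · simp }
  have hι : Function.Injective ι := by
    intro z w h
    funext i
    rcases i with (i | i) | i
    · simpa [ι] using congrFun h (.inl (.inl i.succ))
    · simpa [ι] using congrFun h (.inl (.inr i.succ))
    · simpa [ι] using congrFun h (.inr i)
  rw [card_quadIsoms_hyperbolic (qfMinus (m + 1) F a b) (qfMinus m F a b) (qfMinus_sep _ hab)
    (Pi.single (.inl (.inl 0)) 1) (Pi.single (.inl (.inr 0)) 1)
    (by simp [qfMinus_apply, Cfsg.quadFormMinus])
    (by simp [qfMinus_apply, Cfsg.quadFormMinus]) (by simp [polar_qfMinus, Pi.single_apply]) ι hι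
    (fun y g1 g2 => ⟨fun i => y (i.map (fun j => j.map Fin.succ Fin.succ) id), funext fun i => by
      simp [polar_qfMinus, Pi.single_apply] at g1 g2
      rcases i with (i | i) | i
      · refine Fin.cases ?_ ?_ i <;> simp [ι, g2]
      · refine Fin.cases ?_ ?_ i <;> simp [ι, g1]
      · simp [ι]⟩)
    (fun z => by simp [ι, polar_qfMinus, Pi.single_apply])
    (fun z => by simp [ι, polar_qfMinus, Pi.single_apply])
    (fun z => by simp [ι, qfMinus_apply, Cfsg.quadFormMinus, Fin.sum_univ_succ])]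
  rw [Nat.card_fun, Nat.card_sum, Nat.card_sum, Nat.card_fin, Nat.card_fin,
    Nat.card_eq_fintype_card (α := F), ← two_mul, show 2 * m + 2 = 2 * (m + 1) by ring]
  congr 2
  simp only [qfMinus_apply]
  rw [card_quadFormMinus_eq, card_binary_zero a b hab, mul_one, Nat.add_sub_cancel]
  obtain ⟨A, hA⟩ : ∃ A, Fintype.card F ^ (m + 1) = A + 1 :=
    ⟨_, (Nat.sub_add_cancel (Nat.one_le_pow _ _ Fintype.card_pos)).symm⟩
  rw [hA, Nat.add_sub_cancel, mul_assoc, ← pow_add]
  have : A + 1 + A * Fintype.card F ^ (m + 2) = (Fintype.card F ^ (m + 2) + 1) * A + 1 := by ring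
  omega

theorem card_qfMinus_isoms {a b : F}
    (hab : ∀ z₁ z₂ : F, z₁ ^ 2 + a * z₁ * z₂ + b * z₂ ^ 2 = 0 → z₁ = 0 ∧ z₂ = 0) (k : ℕ) :
    Nat.card (quadIsoms (qfMinus k F a b)) =
      2 * Fintype.card F ^ ((k + 1) * k) * (Fintype.card F ^ (k + 1) + 1) *
        ∏ i ∈ Finset.range k, (Fintype.card F ^ (2 * (i + 1)) - 1) := by
  induction k with
  | zero => rw [card_binary_isoms hab]; simp
  | succ k ih =>
    rw [card_qfMinus_succ hab, ih, Finset.prod_range_succ]
    obtain ⟨A, hA⟩ : ∃ A, Fintype.card F ^ (k + 1) = A + 1 :=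
      ⟨_, (Nat.sub_add_cancel (Nat.one_le_pow _ _ Fintype.card_pos)).symm⟩
    have hB : Fintype.card F ^ (2 * (k + 1)) - 1 = A * (A + 2) :=
      Nat.sub_eq_of_eq_add (by rw [mul_comm 2, pow_mul, hA]; ring)
    rw [hB, hA, Nat.add_sub_cancel,
      show (k + 1 + 1) * (k + 1) = (k + 1) * k + 2 * (k + 1) by ring, pow_add _ ((k + 1) * k)]
    ring

end CfsgLib.Classical
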