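import Mathlib
import Cfsg.Agent.Lib.Geom.QuadRefl
import Cfsg.Agent.Lib.Geom.FiniteField

/-!
Siegel transformations of a non-degenerate quadratic space and the group they generate.
-/

set_option autoImplicit false

namespace CfsgLib.Classical

open CfsgLib.Geom
open QuadraticMap (polar)

variable {F V : Type*} [Field F] [AddCommGroup V] [Module F V]
variable (Q : QuadraticForm F V)

theorem polar_self_of_singular {x : V} (hx : Q x = 0) : polar Q x x = 0 := by
  rw [polar_self_two, hx, mul_zero]

/-- The Siegel map of `x` and `w` as a linear map. -/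
def siegelLin (x w : V) : V →ₗ[F] V :=
  LinearMap.id + (QuadraticMap.polarBilin Q x).smulRight w
    - (QuadraticMap.polarBilin Q w).smulRight x - Q w • (QuadraticMap.polarBilin Q x).smulRight x

theorem siegelLin_apply (x w z : V) :
    siegelLin Q x w z =
      z + polar Q x z • w - (polar Q w z + Q w * polar Q x z) • x := by
  simp only [siegelLin, LinearMap.sub_apply, LinearMap.add_apply, LinearMap.id_apply,
    LinearMap.smul_apply, LinearMap.smulRight_apply, QuadraticMap.polarBilin_apply_apply]
  module

theorem siegelLin_add {x : V} (hx : Q x = 0) {w w' : V} (hw : polar Q x w = 0)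
    (hw' : polar Q x w' = 0) (z : V) :
    siegelLin Q x w (siegelLin Q x w' z) = siegelLin Q x (w + w') z := by
  have hxx := polar_self_of_singular Q hx
  have hwx : polar Q w x = 0 := by rw [QuadraticMap.polar_comm]; exact hw
  simp only [siegelLin_apply, sub_eq_add_neg, ← neg_smul, QuadraticMap.polar_add_right,
    QuadraticMap.polar_add_left, QuadraticMap.polar_smul_right, hxx, hw', hwx, smul_eq_mul,
    QuadraticMap.map_add (Q : QuadraticMap F V F) w w']
  module

theorem siegelLin_zero (x z : V) : siegelLin Q x 0 z = z := by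
  simp [siegelLin_apply]

theorem siegelLin_isom {x : V} (hx : Q x = 0) {w : V} (hw : polar Q x w = 0) (z : V) :
    Q (siegelLin Q x w z) = Q z := by
  have hxx := polar_self_of_singular Q hx
  have hwx : polar Q w x = 0 := by rw [QuadraticMap.polar_comm]; exact hw
  rw [siegelLin_apply, sub_eq_add_neg, ← neg_smul, quad_map_add_smul, quad_map_add_smul,
    QuadraticMap.polar_add_left, QuadraticMap.polar_smul_left, hwx, hx, QuadraticMap.polar_comm _ z x,
    QuadraticMap.polar_comm _ z w]
  simp only [smul_eq_mul]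
  ring

theorem exists_siegel (x w : V) :
    ∃ g : quadIsoms Q, (Q x = 0 ∧ polar Q x w = 0 → ∀ z, g.1 z = siegelLin Q x w z) ∧
      (¬ (Q x = 0 ∧ polar Q x w = 0) → g = 1) := by
  by_cases h : Q x = 0 ∧ polar Q x w = 0
  · have hn : polar Q x (-w) = 0 := by rw [QuadraticMap.polar_neg_right, h.2, neg_zero]
    let e : V ≃ₗ[F] V := LinearEquiv.ofLinearMap (siegelLin Q x w) (siegelLin Q x (-w))
      (LinearMap.ext fun z => by
        rw [LinearMap.comp_apply, siegelLin_add Q h.1 h.2 hn, add_neg_cancel, siegelLin_zero]; rfl)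
      (LinearMap.ext fun z => by
        rw [LinearMap.comp_apply, siegelLin_add Q h.1 hn h.2, neg_add_cancel, siegelLin_zero]; rfl)
    exact ⟨⟨e, mem_quadIsoms.2 fun z => siegelLin_isom Q h.1 h.2 z⟩, fun _ z => rfl,
      fun h' => absurd h h'⟩
  · exact ⟨1, fun h' => absurd h' h, fun _ => rfl⟩

/-- The Siegel transformation of a singular `x` and a `w` orthogonal to it, and `1` otherwise. -/
noncomputable def siegel (x w : V) : quadIsoms Q := (exists_siegel Q x w).choose

theorem siegel_apply {x w : V} (hx : Q x = 0) (hw : polar Q x w = 0) (z : V) :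
    (siegel Q x w).1 z = z + polar Q x z • w - (polar Q w z + Q w * polar Q x z) • x := by
  exact ((exists_siegel Q x w).choose_spec.1 ⟨hx, hw⟩ z).trans (siegelLin_apply Q x w z)

theorem siegel_of_not {x w : V} (h : ¬ (Q x = 0 ∧ polar Q x w = 0)) : siegel Q x w = 1 :=
  (exists_siegel Q x w).choose_spec.2 h

theorem quadIsoms_ext {g h : quadIsoms Q} (H : ∀ x, g.1 x = h.1 x) : g = h :=
  Subtype.ext (LinearEquiv.ext H)

theorem siegel_add {x : V} (hx : Q x = 0) {w w' : V} (hw : polar Q x w = 0)
    (hw' : polar Q x w' = 0) : siegel Q x (w + w') = siegel Q x w * siegel Q x w' := by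
  have hww : polar Q x (w + w') = 0 := by rw [QuadraticMap.polar_add_right, hw, hw', add_zero]
  refine quadIsoms_ext Q fun z => ?_
  rw [Subgroup.coe_mul, LinearEquiv.mul_apply, siegel_apply Q hx hww, siegel_apply Q hx hw,
    siegel_apply Q hx hw', ← siegelLin_apply, ← siegelLin_apply, ← siegelLin_apply,
    siegelLin_add Q hx hw hw']

theorem siegel_zero (x : V) : siegel Q x 0 = 1 := by
  by_cases h : Q x = 0 ∧ polar Q x 0 = 0
  · refine quadIsoms_ext Q fun z => ?_
    rw [siegel_apply Q h.1 h.2]
    simp
  · exact siegel_of_not Q h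

theorem siegel_neg {x : V} (hx : Q x = 0) {w : V} (hw : polar Q x w = 0) :
    (siegel Q x w)⁻¹ = siegel Q x (-w) := by
  refine inv_eq_of_mul_eq_one_right ?_
  rw [← siegel_add Q hx hw (by rw [QuadraticMap.polar_neg_right, hw, neg_zero]), add_neg_cancel,
    siegel_zero]

theorem siegel_conj (g : quadIsoms Q) (x w : V) :
    g * siegel Q x w * g⁻¹ = siegel Q (g.1 x) (g.1 w) := by
  have hg : g.1 ∈ quadIsoms Q := g.2
  by_cases h : Q x = 0 ∧ polar Q x w = 0
  · have hx' : Q (g.1 x) = 0 := (hg x).trans h.1
    have hw' : polar Q (g.1 x) (g.1 w) = 0 := (polar_quadIsom hg x w).trans h.2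
    refine quadIsoms_ext Q fun z => ?_
    obtain ⟨y, rfl⟩ := g.1.surjective z
    simp only [Subgroup.coe_mul, Subgroup.coe_inv, LinearEquiv.mul_apply, LinearEquiv.coe_inv,
      LinearEquiv.symm_apply_apply]
    rw [siegel_apply Q hx' hw', siegel_apply Q h.1 h.2, polar_quadIsom hg, polar_quadIsom hg,
      mem_quadIsoms.1 hg]
    simp only [map_add, map_sub, map_smul]
  · rw [siegel_of_not Q h, siegel_of_not Q, mul_one, mul_inv_cancel]
    rwa [mem_quadIsoms.1 hg, polar_quadIsom hg]

theorem siegel_smul {x : V} (hx : Q x = 0) {w : V} (hw : polar Q x w = 0) (a : F) :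
    siegel Q (a • x) w = siegel Q x (a • w) := by
  refine quadIsoms_ext Q fun z => ?_
  rw [siegel_apply Q (by rw [quad_smul, hx, mul_zero])
      (by rw [QuadraticMap.polar_smul_left, hw, smul_zero]),
    siegel_apply Q hx (by rw [QuadraticMap.polar_smul_right, hw, smul_zero]),
    QuadraticMap.polar_smul_left, QuadraticMap.polar_smul_left, quad_smul]
  simp only [smul_eq_mul]
  module

/-- Two vectors with the same value and the same product with a singular `x` differ by a Siegel
transformation at `x`. -/
theorem siegel_move {x : V} (hx : Q x = 0) {u v : V} (hu : polar Q x u = 1) (hv : polar Q x v = 1)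
    (h : Q u = Q v) : (siegel Q x (v - u)).1 u = v := by
  have hw : polar Q x (v - u) = 0 := by rw [QuadraticMap.polar_sub_right, hu, hv, sub_self]
  have key : polar Q (v - u) u + Q (v - u) * polar Q x u = 0 := by
    have h2 := QuadraticMap.map_add (Q : QuadraticMap F V F) (v - u) u
    rw [sub_add_cancel] at h2
    rw [hu]
    linear_combination -h2 - h
  rw [siegel_apply Q hx hw, key, hu]
  simp

/-- The group generated by all Siegel transformations. -/
def siegelGroup : Subgroup (quadIsoms Q) :=
  Subgroup.closure (Set.range fun p : V × V => siegel Q p.1 p.2)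

theorem siegel_mem (x w : V) : siegel Q x w ∈ siegelGroup Q :=
  Subgroup.subset_closure ⟨(x, w), rfl⟩

theorem siegelGroup_normal : (siegelGroup Q).Normal := by
  refine ⟨fun n hn g => ?_⟩
  unfold siegelGroup at hn
  induction hn using Subgroup.closure_induction with
  | mem t ht =>
    obtain ⟨⟨x, w⟩, rfl⟩ := ht
    rw [siegel_conj]
    exact siegel_mem Q _ _
  | one => simp
  | mul a b _ _ iha ihb => rw [← conj_mul]; exact mul_mem iha ihb
  | inv a _ iha => rw [← conj_inv]; exact inv_mem iha

section FiniteDim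

variable [FiniteDimensional F V] (hQ : ∀ x, (∀ y, polar Q x y = 0) → x = 0)
include hQ

theorem exists_dual_pair {x y : V} (h : LinearIndependent F ![x, y]) (a b : F) :
    ∃ z, polar Q x z = a ∧ polar Q y z = b := by
  obtain ⟨φ, hφx, hφy⟩ : ∃ φ : Module.Dual F V, φ x = a ∧ φ y = b := by
    obtain ⟨φ, hφ⟩ := LinearMap.exists_extend
      ((Module.Basis.span h).constr F ![a, b])
    refine ⟨φ, ?_, ?_⟩
    · have h0 := LinearMap.congr_fun hφ (Module.Basis.span h 0)
      rw [LinearMap.comp_apply, Module.Basis.constr_basis] at h0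
      simpa [Module.Basis.span_apply] using h0
    · have h1 := LinearMap.congr_fun hφ (Module.Basis.span h 1)
      rw [LinearMap.comp_apply, Module.Basis.constr_basis] at h1
      simpa [Module.Basis.span_apply] using h1
  have hnd : LinearMap.BilinForm.Nondegenerate (QuadraticMap.polarBilin Q) :=
    ⟨fun u hu => hQ u hu, fun u hu => hQ u fun y => by rw [QuadraticMap.polar_comm]; exact hu y⟩
  obtain ⟨z, hz⟩ := (LinearMap.BilinForm.toDual _ hnd).surjective φ
  refine ⟨z, ?_, ?_⟩
  · rw [← hφx, ← hz, QuadraticMap.polar_comm]; rfl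
  · rw [← hφy, ← hz, QuadraticMap.polar_comm]; rfl

omit [FiniteDimensional F V] in
theorem exists_partner {x : V} (hx : x ≠ 0) : ∃ z, polar Q x z = 1 := by
  obtain ⟨y, hy⟩ : ∃ y, polar Q x y ≠ 0 := by
    by_contra h
    push Not at h
    exact hx (hQ x h)
  exact ⟨(polar Q x y)⁻¹ • y, by
    rw [QuadraticMap.polar_smul_right, smul_eq_mul, inv_mul_cancel₀ hy]⟩

theorem exists_perp_pair_ne (h5 : 5 ≤ Module.finrank F V) (a b : V) :
    ∃ u v, polar Q a u = 0 ∧ polar Q b u = 0 ∧ polar Q a v = 0 ∧ polar Q b v = 0 ∧
      polar Q u v = 1 := by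
  let K : Submodule F V :=
    LinearMap.ker (QuadraticMap.polarBilin Q a) ⊓ LinearMap.ker (QuadraticMap.polarBilin Q b)
  obtain ⟨u, hu, v, hv, huv⟩ : ∃ u ∈ K, ∃ v ∈ K, polar Q u v ≠ 0 := by
    by_contra h
    push Not at h
    have hle : K ≤ LinearMap.BilinForm.orthogonal (QuadraticMap.polarBilin Q) K := fun u hu v hv =>
      h v hv u hu
    have hnd : LinearMap.BilinForm.Nondegenerate (QuadraticMap.polarBilin Q) :=
      ⟨fun u hu => hQ u hu, fun u hu => hQ u fun y => by rw [QuadraticMap.polar_comm]; exact hu y⟩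
    have h1 := LinearMap.BilinForm.finrank_orthogonal hnd K
    have h2 := Submodule.finrank_mono hle
    have h3 := Submodule.finrank_sup_add_finrank_inf_eq
      (LinearMap.ker (QuadraticMap.polarBilin Q a)) (LinearMap.ker (QuadraticMap.polarBilin Q b))
    have h3a := (QuadraticMap.polarBilin Q a).finrank_range_add_finrank_ker
    have h3b := (QuadraticMap.polarBilin Q b).finrank_range_add_finrank_ker
    have h4a := Submodule.finrank_le (LinearMap.range (QuadraticMap.polarBilin Q a))
    have h4b := Submodule.finrank_le (LinearMap.range (QuadraticMap.polarBilin Q b))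
    have h5' := Submodule.finrank_le (LinearMap.ker (QuadraticMap.polarBilin Q a) ⊔
      LinearMap.ker (QuadraticMap.polarBilin Q b))
    rw [Module.finrank_self] at h4a h4b
    change Module.finrank F ↥(K : Submodule F V) ≤ _ at h2
    change _ + Module.finrank F ↥K = _ at h3
    omega
  refine ⟨u, (polar Q u v)⁻¹ • v, hu.1, hu.2, ?_, ?_, ?_⟩
  · rw [QuadraticMap.polar_smul_right, show polar Q a v = 0 from hv.1, smul_zero]
  · rw [QuadraticMap.polar_smul_right, show polar Q b v = 0 from hv.2, smul_zero]
  · rw [QuadraticMap.polar_smul_right, smul_eq_mul, inv_mul_cancel₀ huv]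

theorem exists_perp_anisotropic (h5 : 5 ≤ Module.finrank F V) (a b : V) :
    ∃ u, polar Q a u = 0 ∧ polar Q b u = 0 ∧ Q u ≠ 0 := by
  obtain ⟨u, v, hau, hbu, hav, hbv, huv⟩ := exists_perp_pair_ne Q hQ h5 a b
  by_contra h
  push Not at h
  have h1 := h u hau hbu
  have h2 := h v hav hbv
  have h3 := h (u + v) (by rw [QuadraticMap.polar_add_right, hau, hav, add_zero])
    (by rw [QuadraticMap.polar_add_right, hbu, hbv, add_zero])
  rw [QuadraticMap.map_add (Q : QuadraticMap F V F), h1, h2, huv] at h3
  simp at h3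

variable [Finite F]

/-- Two linear conditions leave a non-zero singular vector in dimension at least five. -/
theorem exists_perp_singular (h5 : 5 ≤ Module.finrank F V) (a b : V) :
    ∃ u, u ≠ 0 ∧ polar Q a u = 0 ∧ polar Q b u = 0 ∧ Q u = 0 := by
  obtain ⟨u, hau, hbu, hu⟩ := exists_perp_anisotropic Q hQ h5 a b
  -- three further linear conditions at most
  have big : ∀ (c d : V), 5 ≤ Module.finrank F V →
      ∃ w, w ≠ 0 ∧ polar Q a w = 0 ∧ polar Q b w = 0 ∧ polar Q c w = 0 ∧ polar Q d w = 0 := by
    intro c d _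
    let L : V →ₗ[F] (Fin 4 → F) := LinearMap.pi fun i =>
      QuadraticMap.polarBilin Q (![a, b, c, d] i)
    obtain ⟨w, hw, hw0⟩ : ∃ w ∈ LinearMap.ker L, w ≠ 0 := by
      refine Submodule.exists_mem_ne_zero_of_ne_bot fun h => ?_
      have h1 := L.finrank_range_add_finrank_ker
      have h2 := Submodule.finrank_le (LinearMap.range L)
      rw [h, finrank_bot] at h1
      simp at h2
      omega
    have hw' : ∀ i, polar Q (![a, b, c, d] i) w = 0 := fun i => congrFun hw i
    exact ⟨w, hw0, hw' 0, hw' 1, hw' 2, hw' 3⟩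
  by_contra hall
  push Not at hall
  obtain ⟨v, hv0, hav, hbv, huv, -⟩ := big u u h5
  have hv : Q v ≠ 0 := hall v hv0 hav hbv
  obtain ⟨w, hw0, haw, hbw, huw, hvw⟩ := big u v h5
  have hw : Q w ≠ 0 := hall w hw0 haw hbw
  have hperp : ∀ s t : F, polar Q a (s • u + t • v + w) = 0 ∧ polar Q b (s • u + t • v + w) = 0 :=
    fun s t => by
      constructor <;>
        simp [QuadraticMap.polar_add_right, QuadraticMap.polar_smul_right, hau, hbu, hav, hbv, haw, hbw]
  by_cases h2 : (2 : F) = 0
  · obtain ⟨p, hp⟩ := exists_partner Q hQ (fun h : u = 0 => hu (by rw [h, QuadraticMap.map_zero]))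
    obtain ⟨v', hv'0, hav', hbv', huv', hpv'⟩ := big u p h5
    obtain ⟨r, hr⟩ := isSquare_of_two_eq_zero h2 (-Q v' / Q u)
    have hz : r • u + v' ≠ 0 := by
      intro h
      have e := congrArg (polar Q p) h
      simp only [QuadraticMap.polar_add_right, QuadraticMap.polar_smul_right,
        QuadraticMap.polar_comm _ p u, hp, hpv', QuadraticMap.polar_zero_right, smul_eq_mul, mul_one,
        add_zero] at e
      rw [e, zero_smul, zero_add] at h
      exact hv'0 h
    refine hall (r • u + v') hz ?_ ?_ ?_
    · simp [QuadraticMap.polar_add_right, QuadraticMap.polar_smul_right, hau, hav']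
    · simp [QuadraticMap.polar_add_right, QuadraticMap.polar_smul_right, hbu, hbv']
    · rw [QuadraticMap.map_add (Q : QuadraticMap F V F), quad_smul, QuadraticMap.polar_smul_left, huv',
        smul_zero, add_zero]
      field_simp at hr
      linear_combination -hr
  · obtain ⟨s, t, hst⟩ := exists_binary_eq h2 hu hv (-Q w)
    have hz : s • u + t • v + w ≠ 0 := by
      intro h
      have e1 := congrArg (polar Q w) h
      simp only [QuadraticMap.polar_add_right, QuadraticMap.polar_smul_right,
        QuadraticMap.polar_comm _ w u, QuadraticMap.polar_comm _ w v, huw, hvw, polar_self_two,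
        QuadraticMap.polar_zero_right, smul_zero, zero_add] at e1
      exact hw ((mul_eq_zero.1 e1).resolve_left h2)
    refine hall _ hz (hperp s t).1 (hperp s t).2 ?_
    rw [QuadraticMap.map_add (Q : QuadraticMap F V F), QuadraticMap.map_add (Q : QuadraticMap F V F),
      quad_smul, quad_smul]
    simp only [QuadraticMap.polar_add_left, QuadraticMap.polar_smul_left, QuadraticMap.polar_smul_right,
      huv, huw, hvw, smul_zero, add_zero]
    linear_combination hst

end FiniteDim

end CfsgLib.Classical
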