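import Mathlib
import Cfsg.Agent.Lib.Classical.OrthSiegel
import Cfsg.Agent.Lib.Geom.QuadRefl

/-!
The commutator subgroup of an orthogonal group of dimension at least five over a finite field: it is generated by
Siegel transformations, it is perfect, and its central quotient is simple (Iwasawa's criterion on the singular
points).
-/

set_option autoImplicit false

namespace CfsgLib.Classical

open CfsgLib.Geom
open QuadraticMap (polar)
open scoped LinearAlgebra.Projectivization Pointwise commutatorElement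
open Projectivization (mk mk_eq_mk_iff' mk_rep rep_nonzero)

variable {F V : Type*} [Field F] [Finite F] [AddCommGroup V] [Module F V] [FiniteDimensional F V]
variable (Q : QuadraticForm F V) (hQ : ∀ x, (∀ y, polar Q x y = 0) → x = 0)
  (h5 : 5 ≤ Module.finrank F V)

include hQ h5

omit [Finite F] [FiniteDimensional F V] hQ h5 in
theorem linearIndependent_pair_of_polar {x u z : V} (hu : u ≠ 0) (hxz : polar Q z x ≠ 0)
    (huz : polar Q z u = 0) : LinearIndependent F ![u, x] := by
  rw [LinearIndependent.pair_iff' hu]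
  intro a ha
  rw [← ha, QuadraticMap.polar_smul_right, huz, smul_zero] at hxz
  exact hxz rfl

/-- A singular vector independent of and orthogonal to a given one. -/
theorem exists_singular_perp_indep {x : V} (hx : x ≠ 0) (y : V) :
    ∃ u, Q u = 0 ∧ u ≠ 0 ∧ polar Q x u = 0 ∧ polar Q y u = 0 ∧
      (polar Q x y ≠ 0 → LinearIndependent F ![u, x] ∧ LinearIndependent F ![u, y]) := by
  obtain ⟨u, hu0, hxu, hyu, hu⟩ := exists_perp_singular Q hQ h5 x y
  refine ⟨u, hu, hu0, hxu, hyu, fun h => ⟨?_, ?_⟩⟩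
  · exact linearIndependent_pair_of_polar Q (z := y) hu0 (by rwa [QuadraticMap.polar_comm]) hyu
  · exact linearIndependent_pair_of_polar Q (z := x) hu0 h hxu

omit [Finite F] h5 in
/-- For singular `x` and `y ⊥ x` independent of it, a singular `z` with prescribed products. -/
theorem exists_singular_dual {x y : V} (h : LinearIndependent F ![x, y]) (hx : Q x = 0)
    (hxy : polar Q x y = 0) (a : F) :
    ∃ z, Q z = 0 ∧ polar Q x z = 1 ∧ polar Q y z = a := by
  obtain ⟨z, h1, h2⟩ := exists_dual_pair Q hQ h 1 a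
  refine ⟨z + (-Q z) • x, ?_, ?_, ?_⟩
  · rw [quad_map_add_smul, QuadraticMap.polar_comm _ z x, h1, hx]
    ring
  · rw [QuadraticMap.polar_add_right, h1, QuadraticMap.polar_smul_right, polar_self_of_singular Q hx,
      smul_zero, add_zero]
  · rw [QuadraticMap.polar_add_right, h2, QuadraticMap.polar_smul_right, QuadraticMap.polar_comm _ y x,
      hxy, smul_zero, add_zero]

omit [Finite F] in
theorem siegel_orth_transitive {x y : V} (hx : Q x = 0) (hy : Q y = 0) (hxy : polar Q x y = 0)
    (hi : LinearIndependent F ![x, y]) : ∃ g ∈ siegelGroup Q, g.1 x = y := by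
  obtain ⟨z, hz, hxz, hyz⟩ := exists_singular_dual Q hQ hi hx hxy 1
  exact ⟨_, siegel_mem Q z (y - x), siegel_move Q hz (by rw [QuadraticMap.polar_comm]; exact hxz)
    (by rw [QuadraticMap.polar_comm]; exact hyz) (hx.trans hy.symm)⟩

/-- Siegel transformations are transitive on non-zero singular vectors. -/
theorem siegel_transitive {x y : V} (hx : Q x = 0) (hy : Q y = 0) (hx0 : x ≠ 0) (hy0 : y ≠ 0) :
    ∃ g ∈ siegelGroup Q, g.1 x = y := by
  have step : ∀ {a b c : V}, (∃ g ∈ siegelGroup Q, g.1 a = b) → (∃ g ∈ siegelGroup Q, g.1 b = c) →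
      ∃ g ∈ siegelGroup Q, g.1 a = c := by
    rintro a b c ⟨g, hg, rfl⟩ ⟨k, hk, rfl⟩
    exact ⟨k * g, mul_mem hk hg, rfl⟩
  have back : ∀ {a b : V}, (∃ g ∈ siegelGroup Q, g.1 a = b) → ∃ g ∈ siegelGroup Q, g.1 b = a := by
    rintro a b ⟨g, hg, rfl⟩
    exact ⟨g⁻¹, inv_mem hg, g.1.symm_apply_apply a⟩
  by_cases hxy : polar Q x y = 0
  · by_cases hi : LinearIndependent F ![x, y]
    · exact siegel_orth_transitive Q hQ h5 hx hy hxy hi
    · rw [LinearIndependent.pair_iff' hx0] at hi
      push Not at hi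
      obtain ⟨a, rfl⟩ := hi
      have ha : a ≠ 0 := fun h => hy0 (by rw [h, zero_smul])
      obtain ⟨p, hp⟩ := exists_partner Q hQ hx0
      obtain ⟨u, hu, hu0, hxu, -, hind⟩ := exists_singular_perp_indep Q hQ h5 hx0 p
      obtain ⟨hi1, -⟩ := hind (by rw [hp]; exact one_ne_zero)
      have hux : polar Q u x = 0 := by rw [QuadraticMap.polar_comm]; exact hxu
      refine step (back (siegel_orth_transitive Q hQ h5 hu hx hux hi1))
        (siegel_orth_transitive Q hQ h5 hu hy (by rw [QuadraticMap.polar_smul_right, hux, smul_zero]) ?_)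
      rw [LinearIndependent.pair_iff' hu0]
      intro b hb
      refine (LinearIndependent.pair_iff' hu0).1 hi1 (a⁻¹ * b) ?_
      rw [mul_smul, hb, inv_smul_smul₀ ha]
  · obtain ⟨u, hu, hu0, hxu, hyu, hind⟩ := exists_singular_perp_indep Q hQ h5 hx0 y
    obtain ⟨h1, h2⟩ := hind hxy
    exact step (back (siegel_orth_transitive Q hQ h5 hu hx (by rw [QuadraticMap.polar_comm]; exact hxu) h1))
      (siegel_orth_transitive Q hQ h5 hu hy (by rw [QuadraticMap.polar_comm]; exact hyu) h2)

/-- A non-zero singular vector. -/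
theorem exists_singular : ∃ x, x ≠ 0 ∧ Q x = 0 := by
  obtain ⟨u, hu0, -, -, hu⟩ := exists_perp_singular Q hQ h5 0 0
  exact ⟨u, hu0, hu⟩

/-- Siegel transformations are transitive on vectors of a given non-zero value. -/
theorem siegel_transitive_value {u v : V} (hu : Q u ≠ 0) (h : Q u = Q v) :
    ∃ g ∈ siegelGroup Q, g.1 u = v := by
  have key : ∀ u : V, Q u ≠ 0 → ∃ x, Q x = 0 ∧ polar Q x u = 1 := by
    intro u hu
    obtain ⟨x, hx0, hx⟩ := exists_singular Q hQ h5
    by_cases hxu : polar Q x u = 0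
    · obtain ⟨z, hz, -, huz⟩ := exists_singular_dual Q hQ
        ((LinearIndependent.pair_iff' hx0).2 fun a ha => hu (by rw [← ha, quad_smul, hx, mul_zero]))
        hx hxu 1
      exact ⟨z, hz, by rw [QuadraticMap.polar_comm]; exact huz⟩
    · exact ⟨(polar Q x u)⁻¹ • x, by rw [quad_smul, hx, mul_zero],
        by rw [QuadraticMap.polar_smul_left, smul_eq_mul, inv_mul_cancel₀ hxu]⟩
  obtain ⟨x, hx, hxu⟩ := key u hu
  obtain ⟨y, hy, hyv⟩ := key v (h ▸ hu)
  have hx0 : x ≠ 0 := fun e => by simp [e] at hxu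
  have hy0 : y ≠ 0 := fun e => by simp [e] at hyv
  obtain ⟨g, hg, hgy⟩ := siegel_transitive Q hQ h5 hy hx hy0 hx0
  have hgv : polar Q x (g.1 v) = 1 := by rw [← hgy, polar_quadIsom g.2, hyv]
  refine ⟨g⁻¹ * siegel Q x (g.1 v - u), mul_mem (inv_mem hg) (siegel_mem Q _ _), ?_⟩
  rw [Subgroup.coe_mul, LinearEquiv.mul_apply,
    siegel_move Q hx hxu hgv (h.trans (mem_quadIsoms.1 g.2 v).symm)]
  exact g.1.symm_apply_apply v

omit [Finite F] [FiniteDimensional F V] in
theorem exGen_of_five : (∃ t : F, t ≠ 0 ∧ t ≠ 1) ∨ Module.finrank F V ≠ 4 := Or.inr (by omega)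

/-- The commutator subgroup is contained in the group generated by Siegel transformations. -/
theorem commutator_le_siegelGroup : commutator (quadIsoms Q) ≤ siegelGroup Q := by
  have := siegelGroup_normal Q
  let π := QuotientGroup.mk' (siegelGroup Q)
  let R : Set (quadIsoms Q) := {r | ∃ v, ∃ hv : Q v ≠ 0, r.1 = reflEquiv Q v hv}
  have hgen : Subgroup.closure R = ⊤ := by
    rw [eq_top_iff]
    intro g _
    have hg : g.1 ∈ Subgroup.closure (reflSet Q) := by
      rw [← quadIsoms_eq_closure Q hQ (exGen_of_five Q hQ h5)]; exact g.2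
    suffices ∀ t ∈ Subgroup.closure (reflSet Q), ∀ ht : t ∈ quadIsoms Q,
        (⟨t, ht⟩ : quadIsoms Q) ∈ Subgroup.closure R from this g.1 hg g.2
    intro t ht
    induction ht using Subgroup.closure_induction with
    | mem t ht =>
      intro ht'
      obtain ⟨v, hv, rfl⟩ := ht
      exact Subgroup.subset_closure ⟨v, hv, rfl⟩
    | one => intro _; exact one_mem _
    | mul a b ha hb iha ihb =>
      intro _
      exact mul_mem (iha (reflSet_closure_le Q ha)) (ihb (reflSet_closure_le Q hb))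
    | inv a ha iha => intro _; exact inv_mem (iha (reflSet_closure_le Q ha))
  have key : ∀ a ∈ R, ∀ b ∈ R, π a * π b = π b * π a := by
    rintro a ⟨u, hu, ha⟩ b ⟨v, hv, hb⟩
    obtain ⟨g, hg, hgv⟩ := siegel_transitive_value Q hQ h5 (u := v) (v := a.1 v) hv
      (mem_quadIsoms.1 a.2 v).symm
    have hab : a * b * a⁻¹ = g * b * g⁻¹ := by
      refine Subtype.ext ?_
      simp only [Subgroup.coe_mul, Subgroup.coe_inv, hb]
      rw [conj_reflEquiv Q a.2, conj_reflEquiv Q g.2]
      simp only [hgv]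
    have h1 := congrArg π hab
    rw [map_mul, map_mul, map_mul, map_mul, map_inv, map_inv,
      show π g = 1 from (QuotientGroup.eq_one_iff g).2 hg, one_mul, inv_one, mul_one,
      mul_inv_eq_iff_eq_mul] at h1
    exact h1
  rw [commutator_def, Subgroup.commutator_le]
  intro a _ b _
  rw [← QuotientGroup.eq_one_iff, ← QuotientGroup.mk'_apply, map_commutatorElement]
  refine commutatorElement_eq_one_iff_commute.2 ?_
  have ha : a ∈ Subgroup.closure R := hgen ▸ Subgroup.mem_top a
  have hb : b ∈ Subgroup.closure R := hgen ▸ Subgroup.mem_top b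
  refine Subgroup.closure_induction₂ (p := fun x y _ _ => Commute (π x) (π y)) ?_ ?_ ?_ ?_ ?_ ?_ ?_ ha hb
  · intro x y hx hy; exact key x hx y hy
  · intro x _; rw [map_one]; exact Commute.one_left _
  · intro x _; rw [map_one]; exact Commute.one_right _
  · intro x y z _ _ _ h1 h2; rw [map_mul]; exact h1.mul_left h2
  · intro x y z _ _ _ h1 h2; rw [map_mul]; exact h1.mul_right h2
  · intro x y _ _ h1; rw [map_inv]; exact h1.inv_left
  · intro x y _ _ h1; rw [map_inv]; exact h1.inv_right

/-- The group generated by Siegel transformations is perfect. -/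
theorem siegelGroup_le_commutator : siegelGroup Q ≤ ⁅siegelGroup Q, siegelGroup Q⁆ := by
  refine (Subgroup.closure_le _).2 ?_
  rintro _ ⟨⟨x, w⟩, rfl⟩
  show siegel Q x w ∈ ⁅siegelGroup Q, siegelGroup Q⁆
  by_cases hc : Q x = 0 ∧ polar Q x w = 0
  swap
  · rw [siegel_of_not Q hc]; exact one_mem _
  obtain ⟨hx, hw⟩ := hc
  by_cases hx0 : x = 0
  · have : siegel Q x w = 1 := quadIsoms_ext Q fun z => by rw [siegel_apply Q hx hw]; simp [hx0]
    rw [this]; exact one_mem _
  have sing : ∀ w, Q w = 0 → polar Q x w = 0 → siegel Q x w ∈ ⁅siegelGroup Q, siegelGroup Q⁆ := by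
    intro w hwQ hxw
    obtain ⟨u, v, hxu, hwu, hxv, hwv, huv⟩ := exists_perp_pair_ne Q hQ h5 x w
    have hnv : polar Q w (-v) = 0 := by rw [QuadraticMap.polar_neg_right, hwv, neg_zero]
    have hhx : (siegel Q w (-v)).1 x = x := by
      rw [siegel_apply Q hwQ hnv, QuadraticMap.polar_neg_left, QuadraticMap.polar_comm _ w x, hxw,
        QuadraticMap.polar_comm _ v x, hxv]
      simp
    have hhu : (siegel Q w (-v)).1 u = u + w := by
      rw [siegel_apply Q hwQ hnv, QuadraticMap.polar_neg_left, hwu, QuadraticMap.polar_comm _ v u, huv]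
      simp
    have e : siegel Q x w = ⁅siegel Q w (-v), siegel Q x u⁆ := by
      rw [commutatorElement_def, siegel_conj, hhx, hhu, siegel_add Q hx hxu hxw, siegel_neg Q hx hxu,
        mul_assoc, ← siegel_add Q hx hxw (by rw [QuadraticMap.polar_neg_right, hxu, neg_zero]),
        ← siegel_add Q hx hxu (by rw [QuadraticMap.polar_add_right, hxw, QuadraticMap.polar_neg_right,
          hxu, neg_zero, add_zero])]
      congr 1
      abel
    rw [e]
    exact Subgroup.commutator_mem_commutator (siegel_mem Q _ _) (siegel_mem Q _ _)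
  obtain ⟨p, hp⟩ := exists_partner Q hQ hx0
  obtain ⟨z, hz, hz0, hxz, -, hind⟩ := exists_singular_perp_indep Q hQ h5 hx0 p
  have hi := (hind (by rw [hp]; exact one_ne_zero)).1
  have main : ∀ w, polar Q x w = 0 → polar Q z w ≠ 0 →
      siegel Q x w ∈ ⁅siegelGroup Q, siegelGroup Q⁆ := by
    intro w hxw hzw
    obtain ⟨t, ht⟩ : ∃ t : F, t = -Q w / polar Q z w := ⟨_, rfl⟩
    have h1 : polar Q x (w + t • z) = 0 := by
      rw [QuadraticMap.polar_add_right, hxw, QuadraticMap.polar_smul_right, hxz, smul_zero, add_zero]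
    have h2 : polar Q x ((-t) • z) = 0 := by
      rw [QuadraticMap.polar_smul_right, hxz, smul_zero]
    have e : w = (w + t • z) + (-t) • z := by rw [neg_smul, add_neg_cancel_right]
    rw [e, siegel_add Q hx h1 h2]
    refine mul_mem (sing _ ?_ h1) (sing _ (by rw [quad_smul, hz, mul_zero]) h2)
    rw [quad_map_add_smul, hz, QuadraticMap.polar_comm _ w z, ht]
    field_simp
    ring
  by_cases hzw : polar Q z w = 0
  · obtain ⟨v, hv1, hv2⟩ := exists_dual_pair Q hQ hi 1 0
    have h1 : polar Q x (w + v) = 0 := by rw [QuadraticMap.polar_add_right, hw, hv2, add_zero]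
    have h2 : polar Q x (-v) = 0 := by rw [QuadraticMap.polar_neg_right, hv2, neg_zero]
    have e : w = (w + v) + (-v) := by abel
    rw [e, siegel_add Q hx h1 h2]
    refine mul_mem (main _ h1 ?_) (main _ h2 ?_)
    · rw [QuadraticMap.polar_add_right, hzw, hv1, zero_add]; exact one_ne_zero
    · rw [QuadraticMap.polar_neg_right, hv1]; exact neg_ne_zero.2 one_ne_zero
  · exact main w hw hzw

/-- The commutator subgroup is the group generated by Siegel transformations. -/
theorem commutator_eq_siegelGroup : commutator (quadIsoms Q) = siegelGroup Q :=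
  le_antisymm (commutator_le_siegelGroup Q hQ h5) ((siegelGroup_le_commutator Q hQ h5).trans
    (by rw [commutator_def]; exact Subgroup.commutator_mono le_top le_top))

theorem commutator_commutator_quadIsoms :
    commutator ↥(commutator (quadIsoms Q)) = ⊤ := by
  refine Subgroup.map_injective (Subgroup.subtype_injective (commutator (quadIsoms Q))) ?_
  rw [Subgroup.map_subtype_commutator, ← MonoidHom.range_eq_map, Subgroup.range_subtype,
    commutator_eq_siegelGroup Q hQ h5]
  exact le_antisymm ((Subgroup.commutator_le_self _)) (siegelGroup_le_commutator Q hQ h5)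

omit [Finite F] [FiniteDimensional F V] hQ h5 in
theorem singular_mk_iff {v : V} (hv : v ≠ 0) : Q (mk F v hv).rep = 0 ↔ Q v = 0 := by
  obtain ⟨a, ha⟩ := (mk_eq_mk_iff' F _ _ (rep_nonzero (mk F v hv)) hv).1 (mk_rep _)
  have ha0 : a ≠ 0 := by
    rintro rfl
    exact rep_nonzero (mk F v hv) (by rw [← ha, zero_smul])
  rw [← ha, quad_smul]
  simp [ha0]

/-- An element fixing every singular point is a scalar. -/
theorem exists_scalar_of_fix_singular (g : quadIsoms Q)
    (hg : ∀ x, Q x = 0 → x ≠ 0 → ∃ a : F, g.1 x = a • x) : ∃ a : F, ∀ v, g.1 v = a • v := by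
  have same_orth : ∀ {x y : V}, Q x = 0 → Q y = 0 → x ≠ 0 → y ≠ 0 → polar Q x y = 0 →
      LinearIndependent F ![x, y] → ∀ {a b : F}, g.1 x = a • x → g.1 y = b • y → a = b := by
    intro x y hx hy hx0 hy0 hxy hi a b ha hb
    obtain ⟨c, hc⟩ := hg (x + y) (by rw [QuadraticMap.map_add (Q : QuadraticMap F V F), hx, hy, hxy]; simp)
      (fun h => by
        have := (LinearIndependent.pair_iff.1 hi 1 1 (by rw [one_smul, one_smul]; exact h)).1
        exact one_ne_zero this)
    rw [map_add, ha, hb, smul_add] at hc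
    have := LinearIndependent.pair_iff.1 hi (a - c) (b - c)
      (by rw [sub_smul, sub_smul, sub_add_sub_comm, hc, sub_self])
    rw [sub_eq_zero, sub_eq_zero] at this
    rw [this.1, this.2]
  obtain ⟨x, hx0, hx⟩ := exists_singular Q hQ h5
  obtain ⟨a, ha⟩ := hg x hx hx0
  have hall : ∀ y, Q y = 0 → g.1 y = a • y := by
    intro y hy
    by_cases hy0 : y = 0
    · simp [hy0]
    obtain ⟨b, hb⟩ := hg y hy hy0
    suffices a = b by rw [this]; exact hb
    by_cases hxy : polar Q x y = 0
    · by_cases hi : LinearIndependent F ![x, y]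
      · exact same_orth hx hy hx0 hy0 hxy hi ha hb
      · rw [LinearIndependent.pair_iff' hx0] at hi
        push Not at hi
        obtain ⟨c, rfl⟩ := hi
        rw [map_smul, ha, smul_comm] at hb
        exact smul_left_injective F hy0 hb
    · obtain ⟨u, hu, hu0, hxu, hyu, hind⟩ := exists_singular_perp_indep Q hQ h5 hx0 y
      obtain ⟨c, hc⟩ := hg u hu hu0
      obtain ⟨h1, h2⟩ := hind hxy
      exact (same_orth hu hx hu0 hx0 (by rw [QuadraticMap.polar_comm]; exact hxu) h1 hc ha).symm.trans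
        (same_orth hu hy hu0 hy0 (by rw [QuadraticMap.polar_comm]; exact hyu) h2 hc hb)
  have hne : ∀ v, polar Q x v ≠ 0 → g.1 v = a • v := by
    intro v hv
    have h1 : Q (v + (-Q v / polar Q x v) • x) = 0 := by
      rw [quad_map_add_smul, hx, QuadraticMap.polar_comm _ v x]
      field_simp
      ring
    have h2 := hall _ h1
    rw [map_add, map_smul, ha, smul_add, smul_comm _ a x] at h2
    exact add_right_cancel h2
  refine ⟨a, fun v => ?_⟩
  by_cases hv : polar Q x v = 0
  · obtain ⟨p, hp⟩ := exists_partner Q hQ hx0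
    have h1 := hne (v + p) (by rw [QuadraticMap.polar_add_right, hv, hp, zero_add]; exact one_ne_zero)
    rw [map_add, hne p (by rw [hp]; exact one_ne_zero), smul_add] at h1
    exact add_right_cancel h1
  · exact hne v hv

/-- An element commuting with all Siegel transformations is a scalar. -/
theorem exists_scalar_of_commute_siegel (g : quadIsoms Q)
    (hg : ∀ x w, g * siegel Q x w = siegel Q x w * g) : ∃ a : F, ∀ v, g.1 v = a • v := by
  refine exists_scalar_of_fix_singular Q hQ h5 g fun x hx hx0 => ?_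
  by_contra hcon
  push Not at hcon
  have hfix : ∀ w, polar Q x w = 0 → (siegel Q x w).1 (g.1 x) = g.1 x := by
    intro w hw
    have h := congrArg (fun k : quadIsoms Q => k.1 x) (hg x w)
    simp only [Subgroup.coe_mul, LinearEquiv.mul_apply] at h
    rw [← h, siegel_apply Q hx hw, polar_self_of_singular Q hx, QuadraticMap.polar_comm _ w x, hw]
    simp
  have hi : LinearIndependent F ![x, g.1 x] :=
    (LinearIndependent.pair_iff' hx0).2 fun a ha => hcon a ha.symm
  by_cases h : polar Q x (g.1 x) = 0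
  · obtain ⟨w, hw1, hw2⟩ := exists_dual_pair Q hQ hi 0 1
    have h1 := hfix w hw1
    rw [siegel_apply Q hx hw1, h, QuadraticMap.polar_comm _ w, hw2] at h1
    exact hx0 (by simpa using h1)
  · obtain ⟨u, hu, hu0, hxu, hgu, -⟩ := exists_singular_perp_indep Q hQ h5 hx0 (g.1 x)
    have h1 := hfix u hxu
    rw [siegel_apply Q hx hxu, QuadraticMap.polar_comm _ u, hgu, hu] at h1
    simp [h, hu0] at h1

theorem mem_center_commutator_iff (g : ↥(commutator (quadIsoms Q))) :
    g ∈ Subgroup.center ↥(commutator (quadIsoms Q)) ↔ ∃ a : F, ∀ v, g.1.1 v = a • v := by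
  constructor
  · intro hg
    refine exists_scalar_of_commute_siegel Q hQ h5 g.1 fun x w => ?_
    have hm : siegel Q x w ∈ commutator (quadIsoms Q) := by
      rw [commutator_eq_siegelGroup Q hQ h5]; exact siegel_mem Q x w
    exact (congrArg Subtype.val (Subgroup.mem_center_iff.1 hg ⟨_, hm⟩)).symm
  · rintro ⟨a, ha⟩
    refine Subgroup.mem_center_iff.2 fun k => Subtype.ext (quadIsoms_ext Q fun v => ?_)
    simp only [Subgroup.coe_mul, LinearEquiv.mul_apply, ha, map_smul]

section Action

variable {Q}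

omit [Finite F] [FiniteDimensional F V] hQ h5 in
theorem omega_mk_smul (g : ↥(commutator (quadIsoms Q))) (v : V) (hv : v ≠ 0) :
    g • mk F v hv = mk F (g.1.1 v) (fun h => hv (g.1.1.injective (h.trans (map_zero g.1.1).symm))) :=
  rfl

omit [Finite F] [FiniteDimensional F V] hQ h5 in
theorem omega_mul_apply (g k : ↥(commutator (quadIsoms Q))) (v : V) :
    (g * k).1.1 v = g.1.1 (k.1.1 v) :=
  rfl

omit [Finite F] [FiniteDimensional F V] hQ h5 in
theorem omega_inv_apply (g : ↥(commutator (quadIsoms Q))) (v : V) : (g⁻¹).1.1 v = g.1.1.symm v :=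
  rfl

variable (Q)

/-- The singular points. -/
def singPoints : SubMulAction ↥(commutator (quadIsoms Q)) (ℙ F V) where
  carrier := {P | Q P.rep = 0}
  smul_mem' g P hP := by
    induction P using Projectivization.ind with | _ v hv =>
    simp only [Set.mem_ofPred_eq, omega_mk_smul, singular_mk_iff Q] at hP ⊢
    rw [mem_quadIsoms.1 g.1.2]; exact hP

omit [Finite F] [FiniteDimensional F V] hQ h5 in
theorem mem_singPoints (v : V) (hv : v ≠ 0) : mk F v hv ∈ singPoints Q ↔ Q v = 0 :=
  singular_mk_iff Q hv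

theorem singPoints_isPretransitive :
    MulAction.IsPretransitive ↥(commutator (quadIsoms Q)) (singPoints Q) := by
  refine ⟨?_⟩
  rintro ⟨P, hP⟩ ⟨P', hP'⟩
  induction P using Projectivization.ind with | _ x hx0 =>
  induction P' using Projectivization.ind with | _ y hy0 =>
  obtain ⟨g, hg, hgx⟩ := siegel_transitive Q hQ h5 ((mem_singPoints Q _ _).1 hP)
    ((mem_singPoints Q _ _).1 hP') hx0 hy0
  refine ⟨⟨g, by rw [commutator_eq_siegelGroup Q hQ h5]; exact hg⟩, Subtype.ext ?_⟩
  rw [SubMulAction.val_smul]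
  simp only [omega_mk_smul, hgx]

theorem singPoints_isQuasiPreprimitive :
    MulAction.IsQuasiPreprimitive ↥(commutator (quadIsoms Q)) (singPoints Q) := by
  have hS := commutator_eq_siegelGroup Q hQ h5
  have hmem := mem_singPoints Q
  have lift : ∀ g : quadIsoms Q, g ∈ siegelGroup Q → g ∈ commutator (quadIsoms Q) := fun g hg => hS ▸ hg
  have htrans := singPoints_isPretransitive Q hQ h5
  refine { toIsPretransitive := htrans, isPretransitive_of_normal := fun {M} hM hMfix => ?_ }
  have hsub : ∀ (n : M) (P : singPoints Q), ((n • P : singPoints Q) : ℙ F V) = n.1 • (P : ℙ F V) :=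
    fun _ _ => rfl
  let R : ∀ x y : V, Prop := fun x y => ∃ n : M, ∃ a : F, a ≠ 0 ∧ n.1.1.1 x = a • y
  have Rrefl : ∀ x, R x x := fun x => ⟨1, 1, one_ne_zero, by simp⟩
  have Rsymm : ∀ {x y}, R x y → R y x := fun {x y} ⟨n, a, ha, hn⟩ => ⟨n⁻¹, a⁻¹, inv_ne_zero ha, by
    have h := congrArg n.1.1.1.symm hn
    rw [LinearEquiv.symm_apply_apply, map_smul] at h
    rw [h, inv_smul_smul₀ ha]
    rfl⟩
  have Rtrans : ∀ {x y z}, R x y → R y z → R x z := fun {x y z} ⟨n, a, ha, hn⟩ ⟨k, b, hb, hk⟩ =>
    ⟨k * n, a * b, mul_ne_zero ha hb, by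
      rw [Subgroup.coe_mul M, omega_mul_apply, hn, map_smul, hk, smul_smul]⟩
  have Rscale : ∀ {x y} {c : F}, c ≠ 0 → R x y → R x (c • y) := fun {x y c} hc ⟨n, a, ha, hn⟩ =>
    ⟨n, a * c⁻¹, mul_ne_zero ha (inv_ne_zero hc), by rw [hn, smul_smul, inv_mul_cancel_right₀ hc]⟩
  have Rconj : ∀ g : quadIsoms Q, g ∈ siegelGroup Q → ∀ {x y}, R x y → R (g.1 x) (g.1 y) :=
    fun g hg {x y} ⟨n, a, ha, hn⟩ =>
      ⟨⟨_, hM.conj_mem n.1 n.2 (⟨g, lift g hg⟩ : ↥(commutator (quadIsoms Q)))⟩, a, ha, by
        rw [omega_mul_apply, omega_mul_apply, omega_inv_apply, LinearEquiv.symm_apply_apply, hn, map_smul]⟩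
  -- a moved point
  obtain ⟨P, hP⟩ := (Set.ne_univ_iff_exists_notMem _).1 hMfix
  simp only [MulAction.mem_fixedPoints, not_forall] at hP
  obtain ⟨n, hn⟩ := hP
  obtain ⟨P, hPX⟩ := P
  induction P using Projectivization.ind with | _ p hp =>
  have hp' := (hmem _ _).1 hPX
  obtain ⟨q, hq⟩ : ∃ q, q = n.1.1.1 p := ⟨_, rfl⟩
  have hq' : Q q = 0 := by rw [hq, mem_quadIsoms.1 n.1.1.2]; exact hp'
  have hpq : LinearIndependent F ![p, q] := by
    rw [LinearIndependent.pair_iff' hp]
    intro a ha
    refine hn (Subtype.ext ?_)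
    rw [hsub, omega_mk_smul, mk_eq_mk_iff']
    exact ⟨a, by rw [ha, hq]⟩
  have hR : R p q := ⟨n, 1, one_ne_zero, by rw [one_smul, hq]⟩
  -- some related pair is non-orthogonal
  obtain ⟨x₀, y₀, hx₀, hy₀, hxy₀, hR₀⟩ :
      ∃ x y, Q x = 0 ∧ Q y = 0 ∧ polar Q x y ≠ 0 ∧ R x y := by
    by_cases hb : polar Q p q = 0
    · obtain ⟨z, hz, hpz, hqz⟩ := exists_singular_dual Q hQ hpq hp' hb 0
      obtain ⟨w, hzw, hqw, hw⟩ := exists_perp_anisotropic Q hQ h5 z q
      refine ⟨p, (siegel Q z w).1 p, hp', by rw [mem_quadIsoms.1 (siegel Q z w).2]; exact hp', ?_, ?_⟩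
      · rw [siegel_apply Q hz hzw, QuadraticMap.polar_comm _ z p, hpz, one_smul, sub_eq_add_neg,
          ← neg_smul, QuadraticMap.polar_add_right, QuadraticMap.polar_add_right,
          QuadraticMap.polar_smul_right, polar_self_of_singular Q hp', hpz,
          QuadraticMap.polar_comm _ w p, smul_eq_mul]
        simpa using hw
      · have hfix' : (siegel Q z w).1 q = q := by
          rw [siegel_apply Q hz hzw, QuadraticMap.polar_comm _ z q, hqz, QuadraticMap.polar_comm _ w q,
            hqw]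
          simp
        have h2 := Rconj _ (siegel_mem Q z w) hR
        rw [hfix'] at h2
        exact Rtrans hR (Rsymm h2)
    · exact ⟨p, q, hp', hq', hb, hR⟩
  -- so all non-orthogonal pairs are related
  have hall : ∀ x y, Q x = 0 → Q y = 0 → polar Q x y ≠ 0 → R x y := by
    intro x y hx hy hxy
    have hx0 : x ≠ 0 := fun h => by simp [h] at hxy
    have hx₀0 : x₀ ≠ 0 := fun h => by simp [h] at hxy₀
    obtain ⟨g, hg, hgx⟩ := siegel_transitive Q hQ h5 hx₀ hx hx₀0 hx0
    have h1 : polar Q x (g.1 y₀) = polar Q x₀ y₀ := by rw [← hgx, polar_quadIsom g.2]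
    obtain ⟨c, hc0, hc⟩ : ∃ c : F, c ≠ 0 ∧ polar Q x (c • y) = polar Q x₀ y₀ :=
      ⟨polar Q x₀ y₀ / polar Q x y, div_ne_zero hxy₀ hxy, by
        rw [QuadraticMap.polar_smul_right, smul_eq_mul, div_mul_cancel₀ _ hxy]⟩
    obtain ⟨d, hd0, hd⟩ : ∃ d : F, d ≠ 0 ∧ d * polar Q x₀ y₀ = 1 :=
      ⟨_, inv_ne_zero hxy₀, inv_mul_cancel₀ hxy₀⟩
    have hdx : Q (d • x) = 0 := by rw [quad_smul, hx, mul_zero]
    have hm := siegel_move Q hdx (u := g.1 y₀) (v := c • y)
      (by rw [QuadraticMap.polar_smul_left, smul_eq_mul, h1, hd])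
      (by rw [QuadraticMap.polar_smul_left, smul_eq_mul, hc, hd])
      (by rw [mem_quadIsoms.1 g.2, hy₀, quad_smul, hy, mul_zero])
    have hk : (siegel Q (d • x) (c • y - g.1 y₀)).1 x = x := by
      have hw : polar Q (d • x) (c • y - g.1 y₀) = 0 := by
        rw [QuadraticMap.polar_smul_left, QuadraticMap.polar_sub_right, hc, h1, sub_self, smul_zero]
      rw [siegel_apply Q hdx hw, QuadraticMap.polar_smul_left, polar_self_of_singular Q hx,
        QuadraticMap.polar_comm _ (c • y - g.1 y₀) x, QuadraticMap.polar_sub_right, hc, h1]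
      simp
    have h3 := Rconj _ (siegel_mem Q (d • x) (c • y - g.1 y₀)) (Rconj g hg hR₀)
    rw [hgx, hk, hm] at h3
    have h4 := Rscale (inv_ne_zero hc0) h3
    rwa [inv_smul_smul₀ hc0] at h4
  refine ⟨?_⟩
  rintro ⟨P₁, hP₁⟩ ⟨P₂, hP₂⟩
  induction P₁ using Projectivization.ind with | _ x hx0 =>
  induction P₂ using Projectivization.ind with | _ y hy0 =>
  have hx := (hmem _ _).1 hP₁
  have hy := (hmem _ _).1 hP₂
  obtain ⟨m, a, ha, hm⟩ : R x y := by
    by_cases hxy : polar Q x y = 0
    · by_cases hi : LinearIndependent F ![x, y]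
      · obtain ⟨z, hz, hxz, hyz⟩ := exists_singular_dual Q hQ hi hx hxy 1
        exact Rtrans (hall x z hx hz (by rw [hxz]; exact one_ne_zero))
          (Rsymm (hall y z hy hz (by rw [hyz]; exact one_ne_zero)))
      · rw [LinearIndependent.pair_iff' hx0] at hi
        push Not at hi
        obtain ⟨c, rfl⟩ := hi
        exact Rscale (fun h => hy0 (by rw [h, zero_smul])) (Rrefl x)
    · exact hall x y hx hy hxy
  refine ⟨m, Subtype.ext ?_⟩
  rw [hsub, omega_mk_smul, mk_eq_mk_iff']
  exact ⟨a, hm.symm⟩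
/-- The root group of a singular point. -/
def rootGroup (P : singPoints Q) : Subgroup ↥(commutator (quadIsoms Q)) :=
  { carrier := {g | ∃ w, polar Q P.1.rep w = 0 ∧ g.1 = siegel Q P.1.rep w}
    mul_mem' := by
      rintro a b ⟨w, hw, ha⟩ ⟨w', hw', hb⟩
      exact ⟨w + w', by rw [QuadraticMap.polar_add_right, hw, hw', add_zero],
        by rw [Subgroup.coe_mul, ha, hb, siegel_add Q P.2 hw hw']⟩
    one_mem' := ⟨0, QuadraticMap.polar_zero_right _ _, (siegel_zero Q _).symm⟩
    inv_mem' := by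
      rintro a ⟨w, hw, ha⟩
      exact ⟨-w, by rw [QuadraticMap.polar_neg_right, hw, neg_zero],
        by rw [Subgroup.coe_inv, ha, siegel_neg Q P.2 hw]⟩ }

omit [Finite F] [FiniteDimensional F V] hQ h5 in
theorem mem_rootGroup (v : V) (hv : v ≠ 0) (hX : mk F v hv ∈ singPoints Q)
    (g : ↥(commutator (quadIsoms Q))) :
    g ∈ rootGroup Q ⟨mk F v hv, hX⟩ ↔ ∃ w, polar Q v w = 0 ∧ g.1 = siegel Q v w := by
  obtain ⟨a, ha⟩ := (mk_eq_mk_iff' F _ _ (rep_nonzero (mk F v hv)) hv).1 (mk_rep _)
  have ha0 : a ≠ 0 := by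
    rintro rfl
    exact rep_nonzero (mk F v hv) (by rw [← ha, zero_smul])
  have hv' := (mem_singPoints Q v hv).1 hX
  show (∃ w, polar Q (mk F v hv).rep w = 0 ∧ g.1 = siegel Q (mk F v hv).rep w) ↔ _
  rw [← ha]
  constructor
  · rintro ⟨w, hw, h⟩
    rw [QuadraticMap.polar_smul_left, smul_eq_mul] at hw
    refine ⟨a • w, by rw [QuadraticMap.polar_smul_right, smul_eq_mul]; exact hw, ?_⟩
    rw [h, siegel_smul Q hv' ((mul_eq_zero.1 hw).resolve_left ha0)]
  · rintro ⟨w, hw, h⟩
    refine ⟨a⁻¹ • w, by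
      rw [QuadraticMap.polar_smul_left, QuadraticMap.polar_smul_right, hw, smul_zero, smul_zero], ?_⟩
    rw [h, siegel_smul Q hv' (by rw [QuadraticMap.polar_smul_right, hw, smul_zero]),
      smul_inv_smul₀ ha0]
omit [Finite F] [FiniteDimensional F V] hQ h5 in
theorem root_conj_iff (g k : quadIsoms Q) (v : V) :
    (∃ w, polar Q (g.1 v) w = 0 ∧ k = siegel Q (g.1 v) w) ↔
      ∃ w, polar Q v w = 0 ∧ g⁻¹ * k * g = siegel Q v w := by
  constructor
  · rintro ⟨w, hw, h⟩
    obtain ⟨w', rfl⟩ := g.1.surjective w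
    rw [polar_quadIsom g.2] at hw
    refine ⟨w', hw, ?_⟩
    rw [h, ← siegel_conj]
    group
  · rintro ⟨w, hw, h⟩
    refine ⟨g.1 w, by rw [polar_quadIsom g.2, hw], ?_⟩
    rw [← siegel_conj, ← h]
    group

omit [Finite F] [FiniteDimensional F V] hQ h5 in
theorem siegel_mem_iSup_root (x w : V) (t : ↥(commutator (quadIsoms Q)))
    (ht : (t : quadIsoms Q) = siegel Q x w) : t ∈ ⨆ P, rootGroup Q P := by
  by_cases hc : Q x = 0 ∧ polar Q x w = 0 ∧ x ≠ 0
  · refine Subgroup.mem_iSup_of_mem (S := rootGroup Q) ⟨mk F x hc.2.2, (mem_singPoints Q _ _).2 hc.1⟩ ?_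
    exact (mem_rootGroup Q x hc.2.2 _ t).2 ⟨w, hc.2.1, ht⟩
  · have h1 : siegel Q x w = 1 := by
      by_cases hd : Q x = 0 ∧ polar Q x w = 0
      · have hx0 : x = 0 := by_contra fun h => hc ⟨hd.1, hd.2, h⟩
        exact quadIsoms_ext Q fun z => by rw [siegel_apply Q hd.1 hd.2]; simp [hx0]
      · exact siegel_of_not Q hd
    rw [h1] at ht
    rw [Subtype.ext (ht.trans (Subgroup.coe_one (commutator (quadIsoms Q))).symm)]
    exact one_mem _

/-- The root groups form an Iwasawa structure. -/
def orthIwasawa : MulAction.IwasawaStructure ↥(commutator (quadIsoms Q)) (singPoints Q) :=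
  { T := rootGroup Q
    is_comm := fun P => ⟨⟨by
      rintro ⟨a, w, hw, ha⟩ ⟨b, w', hw', hb⟩
      refine Subtype.ext (Subtype.ext ?_)
      show a.1 * b.1 = b.1 * a.1
      rw [ha, hb, ← siegel_add Q P.2 hw hw', ← siegel_add Q P.2 hw' hw, add_comm]⟩⟩
    is_conj := fun g P => by
      obtain ⟨P, hP⟩ := P
      induction P using Projectivization.ind with | _ v hv =>
      ext k
      rw [Subgroup.mem_pointwise_smul_iff_inv_smul_mem]
      have e : g • (⟨mk F v hv, hP⟩ : singPoints Q) = ⟨mk F (g.1.1 v)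
          (fun h => hv (g.1.1.injective (h.trans (map_zero g.1.1).symm))),
          (mem_singPoints Q _ _).2 (by rw [mem_quadIsoms.1 g.1.2]; exact (mem_singPoints Q _ _).1 hP)⟩ :=
        Subtype.ext (by rw [SubMulAction.val_smul, omega_mk_smul])
      rw [e, mem_rootGroup, mem_rootGroup]
      simp only [MulAut.smul_def, MulAut.inv_apply, MulAut.conj_symm_apply]
      exact root_conj_iff Q g.1 k.1 v
    is_generator := by
      rw [eq_top_iff]
      intro g _
      have hS := commutator_eq_siegelGroup Q hQ h5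
      have hg : g.1 ∈ siegelGroup Q := hS ▸ g.2
      suffices ∀ t ∈ siegelGroup Q, ∀ ht : t ∈ commutator (quadIsoms Q),
          (⟨t, ht⟩ : ↥(commutator (quadIsoms Q))) ∈ iSup (rootGroup Q) from this g.1 hg g.2
      intro t ht
      unfold siegelGroup at ht
      induction ht using Subgroup.closure_induction with
      | mem t ht =>
        intro ht'
        obtain ⟨⟨x, w⟩, he⟩ := ht
        exact siegel_mem_iSup_root Q x w ⟨t, ht'⟩ he.symm
      | one => intro _; exact one_mem _
      | mul a b ha hb iha ihb =>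
        intro _
        exact mul_mem (iha (hS ▸ ha)) (ihb (hS ▸ hb))
      | inv a ha iha => intro _; exact inv_mem (iha (hS ▸ ha)) }

end Action

/-- A normal subgroup of the commutator subgroup is everything or fixes every singular point. -/
theorem normal_commutator_quadIsoms (N : Subgroup ↥(commutator (quadIsoms Q))) [N.Normal] :
    N = ⊤ ∨ ∀ g ∈ N, ∀ x, Q x = 0 → x ≠ 0 → ∃ a : F, g.1.1 x = a • x := by
  by_cases hfix : MulAction.fixedPoints N (singPoints Q) = Set.univ
  · refine Or.inr fun g hg x hx hx0 => ?_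
    have h := (Set.eq_univ_iff_forall.1 hfix ⟨mk F x hx0, (mem_singPoints Q x hx0).2 hx⟩) ⟨g, hg⟩
    have h' : g • mk F x hx0 = mk F x hx0 := congrArg Subtype.val h
    rw [omega_mk_smul, mk_eq_mk_iff'] at h'
    obtain ⟨a, ha⟩ := h'
    exact ⟨a, ha.symm⟩
  left
  have := singPoints_isQuasiPreprimitive Q hQ h5
  have h := (orthIwasawa Q hQ h5).commutator_le N hfix
  rw [commutator_commutator_quadIsoms Q hQ h5] at h
  exact top_le_iff.1 h

/-- The central quotient of the commutator subgroup of the orthogonal group is simple. -/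
theorem isSimpleGroup_commutator_quadIsoms :
    IsSimpleGroup (↥(commutator (quadIsoms Q)) ⧸ Subgroup.center ↥(commutator (quadIsoms Q))) := by
  have hne : Subgroup.center ↥(commutator (quadIsoms Q)) ≠ ⊤ := by
    intro hc
    obtain ⟨x, hx0, hx⟩ := exists_singular Q hQ h5
    obtain ⟨p, hp⟩ := exists_partner Q hQ hx0
    obtain ⟨u, hu, hu0, hxu, hpu, hind⟩ := exists_singular_perp_indep Q hQ h5 hx0 p
    have hm : siegel Q x u ∈ commutator (quadIsoms Q) := by
      rw [commutator_eq_siegelGroup Q hQ h5]; exact siegel_mem Q x u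
    obtain ⟨a, ha⟩ := (mem_center_commutator_iff Q hQ h5 ⟨_, hm⟩).1 (hc ▸ Subgroup.mem_top _)
    have h1 := ha x
    have h2 := ha p
    simp only [siegel_apply Q hx hxu, polar_self_of_singular Q hx, QuadraticMap.polar_comm _ u x, hxu,
      hu, hp, QuadraticMap.polar_comm _ u p, hpu] at h1 h2
    simp at h1 h2
    have h3 : a = 1 := smul_left_injective F hx0 (by simpa using h1.symm)
    rw [h3, one_smul] at h2
    exact hu0 (by simpa using h2)
  have : Nontrivial (↥(commutator (quadIsoms Q)) ⧸ Subgroup.center ↥(commutator (quadIsoms Q))) :=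
    QuotientGroup.nontrivial_iff.2 hne
  refine IsSimpleGroup.mk fun K hK => ?_
  rcases normal_commutator_quadIsoms Q hQ h5
    (K.comap (QuotientGroup.mk' (Subgroup.center ↥(commutator (quadIsoms Q))))) with h | h
  · right
    rw [← Subgroup.map_comap_eq_self_of_surjective (QuotientGroup.mk'_surjective _) K, h]
    exact Subgroup.map_top_of_surjective _ (QuotientGroup.mk'_surjective _)
  · left
    rw [eq_bot_iff]
    intro x hx
    obtain ⟨g, rfl⟩ := QuotientGroup.mk'_surjective _ x
    rw [Subgroup.mem_bot, QuotientGroup.mk'_apply, QuotientGroup.eq_one_iff]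
    exact (mem_center_commutator_iff Q hQ h5 g).2
      (exists_scalar_of_fix_singular Q hQ h5 g.1 (h g hx))

end CfsgLib.Classical
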