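import Mathlib
import Cfsg.Agent.Lib.Classical.OrthSimple
import Cfsg.Agent.Lib.Classical.OrthOrder
import Cfsg.Agent.Lib.Geom.NegOne
import Cfsg.Agent.Lib.Geom.StdForms

/-!
`Cfsg.Omega` and `Cfsg.POmega`: centre, order and simplicity in dimension at least five.
-/

set_option autoImplicit false

namespace CfsgLib.Classical

open CfsgLib.Geom
open QuadraticMap (polar)

variable {F : Type*} [Field F] [Finite F] {ι : Type} [Fintype ι] [DecidableEq ι]

/-- An isomorphism of groups induces one of central quotients. -/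
noncomputable def centerQuotCongr {G H : Type*} [Group G] [Group H] (e : G ≃* H) :
    G ⧸ Subgroup.center G ≃* H ⧸ Subgroup.center H :=
  QuotientGroup.congr _ _ e (by
    ext x
    simp only [Subgroup.mem_map, Subgroup.mem_center_iff]
    constructor
    · rintro ⟨y, hy, rfl⟩ g
      obtain ⟨g, rfl⟩ := e.surjective g
      exact (map_mul e g y).symm.trans ((congrArg e (hy g)).trans (map_mul e y g))
    · intro hx
      obtain ⟨y, rfl⟩ := e.surjective x
      exact ⟨y, fun g => e.injective (by rw [map_mul, map_mul, hx]), rfl⟩)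

/-- `Ω` and the commutator subgroup of the abstract isometry group. -/
noncomputable def omegaEquiv (Q : QuadraticForm F (ι → F)) :
    ↥(commutator (quadIsoms Q)) ≃* ↥(Cfsg.Omega F (⇑Q)) :=
  ((orEquiv Q).subgroupMap (commutator (quadIsoms Q))).trans (MulEquiv.subgroupCongr (by
    show (commutator (quadIsoms Q)).map (orEquiv Q).toMonoidHom = commutator _
    rw [commutator_def, Subgroup.map_commutator,
      Subgroup.map_top_of_surjective (orEquiv Q).toMonoidHom (orEquiv Q).surjective, ← commutator_def]))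

omit [Finite F] in
theorem omegaEquiv_coe (Q : QuadraticForm F (ι → F)) (g : ↥(commutator (quadIsoms Q))) :
    ((omegaEquiv Q g : ↥(Cfsg.Omega F (⇑Q))) : Cfsg.isometryGroup F (⇑Q)) = orEquiv Q g.1 :=
  rfl

theorem isSimpleGroup_pOmega (Q : QuadraticForm F (ι → F))
    (hQ : ∀ x, (∀ y, polar Q x y = 0) → x = 0) (h5 : 5 ≤ Fintype.card ι) :
    IsSimpleGroup (Cfsg.POmega F (⇑Q)) := by
  have := isSimpleGroup_commutator_quadIsoms Q hQ (by rwa [Module.finrank_fintype_fun_eq_card])
  exact (centerQuotCongr (omegaEquiv Q)).symm.isSimpleGroup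

/-- The centre of `Ω` consists of its elements `±1`. -/
theorem mem_center_omega_iff (Q : QuadraticForm F (ι → F))
    (hQ : ∀ x, (∀ y, polar Q x y = 0) → x = 0) (h5 : 5 ≤ Fintype.card ι)
    (g : ↥(Cfsg.Omega F (⇑Q))) :
    g ∈ Subgroup.center ↥(Cfsg.Omega F (⇑Q)) ↔
      ((g.1 : Matrix.GeneralLinearGroup ι F) : Matrix ι ι F) = 1 ∨
        ((g.1 : Matrix.GeneralLinearGroup ι F) : Matrix ι ι F) = -1 := by
  have h5' : 5 ≤ Module.finrank F (ι → F) := by rwa [Module.finrank_fintype_fun_eq_card]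
  obtain ⟨k, rfl⟩ := (omegaEquiv Q).surjective g
  have hm : ∀ z, Matrix.mulVec (((omegaEquiv Q k).1 : Matrix.GeneralLinearGroup ι F) : Matrix ι ι F) z =
      k.1.1 z := fun z => by rw [omegaEquiv_coe]; exact orEquiv_mulVec Q k.1 z
  constructor
  · intro hg
    have hk : k ∈ Subgroup.center ↥(commutator (quadIsoms Q)) := Subgroup.mem_center_iff.2 fun h =>
      (omegaEquiv Q).injective (by rw [map_mul, map_mul]; exact Subgroup.mem_center_iff.1 hg _)
    obtain ⟨a, ha⟩ := (mem_center_commutator_iff Q hQ h5' k).1 hk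
    obtain ⟨u, -, -, hu⟩ := exists_perp_anisotropic Q hQ h5' 0 0
    have h1 : a * a = 1 := by
      have := mem_quadIsoms.1 k.1.2 u
      rw [ha, quad_smul] at this
      exact mul_right_cancel₀ hu (this.trans (one_mul _).symm)
    rcases mul_self_eq_one_iff.1 h1 with rfl | rfl
    · exact Or.inl (Matrix.ext_iff_mulVec.2 fun z => by rw [hm, ha]; simp)
    · exact Or.inr (Matrix.ext_iff_mulVec.2 fun z => by rw [hm, ha]; simp [Matrix.neg_mulVec])
  · intro hg
    refine Subgroup.mem_center_iff.2 fun h => Subtype.ext (Subtype.ext (Units.ext ?_))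
    simp only [Subgroup.coe_mul, Units.val_mul]
    rcases hg with hg | hg <;> simp [hg]

omit [Finite F] in
theorem neg_one_ne_one_matrix [Nonempty ι] (h2 : (2 : F) ≠ 0) : (-1 : Matrix ι ι F) ≠ 1 := fun h => by
  obtain ⟨i⟩ := (inferInstance : Nonempty ι)
  have := congrFun (congrFun h i) i
  simp at this
  exact h2 (by linear_combination -this)

theorem card_center_omega_two (Q : QuadraticForm F (ι → F))
    (hQ : ∀ x, (∀ y, polar Q x y = 0) → x = 0) (h5 : 5 ≤ Fintype.card ι) (h2 : (2 : F) ≠ 0)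
    (h : ∃ g : Cfsg.isometryGroup F (⇑Q), g ∈ Cfsg.Omega F (⇑Q) ∧
      ((g : Matrix.GeneralLinearGroup ι F) : Matrix ι ι F) = -1) :
    Nat.card (Subgroup.center ↥(Cfsg.Omega F (⇑Q))) = 2 := by
  classical
  have : Nonempty ι := Fintype.card_pos_iff.1 (by omega)
  obtain ⟨g, hg, hgm⟩ := h
  refine Nat.card_eq_two_iff.2 ⟨1, ⟨⟨g, hg⟩, (mem_center_omega_iff Q hQ h5 _).2 (Or.inr hgm)⟩, ?_, ?_⟩
  · intro e
    have := congrArg (fun x : Subgroup.center ↥(Cfsg.Omega F (⇑Q)) =>
      (((x : ↥(Cfsg.Omega F (⇑Q))) : Cfsg.isometryGroup F (⇑Q)) :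
        Matrix.GeneralLinearGroup ι F).val) e
    exact neg_one_ne_one_matrix h2 (hgm.symm.trans this.symm)
  · refine Set.eq_univ_of_forall fun x => ?_
    rcases (mem_center_omega_iff Q hQ h5 x.1).1 x.2 with hx | hx
    · exact Or.inl (Subtype.ext (Subtype.ext (Subtype.ext (Units.ext hx))))
    · exact Or.inr (Subtype.ext (Subtype.ext (Subtype.ext (Units.ext (hx.trans hgm.symm)))))

theorem card_center_omega_one (Q : QuadraticForm F (ι → F))
    (hQ : ∀ x, (∀ y, polar Q x y = 0) → x = 0) (h5 : 5 ≤ Fintype.card ι)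
    (h : (2 : F) = 0 ∨ ¬ ∃ g : Cfsg.isometryGroup F (⇑Q), g ∈ Cfsg.Omega F (⇑Q) ∧
      ((g : Matrix.GeneralLinearGroup ι F) : Matrix ι ι F) = -1) :
    Nat.card (Subgroup.center ↥(Cfsg.Omega F (⇑Q))) = 1 := by
  have hone : ∀ x : Subgroup.center ↥(Cfsg.Omega F (⇑Q)), x = 1 := by
    intro x
    refine Subtype.ext (Subtype.ext (Subtype.ext (Units.ext ?_)))
    rcases (mem_center_omega_iff Q hQ h5 x.1).1 x.2 with hx | hx
    · exact hx
    · rcases h with h2 | h
      · have h1 : (-1 : F) = 1 := by linear_combination -h2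
        refine hx.trans ?_
        rw [← Matrix.diagonal_one, Matrix.diagonal_neg, h1]
        rfl
      · exact absurd ⟨x.1.1, x.1.2, hx⟩ h
  exact Nat.card_eq_one_iff_unique.2 ⟨⟨fun a b => (hone a).trans (hone b).symm⟩, ⟨1⟩⟩

theorem card_pOmega_mul (Q : QuadraticForm F (ι → F)) :
    Nat.card (Cfsg.POmega F (⇑Q)) * Nat.card (Subgroup.center ↥(Cfsg.Omega F (⇑Q))) *
      (Cfsg.Omega F (⇑Q)).index = Nat.card (quadIsoms Q) := by
  rw [Nat.card_congr (orEquiv Q).toEquiv, ← Subgroup.card_mul_index (Cfsg.Omega F (⇑Q)),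
    Subgroup.card_eq_card_quotient_mul_card_subgroup (Subgroup.center ↥(Cfsg.Omega F (⇑Q)))]

theorem qfPlus_coe (m : ℕ) : ⇑(qfPlus m F) = Cfsg.quadFormPlus m F := funext fun v => qfPlus_apply m v

theorem qfOdd_coe (m : ℕ) : ⇑(qfOdd m F) = Cfsg.quadFormOdd m F := funext fun v => qfOdd_apply m v

theorem qfMinus_coe (m : ℕ) (a b : F) : ⇑(qfMinus m F a b) = Cfsg.quadFormMinus m F a b :=
  funext fun v => qfMinus_apply m a b v

theorem qfPlus_eq_plusForm (m : ℕ) : qfPlus m F = plusForm m F :=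
  QuadraticMap.ext fun v => by rw [qfPlus_coe, plusForm_coe]

theorem qfMinus_eq_minusForm (m : ℕ) (a b : F) : qfMinus m F a b = minusForm m F a b :=
  QuadraticMap.ext fun v => by rw [qfMinus_coe, minusForm_coe]

variable [Fintype F]

theorem card_pOmega_odd {q : ℕ} (hF : Fintype.card F = q) (hodd : Odd q) (m : ℕ) (hm : 2 ≤ m) :
    2 * Nat.card (Cfsg.POmega F (Cfsg.quadFormOdd m F)) =
      q ^ (m ^ 2) * ∏ i ∈ Finset.range m, (q ^ (2 * (i + 1)) - 1) := by
  subst hF
  have h2 := two_ne_zero_of_odd (F := F) hodd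
  have hQ := qfOdd_sep (F := F) h2 m
  have h5 : 5 ≤ Fintype.card (Unit ⊕ (Fin m ⊕ Fin m)) := by simp; omega
  have hc := card_center_omega_one (qfOdd m F) hQ h5 (Or.inr (by
    rintro ⟨g, hg, hgm⟩
    have hd : Matrix.GeneralLinearGroup.det (g : Matrix.GeneralLinearGroup (Unit ⊕ (Fin m ⊕ Fin m)) F) = 1 :=
      omega_le_special (qfOdd m F) hg
    have hd' := congrArg Units.val hd
    rw [Matrix.GeneralLinearGroup.val_det_apply, hgm, Matrix.det_neg, Matrix.det_one, mul_one,
      Units.val_one, Odd.neg_one_pow ⟨m, by simp; omega⟩] at hd'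
    exact h2 (by linear_combination -hd')))
  have h := card_pOmega_mul (qfOdd m F)
  rw [hc, omega_index_odd (qfOdd m F) hQ h2 (by omega), card_qfOdd_isoms h2, qfOdd_coe] at h
  rw [mul_one, mul_assoc 2] at h
  generalize ∏ i ∈ Finset.range m, (Fintype.card F ^ (2 * (i + 1)) - 1) = P at h ⊢
  generalize Fintype.card F ^ (m ^ 2) * P = R at h ⊢
  omega

theorem card_pOmega_plus {q : ℕ} (hF : Fintype.card F = q) (k : ℕ) (hk : 2 ≤ k) :
    Nat.gcd 4 (q ^ (k + 1) - 1) * Nat.card (Cfsg.POmega F (Cfsg.quadFormPlus (k + 1) F)) =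
      q ^ ((k + 1) * k) * (q ^ (k + 1) - 1) * ∏ i ∈ Finset.range k, (q ^ (2 * (i + 1)) - 1) := by
  subst hF
  have hQ := qfPlus_sep (F := F) (k + 1)
  have h5 : 5 ≤ Fintype.card (Fin (k + 1) ⊕ Fin (k + 1)) := by simp; omega
  have hq : 1 < Fintype.card F := Fintype.one_lt_card
  have hqm : 1 ≤ Fintype.card F ^ (k + 1) := Nat.one_le_pow _ _ (by omega)
  have hO := card_qfPlus_isoms (F := F) k
  rw [mul_assoc, mul_assoc] at hO
  have hmod : ∀ g : ℕ, g * Nat.card (Cfsg.POmega F (Cfsg.quadFormPlus (k + 1) F)) * 2 =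
      Nat.card (quadIsoms (qfPlus (k + 1) F)) →
      g * Nat.card (Cfsg.POmega F (Cfsg.quadFormPlus (k + 1) F)) =
        Fintype.card F ^ ((k + 1) * k) * (Fintype.card F ^ (k + 1) - 1) *
          ∏ i ∈ Finset.range k, (Fintype.card F ^ (2 * (i + 1)) - 1) := by
    intro g h
    rw [hO] at h
    rw [mul_assoc (Fintype.card F ^ ((k + 1) * k))]
    omega
  by_cases h2 : (2 : F) = 0
  · have hg : Nat.gcd 4 (Fintype.card F ^ (k + 1) - 1) = 1 := by
      have he : ¬ Odd (Fintype.card F) := fun ho => two_ne_zero_of_odd (F := F) ho h2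
      rw [Nat.not_odd_iff_even] at he
      have : Even (Fintype.card F ^ (k + 1)) := he.pow_of_ne_zero (by omega)
      refine Nat.Coprime.pow_left 2 (Nat.coprime_two_left.2 ?_) (m := 2)
      rw [Nat.odd_iff]; rw [Nat.even_iff] at this; omega
    rw [hg]
    refine hmod 1 ?_
    have h := card_pOmega_mul (qfPlus (k + 1) F)
    rw [card_center_omega_one _ hQ h5 (Or.inl h2),
      omega_index_even _ hQ (Or.inr (by rw [Module.finrank_fintype_fun_eq_card]; omega)) h2 (by omega),
      qfPlus_coe] at h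
    rw [← h]; ring
  · have hodd : Odd (Fintype.card F) :=
      Nat.odd_iff.2 (FiniteField.odd_card_of_char_ne_two (ringChar_ne_two_of_ne h2))
    have hoddm : Fintype.card F ^ (k + 1) % 2 = 1 := Nat.odd_iff.1 hodd.pow
    have hneg := neg_one_mem_omega_iff (qfPlus (k + 1) F)
      (by rw [qfPlus_eq_plusForm]; exact plusForm_nondeg _) h2 (by simp)
    rw [qfPlus_eq_plusForm, plusForm_disc, isSquare_neg_one_pow_iff h2, ← qfPlus_eq_plusForm] at hneg
    have h := card_pOmega_mul (qfPlus (k + 1) F)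
    rw [omega_index_odd _ hQ h2 (by omega)] at h
    by_cases h4 : Fintype.card F ^ (k + 1) % 4 = 1
    · have hg : Nat.gcd 4 (Fintype.card F ^ (k + 1) - 1) = 4 := Nat.gcd_eq_left (by omega)
      rw [hg]
      refine hmod 4 ?_
      rw [card_center_omega_two _ hQ h5 h2 (hneg.2 h4), qfPlus_coe] at h
      rw [← h]; ring
    · have hg : Nat.gcd 4 (Fintype.card F ^ (k + 1) - 1) = 2 := by
        obtain ⟨d, hd⟩ : ∃ d, Fintype.card F ^ (k + 1) - 1 = 2 * d :=
          ⟨(Fintype.card F ^ (k + 1) - 1) / 2, by omega⟩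
        rw [hd, show (4 : ℕ) = 2 * 2 by rfl, Nat.gcd_mul_left,
          Nat.coprime_two_left.2 (Nat.odd_iff.2 (by omega : d % 2 = 1))]
      rw [hg]
      refine hmod 2 ?_
      rw [card_center_omega_one _ hQ h5 (Or.inr fun e => h4 (hneg.1 e)), qfPlus_coe] at h
      rw [← h]; ring

theorem card_pOmega_minus {q : ℕ} (hF : Fintype.card F = q) (k : ℕ) (hk : 2 ≤ k) {a b : F}
    (hab : ∀ z₁ z₂ : F, z₁ ^ 2 + a * z₁ * z₂ + b * z₂ ^ 2 = 0 → z₁ = 0 ∧ z₂ = 0) :
    Nat.gcd 4 (q ^ (k + 1) + 1) * Nat.card (Cfsg.POmega F (Cfsg.quadFormMinus k F a b)) =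
      q ^ ((k + 1) * k) * (q ^ (k + 1) + 1) * ∏ i ∈ Finset.range k, (q ^ (2 * (i + 1)) - 1) := by
  subst hF
  have hQ := qfMinus_sep (F := F) k hab
  have h5 : 5 ≤ Fintype.card ((Fin k ⊕ Fin k) ⊕ Fin 2) := by simp; omega
  have hq : 1 < Fintype.card F := Fintype.one_lt_card
  have hO := card_qfMinus_isoms hab k
  rw [mul_assoc, mul_assoc] at hO
  have hmod : ∀ g : ℕ, g * Nat.card (Cfsg.POmega F (Cfsg.quadFormMinus k F a b)) * 2 =
      Nat.card (quadIsoms (qfMinus k F a b)) →
      g * Nat.card (Cfsg.POmega F (Cfsg.quadFormMinus k F a b)) =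
        Fintype.card F ^ ((k + 1) * k) * (Fintype.card F ^ (k + 1) + 1) *
          ∏ i ∈ Finset.range k, (Fintype.card F ^ (2 * (i + 1)) - 1) := by
    intro g h
    rw [hO] at h
    rw [mul_assoc (Fintype.card F ^ ((k + 1) * k))]
    omega
  by_cases h2 : (2 : F) = 0
  · have hg : Nat.gcd 4 (Fintype.card F ^ (k + 1) + 1) = 1 := by
      have he : ¬ Odd (Fintype.card F) := fun ho => two_ne_zero_of_odd (F := F) ho h2
      rw [Nat.not_odd_iff_even] at he
      have : Even (Fintype.card F ^ (k + 1)) := he.pow_of_ne_zero (by omega)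
      refine Nat.Coprime.pow_left 2 (Nat.coprime_two_left.2 ?_) (m := 2)
      rw [Nat.odd_iff]; rw [Nat.even_iff] at this; omega
    rw [hg]
    refine hmod 1 ?_
    have h := card_pOmega_mul (qfMinus k F a b)
    rw [card_center_omega_one _ hQ h5 (Or.inl h2),
      omega_index_even _ hQ (Or.inr (by rw [Module.finrank_fintype_fun_eq_card]; omega)) h2 (by omega),
      qfMinus_coe] at h
    rw [← h]; ring
  · have hodd : Odd (Fintype.card F) :=
      Nat.odd_iff.2 (FiniteField.odd_card_of_char_ne_two (ringChar_ne_two_of_ne h2))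
    have hoddm : Fintype.card F ^ (k + 1) % 2 = 1 := Nat.odd_iff.1 hodd.pow
    have hneg := neg_one_mem_omega_iff (qfMinus k F a b)
      (by rw [qfMinus_eq_minusForm]; exact minusForm_nondeg h2 k a b hab) h2 (by simp [parity_simps])
    rw [qfMinus_eq_minusForm, minusForm_disc, ← qfMinus_eq_minusForm] at hneg
    have hdisc : IsSquare ((-1 : F) ^ k * (4 * b - a * a)) ↔ Fintype.card F ^ (k + 1) % 4 = 3 := by
      have hns := not_isSquare_disc h2 a b hab
      rw [show (-1 : F) ^ k * (4 * b - a * a) = (-1) ^ (k + 1) * (a * a - 4 * b) by ring]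
      have hs := isSquare_neg_one_pow_iff (F := F) h2 (k + 1)
      constructor
      · intro hsq
        by_contra hne
        obtain ⟨c, hc⟩ := hs.2 (by omega)
        obtain ⟨e, he⟩ := hsq
        have hc0 : c ≠ 0 := fun h0 => by
          rw [h0, mul_zero] at hc
          exact pow_ne_zero _ (neg_ne_zero.2 one_ne_zero) hc
        exact hns ⟨e / c, by field_simp; linear_combination he - (a * a - 4 * b) * hc⟩
      · intro h3
        exact isSquare_mul_of_not _ _ (fun hs' => by have := hs.1 hs'; omega) hns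
    rw [hdisc] at hneg
    have h := card_pOmega_mul (qfMinus k F a b)
    rw [omega_index_odd _ hQ h2 (by omega)] at h
    by_cases h4 : Fintype.card F ^ (k + 1) % 4 = 3
    · have hg : Nat.gcd 4 (Fintype.card F ^ (k + 1) + 1) = 4 := Nat.gcd_eq_left (by omega)
      rw [hg]
      refine hmod 4 ?_
      rw [card_center_omega_two _ hQ h5 h2 (hneg.2 h4), qfMinus_coe] at h
      rw [← h]; ring
    · have hg : Nat.gcd 4 (Fintype.card F ^ (k + 1) + 1) = 2 := by
        obtain ⟨d, hd⟩ : ∃ d, Fintype.card F ^ (k + 1) + 1 = 2 * d :=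
          ⟨(Fintype.card F ^ (k + 1) + 1) / 2, by omega⟩
        rw [hd, show (4 : ℕ) = 2 * 2 by rfl, Nat.gcd_mul_left,
          Nat.coprime_two_left.2 (Nat.odd_iff.2 (by omega : d % 2 = 1))]
      rw [hg]
      refine hmod 2 ?_
      rw [card_center_omega_one _ hQ h5 (Or.inr fun e => h4 (hneg.1 e)), qfMinus_coe] at h
      rw [← h]; ring

end CfsgLib.Classical
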