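import Mathlib
import Cfsg.Agent.Lib.Classical.OrthOmega
import Cfsg.Agent.Lib.Classical.SLGen

/-!
Identifying `PΩ(Q)` with the central quotient of a group acting on the quadratic space.
-/

set_option autoImplicit false

namespace CfsgLib.Classical

open CfsgLib.Geom
open scoped commutatorElement
open QuadraticMap (polar)

theorem commutator_eq_range_le {G H : Type*} [Group G] [Group H] (f : G →* H)
    (hG : commutator G = ⊤) : f.range ≤ commutator H := by
  rw [MonoidHom.range_eq_map, ← hG, commutator_def, Subgroup.map_commutator, commutator_def]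
  exact Subgroup.commutator_mono le_top le_top

/-- Grün: the central quotient of a perfect group has trivial centre. -/
theorem mem_center_of_perfect {H : Type*} [Group H] (hH : commutator H = ⊤) (x : H)
    (hx : ∀ h, ⁅x, h⁆ ∈ Subgroup.center H) : x ∈ Subgroup.center H := by
  have hm : ∀ a b, ⁅x, a * b⁆ = ⁅x, a⁆ * ⁅x, b⁆ := fun a b => by
    have hb : a * ⁅x, b⁆ = ⁅x, b⁆ * a := Subgroup.mem_center_iff.1 (hx b) a
    calc ⁅x, a * b⁆ = ⁅x, a⁆ * (a * ⁅x, b⁆ * a⁻¹) := by
          simp only [commutatorElement_def, mul_assoc, mul_inv_rev, inv_mul_cancel_left]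
      _ = ⁅x, a⁆ * ⁅x, b⁆ := by rw [hb, mul_inv_cancel_right]
  let φ : H →* H := MonoidHom.mk' (fun h => ⁅x, h⁆) hm
  have hφ : φ.ker = ⊤ := by
    rw [eq_top_iff, ← hH, commutator_def, Subgroup.commutator_le]
    intro a _ b _
    rw [MonoidHom.mem_ker, map_commutatorElement, commutatorElement_eq_one_iff_mul_comm]
    exact Subgroup.mem_center_iff.1 (hx b) (φ a)
  refine Subgroup.mem_center_iff.2 fun h => ?_
  have h1 : ⁅x, h⁆ = 1 := MonoidHom.mem_ker.1 (hφ ▸ Subgroup.mem_top h : h ∈ φ.ker)
  exact (commutatorElement_eq_one_iff_mul_comm.1 h1).symm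

variable {F : Type*} [Field F]

/-- A scalar multiple of a transvection which is conjugate to a transvection is the transvection. -/
theorem mem_center_sl_of_commutator {ι : Type*} [Fintype ι] [DecidableEq ι]
    (x : Matrix.SpecialLinearGroup ι F)
    (hx : ∀ h, ⁅x, h⁆ ∈ Subgroup.center (Matrix.SpecialLinearGroup ι F)) :
    x ∈ Subgroup.center (Matrix.SpecialLinearGroup ι F) := by
  have key : ∀ (i j : ι) (hij : i ≠ j) (c : F),
      Matrix.SpecialLinearGroup.transvection hij c ∈ Subgroup.centralizer {x} := by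
    intro i j hij c
    obtain ⟨t, ht⟩ : ∃ t, t = Matrix.SpecialLinearGroup.transvection hij c := ⟨_, rfl⟩
    rw [← ht, Subgroup.mem_centralizer_singleton_iff]
    obtain ⟨r, -, hr⟩ := Matrix.SpecialLinearGroup.mem_center_iff.1 (hx t)
    have hconj : x * t * x⁻¹ = ⁅x, t⁆ * t := by rw [commutatorElement_def]; group
    have hN : (t : Matrix ι ι F) = 1 + Matrix.single i j c := by
      rw [ht, Matrix.SpecialLinearGroup.transvection_coe]
    have hM : (x * t * x⁻¹ : Matrix.SpecialLinearGroup ι F).1 =
        Matrix.scalar ι r * (1 + Matrix.single i j c) := by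
      rw [hconj, Matrix.SpecialLinearGroup.coe_mul, ← hr, hN]
    have hNN : Matrix.single i j c * Matrix.single i j c = 0 := by simp [hij.symm]
    have hxi : (x : Matrix ι ι F) * ((x⁻¹ : Matrix.SpecialLinearGroup ι F) : Matrix ι ι F) = 1 := by
      rw [← Matrix.SpecialLinearGroup.coe_mul, mul_inv_cancel, Matrix.SpecialLinearGroup.coe_one]
    have hix : ((x⁻¹ : Matrix.SpecialLinearGroup ι F) : Matrix ι ι F) * (x : Matrix ι ι F) = 1 := by
      rw [← Matrix.SpecialLinearGroup.coe_mul, inv_mul_cancel, Matrix.SpecialLinearGroup.coe_one]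
    have h1 : (Matrix.scalar ι r * (1 + Matrix.single i j c) - 1) *
        (Matrix.scalar ι r * (1 + Matrix.single i j c) - 1) = 0 := by
      have e : Matrix.scalar ι r * (1 + Matrix.single i j c) - 1 =
          (x : Matrix ι ι F) * Matrix.single i j c *
            ((x⁻¹ : Matrix.SpecialLinearGroup ι F) : Matrix ι ι F) := by
        rw [← hM, Matrix.SpecialLinearGroup.coe_mul, Matrix.SpecialLinearGroup.coe_mul, hN, mul_add,
          mul_one, add_mul, hxi, add_sub_cancel_left]
      rw [e]
      calc _ = (x : Matrix ι ι F) * Matrix.single i j c *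
            (((x⁻¹ : Matrix.SpecialLinearGroup ι F) : Matrix ι ι F) * (x : Matrix ι ι F)) *
            Matrix.single i j c * ((x⁻¹ : Matrix.SpecialLinearGroup ι F) : Matrix ι ι F) := by
              simp only [mul_assoc]
        _ = 0 := by rw [hix, mul_one, mul_assoc (x : Matrix ι ι F), hNN]; simp
    have h1' : ((r - 1) * (r - 1)) • (1 : Matrix ι ι F) + (2 * r * (r - 1)) • Matrix.single i j c = 0 := by
      rw [← h1, Matrix.scalar_apply, ← Matrix.smul_one_eq_diagonal]
      simp only [smul_mul_assoc, mul_smul_comm, one_mul, mul_one, add_mul, mul_add, sub_mul, mul_sub,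
        smul_add, hNN, smul_zero]
      module
    have h2 := congrFun (congrFun h1' i) i
    simp [hij, hij.symm] at h2
    have hr1 : r = 1 := by linear_combination h2
    have h3 : x * t * x⁻¹ = t := Subtype.ext (by rw [hM, hr1, map_one, one_mul, hN])
    exact (mul_inv_eq_iff_eq_mul.1 h3).symm
  have htop := sl_transvection_induction _ key
  refine Subgroup.mem_center_iff.2 fun h => ?_
  exact (Subgroup.mem_centralizer_singleton_iff.1 (htop ▸ Subgroup.mem_top h)).symm.symm

variable [Finite F] {ι : Type} [Fintype ι] [DecidableEq ι]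

omit [Finite F] in
theorem commutator_quadIsoms_index (Q : QuadraticForm F (ι → F)) :
    (commutator (quadIsoms Q)).index = (Cfsg.Omega F (⇑Q)).index := by
  rw [← Subgroup.index_map_equiv (commutator (quadIsoms Q)) (orEquiv Q)]
  congr 1
  rw [commutator_def, Subgroup.map_commutator]
  show ⁅Subgroup.map (orEquiv Q).toMonoidHom ⊤, Subgroup.map (orEquiv Q).toMonoidHom ⊤⁆ = _
  rw [Subgroup.map_top_of_surjective (orEquiv Q).toMonoidHom (orEquiv Q).surjective]
  rfl

/-- A group mapping onto `Ω(Q)` with central kernel has `PΩ(Q)` as its central quotient. -/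
theorem pOmega_equiv_of_hom (Q : QuadraticForm F (ι → F)) {H : Type*} [Group H] [Finite H]
    (ρ : H →* quadIsoms Q) (hker : ρ.ker ≤ Subgroup.center H)
    (htriv : ∀ x, (∀ h, ⁅x, h⁆ ∈ Subgroup.center H) → x ∈ Subgroup.center H)
    (hle : ρ.range ≤ commutator (quadIsoms Q)) {c : ℕ} (hc : Nat.card ρ.ker ≤ c)
    (hcard : c * Nat.card (quadIsoms Q) ≤ Nat.card H * (Cfsg.Omega F (⇑Q)).index) :
    Nonempty (Cfsg.POmega F (⇑Q) ≃* H ⧸ Subgroup.center H) := by
  have : Finite ((ι → F) ≃ₗ[F] (ι → F)) :=
    Finite.of_injective (fun e => (e : (ι → F) → (ι → F))) DFunLike.coe_injective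
  have hfin : Finite (quadIsoms Q) := Subtype.finite
  have hidx := commutator_quadIsoms_index Q
  have hH : Nat.card H = Nat.card ρ.range * Nat.card ρ.ker := by
    rw [Subgroup.card_eq_card_quotient_mul_card_subgroup ρ.ker,
      Nat.card_congr (QuotientGroup.quotientKerEquivRange ρ).toEquiv]
  have heq : ρ.range = commutator (quadIsoms Q) := by
    refine Subgroup.eq_of_le_of_card_ge hle ?_
    have hi := Subgroup.card_mul_index (commutator (quadIsoms Q))
    rw [← hidx, ← hi, hH] at hcard
    have hk : 0 < Nat.card ρ.ker := Nat.card_pos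
    have hpos : 0 < (commutator (quadIsoms Q)).index := Nat.pos_of_ne_zero Subgroup.index_ne_zero_of_finite
    by_contra hlt
    have h1 : Nat.card ρ.range * Nat.card ρ.ker < Nat.card (commutator (quadIsoms Q)) * c :=
      Nat.mul_lt_mul_of_lt_of_le (not_le.1 hlt) hc (by omega)
    have h2 : Nat.card ρ.range * Nat.card ρ.ker * (commutator (quadIsoms Q)).index <
        Nat.card (commutator (quadIsoms Q)) * c * (commutator (quadIsoms Q)).index :=
      Nat.mul_lt_mul_of_pos_right h1 hpos
    have e : c * (Nat.card ↥(commutator (quadIsoms Q)) * (commutator (quadIsoms Q)).index) =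
        Nat.card (commutator (quadIsoms Q)) * c * (commutator (quadIsoms Q)).index := by ring
    omega
  let ψ : H →* ↥(commutator (quadIsoms Q)) := ρ.codRestrict _ fun h => hle ⟨h, rfl⟩
  have hψ : Function.Surjective ψ := fun g => by
    obtain ⟨h, hh⟩ : (g : quadIsoms Q) ∈ ρ.range := heq.ge g.2
    exact ⟨h, Subtype.ext hh⟩
  let π := (QuotientGroup.mk' (Subgroup.center ↥(commutator (quadIsoms Q)))).comp ψ
  have hπ : Function.Surjective π := (QuotientGroup.mk'_surjective _).comp hψ
  have hπk : π.ker = Subgroup.center H := by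
    ext x
    rw [MonoidHom.mem_ker]
    show QuotientGroup.mk' _ (ψ x) = 1 ↔ _
    rw [QuotientGroup.mk'_apply, QuotientGroup.eq_one_iff, Subgroup.mem_center_iff]
    constructor
    · intro hx
      refine htriv x fun h => hker ?_
      rw [MonoidHom.mem_ker, map_commutatorElement, commutatorElement_eq_one_iff_mul_comm]
      exact (congrArg Subtype.val (hx (ψ h))).symm
    · intro hx g
      obtain ⟨h, rfl⟩ := hψ g
      rw [← map_mul, ← map_mul, Subgroup.mem_center_iff.1 hx h]
  exact ⟨(centerQuotCongr (omegaEquiv Q)).symm.trans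
    (((QuotientGroup.quotientMulEquivOfEq hπk.symm).trans
      (QuotientGroup.quotientKerEquivOfSurjective π hπ)).symm)⟩

/-- A representation on a quadratic space from a multiplicative family of linear maps. -/
noncomputable def quadHom {V : Type*} [AddCommGroup V] [Module F V] (Q : QuadraticForm F V) {H : Type*}
    [Group H] (act : H → V →ₗ[F] V) (h1 : ∀ v, act 1 v = v)
    (hmul : ∀ g h v, act (g * h) v = act g (act h v)) (hQ : ∀ g v, Q (act g v) = Q v) :
    H →* quadIsoms Q where
  toFun g := ⟨LinearEquiv.ofLinearMap (act g) (act g⁻¹)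
    (LinearMap.ext fun v => by rw [LinearMap.comp_apply, ← hmul, mul_inv_cancel, h1]; rfl)
    (LinearMap.ext fun v => by rw [LinearMap.comp_apply, ← hmul, inv_mul_cancel, h1]; rfl),
    mem_quadIsoms.2 fun v => hQ g v⟩
  map_one' := Subtype.ext (LinearEquiv.ext fun v => h1 v)
  map_mul' g h := Subtype.ext (LinearEquiv.ext fun v => hmul g h v)

omit [Finite F] in
theorem quadHom_apply {V : Type*} [AddCommGroup V] [Module F V] (Q : QuadraticForm F V) {H : Type*}
    [Group H] (act : H → V →ₗ[F] V) (h1 : ∀ v, act 1 v = v)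
    (hmul : ∀ g h v, act (g * h) v = act g (act h v)) (hQ : ∀ g v, Q (act g v) = Q v) (g : H) (v : V) :
    (quadHom Q act h1 hmul hQ g).1 v = act g v :=
  rfl

end CfsgLib.Classical
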