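import Mathlib
import Cfsg.Agent.Lib.Classical.SLGen

/-!
Sylow subgroups of `GL_2(q)` and `SL_2(q)` in the defining characteristic.
-/

set_option autoImplicit false

namespace CfsgLib.Classical

open Matrix
open scoped MatrixGroups

variable {F : Type*} [Field F]

/-- The upper unitriangular element of `SL_2`. -/
def uElt (b : F) : SL(2, F) := Matrix.SpecialLinearGroup.transvection zero_ne_one b

theorem uElt_add (b c : F) : uElt (b + c) = uElt b * uElt c :=
  Matrix.SpecialLinearGroup.transvection_add _ _ _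

theorem uElt_val (b : F) : (uElt b : Matrix (Fin 2) (Fin 2) F) = !![1, b; 0, 1] := by
  ext i j
  fin_cases i <;> fin_cases j <;>
    simp [uElt, Matrix.SpecialLinearGroup.transvection_coe]

theorem uElt_injective : Function.Injective (uElt : F → SL(2, F)) := fun a b h => by
  have := congrArg (fun A : SL(2, F) => (A : Matrix (Fin 2) (Fin 2) F) 0 1) h
  simpa [uElt_val] using this

/-- The upper unitriangular subgroup of `SL_2`. -/
def uSL (F : Type*) [Field F] : Subgroup SL(2, F) where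
  carrier := Set.range uElt
  mul_mem' := by rintro _ _ ⟨a, rfl⟩ ⟨b, rfl⟩; exact ⟨a + b, uElt_add a b⟩
  one_mem' := ⟨0, Matrix.SpecialLinearGroup.transvection_coeff_zero _⟩
  inv_mem' := by
    rintro _ ⟨a, rfl⟩
    exact ⟨-a, (inv_eq_of_mul_eq_one_right (by rw [← uElt_add, add_neg_cancel]; exact Matrix.SpecialLinearGroup.transvection_coeff_zero _)).symm⟩

/-- The upper unitriangular subgroup of `GL_2`. -/
def uGL (F : Type*) [Field F] : Subgroup (GL (Fin 2) F) := (uSL F).map Matrix.SpecialLinearGroup.toGL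

theorem card_uSL : Nat.card (uSL F) = Nat.card F :=
  (Nat.card_congr (Equiv.ofInjective _ uElt_injective)).symm

theorem card_uGL : Nat.card (uGL F) = Nat.card F := by
  rw [uGL, ← Nat.card_congr ((uSL F).equivMapOfInjective _ Matrix.SpecialLinearGroup.toGL_injective).toEquiv,
    card_uSL]

theorem mem_uGL {g : GL (Fin 2) F} :
    g ∈ uGL F ↔ ∃ b : F, (g : Matrix (Fin 2) (Fin 2) F) = !![1, b; 0, 1] := by
  constructor
  · rintro ⟨s, ⟨b, rfl⟩, rfl⟩
    exact ⟨b, by rw [← uElt_val]; rfl⟩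
  · rintro ⟨b, hb⟩
    exact ⟨uElt b, ⟨b, rfl⟩, Units.ext (by rw [hb, ← uElt_val]; rfl)⟩

theorem conj_uElt_val (g : GL (Fin 2) F) (b : F) :
    ((g * Matrix.SpecialLinearGroup.toGL (uElt b) * g⁻¹ : GL (Fin 2) F) : Matrix (Fin 2) (Fin 2) F) =
      1 + (b / (g : Matrix (Fin 2) (Fin 2) F).det) •
        !![-((g : Matrix (Fin 2) (Fin 2) F) 0 0 * (g : Matrix (Fin 2) (Fin 2) F) 1 0),
            (g : Matrix (Fin 2) (Fin 2) F) 0 0 ^ 2;
          -((g : Matrix (Fin 2) (Fin 2) F) 1 0 ^ 2),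
            (g : Matrix (Fin 2) (Fin 2) F) 0 0 * (g : Matrix (Fin 2) (Fin 2) F) 1 0] := by
  have hd : (g : Matrix (Fin 2) (Fin 2) F).det ≠ 0 := by
    simpa using g.det.ne_zero
  rw [Units.val_mul, Units.val_mul, Matrix.coe_units_inv, Matrix.inv_def, Matrix.adjugate_fin_two,
    show (Matrix.SpecialLinearGroup.toGL (uElt b) : Matrix (Fin 2) (Fin 2) F) = !![1, b; 0, 1] from
      uElt_val b, Ring.inverse_eq_inv]
  obtain ⟨D, hD⟩ : ∃ D, D = (g : Matrix (Fin 2) (Fin 2) F).det := ⟨_, rfl⟩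
  rw [← hD] at hd ⊢
  rw [det_fin_two] at hD
  ext i j
  fin_cases i <;> fin_cases j <;> simp [Matrix.mul_apply, Fin.sum_univ_two] <;> field_simp <;>
    (subst hD; ring)

/-- A conjugate of the unitriangular group meeting it non-trivially comes from the Borel subgroup. -/
theorem lower_zero_of_conj_mem {g : GL (Fin 2) F} {b : F} (hb : b ≠ 0)
    (h : g * Matrix.SpecialLinearGroup.toGL (uElt b) * g⁻¹ ∈ uGL F) :
    (g : Matrix (Fin 2) (Fin 2) F) 1 0 = 0 := by
  have hd : (g : Matrix (Fin 2) (Fin 2) F).det ≠ 0 := by simpa using g.det.ne_zero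
  obtain ⟨c, hc⟩ := mem_uGL.1 h
  rw [conj_uElt_val] at hc
  have := congrFun (congrFun hc 1) 0
  simpa [hb, hd] using this

theorem conj_mem_of_lower_zero {g : GL (Fin 2) F} (h : (g : Matrix (Fin 2) (Fin 2) F) 1 0 = 0) (b : F) :
    g * Matrix.SpecialLinearGroup.toGL (uElt b) * g⁻¹ ∈ uGL F := by
  refine mem_uGL.2 ⟨b / (g : Matrix (Fin 2) (Fin 2) F).det * (g : Matrix (Fin 2) (Fin 2) F) 0 0 ^ 2, ?_⟩
  rw [conj_uElt_val, h]
  ext i j
  fin_cases i <;> fin_cases j <;> simp

theorem mem_normalizer_uGL {g : GL (Fin 2) F} :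
    g ∈ Subgroup.normalizer (uGL F : Set (GL (Fin 2) F)) ↔ (g : Matrix (Fin 2) (Fin 2) F) 1 0 = 0 := by
  constructor
  · intro hg
    refine lower_zero_of_conj_mem one_ne_zero ?_
    exact (Subgroup.mem_normalizer_iff.1 hg _).1 ⟨_, ⟨1, rfl⟩, rfl⟩
  · intro h
    have h' : ((g⁻¹ : GL (Fin 2) F) : Matrix (Fin 2) (Fin 2) F) 1 0 = 0 := by
      rw [Matrix.coe_units_inv, Matrix.inv_def, Matrix.adjugate_fin_two]
      simp [h]
    refine Subgroup.mem_normalizer_iff.2 fun x => ⟨?_, ?_⟩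
    · rintro ⟨_, ⟨b, rfl⟩, rfl⟩
      exact conj_mem_of_lower_zero h b
    · intro hx
      obtain ⟨_, ⟨b, rfl⟩, hs⟩ := hx
      have := conj_mem_of_lower_zero h' b
      rw [hs] at this
      simpa [mul_assoc] using this

theorem card_normalizer_uGL [Fintype F] :
    Nat.card (Subgroup.normalizer (uGL F : Set (GL (Fin 2) F))) =
      Fintype.card F * (Fintype.card F - 1) ^ 2 := by
  classical
  have e : Subgroup.normalizer (uGL F : Set (GL (Fin 2) F)) ≃ Fˣ × Fˣ × F :=
    { toFun := fun g =>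
        have h := mem_normalizer_uGL.1 g.2
        have hd : ((g.1 : GL (Fin 2) F) : Matrix (Fin 2) (Fin 2) F) 0 0 *
            ((g.1 : GL (Fin 2) F) : Matrix (Fin 2) (Fin 2) F) 1 1 ≠ 0 := by
          have := g.1.det.ne_zero
          rw [Matrix.GeneralLinearGroup.val_det_apply, det_fin_two, h, mul_zero, sub_zero] at this
          exact this
        (Units.mk0 _ (left_ne_zero_of_mul hd), Units.mk0 _ (right_ne_zero_of_mul hd),
          ((g.1 : GL (Fin 2) F) : Matrix (Fin 2) (Fin 2) F) 0 1)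
      invFun := fun p => ⟨Matrix.GeneralLinearGroup.mk'' !![(p.1 : F), p.2.2; 0, (p.2.1 : F)]
          (by simp [det_fin_two]), mem_normalizer_uGL.2 (by simp)⟩
      left_inv := fun g => by
        have h := mem_normalizer_uGL.1 g.2
        refine Subtype.ext (Units.ext ?_)
        ext i j
        fin_cases i <;> fin_cases j <;> simp [h]
      right_inv := fun p => Prod.ext (Units.ext (by simp)) (Prod.ext (Units.ext (by simp)) (by simp)) }
  rw [Nat.card_congr e, Nat.card_prod, Nat.card_prod, Nat.card_units, Nat.card_eq_fintype_card]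
  ring

theorem card_gl_two [Fintype F] :
    Nat.card (GL (Fin 2) F) = Fintype.card F * (Fintype.card F - 1) ^ 2 * (Fintype.card F + 1) := by
  rw [Matrix.card_GL_field, Fin.prod_univ_two]
  obtain ⟨r, hr⟩ : ∃ r, Fintype.card F = r + 1 := ⟨Fintype.card F - 1, by
    have := Fintype.card_pos (α := F); omega⟩
  rw [hr, Nat.add_sub_cancel]
  simp only [Fin.val_zero, Fin.val_one, pow_zero, pow_one]
  rw [show (r + 1) ^ 2 - 1 = r * (r + 2) from Nat.sub_eq_of_eq_add (by ring),
    show (r + 1) ^ 2 - (r + 1) = r * (r + 1) from Nat.sub_eq_of_eq_add (by ring)]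
  ring

variable [Fintype F] (p : ℕ) [Fact p.Prime] [CharP F p]

theorem exists_sylow_uGL : ∃ P : Sylow p (GL (Fin 2) F), (P : Subgroup _) = uGL F := by
  obtain ⟨f, hp, hf⟩ := FiniteField.card F p
  have hcard : Nat.card (uGL F) = p ^ (f : ℕ) := by rw [card_uGL, Nat.card_eq_fintype_card, hf]
  refine ⟨Sylow.ofCard (uGL F) ?_, Sylow.coe_ofCard _ _⟩
  rw [hcard, card_gl_two]
  congr 1
  have hq : 1 < Fintype.card F := Fintype.one_lt_card
  have hnd1 : ¬ p ∣ Fintype.card F - 1 := fun h => by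
    have h3 := Nat.dvd_sub (show p ∣ Fintype.card F by rw [hf]; exact dvd_pow_self p f.ne_zero) h
    rw [Nat.sub_sub_self (by omega)] at h3
    exact hp.not_dvd_one h3
  have hnd2 : ¬ p ∣ Fintype.card F + 1 := fun h => by
    have h3 := Nat.dvd_sub h (show p ∣ Fintype.card F by rw [hf]; exact dvd_pow_self p f.ne_zero)
    rw [Nat.add_sub_cancel_left] at h3
    exact hp.not_dvd_one h3
  rw [Nat.factorization_mul (mul_ne_zero (by omega) (pow_ne_zero 2 (by omega))) (by omega),
    Nat.factorization_mul (by omega) (pow_ne_zero 2 (by omega)), Finsupp.add_apply, Finsupp.add_apply,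
    Nat.factorization_eq_zero_of_not_dvd hnd2, Nat.factorization_pow, Finsupp.smul_apply,
    Nat.factorization_eq_zero_of_not_dvd hnd1, hf, hp.factorization_pow, Finsupp.single_eq_same]
  simp

theorem sylow_gl_two_conj (P : Sylow p (GL (Fin 2) F)) :
    ∃ g : GL (Fin 2) F, ∀ x, x ∈ (P : Subgroup (GL (Fin 2) F)) ↔ g⁻¹ * x * g ∈ uGL F := by
  obtain ⟨P₀, hP₀⟩ := exists_sylow_uGL (F := F) p
  obtain ⟨g, hg⟩ := MulAction.exists_smul_eq (GL (Fin 2) F) P₀ P
  refine ⟨g, fun x => ?_⟩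
  rw [← hg, Sylow.coe_subgroup_smul, Subgroup.mem_pointwise_smul_iff_inv_smul_mem, hP₀]
  simp

theorem card_sylow_gl_two :
    Nat.card (Sylow p (GL (Fin 2) F)) = Fintype.card F + 1 := by
  obtain ⟨P₀, hP₀⟩ := exists_sylow_uGL (F := F) p
  rw [Sylow.card_eq_index_normalizer P₀, show (P₀ : Set (GL (Fin 2) F)) = ((P₀ : Subgroup (GL (Fin 2) F)) : Set (GL (Fin 2) F)) from rfl, hP₀]
  have h := (Subgroup.normalizer (uGL F : Set (GL (Fin 2) F))).card_mul_index
  rw [card_normalizer_uGL, card_gl_two] at h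
  have hq : 1 < Fintype.card F := Fintype.one_lt_card
  exact Nat.eq_of_mul_eq_mul_left (Nat.mul_pos (by omega) (pow_pos (by omega) 2)) h

theorem sylow_gl_two_disjoint (P Q : Sylow p (GL (Fin 2) F)) (h : P ≠ Q) :
    (P : Subgroup (GL (Fin 2) F)) ⊓ (Q : Subgroup (GL (Fin 2) F)) = ⊥ := by
  obtain ⟨g, hg⟩ := sylow_gl_two_conj p P
  obtain ⟨k, hk⟩ := sylow_gl_two_conj p Q
  rw [eq_bot_iff]
  intro x hxx
  obtain ⟨hx, hx'⟩ := Subgroup.mem_inf.1 hxx
  rw [hg] at hx
  rw [hk] at hx'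
  obtain ⟨_, ⟨b, rfl⟩, hb⟩ := hx
  by_contra hx1
  have hb0 : b ≠ 0 := by
    rintro rfl
    apply hx1
    rw [Subgroup.mem_bot]
    have : g⁻¹ * x * g = 1 := by
      rw [← hb, show uElt (0 : F) = 1 from Matrix.SpecialLinearGroup.transvection_coeff_zero _, map_one]
    simpa [mul_assoc, inv_mul_eq_one, eq_comm] using this
  have hmem : (k⁻¹ * g) * Matrix.SpecialLinearGroup.toGL (uElt b) * (k⁻¹ * g)⁻¹ ∈ uGL F := by
    rw [hb]
    simpa [mul_assoc] using hx'
  have hn := mem_normalizer_uGL.2 (lower_zero_of_conj_mem hb0 hmem)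
  refine h (Sylow.ext (SetLike.ext fun y => ?_))
  rw [hg, hk]
  have := Subgroup.mem_normalizer_iff.1 hn (g⁻¹ * y * g)
  simpa [mul_assoc] using this

theorem card_normalizer_sylow_gl_two (P : Sylow p (GL (Fin 2) F)) :
    Nat.card (Subgroup.normalizer ((P : Subgroup (GL (Fin 2) F)) : Set (GL (Fin 2) F))) =
      Fintype.card F * (Fintype.card F - 1) ^ 2 := by
  have h := (Subgroup.normalizer ((P : Subgroup (GL (Fin 2) F)) : Set (GL (Fin 2) F))).card_mul_index
  rw [show (Subgroup.normalizer ((P : Subgroup (GL (Fin 2) F)) : Set (GL (Fin 2) F))).index =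
    Nat.card (Sylow p (GL (Fin 2) F)) from (Sylow.card_eq_index_normalizer P).symm, card_sylow_gl_two,
    card_gl_two] at h
  exact Nat.eq_of_mul_eq_mul_right (Nat.succ_pos _) h

theorem card_centralizer_gl_two (P : Sylow p (GL (Fin 2) F)) (a : GL (Fin 2) F)
    (ha : a ∈ (P : Subgroup (GL (Fin 2) F))) (ha1 : a ≠ 1) :
    Nat.card (Subgroup.centralizer ({a} : Set (GL (Fin 2) F))) =
      Fintype.card F * (Fintype.card F - 1) := by
  classical
  obtain ⟨g, hg⟩ := sylow_gl_two_conj p P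
  obtain ⟨b, hb⟩ := mem_uGL.1 ((hg a).1 ha)
  obtain ⟨u, hu⟩ : ∃ u, u = g⁻¹ * a * g := ⟨_, rfl⟩
  rw [← hu] at hb
  have hb0 : b ≠ 0 := by
    rintro rfl
    have h1 : u = 1 := Units.ext (by rw [hb]; exact Matrix.one_fin_two.symm)
    rw [hu] at h1
    exact ha1 (by simpa [mul_assoc, inv_mul_eq_one, eq_comm] using h1)
  have hau : a = g * u * g⁻¹ := by rw [hu]; group
  have e1 : Subgroup.centralizer ({a} : Set (GL (Fin 2) F)) ≃
      {h : GL (Fin 2) F // u * h = h * u} :=
    (MulAut.conj g⁻¹).toEquiv.subtypeEquiv fun x => by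
      rw [Subgroup.mem_centralizer_singleton_iff, hau]
      show _ ↔ u * (g⁻¹ * x * g⁻¹⁻¹) = g⁻¹ * x * g⁻¹⁻¹ * u
      rw [inv_inv]
      constructor
      · intro h
        calc u * (g⁻¹ * x * g) = g⁻¹ * ((g * u * g⁻¹) * x) * g := by group
          _ = g⁻¹ * (x * (g * u * g⁻¹)) * g := by rw [h]
          _ = g⁻¹ * x * g * u := by group
      · intro h
        calc x * (g * u * g⁻¹) = g * (g⁻¹ * x * g * u) * g⁻¹ := by group
          _ = g * (u * (g⁻¹ * x * g)) * g⁻¹ := by rw [h]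
          _ = g * u * g⁻¹ * x := by group
  have e2 : {h : GL (Fin 2) F // u * h = h * u} ≃ Fˣ × F :=
    { toFun := fun h =>
        have hm := congrArg (fun y : GL (Fin 2) F => (y : Matrix (Fin 2) (Fin 2) F)) h.2
        have hd : ((h.1 : GL (Fin 2) F) : Matrix (Fin 2) (Fin 2) F) 0 0 ≠ 0 := by
          have h00 := congrFun (congrFun hm 0) 0
          simp [hb, Matrix.mul_apply, Fin.sum_univ_two, hb0] at h00
          have := h.1.det.ne_zero
          rw [Matrix.GeneralLinearGroup.val_det_apply, det_fin_two, h00, mul_zero, sub_zero] at this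
          exact left_ne_zero_of_mul this
        (Units.mk0 _ hd, ((h.1 : GL (Fin 2) F) : Matrix (Fin 2) (Fin 2) F) 0 1)
      invFun := fun p => ⟨Matrix.GeneralLinearGroup.mk'' !![(p.1 : F), p.2; 0, (p.1 : F)]
          (by simp [det_fin_two]), Units.ext (by
        change _ * !![(p.1 : F), p.2; 0, (p.1 : F)] = !![(p.1 : F), p.2; 0, (p.1 : F)] * _
        rw [hb]
        ext i j
        fin_cases i <;> fin_cases j <;> simp [Matrix.mul_apply, Fin.sum_univ_two] <;> ring)⟩
      left_inv := fun h => by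
        have hm := congrArg (fun y : GL (Fin 2) F => (y : Matrix (Fin 2) (Fin 2) F)) h.2
        have h00 := congrFun (congrFun hm 0) 0
        have h01 := congrFun (congrFun hm 0) 1
        simp [hb, Matrix.mul_apply, Fin.sum_univ_two, hb0] at h00 h01
        have h11 : ((h.1 : GL (Fin 2) F) : Matrix (Fin 2) (Fin 2) F) 1 1 =
            ((h.1 : GL (Fin 2) F) : Matrix (Fin 2) (Fin 2) F) 0 0 :=
          mul_left_cancel₀ hb0 (by linear_combination h01)
        refine Subtype.ext (Units.ext ?_)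
        change !![_, _; 0, _] = _
        rw [Matrix.eta_fin_two ((h.1 : GL (Fin 2) F) : Matrix (Fin 2) (Fin 2) F), h00, h11]
        simp
      right_inv := fun p => Prod.ext (Units.ext (by simp)) (by simp) }
  rw [Nat.card_congr (e1.trans e2), Nat.card_prod, Nat.card_units, Nat.card_eq_fintype_card, mul_comm]

end CfsgLib.Classical
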