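import Mathlib
import Cfsg.Agent.Lib.Classical.GLTwoSylow
import Cfsg.Agent.Lib.Classical.SLOrder

/-!
Sylow subgroups of `SL_2(q)` in the defining characteristic.
-/

set_option autoImplicit false

namespace CfsgLib.Classical

open Matrix
open scoped MatrixGroups Pointwise

variable {F : Type*} [Field F] [Fintype F] (p : ℕ) [Fact p.Prime] [CharP F p]

theorem card_sl_two_eq : Nat.card SL(2, F) = Fintype.card F * (Fintype.card F ^ 2 - 1) := by
  refine Nat.eq_of_mul_eq_mul_left (n := Nat.card Fˣ) Nat.card_pos ?_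
  rw [card_units_mul_card_sl, card_gl_two, Nat.card_units, Nat.card_eq_fintype_card]
  obtain ⟨r, hr⟩ : ∃ r, Fintype.card F = r + 1 := ⟨Fintype.card F - 1, by
    have := Fintype.card_pos (α := F); omega⟩
  rw [hr, Nat.add_sub_cancel, show (r + 1) ^ 2 - 1 = r * (r + 2) from Nat.sub_eq_of_eq_add (by ring)]
  ring

theorem exists_sylow_uSL : ∃ P : Sylow p SL(2, F), (P : Subgroup SL(2, F)) = uSL F := by
  obtain ⟨f, hp, hf⟩ := FiniteField.card F p
  have hcard : Nat.card (uSL F) = p ^ (f : ℕ) := by rw [card_uSL, Nat.card_eq_fintype_card, hf]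
  refine ⟨Sylow.ofCard (uSL F) ?_, Sylow.coe_ofCard _ _⟩
  rw [hcard, card_sl_two_eq]
  congr 1
  have hq : 1 < Fintype.card F := Fintype.one_lt_card
  have h1 : 1 ≤ Fintype.card F ^ 2 := Nat.one_le_pow _ _ (by omega)
  have h2 : 1 < Fintype.card F ^ 2 := Nat.one_lt_pow (by omega) hq
  have hnd : ¬ p ∣ Fintype.card F ^ 2 - 1 := fun h => by
    have h3 := Nat.dvd_sub (show p ∣ Fintype.card F ^ 2 by
      rw [hf, ← pow_mul]; exact dvd_pow_self p (by positivity)) h
    rw [Nat.sub_sub_self h1] at h3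
    exact hp.not_dvd_one h3
  rw [Nat.factorization_mul (by omega) (by omega), Finsupp.add_apply,
    Nat.factorization_eq_zero_of_not_dvd hnd, hf, hp.factorization_pow, Finsupp.single_eq_same,
    add_zero]

omit [Fintype F] in
/-- The unitriangular group and a conjugate moving its line generate `SL_2`. -/
theorem uSL_sup_conj_eq_top {g : SL(2, F)} (hg : (g : Matrix (Fin 2) (Fin 2) F) 1 0 ≠ 0) :
    uSL F ⊔ MulAut.conj g • uSL F = ⊤ := by
  obtain ⟨r, hr⟩ : ∃ r, r = -((g : Matrix (Fin 2) (Fin 2) F) 0 0) / (g : Matrix (Fin 2) (Fin 2) F) 1 0 :=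
    ⟨_, rfl⟩
  have hval : ∀ b : F, ((uElt r * (g * uElt b * g⁻¹) * (uElt r)⁻¹ : SL(2, F)) : Matrix (Fin 2) (Fin 2) F) =
      !![1, 0; -b * ((g : Matrix (Fin 2) (Fin 2) F) 1 0) ^ 2, 1] := by
    intro b
    obtain ⟨A, B, C, D, hgE⟩ : ∃ A B C D, (g : Matrix (Fin 2) (Fin 2) F) = !![A, B; C, D] :=
      ⟨_, _, _, _, Matrix.eta_fin_two _⟩
    have hd := g.2
    rw [hgE, det_fin_two_of] at hd
    have hC : C ≠ 0 := by simpa [hgE] using hg
    have hrC : r * C = -A := by rw [hr, hgE]; simp; field_simp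
    have h1 : uElt r * (g * uElt b * g⁻¹) * (uElt r)⁻¹ = (uElt r * g) * uElt b * (uElt r * g)⁻¹ := by group
    rw [h1]
    simp only [Matrix.SpecialLinearGroup.coe_mul, Matrix.SpecialLinearGroup.coe_inv, adjugate_fin_two,
      uElt_val]
    ext i j
    fin_cases i <;> fin_cases j <;> simp [Matrix.mul_apply, Fin.sum_univ_two, hgE] <;> grind
  have hU : ∀ c, uElt c ∈ uSL F ⊔ MulAut.conj g • uSL F := fun c => Subgroup.mem_sup_left ⟨c, rfl⟩
  refine sl_transvection_induction _ fun i j hij c => ?_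
  fin_cases i <;> fin_cases j <;> first | exact absurd rfl hij | skip
  · exact hU c
  · have hb : Matrix.SpecialLinearGroup.transvection hij c =
        uElt r * (g * uElt (-c / ((g : Matrix (Fin 2) (Fin 2) F) 1 0) ^ 2) * g⁻¹) * (uElt r)⁻¹ := by
      refine Subtype.ext ?_
      rw [hval]
      ext k l
      fin_cases k <;> fin_cases l <;>
        simp [Matrix.SpecialLinearGroup.transvection_coe, neg_div, hg]
    rw [hb]
    refine mul_mem (mul_mem (hU r) (Subgroup.mem_sup_right ?_)) (inv_mem (hU r))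
    exact ⟨_, ⟨_, rfl⟩, rfl⟩

theorem sylow_sl_two_sup_eq_top (P Q : Sylow p SL(2, F)) (h : P ≠ Q) :
    (P : Subgroup SL(2, F)) ⊔ (Q : Subgroup SL(2, F)) = ⊤ := by
  obtain ⟨P₀, hP₀⟩ := exists_sylow_uSL (F := F) p
  obtain ⟨a, ha⟩ := MulAction.exists_smul_eq SL(2, F) P₀ P
  obtain ⟨b, hb⟩ := MulAction.exists_smul_eq SL(2, F) P₀ Q
  have hcoe : ∀ c : SL(2, F), ((c • P₀ : Sylow p SL(2, F)) : Subgroup SL(2, F)) = MulAut.conj c • uSL F :=
    fun c => by rw [Sylow.coe_subgroup_smul, hP₀]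
  have hne : ((a⁻¹ * b : SL(2, F)) : Matrix (Fin 2) (Fin 2) F) 1 0 ≠ 0 := by
    intro h0
    apply h
    rw [← ha, ← hb]
    refine Sylow.ext ?_
    rw [hcoe, hcoe, show b = a * (a⁻¹ * b) by group, map_mul, mul_smul]
    congr 1
    refine (Subgroup.eq_of_le_of_card_ge ?_ (le_of_eq (Nat.card_congr (Subgroup.equivSMul _ _).toEquiv))).symm
    rintro _ ⟨_, ⟨c, rfl⟩, rfl⟩
    obtain ⟨s, hs, hs'⟩ := conj_mem_of_lower_zero (g := Matrix.SpecialLinearGroup.toGL (a⁻¹ * b)) h0 c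
    rw [← map_mul, ← map_inv, ← map_mul] at hs'
    have := Matrix.SpecialLinearGroup.toGL_injective hs'
    show a⁻¹ * b * uElt c * (a⁻¹ * b)⁻¹ ∈ uSL F
    rw [← this]; exact hs
  rw [← ha, ← hb, hcoe, hcoe, show b = a * (a⁻¹ * b) by group, map_mul, mul_smul, ← Subgroup.smul_sup,
    uSL_sup_conj_eq_top hne]
  exact Subgroup.map_top_of_surjective _ (MulEquiv.surjective _)

end CfsgLib.Classical
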