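import Mathlib
import Cfsg.Agent.Lib.Geom.WittSesq

/-!
Isometry groups of alternating forms are perfect (away from the three small cases).
-/

set_option autoImplicit false

namespace CfsgLib.Classical

open CfsgLib.Geom
open scoped commutatorElement

variable {F V : Type*} [Field F] [AddCommGroup V] [Module F V] [FiniteDimensional F V]
variable {B : V →ₗ[F] V →ₗ[F] F}

theorem exists_altTv (hA : ∀ v, B v v = 0) (hB : ∀ x, (∀ y, B x y = 0) → x = 0) (p : V) (c : F) :
    ∃ t : formIsoms B, ∀ x, t.1 x = x + (c * B x p) • p := by
  obtain ⟨e, he, hea⟩ := exists_mem_formIsoms B hB (altTransvection B p c)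
    (altTransvection_preserves B hA p c)
  exact ⟨⟨e, he⟩, fun x => by rw [hea, altTransvection_apply]⟩

theorem formIsoms_ext {g h : formIsoms B} (H : ∀ x, g.1 x = h.1 x) : g = h :=
  Subtype.ext (LinearEquiv.ext H)

/-- The transvection at `p` with coefficient `c`, as an element of the isometry group. -/
noncomputable def altTv (hA : ∀ v, B v v = 0) (hB : ∀ x, (∀ y, B x y = 0) → x = 0) (p : V) (c : F) :
    formIsoms B := (exists_altTv hA hB p c).choose

variable (hA : ∀ v, B v v = 0) (hB : ∀ x, (∀ y, B x y = 0) → x = 0)
include hA hB

theorem altTv_apply (p : V) (c : F) (x : V) :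
    (altTv hA hB p c).1 x = x + (c * B x p) • p := (exists_altTv hA hB p c).choose_spec x

theorem altTv_add (p : V) (c d : F) : altTv hA hB p (c + d) = altTv hA hB p c * altTv hA hB p d := by
  refine formIsoms_ext fun x => ?_
  rw [Subgroup.coe_mul, LinearEquiv.mul_apply, altTv_apply, altTv_apply, altTv_apply]
  simp only [map_add, map_smul, LinearMap.add_apply, LinearMap.smul_apply, hA, smul_eq_mul]
  module

theorem altTv_zero (p : V) : altTv hA hB p 0 = 1 := by
  refine formIsoms_ext fun x => ?_
  simp [altTv_apply]

theorem altTv_neg (p : V) (c : F) : (altTv hA hB p c)⁻¹ = altTv hA hB p (-c) := by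
  refine inv_eq_of_mul_eq_one_right ?_
  rw [← altTv_add, add_neg_cancel, altTv_zero]

theorem altTv_smul (p : V) (s c : F) : altTv hA hB (s • p) c = altTv hA hB p (s ^ 2 * c) := by
  refine formIsoms_ext fun x => ?_
  rw [altTv_apply, altTv_apply, map_smul, smul_eq_mul, smul_smul]
  congr 2
  ring

theorem altTv_conj (g : formIsoms B) (p : V) (c : F) :
    g * altTv hA hB p c * g⁻¹ = altTv hA hB (g.1 p) c := by
  refine formIsoms_ext fun x => ?_
  simp only [Subgroup.coe_mul, Subgroup.coe_inv, LinearEquiv.mul_apply, altTv_apply]
  have h : B x (g.1 p) = B (g.1.symm x) p := by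
    rw [← g.2 (g.1.symm x) p, g.1.apply_symm_apply]
  rw [map_add, map_smul, h]
  exact congrArg (· + _) (g.1.apply_symm_apply x)

theorem altTv_mem_commutator_of_conj {p : V} {c : F} (g : formIsoms B) :
    altTv hA hB (g.1 p) c * altTv hA hB p (-c) ∈ commutator (formIsoms B) := by
  rw [← altTv_conj hA hB g, ← altTv_neg, ← commutatorElement_def]
  exact Subgroup.commutator_mem_commutator (Subgroup.mem_top _) (Subgroup.mem_top _)

/-- The long-root element `T(v+w) T(v)⁻¹ T(w)⁻¹`. -/
noncomputable def altSiegel (v w : V) (c : F) : formIsoms B :=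
  altTv hA hB (v + w) c * altTv hA hB v (-c) * altTv hA hB w (-c)

theorem altSiegel_apply {v w : V} (hvw : B v w = 0) (c : F) (x : V) :
    (altSiegel hA hB v w c).1 x = x + (c * B x w) • v + (c * B x v) • w := by
  have hwv : B w v = 0 := by rw [alt_swap B hA v w, hvw, neg_zero]
  simp only [altSiegel, Subgroup.coe_mul, LinearEquiv.mul_apply, altTv_apply, map_add, map_smul,
    LinearMap.add_apply, LinearMap.smul_apply, hA, hvw, hwv, smul_eq_mul]
  module

theorem altSiegel_add {u v w : V} (huw : B u w = 0) (hvw : B v w = 0) (huv : B u v = 0) (c : F) :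
    altSiegel hA hB (u + v) w c = altSiegel hA hB u w c * altSiegel hA hB v w c := by
  have hwu : B w u = 0 := by rw [alt_swap B hA u w, huw, neg_zero]
  have hvu : B v u = 0 := by rw [alt_swap B hA u v, huv, neg_zero]
  refine formIsoms_ext fun x => ?_
  rw [Subgroup.coe_mul, LinearEquiv.mul_apply, altSiegel_apply hA hB (by simp [huw, hvw]),
    altSiegel_apply hA hB huw, altSiegel_apply hA hB hvw]
  simp only [map_add, map_smul, LinearMap.add_apply, LinearMap.smul_apply, huw, hvw, hwu, hvu,
    hA, smul_eq_mul]
  module

/-- Transitivity on non-zero vectors. -/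
theorem exists_isom_one {x y : V} (hx : x ≠ 0) (hy : y ≠ 0) : ∃ g : formIsoms B, g.1 x = y := by
  let φ : (F ∙ x) →ₗ[F] V :=
    (LinearMap.toSpanSingleton F V y).comp (LinearEquiv.toSpanNonzeroSingleton F V x hx).symm.toLinearMap
  have hφ : ∀ t : F, φ (LinearEquiv.toSpanNonzeroSingleton F V x hx t) = t • y := fun t => by
    show (LinearEquiv.toSpanNonzeroSingleton F V x hx).symm (LinearEquiv.toSpanNonzeroSingleton F V x hx t) • y = _
    rw [LinearEquiv.symm_apply_apply]
  obtain ⟨g, -, hg, hgX⟩ := witt_alternating B hA hB (F ∙ x) φ
    (fun a b hab => (LinearEquiv.toSpanNonzeroSingleton F V x hx).symm.injective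
      (smul_left_injective F hy (by simpa [φ] using hab)))
    (fun a b => by
      obtain ⟨s, rfl⟩ := (LinearEquiv.toSpanNonzeroSingleton F V x hx).surjective a
      obtain ⟨t, rfl⟩ := (LinearEquiv.toSpanNonzeroSingleton F V x hx).surjective b
      rw [hφ, hφ]
      simp [hA])
  refine ⟨⟨g, hg⟩, ?_⟩
  have := hgX (LinearEquiv.toSpanNonzeroSingleton F V x hx 1)
  rw [hφ, one_smul] at this
  simpa using this

/-- Transitivity on pairs with the same value. -/
theorem exists_isom_pair {x y x' y' : V} (hxy : LinearIndependent F ![x, y])
    (hxy' : LinearIndependent F ![x', y']) (h : B x y = B x' y') :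
    ∃ g : formIsoms B, g.1 x = x' ∧ g.1 y = y' := by
  let L : (Fin 2 → F) →ₗ[F] V := Fintype.linearCombination F ![x, y]
  let L' : (Fin 2 → F) →ₗ[F] V := Fintype.linearCombination F ![x', y']
  have hLi : Function.Injective L := linearIndependent_iff_injective_fintypeLinearCombination.1 hxy
  have hLi' : Function.Injective L' := linearIndependent_iff_injective_fintypeLinearCombination.1 hxy'
  let e := LinearEquiv.ofInjective L hLi
  let φ : LinearMap.range L →ₗ[F] V := L'.comp e.symm.toLinearMap
  have hswap : B y x = B y' x' := by rw [alt_swap B hA x y, alt_swap B hA x' y', h]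
  obtain ⟨g, -, hg, hgX⟩ := witt_alternating B hA hB (LinearMap.range L) φ
    (hLi'.comp e.symm.injective)
    (fun a b => by
      obtain ⟨s, rfl⟩ := e.surjective a
      obtain ⟨t, rfl⟩ := e.surjective b
      simp [φ, e, L, L', Fintype.linearCombination_apply, Fin.sum_univ_two, hA, h, hswap])
  refine ⟨⟨g, hg⟩, ?_, ?_⟩
  · have := hgX (e ![1, 0])
    simpa [φ, e, L, L', Fintype.linearCombination_apply, Fin.sum_univ_two] using this
  · have := hgX (e ![0, 1])
    simpa [φ, e, L, L', Fintype.linearCombination_apply, Fin.sum_univ_two] using this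

theorem exists_isom_triple {u v w : V} (huvw : LinearIndependent F ![u, v, w]) (huv : B u v = 0)
    (huw : B u w = 0) (hvw : B v w = 0) :
    ∃ g : formIsoms B, g.1 u = u + v ∧ g.1 w = w := by
  have h2 : LinearIndependent F ![u, w] := by
    have := huvw.comp ![0, 2] (by decide)
    convert this using 1
    ext i; fin_cases i <;> rfl
  have h3 : LinearIndependent F ![u + v, w] := by
    rw [LinearIndependent.pair_iff]
    intro s t hst
    have := Fintype.linearIndependent_iff.1 huvw ![s, s, t] (by
      simp only [Fin.sum_univ_three]
      simpa [smul_add, add_assoc] using hst)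
    exact ⟨this 0, this 2⟩
  exact exists_isom_pair hA hB h2 h3 (by simp [huw, hvw])

/-- The isometry group of an alternating form is perfect away from the small cases. -/
theorem commutator_formIsoms_alt_eq_top
    (h : (∃ s : F, s ≠ 0 ∧ s ^ 2 ≠ 1) ∨ (4 ≤ Module.finrank F V ∧ (2 : F) ≠ 0) ∨
      6 ≤ Module.finrank F V) :
    commutator (formIsoms B) = ⊤ := by
  have key : ∀ p c, altTv hA hB p c ∈ commutator (formIsoms B) := by
    intro p c
    by_cases hp : p = 0
    · have : altTv hA hB p c = 1 := formIsoms_ext fun x => by simp [altTv_apply, hp]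
      rw [this]; exact one_mem _
    rcases h with ⟨s, hs0, hs⟩ | h
    · obtain ⟨g, hg⟩ := exists_isom_one hA hB hp (smul_ne_zero hs0 hp)
      have := altTv_mem_commutator_of_conj hA hB (p := p) (c := c / (s ^ 2 - 1)) g
      rw [hg, altTv_smul, ← altTv_add] at this
      convert this using 2
      field_simp [sub_ne_zero.2 hs]
      ring
    · classical
      have h4 : 4 ≤ Module.finrank F V := by rcases h with h | h <;> omega
      obtain ⟨w, hw, hwp⟩ : ∃ w, B p w = 0 ∧ LinearIndependent F ![p, w] := by
        by_contra hne
        push Not at hne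
        have hle : LinearMap.ker (B p) ≤ F ∙ p := by
          intro w hw
          have := hne w (LinearMap.mem_ker.1 hw)
          rw [LinearIndependent.pair_iff' hp] at this
          push Not at this
          obtain ⟨a, ha⟩ := this
          exact Submodule.mem_span_singleton.2 ⟨a, ha⟩
        have h1 := Submodule.finrank_mono hle
        rw [finrank_span_singleton hp] at h1
        have h2 := (B p).finrank_range_add_finrank_ker
        have h3 := Submodule.finrank_le (LinearMap.range (B p))
        rw [Module.finrank_self] at h3
        omega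
      have hwp' : B w p = 0 := by rw [alt_swap B hA p w, hw, neg_zero]
      -- `g` sends `w` to `w + a p`
      have hg : ∀ a d : F, altTv hA hB p (a ^ 2 * d) * altSiegel hA hB p w (a * d) ∈
          commutator (formIsoms B) := by
        intro a d
        have hpne : LinearIndependent F ![p, w + a • p] := by
          rw [LinearIndependent.pair_iff] at hwp ⊢
          intro s t hst
          have := hwp (s + t * a) t (by rw [add_smul, mul_smul, ← hst, smul_add]; abel)
          exact ⟨by have h2 := this.2; have h1 := this.1; rw [h2] at h1; simpa using h1, this.2⟩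
        obtain ⟨g, hgp, hgw⟩ := exists_isom_pair hA hB hwp hpne (by simp [hw, hA])
        have := altTv_mem_commutator_of_conj hA hB (p := w) (c := d) g
        rw [hgw] at this
        convert this using 1
        refine formIsoms_ext fun x => ?_
        simp only [Subgroup.coe_mul, LinearEquiv.mul_apply, altTv_apply, altSiegel_apply hA hB hw,
          map_add, map_smul, LinearMap.add_apply, LinearMap.smul_apply, hA, hw, hwp', smul_eq_mul]
        module
      rcases h with ⟨-, h2⟩ | h6
      · have e1 := hg 1 (c / 2)
        have e2 := hg (-1) (c / 2)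
        have := mul_mem e1 e2
        convert this using 1
        refine formIsoms_ext fun x => ?_
        simp only [Subgroup.coe_mul, LinearEquiv.mul_apply, altTv_apply, altSiegel_apply hA hB hw,
          map_add, map_smul, LinearMap.add_apply, LinearMap.smul_apply, hA, hw, hwp', smul_eq_mul]
        match_scalars <;> field_simp <;> ring
      · obtain ⟨u, hu1, hu2, huind⟩ : ∃ u, B u p = 0 ∧ B u w = 0 ∧ LinearIndependent F ![u, p, w] := by
          by_contra hne
          push Not at hne
          have hle : LinearMap.ker (B.flip p) ⊓ LinearMap.ker (B.flip w) ≤ Submodule.span F {p, w} := by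
            intro u hu
            by_contra hnot
            refine hne u (LinearMap.mem_ker.1 hu.1) (LinearMap.mem_ker.1 hu.2) ?_
            have : ![u, p, w] = Fin.cons u ![p, w] := rfl
            rw [this, linearIndependent_finCons]
            exact ⟨hwp, by simpa [Matrix.range_cons, Set.pair_comm] using hnot⟩
          have h1 := (Submodule.finrank_mono hle).trans (finrank_span_le_card _)
          have h2 := Submodule.finrank_sup_add_finrank_inf_eq (LinearMap.ker (B.flip p)) (LinearMap.ker (B.flip w))
          have h3 := (B.flip p).finrank_range_add_finrank_ker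
          have h3' := (B.flip w).finrank_range_add_finrank_ker
          have h4' := Submodule.finrank_le (LinearMap.range (B.flip p))
          have h4'' := Submodule.finrank_le (LinearMap.range (B.flip w))
          rw [Module.finrank_self] at h4' h4''
          have h5 := Submodule.finrank_le (LinearMap.ker (B.flip p) ⊔ LinearMap.ker (B.flip w))
          have h6' : ({p, w} : Set V).toFinset.card ≤ 2 := by
            classical
            simpa using Finset.card_le_two (a := p) (b := w)
          omega
        have hS : altSiegel hA hB p w c ∈ commutator (formIsoms B) := by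
          obtain ⟨g, hgu, hgw⟩ := exists_isom_triple hA hB huind hu1 hu2 hw
          have e1 : g * altSiegel hA hB u w c * g⁻¹ = altSiegel hA hB (u + p) w c := by
            simp only [altSiegel, ← hgu]
            conv_rhs => rw [← hgw]
            rw [← map_add, ← altTv_conj hA hB g (u + w), ← altTv_conj hA hB g u, ← altTv_conj hA hB g w]
            group
          rw [altSiegel_add hA hB hu2 hw hu1] at e1
          have e2 : altSiegel hA hB p w c = ⁅(altSiegel hA hB u w c)⁻¹, g⁆ := by
            rw [eq_comm, commutatorElement_def, inv_inv]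
            calc (altSiegel hA hB u w c)⁻¹ * g * altSiegel hA hB u w c * g⁻¹
                = (altSiegel hA hB u w c)⁻¹ * (g * altSiegel hA hB u w c * g⁻¹) := by group
              _ = altSiegel hA hB p w c := by rw [e1]; group
          rw [e2]
          exact Subgroup.commutator_mem_commutator (Subgroup.mem_top _) (Subgroup.mem_top _)
        have := mul_mem (hg 1 c) (inv_mem hS)
        simpa using this
  rw [eq_top_iff]
  intro g _
  have hg : g.1 ∈ Subgroup.closure (altTransvectionSet B) := by
    rw [← formIsoms_eq_closure_alt B hA hB]; exact g.2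
  suffices ∀ t ∈ Subgroup.closure (altTransvectionSet B), ∀ ht : t ∈ formIsoms B,
      (⟨t, ht⟩ : formIsoms B) ∈ commutator (formIsoms B) from this g.1 hg g.2
  intro t ht
  induction ht using Subgroup.closure_induction with
  | mem t ht =>
    intro ht'
    obtain ⟨p, c, hpc⟩ := ht
    rw [show (⟨t, ht'⟩ : formIsoms B) = altTv hA hB p c from
      formIsoms_ext fun x => (hpc x).trans (altTv_apply hA hB p c x).symm]
    exact key p c
  | one => intro h1; exact one_mem _
  | mul a b ha hb iha ihb =>
    intro hab
    exact mul_mem (iha (altTransvectionSet_closure_le B hA ha)) (ihb (altTransvectionSet_closure_le B hA hb))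
  | inv a ha iha =>
    intro hab
    exact inv_mem (iha (altTransvectionSet_closure_le B hA ha))

end CfsgLib.Classical
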