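import Mathlib
import Cfsg.Agent.Lib.Classical.AltPerfect

/-!
Simplicity of projective symplectic groups by Iwasawa's criterion on the points of projective space.
-/

set_option autoImplicit false

namespace CfsgLib.Classical

open CfsgLib.Geom
open scoped LinearAlgebra.Projectivization Pointwise
open Projectivization (mk mk_eq_mk_iff' mk_rep rep_nonzero smul_mk)

variable {F V : Type*} [Field F] [AddCommGroup V] [Module F V] [FiniteDimensional F V]
variable {B : V →ₗ[F] V →ₗ[F] F}
variable (hA : ∀ v, B v v = 0) (hB : ∀ x, (∀ y, B x y = 0) → x = 0)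

include hA hB

/-- A normal subgroup is all of the isometry group or consists of elements fixing every line. -/
theorem normal_formIsoms_alt (h4 : 4 ≤ Module.finrank F V)
    (hperf : commutator (formIsoms B) = ⊤) (N : Subgroup (formIsoms B)) [N.Normal] :
    N = ⊤ ∨ ∀ g ∈ N, ∀ P : ℙ F V, g • P = P := by
  by_cases hfix : MulAction.fixedPoints N (ℙ F V) = Set.univ
  · exact Or.inr fun g hg P => (Set.eq_univ_iff_forall.1 hfix P) ⟨g, hg⟩
  left
  have hpt : ∀ (g : formIsoms B) (v : V) (hv : v ≠ 0),
      g • mk F v hv = mk F (g.1 v) (fun h => hv (g.1.injective (h.trans (map_zero g.1).symm))) :=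
    fun g v hv => rfl
  have htrans : MulAction.IsPretransitive (formIsoms B) (ℙ F V) := ⟨fun P Q => by
    induction P using Projectivization.ind with | _ x hx =>
    induction Q using Projectivization.ind with | _ y hy =>
    obtain ⟨g, hg⟩ := exists_isom_one hA hB hx hy
    exact ⟨g, by simp only [hpt, hg]⟩⟩
  have hquasi : MulAction.IsQuasiPreprimitive (formIsoms B) (ℙ F V) := by
    refine { toIsPretransitive := htrans, isPretransitive_of_normal := fun {M} hM hMfix => ?_ }
    let R : ℙ F V → ℙ F V → Prop := fun P Q => ∃ n : M, n • P = Q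
    have Rrefl : ∀ P, R P P := fun P => ⟨1, one_smul _ P⟩
    have Rsymm : ∀ {P Q}, R P Q → R Q P := fun ⟨n, hn⟩ => ⟨n⁻¹, by rw [← hn, inv_smul_smul]⟩
    have Rtrans : ∀ {P Q S}, R P Q → R Q S → R P S := fun ⟨n, hn⟩ ⟨k, hk⟩ =>
      ⟨k * n, by rw [mul_smul, hn, hk]⟩
    have Rconj : ∀ (g : formIsoms B) {P Q}, R P Q → R (g • P) (g • Q) := fun g P Q ⟨n, hn⟩ =>
      ⟨⟨g * n.1 * g⁻¹, hM.conj_mem n.1 n.2 g⟩, by
        rw [Subgroup.smul_def] at hn ⊢
        simp only [mul_smul, inv_smul_smul, hn]⟩
    have indep : ∀ {x y : V} (hx : x ≠ 0) (hy : y ≠ 0), mk F x hx ≠ mk F y hy →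
        LinearIndependent F ![x, y] := by
      intro x y hx hy h
      rw [LinearIndependent.pair_iff' hx]
      intro a ha
      exact h ((mk_eq_mk_iff' F y x hy hx).2 ⟨a, ha⟩).symm
    have transport : ∀ {x y x' y' : V} (hx : x ≠ 0) (hy : y ≠ 0) (hx' : x' ≠ 0) (hy' : y' ≠ 0),
        LinearIndependent F ![x, y] → LinearIndependent F ![x', y'] → B x y = B x' y' →
        R (mk F x hx) (mk F y hy) → R (mk F x' hx') (mk F y' hy') := by
      intro x y x' y' hx hy hx' hy' hi hi' hBeq hR
      obtain ⟨g, hg1, hg2⟩ := exists_isom_pair hA hB hi hi' hBeq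
      have := Rconj g hR
      simp only [hpt, hg1, hg2] at this
      exact this
    obtain ⟨P, hP⟩ := (Set.ne_univ_iff_exists_notMem _).1 hMfix
    simp only [MulAction.mem_fixedPoints, not_forall] at hP
    obtain ⟨n, hn⟩ := hP
    induction P using Projectivization.ind with | _ p hp =>
    obtain ⟨q, hq, hqeq⟩ : ∃ (q : V) (hq : q ≠ 0), n • mk F p hp = mk F q hq :=
      ⟨_, _, hpt n.1 p hp⟩
    have hpq : LinearIndependent F ![p, q] := indep hp hq fun h => hn (hqeq.trans h.symm)
    have hR : R (mk F p hp) (mk F q hq) := ⟨n, hqeq⟩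
    -- either all orthogonal pairs or all non-orthogonal pairs are related
    have step1 : (∀ x y : V, ∀ (hx : x ≠ 0) (hy : y ≠ 0), B x y ≠ 0 → R (mk F x hx) (mk F y hy)) ∨
        (∀ x y : V, ∀ (hx : x ≠ 0) (hy : y ≠ 0), B x y = 0 → R (mk F x hx) (mk F y hy)) := by
      by_cases hb : B p q = 0
      · right
        intro x y hx hy hxy
        by_cases he : mk F x hx = mk F y hy
        · rw [he]; exact Rrefl _
        · exact transport hp hq hx hy hpq (indep hx hy he) (hb.trans hxy.symm) hR
      · left
        intro x y hx hy hxy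
        have hs : B p q / B x y ≠ 0 := div_ne_zero hb hxy
        have hsy : (B p q / B x y) • y ≠ 0 := smul_ne_zero hs hy
        have he : mk F ((B p q / B x y) • y) hsy = mk F y hy :=
          (mk_eq_mk_iff' F _ _ _ _).2 ⟨_, rfl⟩
        rw [← he]
        refine transport hp hq hx hsy hpq (indep hx hsy fun h => hxy ?_) (by simp [hxy]) hR
        rw [he, mk_eq_mk_iff'] at h
        obtain ⟨c, rfl⟩ := h
        simp [hA]
    refine ⟨fun P Q => ?_⟩
    induction P using Projectivization.ind with | _ x hx =>
    induction Q using Projectivization.ind with | _ y hy =>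
    rcases step1 with h1 | h1
    · have hperp : ∀ {z : V}, z ≠ 0 → z ∉ (⊥ : Submodule F V) := fun hz h => hz ((Submodule.mem_bot F).1 h)
      obtain ⟨u, -, hxu, hyu⟩ := exists_common_pair B hB ⊥ (hperp hx) (hperp hy)
      have hu : u ≠ 0 := fun h => hxu (by rw [h, map_zero])
      exact Rtrans (h1 x u hx hu hxu) (Rsymm (h1 y u hy hu hyu))
    · obtain ⟨u, hu, hu0⟩ : ∃ u ∈ LinearMap.ker (B x) ⊓ LinearMap.ker (B y), u ≠ 0 := by
        refine Submodule.exists_mem_ne_zero_of_ne_bot fun h => ?_
        have h2 := Submodule.finrank_sup_add_finrank_inf_eq (LinearMap.ker (B x)) (LinearMap.ker (B y))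
        rw [h, finrank_bot] at h2
        have h3 := (B x).finrank_range_add_finrank_ker
        have h3' := (B y).finrank_range_add_finrank_ker
        have h4' := Submodule.finrank_le (LinearMap.range (B x))
        have h4'' := Submodule.finrank_le (LinearMap.range (B y))
        have h5 := Submodule.finrank_le (LinearMap.ker (B x) ⊔ LinearMap.ker (B y))
        rw [Module.finrank_self] at h4' h4''
        omega
      exact Rtrans (h1 x u hx hu0 (LinearMap.mem_ker.1 hu.1)) (Rsymm (h1 y u hy hu0 (LinearMap.mem_ker.1 hu.2)))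
  let T : ℙ F V → Subgroup (formIsoms B) := fun P =>
    { carrier := Set.range (altTv hA hB P.rep)
      mul_mem' := by rintro _ _ ⟨c, rfl⟩ ⟨d, rfl⟩; exact ⟨c + d, altTv_add hA hB _ c d⟩
      one_mem' := ⟨0, altTv_zero hA hB _⟩
      inv_mem' := by rintro _ ⟨c, rfl⟩; exact ⟨-c, (altTv_neg hA hB _ c).symm⟩ }
  have hT : ∀ (v : V) (hv : v ≠ 0), ∀ x, x ∈ T (mk F v hv) ↔ ∃ c, altTv hA hB v c = x := by
    intro v hv x
    obtain ⟨a, ha⟩ := (mk_eq_mk_iff' F _ _ (rep_nonzero (mk F v hv)) hv).1 (mk_rep _)
    have ha0 : a ≠ 0 := by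
      rintro rfl
      exact rep_nonzero (mk F v hv) (by rw [← ha, zero_smul])
    constructor
    · rintro ⟨c, rfl⟩
      exact ⟨a ^ 2 * c, by rw [← altTv_smul, ha]⟩
    · rintro ⟨c, rfl⟩
      refine ⟨c / a ^ 2, ?_⟩
      rw [← ha, altTv_smul, mul_div_cancel₀ _ (pow_ne_zero 2 ha0)]
  let w : MulAction.IwasawaStructure (formIsoms B) (ℙ F V) :=
    { T := T
      is_comm := fun P => ⟨⟨by
        rintro ⟨_, c, rfl⟩ ⟨_, d, rfl⟩
        refine Subtype.ext ?_
        show altTv hA hB _ c * altTv hA hB _ d = altTv hA hB _ d * altTv hA hB _ c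
        rw [← altTv_add, ← altTv_add, add_comm]⟩⟩
      is_conj := fun g P => by
        induction P using Projectivization.ind with | _ v hv =>
        ext x
        rw [Subgroup.mem_pointwise_smul_iff_inv_smul_mem, hpt, hT, hT]
        simp only [MulAut.smul_def, MulAut.inv_apply, MulAut.conj_symm_apply]
        refine exists_congr fun c => ?_
        rw [← altTv_conj hA hB g v c]
        constructor
        · rintro rfl; group
        · intro h; rw [h]; group
      is_generator := by
        rw [eq_top_iff]
        intro g _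
        have hg : g.1 ∈ Subgroup.closure (altTransvectionSet B) := by
          rw [← formIsoms_eq_closure_alt B hA hB]; exact g.2
        suffices ∀ t ∈ Subgroup.closure (altTransvectionSet B), ∀ ht : t ∈ formIsoms B,
            (⟨t, ht⟩ : formIsoms B) ∈ iSup T from this g.1 hg g.2
        intro t ht
        induction ht using Subgroup.closure_induction with
        | mem t ht =>
          intro ht'
          obtain ⟨p, c, hpc⟩ := ht
          rw [show (⟨t, ht'⟩ : formIsoms B) = altTv hA hB p c from
            formIsoms_ext fun x => (hpc x).trans (altTv_apply hA hB p c x).symm]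
          by_cases hp : p = 0
          · have : altTv hA hB p c = 1 := formIsoms_ext fun x => by simp [altTv_apply, hp]
            rw [this]; exact one_mem _
          · exact Subgroup.mem_iSup_of_mem (mk F p hp) ((hT p hp _).2 ⟨c, rfl⟩)
        | one => intro h1; exact one_mem _
        | mul a b ha hb iha ihb =>
          intro hab
          exact mul_mem (iha (altTransvectionSet_closure_le B hA ha))
            (ihb (altTransvectionSet_closure_le B hA hb))
        | inv a ha iha =>
          intro hab
          exact inv_mem (iha (altTransvectionSet_closure_le B hA ha)) }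
  exact top_le_iff.1 (hperf ▸ w.commutator_le N hfix)

/-- The central quotient of the isometry group of an alternating form is simple. -/
theorem isSimpleGroup_formIsoms_alt (h4 : 4 ≤ Module.finrank F V)
    (hperf : commutator (formIsoms B) = ⊤) :
    IsSimpleGroup (formIsoms B ⧸ Subgroup.center (formIsoms B)) := by
  have hfixc : ∀ g : formIsoms B, (∀ P : ℙ F V, g • P = P) → g ∈ Subgroup.center (formIsoms B) := by
    intro g hg
    obtain ⟨r, hr⟩ := LinearMap.exists_eq_smul_id_of_forall_notLinearIndependent
      (f := (g.1 : V →ₗ[F] V)) fun v => by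
        by_cases hv : v = 0
        · simp [hv, linearIndependent_fin2]
        · rw [LinearIndependent.pair_iff' hv]
          push Not
          have := hg (mk F v hv)
          exact (mk_eq_mk_iff' F _ _ _ _).1 this
    have hgr : ∀ v, g.1 v = r • v := fun v => LinearMap.congr_fun hr v
    refine Subgroup.mem_center_iff.2 fun h => formIsoms_ext fun v => ?_
    simp [hgr]
  have hne : Subgroup.center (formIsoms B) ≠ ⊤ := by
    intro hc
    have hbot : commutator (formIsoms B) = ⊥ := by
      rw [commutator_def, Subgroup.commutator_eq_bot_iff_le_centralizer,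
        show Subgroup.centralizer ((⊤ : Subgroup (formIsoms B)) : Set (formIsoms B)) =
          Subgroup.center (formIsoms B) by rw [Subgroup.coe_top, Subgroup.centralizer_univ], hc]
    have : Nontrivial V := Module.nontrivial_of_finrank_pos (R := F) (by omega)
    obtain ⟨p, hp⟩ := exists_ne (0 : V)
    have h1 : altTv hA hB p 1 = 1 := by
      rw [← Subgroup.mem_bot, ← hbot, hperf]; trivial
    obtain ⟨y, hy⟩ : ∃ y, B y p ≠ 0 := by
      by_contra h
      push Not at h
      exact hp (hB p fun y => by rw [alt_swap B hA y p, h, neg_zero])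
    have h2 := congrArg (fun t : formIsoms B => t.1 y) h1
    simp [altTv_apply, hy, hp] at h2
  have : Nontrivial (formIsoms B ⧸ Subgroup.center (formIsoms B)) :=
    QuotientGroup.nontrivial_iff.2 hne
  refine IsSimpleGroup.mk fun K hK => ?_
  rcases normal_formIsoms_alt hA hB h4 hperf
    (K.comap (QuotientGroup.mk' (Subgroup.center (formIsoms B)))) with h | h
  · right
    rw [← Subgroup.map_comap_eq_self_of_surjective (QuotientGroup.mk'_surjective _) K, h]
    exact Subgroup.map_top_of_surjective _ (QuotientGroup.mk'_surjective _)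
  · left
    rw [eq_bot_iff]
    intro x hx
    obtain ⟨g, rfl⟩ := QuotientGroup.mk'_surjective _ x
    rw [Subgroup.mem_bot, QuotientGroup.mk'_apply, QuotientGroup.eq_one_iff]
    exact hfixc g (h g hx)

end CfsgLib.Classical
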