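import Mathlib
import Cfsg.Prelude.Def_Classical
import Cfsg.Agent.Lib.Geom.Symp
import Cfsg.Agent.Lib.Classical.AltSimple

/-!
Perfectness of `Sp_2m(q)` and simplicity of `PSp_2m(q)`.
-/

set_option autoImplicit false

namespace CfsgLib.Classical

open CfsgLib.Geom

variable {F : Type*} [Field F] [Fintype F]

theorem exists_sq_ne_one_of_four_le (h : 4 ≤ Fintype.card F) : ∃ s : F, s ≠ 0 ∧ s ^ 2 ≠ 1 := by
  obtain ⟨g, hg⟩ := IsCyclic.exists_generator (α := Fˣ)
  refine ⟨g, g.ne_zero, fun h2 => ?_⟩
  have := orderOf_le_of_pow_eq_one two_pos (Units.ext (by simpa using h2) : g ^ 2 = 1)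
  rw [orderOf_eq_card_of_forall_mem_zpowers hg, Nat.card_units, Nat.card_eq_fintype_card] at this
  omega

theorem two_ne_zero_of_card_three (h : Fintype.card F = 3) : (2 : F) ≠ 0 :=
  fun h2 => by
    have : CharP F 2 := CharTwo.of_one_ne_zero_of_two_eq_zero one_ne_zero h2
    obtain ⟨k, -, hk⟩ := FiniteField.card F 2
    rw [h] at hk
    have : (2 : ℕ) ∣ 3 := hk ▸ dvd_pow_self 2 k.ne_zero
    omega

theorem finrank_sympSpace (m : ℕ) : Module.finrank F (Fin m ⊕ Fin m → F) = 2 * m := by
  rw [Module.finrank_fintype_fun_eq_card, Fintype.card_sum, Fintype.card_fin]; ring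

theorem commutator_formIsoms_symp (m : ℕ)
    (h : 3 ≤ m ∨ (m = 2 ∧ 3 ≤ Fintype.card F) ∨ 4 ≤ Fintype.card F) :
    commutator (formIsoms (sympBilin m F)) = ⊤ := by
  refine commutator_formIsoms_alt_eq_top sympBilin_self sympBilin_sep ?_
  rcases h with h | ⟨rfl, h⟩ | h
  · exact Or.inr (Or.inr (by rw [finrank_sympSpace]; omega))
  · rcases (show Fintype.card F = 3 ∨ 4 ≤ Fintype.card F by omega) with h3 | h4
    · exact Or.inr (Or.inl ⟨by rw [finrank_sympSpace], two_ne_zero_of_card_three h3⟩)
    · exact Or.inl (exists_sq_ne_one_of_four_le h4)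
  · exact Or.inl (exists_sq_ne_one_of_four_le h)

theorem commutator_symplecticGroup (m : ℕ)
    (h : 3 ≤ m ∨ (m = 2 ∧ 3 ≤ Fintype.card F) ∨ 4 ≤ Fintype.card F) :
    commutator (Matrix.symplecticGroup (Fin m) F) = ⊤ := by
  have e := spEquiv m F
  rw [commutator_def, ← Subgroup.map_top_of_surjective e.toMonoidHom e.surjective,
    ← Subgroup.map_commutator, ← commutator_def, commutator_formIsoms_symp m h]

theorem isSimpleGroup_psp (m : ℕ) (hm : 2 ≤ m) (h : m = 2 → 3 ≤ Fintype.card F) :
    IsSimpleGroup (Cfsg.PSp m F) := by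
  have hs := isSimpleGroup_formIsoms_alt (F := F) (sympBilin_self (m := m)) sympBilin_sep
    (by rw [finrank_sympSpace]; omega)
    (commutator_formIsoms_symp m (by rcases (show m = 2 ∨ 3 ≤ m by omega) with h2 | h3
                                     · exact Or.inr (Or.inl ⟨h2, h h2⟩)
                                     · exact Or.inl h3))
  let e := spEquiv m F
  exact (QuotientGroup.congr (Subgroup.center (formIsoms (sympBilin m F)))
    (Subgroup.center (Matrix.symplecticGroup (Fin m) F)) e (by
      ext x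
      simp only [Subgroup.mem_map, Subgroup.mem_center_iff]
      constructor
      · rintro ⟨y, hy, rfl⟩ g
        obtain ⟨g, rfl⟩ := e.surjective g
        exact (map_mul e g y).symm.trans ((congrArg e (hy g)).trans (map_mul e y g))
      · intro hx
        obtain ⟨y, rfl⟩ := e.surjective x
        exact ⟨y, fun g => e.injective (by rw [map_mul, map_mul, hx]), rfl⟩)).symm.isSimpleGroup

end CfsgLib.Classical
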