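import Mathlib
import Cfsg.Agent.Lib.Classical.ExcIso
import Cfsg.Agent.Lib.Classical.SLTwoSylow
import Cfsg.Agent.Lib.Classical.SpSimple

/-!
`PΩ_3(q) ≅ PSL_2(q)` (odd `q`) and `PΩ⁺_4(q) ≅ PSL_2(q) × PSL_2(q)`.
-/

set_option autoImplicit false

namespace CfsgLib.Classical

open Matrix CfsgLib.Geom
open scoped MatrixGroups commutatorElement

variable {F : Type*} [Field F] [Fintype F]

omit [Fintype F] in
theorem transv_pow {ι : Type*} [Fintype ι] [DecidableEq ι] {i j : ι} (hij : i ≠ j) (c : F) (k : ℕ) :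
    (Matrix.SpecialLinearGroup.transvection hij c) ^ k =
      Matrix.SpecialLinearGroup.transvection hij ((k : F) * c) := by
  induction k with
  | zero => rw [pow_zero, Nat.cast_zero, zero_mul, Matrix.SpecialLinearGroup.transvection_coeff_zero]
  | succ k ih =>
    rw [pow_succ, ih, ← Matrix.SpecialLinearGroup.transvection_add, Nat.cast_succ, add_one_mul]

/-- In odd characteristic a homomorphism of `SL` into a group maps into every normal subgroup of index four. -/
theorem range_le_of_index_four {ι : Type*} [Fintype ι] [DecidableEq ι] {G : Type*} [Group G]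
    (N : Subgroup G) [N.Normal] (hN : N.index = 4) (hodd : Odd (Fintype.card F))
    (f : Matrix.SpecialLinearGroup ι F →* G) : f.range ≤ N := by
  have h : N.comap f = ⊤ := by
    refine sl_transvection_induction _ fun i j hij c => ?_
    rw [Subgroup.mem_comap]
    set t := Matrix.SpecialLinearGroup.transvection hij c with ht
    have h1 : t ^ Fintype.card F = 1 := by
      rw [ht, transv_pow, Nat.cast_card_eq_zero, zero_mul,
        Matrix.SpecialLinearGroup.transvection_coeff_zero]
    have h2 : (QuotientGroup.mk' N (f t)) ^ Fintype.card F = 1 := by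
      rw [← map_pow, ← map_pow, h1, map_one, map_one]
    have h3 : (QuotientGroup.mk' N (f t)) ^ 4 = 1 := by
      rw [← map_pow, QuotientGroup.mk'_apply, QuotientGroup.eq_one_iff, ← hN]
      exact Subgroup.pow_index_mem N _
    have h4 : Nat.Coprime (Fintype.card F) 4 :=
      Nat.Coprime.pow_right 2 (Nat.coprime_two_right.2 hodd)
    have h5 := pow_gcd_eq_one.2 ⟨h2, h3⟩
    rw [h4.gcd_eq_one, pow_one, QuotientGroup.mk'_apply, QuotientGroup.eq_one_iff] at h5
    exact h5
  rintro _ ⟨x, rfl⟩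
  exact (h ▸ Subgroup.mem_top x : x ∈ N.comap f)

omit [Fintype F] in
theorem scalar_of_commute_singles {g : Matrix (Fin 2) (Fin 2) F}
    (h1 : g * !![0, 1; 0, 0] = !![0, 1; 0, 0] * g) (h2 : g * !![0, 0; 1, 0] = !![0, 0; 1, 0] * g) :
    g = g 0 0 • (1 : Matrix (Fin 2) (Fin 2) F) := by
  have a := congrFun (congrFun h1 0) 0
  have b := congrFun (congrFun h1 0) 1
  have c := congrFun (congrFun h2 0) 0
  simp [Matrix.mul_apply, Fin.sum_univ_two] at a b c
  ext i j
  fin_cases i <;> fin_cases j <;> simp [← a, b, c]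

omit [Fintype F] in
theorem mem_center_of_eq_smul {ι : Type*} [Fintype ι] [DecidableEq ι] {g : Matrix.SpecialLinearGroup ι F}
    {r : F} (h : (g : Matrix ι ι F) = r • (1 : Matrix ι ι F)) :
    g ∈ Subgroup.center (Matrix.SpecialLinearGroup ι F) :=
  Subgroup.mem_center_iff.2 fun x => Subtype.ext (by
    simp [Matrix.SpecialLinearGroup.coe_mul, h, smul_mul_assoc, mul_smul_comm])

omit [Fintype F] in
theorem trace_sl_conj (g : SL(2, F)) (M : Matrix (Fin 2) (Fin 2) F) :
    ((g : Matrix (Fin 2) (Fin 2) F) * (M * ((g⁻¹ : SL(2, F)) : Matrix (Fin 2) (Fin 2) F))).trace =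
      M.trace := by
  rw [Matrix.trace_mul_comm, mul_assoc, ← Matrix.SpecialLinearGroup.coe_mul, inv_mul_cancel,
    Matrix.SpecialLinearGroup.coe_one, mul_one]

omit [Fintype F] in
/-- Trace-zero matrices as vectors for `x² + yz`. -/
def tzMat : (Unit ⊕ (Fin 1 ⊕ Fin 1) → F) →ₗ[F] Matrix (Fin 2) (Fin 2) F where
  toFun v := !![v (.inl ()), v (.inr (.inl 0)); v (.inr (.inr 0)), -v (.inl ())]
  map_add' v w := by
    ext i j
    fin_cases i <;> fin_cases j <;> simp <;> ring
  map_smul' c v := by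
    ext i j
    fin_cases i <;> fin_cases j <;> simp

omit [Fintype F] in
/-- Coordinates of a trace-zero matrix. -/
def tzCoord : Matrix (Fin 2) (Fin 2) F →ₗ[F] (Unit ⊕ (Fin 1 ⊕ Fin 1) → F) where
  toFun M := Sum.elim (fun _ => M 0 0) (Sum.elim (fun _ => M 0 1) (fun _ => M 1 0))
  map_add' M N := by
    ext (u | i | i) <;> simp
  map_smul' c M := by
    ext (u | i | i) <;> simp

omit [Fintype F] in
theorem tzMat_coord {M : Matrix (Fin 2) (Fin 2) F} (h : M.trace = 0) : tzMat (tzCoord M) = M := by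
  rw [Matrix.trace_fin_two] at h
  ext i j
  fin_cases i <;> fin_cases j <;> simp [tzMat, tzCoord]
  linear_combination -h

omit [Fintype F] in
theorem tzCoord_mat (v : Unit ⊕ (Fin 1 ⊕ Fin 1) → F) : tzCoord (tzMat v) = v := by
  ext (u | i | i)
  · simp [tzMat, tzCoord]
  · fin_cases i; simp [tzMat, tzCoord]
  · fin_cases i; simp [tzMat, tzCoord]

omit [Fintype F] in
theorem trace_tzMat (v : Unit ⊕ (Fin 1 ⊕ Fin 1) → F) : (tzMat v).trace = 0 := by
  simp [tzMat, Matrix.trace_fin_two]

omit [Fintype F] in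
theorem qfOdd_one_eq (v : Unit ⊕ (Fin 1 ⊕ Fin 1) → F) : qfOdd 1 F v = -(tzMat v).det := by
  simp [qfOdd_apply, Cfsg.quadFormOdd, tzMat, Matrix.det_fin_two_of]
  ring

/-- `SL_2` on trace-zero matrices. -/
noncomputable def slTwoOdd : SL(2, F) →* quadIsoms (qfOdd 1 F) :=
  quadHom (qfOdd 1 F)
    (fun g => tzCoord ∘ₗ LinearMap.mulLeft F (g : Matrix (Fin 2) (Fin 2) F) ∘ₗ
      LinearMap.mulRight F ((g⁻¹ : SL(2, F)) : Matrix (Fin 2) (Fin 2) F) ∘ₗ tzMat)
    (fun v => by simp [tzCoord_mat])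
    (fun g h v => by
      simp only [LinearMap.comp_apply, LinearMap.mulLeft_apply, LinearMap.mulRight_apply]
      rw [tzMat_coord, _root_.mul_inv_rev, Matrix.SpecialLinearGroup.coe_mul, Matrix.SpecialLinearGroup.coe_mul]
      · simp only [mul_assoc]
      · rw [trace_sl_conj, trace_tzMat])
    (fun g v => by
      simp only [LinearMap.comp_apply, LinearMap.mulLeft_apply, LinearMap.mulRight_apply]
      rw [qfOdd_one_eq, qfOdd_one_eq, tzMat_coord]
      · simp [Matrix.det_mul, Matrix.det_adjugate]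
      · rw [trace_sl_conj, trace_tzMat])

theorem pOmega_three (hodd : Odd (Fintype.card F)) :
    Nonempty (Cfsg.POmega F (Cfsg.quadFormOdd 1 F) ≃* Matrix.ProjectiveSpecialLinearGroup (Fin 2) F) := by
  have h2 := two_ne_zero_of_odd (F := F) hodd
  rw [← qfOdd_coe]
  have hker : (slTwoOdd (F := F)).ker ≤ Subgroup.center SL(2, F) := by
    intro g hg
    have hfix : ∀ M : Matrix (Fin 2) (Fin 2) F, M.trace = 0 →
        (g : Matrix (Fin 2) (Fin 2) F) * M = M * (g : Matrix (Fin 2) (Fin 2) F) := by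
      intro M hM
      have h := congrArg (fun k : quadIsoms (qfOdd 1 F) => tzMat (k.1 (tzCoord M))) (MonoidHom.mem_ker.1 hg)
      simp only [slTwoOdd, quadHom_apply, LinearMap.comp_apply, LinearMap.mulLeft_apply,
        LinearMap.mulRight_apply, tzMat_coord hM, Subgroup.coe_one, LinearEquiv.coe_one, id_eq] at h
      rw [tzMat_coord (by rw [trace_sl_conj, hM])] at h
      conv_rhs => rw [← h]
      rw [mul_assoc, mul_assoc, ← Matrix.SpecialLinearGroup.coe_mul, inv_mul_cancel,
        Matrix.SpecialLinearGroup.coe_one, mul_one]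
    exact mem_center_of_eq_smul (scalar_of_commute_singles (hfix _ (by simp [Matrix.trace_fin_two]))
      (hfix _ (by simp [Matrix.trace_fin_two])))
  refine pOmega_equiv_of_hom (qfOdd 1 F) slTwoOdd hker mem_center_sl_of_commutator ?_ (c := 2) ?_ ?_
  · have hidx := omega_index_odd (qfOdd 1 F) (qfOdd_sep h2 1) h2 (by simp)
    exact range_le_of_index_four (commutator _) ((commutator_quadIsoms_index _).trans hidx) hodd _
  · refine le_trans (Subgroup.card_le_of_le hker) ?_
    rw [card_center_sl, Fintype.card_fin]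
    exact Nat.le_of_dvd (by norm_num) (Nat.gcd_dvd_left _ _)
  · rw [omega_index_odd (qfOdd 1 F) (qfOdd_sep h2 1) h2 (by simp), card_qfOdd_isoms h2, card_sl_two_eq]
    simp
    ring_nf
    rfl

omit [Fintype F] in
/-- All matrices as vectors for `x₁y₁ + x₂y₂`. -/
def mMat : (Fin 2 ⊕ Fin 2 → F) →ₗ[F] Matrix (Fin 2) (Fin 2) F where
  toFun v := !![v (.inl 0), v (.inl 1); -v (.inr 1), v (.inr 0)]
  map_add' v w := by
    ext i j
    fin_cases i <;> fin_cases j <;> simp <;> ring
  map_smul' c v := by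
    ext i j
    fin_cases i <;> fin_cases j <;> simp

omit [Fintype F] in
/-- Coordinates of a matrix. -/
def mCoord : Matrix (Fin 2) (Fin 2) F →ₗ[F] (Fin 2 ⊕ Fin 2 → F) where
  toFun M := Sum.elim ![M 0 0, M 0 1] ![M 1 1, -M 1 0]
  map_add' M N := by
    ext (i | i) <;> fin_cases i <;> simp <;> ring
  map_smul' c M := by
    ext (i | i) <;> fin_cases i <;> simp

omit [Fintype F] in
theorem mMat_coord (M : Matrix (Fin 2) (Fin 2) F) : mMat (mCoord M) = M := by
  ext i j
  fin_cases i <;> fin_cases j <;> simp [mMat, mCoord]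

omit [Fintype F] in
theorem mCoord_mat (v : Fin 2 ⊕ Fin 2 → F) : mCoord (mMat v) = v := by
  ext (i | i) <;> fin_cases i <;> simp [mMat, mCoord]

omit [Fintype F] in
theorem qfPlus_two_eq (v : Fin 2 ⊕ Fin 2 → F) : qfPlus 2 F v = (mMat v).det := by
  simp [qfPlus_apply, Cfsg.quadFormPlus, mMat, Matrix.det_fin_two_of, Fin.sum_univ_two]

/-- `SL_2 × SL_2` on matrices. -/
noncomputable def slTwoPlus : SL(2, F) × SL(2, F) →* quadIsoms (qfPlus 2 F) :=
  quadHom (qfPlus 2 F)
    (fun g => mCoord ∘ₗ LinearMap.mulLeft F (g.1 : Matrix (Fin 2) (Fin 2) F) ∘ₗ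
      LinearMap.mulRight F ((g.2⁻¹ : SL(2, F)) : Matrix (Fin 2) (Fin 2) F) ∘ₗ mMat)
    (fun v => by simp [mCoord_mat])
    (fun g h v => by
      simp only [LinearMap.comp_apply, LinearMap.mulLeft_apply, LinearMap.mulRight_apply, Prod.fst_mul,
        Prod.snd_mul, mMat_coord, _root_.mul_inv_rev, Matrix.SpecialLinearGroup.coe_mul, mul_assoc])
    (fun g v => by
      simp [qfPlus_two_eq, mMat_coord, Matrix.det_mul, Matrix.det_adjugate])

theorem pOmega_plus_four (hq : 3 ≤ Fintype.card F) :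
    Nonempty (Cfsg.POmega F (Cfsg.quadFormPlus 2 F) ≃* Matrix.ProjectiveSpecialLinearGroup (Fin 2) F ×
      Matrix.ProjectiveSpecialLinearGroup (Fin 2) F) := by
  rw [← qfPlus_coe]
  have hQ := qfPlus_sep (F := F) 2
  have hex : (∃ t : F, t ≠ 0 ∧ t ≠ 1) ∨ Module.finrank F (Fin 2 ⊕ Fin 2 → F) ≠ 4 :=
    exGen_of_card (Or.inl (by omega))
  have hker : ∀ g : SL(2, F) × SL(2, F), slTwoPlus g = 1 →
      g.2 = g.1 ∧ g.1 ∈ Subgroup.center SL(2, F) := by
    intro g hg
    have hfix : ∀ M : Matrix (Fin 2) (Fin 2) F,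
        (g.1 : Matrix (Fin 2) (Fin 2) F) * M = M * (g.2 : Matrix (Fin 2) (Fin 2) F) := by
      intro M
      have h := congrArg (fun k : quadIsoms (qfPlus 2 F) => mMat (k.1 (mCoord M))) hg
      simp only [slTwoPlus, quadHom_apply, LinearMap.comp_apply, LinearMap.mulLeft_apply,
        LinearMap.mulRight_apply, mMat_coord, Subgroup.coe_one, LinearEquiv.coe_one, id_eq] at h
      conv_rhs => rw [← h]
      rw [mul_assoc, mul_assoc, ← Matrix.SpecialLinearGroup.coe_mul, inv_mul_cancel,
        Matrix.SpecialLinearGroup.coe_one, mul_one]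
    have he : g.2 = g.1 := Subtype.ext (by simpa using (hfix 1).symm)
    refine ⟨he, mem_center_of_eq_smul (scalar_of_commute_singles ?_ ?_)⟩
    · have := hfix !![0, 1; 0, 0]; rwa [he] at this
    · have := hfix !![0, 0; 1, 0]; rwa [he] at this
  have hcen : (slTwoPlus (F := F)).ker ≤ Subgroup.center (SL(2, F) × SL(2, F)) := by
    intro g hg
    obtain ⟨h1, h2⟩ := hker g hg
    rw [Subgroup.center_prod]
    exact ⟨h2, h1 ▸ h2⟩
  have htriv : ∀ x : SL(2, F) × SL(2, F), (∀ h, ⁅x, h⁆ ∈ Subgroup.center (SL(2, F) × SL(2, F))) →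
      x ∈ Subgroup.center (SL(2, F) × SL(2, F)) := by
    intro x hx
    simp only [Subgroup.center_prod, Subgroup.mem_prod] at hx ⊢
    exact ⟨mem_center_sl_of_commutator x.1 fun h => (hx (h, 1)).1,
      mem_center_sl_of_commutator x.2 fun h => (hx (1, h)).2⟩
  have hc : Nat.card (slTwoPlus (F := F)).ker ≤ Nat.gcd 2 (Fintype.card F - 1) := by
    have hz := card_center_sl (ι := Fin 2) (F := F)
    rw [Fintype.card_fin] at hz
    rw [← hz]
    exact Nat.card_le_card_of_injective (fun g => ⟨g.1.1, (hker g.1 g.2).2⟩) fun a b h => by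
      have h1 : a.1.1 = b.1.1 := congrArg Subtype.val h
      exact Subtype.ext (Prod.ext h1 ((hker a.1 a.2).1.trans (h1.trans (hker b.1 b.2).1.symm)))
  have hO : Nat.card (quadIsoms (qfPlus 2 F)) = 2 * (Fintype.card F * (Fintype.card F ^ 2 - 1)) ^ 2 := by
    rw [card_qfPlus_isoms 1, Finset.prod_range_one]
    ring
  have hH : Nat.card (SL(2, F) × SL(2, F)) = (Fintype.card F * (Fintype.card F ^ 2 - 1)) ^ 2 := by
    rw [Nat.card_prod, card_sl_two_eq]; ring
  have main : Nonempty (Cfsg.POmega F (⇑(qfPlus 2 F)) ≃*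
      (SL(2, F) × SL(2, F)) ⧸ Subgroup.center (SL(2, F) × SL(2, F))) := by
    by_cases h2 : (2 : F) = 0
    · have h4 : 4 ≤ Fintype.card F := by
        have he : ¬ Odd (Fintype.card F) := fun ho => two_ne_zero_of_odd (F := F) ho h2
        rw [Nat.not_odd_iff_even, Nat.even_iff] at he
        omega
      refine pOmega_equiv_of_hom (qfPlus 2 F) slTwoPlus hcen htriv ?_ (c := 1) (hc.trans ?_) ?_
      · refine commutator_eq_range_le _ ?_
        obtain ⟨x, hx, hx2⟩ := exists_sq_ne_one_of_four_le (F := F) h4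
        have h0 := Matrix.SL2.commutator_eq_top hx hx2
        rw [commutator_def, ← Subgroup.top_prod_top, Subgroup.commutator_prod_prod, ← commutator_def, h0]
      · have he : ¬ Odd (Fintype.card F) := fun ho => two_ne_zero_of_odd (F := F) ho h2
        rw [Nat.not_odd_iff_even, Nat.even_iff] at he
        exact le_of_eq (Nat.coprime_two_left.2 (Nat.odd_iff.2 (by omega)))
      · rw [omega_index_even (qfPlus 2 F) hQ hex h2 (by simp), hO, hH]
        omega
    · have hodd : Odd (Fintype.card F) :=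
        Nat.odd_iff.2 (FiniteField.odd_card_of_char_ne_two (ringChar_ne_two_of_ne h2))
      refine pOmega_equiv_of_hom (qfPlus 2 F) slTwoPlus hcen htriv ?_ (c := 2)
        (hc.trans (Nat.le_of_dvd (by norm_num) (Nat.gcd_dvd_left _ _))) ?_
      · have hidx := omega_index_odd (qfPlus 2 F) hQ h2 (by simp)
        have hN := (commutator_quadIsoms_index (qfPlus 2 F)).trans hidx
        rintro _ ⟨⟨a, b⟩, rfl⟩
        rw [show ((a, b) : SL(2, F) × SL(2, F)) = (a, 1) * (1, b) by simp, map_mul]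
        exact mul_mem (range_le_of_index_four _ hN hodd (slTwoPlus.comp (MonoidHom.inl _ _)) ⟨a, rfl⟩)
          (range_le_of_index_four _ hN hodd (slTwoPlus.comp (MonoidHom.inr _ _)) ⟨b, rfl⟩)
      · rw [omega_index_odd (qfPlus 2 F) hQ h2 (by simp), hO, hH]
        omega
  obtain ⟨e⟩ := main
  let π : SL(2, F) × SL(2, F) →* Matrix.ProjectiveSpecialLinearGroup (Fin 2) F ×
      Matrix.ProjectiveSpecialLinearGroup (Fin 2) F :=
    (QuotientGroup.mk' (Subgroup.center SL(2, F))).prodMap (QuotientGroup.mk' (Subgroup.center SL(2, F)))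
  have hπ : Function.Surjective π :=
    (QuotientGroup.mk'_surjective _).prodMap (QuotientGroup.mk'_surjective _)
  have hπk : π.ker = Subgroup.center (SL(2, F) × SL(2, F)) := by
    rw [MonoidHom.ker_prodMap, QuotientGroup.ker_mk', Subgroup.center_prod]
  exact ⟨e.trans ((QuotientGroup.quotientMulEquivOfEq hπk.symm).trans
    (QuotientGroup.quotientKerEquivOfSurjective π hπ))⟩

end CfsgLib.Classical
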