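import Mathlib
import Cfsg.Prelude.Def_Classical

/-!
The involution `x ↦ x ^ q` of a field of order `q²` and counting values of the standard Hermitian form.
-/

set_option autoImplicit false

namespace CfsgLib.Classical

variable {F : Type*} [Field F] [Fintype F] {q : ℕ}

theorem two_le_of_card_sq (hF : Fintype.card F = q ^ 2) : 2 ≤ q := by
  by_contra h
  have := Fintype.one_lt_card (α := F)
  rw [hF] at this
  have h' : q ^ 2 ≤ 1 ^ 2 := Nat.pow_le_pow_left (by omega) 2
  omega

theorem exists_qFrob (hF : Fintype.card F = q ^ 2) : ∃ σ : F →+* F, ∀ x, σ x = x ^ q := by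
  obtain ⟨p, hchar⟩ := CharP.exists F
  obtain ⟨N, hp, hcard⟩ := FiniteField.card F p
  obtain ⟨k, -, hk⟩ := (Nat.dvd_prime_pow hp).1
    (show q ∣ p ^ (N : ℕ) by rw [← hcard, hF, sq]; exact dvd_mul_right q q)
  haveI := Fact.mk hp
  haveI : CharP F p := hchar
  exact ⟨iterateFrobenius F p k, fun x => by rw [iterateFrobenius_def, hk]⟩

/-- The field involution `x ↦ x ^ q`. -/
noncomputable def qFrob (hF : Fintype.card F = q ^ 2) : F →+* F := (exists_qFrob hF).choose

theorem qFrob_apply (hF : Fintype.card F = q ^ 2) (x : F) : qFrob hF x = x ^ q :=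
  (exists_qFrob hF).choose_spec x

theorem qFrob_qFrob (hF : Fintype.card F = q ^ 2) (x : F) : qFrob hF (qFrob hF x) = x := by
  rw [qFrob_apply, qFrob_apply, ← pow_mul, ← sq, ← hF, FiniteField.pow_card]

theorem units_card_sq (hF : Fintype.card F = q ^ 2) : Nat.card Fˣ = (q - 1) * (q + 1) := by
  rw [Nat.card_units, Nat.card_eq_fintype_card, hF, mul_comm]
  exact (by simpa [sq] using Nat.sq_sub_sq q 1)

/-- The norm `x ↦ x ^ (q + 1)` has fibres of size `q + 1` over the non-zero fixed elements. -/
theorem card_norm_fibre (hF : Fintype.card F = q ^ 2) {t : F} (ht : t ≠ 0) (htq : t ^ q = t) :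
    Nat.card {x : F // x ^ (q + 1) = t} = q + 1 := by
  have hq := two_le_of_card_sq hF
  have hk : Nat.card (powMonoidHom (q + 1) : Fˣ →* Fˣ).ker = q + 1 := by
    rw [IsCyclic.card_powMonoidHom_ker, units_card_sq hF, mul_comm, Nat.gcd_mul_right_left]
  obtain ⟨g, hg⟩ := IsCyclic.exists_generator (α := Fˣ)
  obtain ⟨k, hk'⟩ := (Submonoid.mem_powers_iff _ _).1
    (mem_powers_iff_mem_zpowers.2 (hg (Units.mk0 t ht)))
  have hord : orderOf g = (q - 1) * (q + 1) := by
    rw [orderOf_eq_card_of_forall_mem_zpowers hg, units_card_sq hF]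
  have hdvd : q + 1 ∣ k := by
    have h1 : (Units.mk0 t ht) ^ (q - 1) = 1 := by
      refine Units.ext (mul_right_cancel₀ ht ?_)
      simp only [Units.val_pow_eq_pow_val, Units.val_mk0, Units.val_one, one_mul, ← pow_succ]
      rw [show q - 1 + 1 = q by omega, htq]
    rw [← hk', ← pow_mul, ← orderOf_dvd_iff_pow_eq_one, hord, mul_comm k] at h1
    exact Nat.dvd_of_mul_dvd_mul_left (by omega) h1
  obtain ⟨j, rfl⟩ := hdvd
  have hx0 : (g ^ j) ^ (q + 1) = Units.mk0 t ht := by rw [← hk', ← pow_mul, mul_comm]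
  have e : {x : F // x ^ (q + 1) = t} ≃ (powMonoidHom (q + 1) : Fˣ →* Fˣ).ker :=
    { toFun := fun x => ⟨Units.mk0 x.1 (fun h => ht (by rw [← x.2, h]; simp)) * (g ^ j)⁻¹, by
        rw [MonoidHom.mem_ker, powMonoidHom_apply, mul_pow, inv_pow, hx0, mul_inv_eq_one]
        exact Units.ext (by simp [x.2])⟩
      invFun := fun z => ⟨((z.1 * g ^ j : Fˣ) : F), by
        rw [← Units.val_pow_eq_pow_val, mul_pow,
          show z.1 ^ (q + 1) = 1 from (powMonoidHom_apply (q + 1) z.1).symm.trans (MonoidHom.mem_ker.1 z.2),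
          one_mul, hx0]; simp⟩
      left_inv := fun x => Subtype.ext (by simp)
      right_inv := fun z => Subtype.ext (Units.ext (by simp)) }
  rw [Nat.card_congr e, hk]

theorem hermForm_self (n : ℕ) (v : Fin n → F) :
    Cfsg.hermForm n F q v v = ∑ i, v i ^ (q + 1) := by
  simp [Cfsg.hermForm, pow_succ, mul_comm]

theorem hermForm_self_fixed (hF : Fintype.card F = q ^ 2) (n : ℕ) (v : Fin n → F) :
    (Cfsg.hermForm n F q v v) ^ q = Cfsg.hermForm n F q v v := by
  rw [← qFrob_apply hF, hermForm_self, map_sum]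
  refine Finset.sum_congr rfl fun i _ => ?_
  rw [qFrob_apply, ← pow_mul, show (q + 1) * q = q ^ 2 + q by ring, pow_add, ← hF,
    FiniteField.pow_card, ← pow_succ']

/-- The zeros of the standard Hermitian form, in `ℤ`. -/
theorem card_herm_zero_int (hF : Fintype.card F = q ^ 2) (n : ℕ) :
    (q : ℤ) * (Nat.card {v : Fin n → F // Cfsg.hermForm n F q v v = 0} : ℤ) =
      (q : ℤ) ^ (2 * n) + (-1) ^ n * ((q : ℤ) ^ (n + 1) - (q : ℤ) ^ n) := by
  induction n with
  | zero =>
    rw [Nat.card_eq_one_iff_unique.2 ⟨(⟨fun a b => Subtype.ext (funext fun i => Fin.elim0 i)⟩ :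
      Subsingleton {v : Fin 0 → F // Cfsg.hermForm 0 F q v v = 0}),
      ⟨⟨0, by simp [hermForm_self]⟩⟩⟩]
    simp
  | succ n ih =>
    classical
    have e : {v : Fin (n + 1) → F // Cfsg.hermForm (n + 1) F q v v = 0} ≃
        Σ w : Fin n → F, {x : F // x ^ (q + 1) = -Cfsg.hermForm n F q w w} :=
      { toFun := fun v => ⟨fun i => v.1 i.succ, v.1 0, by
          have := v.2
          rw [hermForm_self, Fin.sum_univ_succ] at this
          rw [hermForm_self]; linear_combination this⟩
        invFun := fun s => ⟨Fin.cons s.2.1 s.1, by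
          rw [hermForm_self, Fin.sum_univ_succ]
          simp only [Fin.cons_zero, Fin.cons_succ]
          rw [s.2.2, hermForm_self]; ring⟩
        left_inv := fun v => Subtype.ext (Fin.cons_self_tail v.1)
        right_inv := fun s => Sigma.subtype_ext (funext fun i => by simp) (by simp) }
    have hfib : ∀ w : Fin n → F,
        (Nat.card {x : F // x ^ (q + 1) = -Cfsg.hermForm n F q w w} : ℤ) =
          (q + 1 : ℤ) - (if Cfsg.hermForm n F q w w = 0 then (q : ℤ) else 0) := by
      intro w
      split_ifs with h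
      · rw [Nat.card_eq_one_iff_unique.2 ⟨⟨fun a b => Subtype.ext ?_⟩, ⟨⟨0, by simp [h]⟩⟩⟩]
        · simp
        · have ha := a.2; have hb := b.2
          simp [h] at ha hb
          rw [ha, hb]
      · rw [card_norm_fibre hF (neg_ne_zero.2 h)]
        · simp
        · rw [← qFrob_apply hF, map_neg, qFrob_apply, hermForm_self_fixed hF]
    rw [Nat.card_congr e, Nat.card_sigma, Nat.cast_sum, Finset.sum_congr rfl (fun w _ => hfib w),
      Finset.sum_sub_distrib, Finset.sum_const, Finset.sum_ite, Finset.sum_const_zero, add_zero,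
      Finset.sum_const, nsmul_eq_mul, nsmul_eq_mul, Finset.card_univ, Fintype.card_fun,
      Fintype.card_fin, hF, ← Fintype.card_subtype, ← Nat.card_eq_fintype_card]
    push_cast
    linear_combination (-(q : ℤ)) * ih

theorem card_herm_level_int (hF : Fintype.card F = q ^ 2) (n : ℕ) :
    ((q : ℤ) - 1) * (Nat.card {v : Fin n → F // Cfsg.hermForm n F q v v = 1} : ℤ) +
      (Nat.card {v : Fin n → F // Cfsg.hermForm n F q v v = 0} : ℤ) = (q : ℤ) ^ (2 * n) := by
  classical
  have hq := two_le_of_card_sq hF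
  -- scaling identifies all non-zero levels
  have hlevel : ∀ t : F, t ≠ 0 → t ^ q = t →
      Nat.card {v : Fin n → F // Cfsg.hermForm n F q v v = t} =
        Nat.card {v : Fin n → F // Cfsg.hermForm n F q v v = 1} := by
    intro t ht htq
    obtain ⟨⟨a, ha⟩⟩ := (Nat.card_pos_iff.1
      (show 0 < Nat.card {x : F // x ^ (q + 1) = t} by rw [card_norm_fibre hF ht htq]; omega)).1
    have ha0 : a ≠ 0 := by rintro rfl; exact ht (by rw [← ha]; simp)
    have hs : ∀ (b : F) (v : Fin n → F),
        Cfsg.hermForm n F q (b • v) (b • v) = b ^ (q + 1) * Cfsg.hermForm n F q v v := fun b v => by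
      simp [hermForm_self, mul_pow, Finset.mul_sum]
    refine Nat.card_congr
      { toFun := fun v => ⟨a⁻¹ • v.1, by rw [hs, v.2, inv_pow, ha, inv_mul_cancel₀ ht]⟩
        invFun := fun v => ⟨a • v.1, by rw [hs, v.2, ha, mul_one]⟩
        left_inv := fun v => Subtype.ext (by simp [smul_smul, ha0])
        right_inv := fun v => Subtype.ext (by simp [smul_smul, ha0]) }
  -- the fixed elements
  have hfix : Nat.card {t : F // t ≠ 0 ∧ t ^ q = t} = q - 1 := by
    have e : {t : F // t ≠ 0 ∧ t ^ q = t} ≃ (powMonoidHom (q - 1) : Fˣ →* Fˣ).ker :=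
      { toFun := fun t => ⟨Units.mk0 t.1 t.2.1, by
          rw [MonoidHom.mem_ker, powMonoidHom_apply]
          refine Units.ext (mul_right_cancel₀ t.2.1 ?_)
          simp only [Units.val_pow_eq_pow_val, Units.val_mk0, Units.val_one, one_mul, ← pow_succ]
          rw [show q - 1 + 1 = q by omega, t.2.2]⟩
        invFun := fun u => ⟨(u.1 : F), u.1.ne_zero, by
          have h := congrArg Units.val ((powMonoidHom_apply (q - 1) u.1).symm.trans
            (MonoidHom.mem_ker.1 u.2))
          simp only [Units.val_pow_eq_pow_val, Units.val_one] at h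
          calc ((u.1 : Fˣ) : F) ^ q = ((u.1 : Fˣ) : F) ^ (q - 1) * ((u.1 : Fˣ) : F) :=
                (pow_sub_one_mul (by omega) _).symm
            _ = _ := by rw [h, one_mul]⟩
        left_inv := fun t => rfl
        right_inv := fun u => Subtype.ext (Units.ext rfl) }
    rw [Nat.card_congr e, IsCyclic.card_powMonoidHom_ker, units_card_sq hF,
      Nat.gcd_mul_right_left]
  have e : (Fin n → F) ≃ Σ t : {t : F // t ^ q = t}, {v : Fin n → F // Cfsg.hermForm n F q v v = t.1} :=
    { toFun := fun v => ⟨⟨_, hermForm_self_fixed hF n v⟩, v, rfl⟩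
      invFun := fun s => s.2.1
      left_inv := fun v => rfl
      right_inv := fun s => by
        obtain ⟨⟨t, ht⟩, v, hv⟩ := s
        dsimp at hv
        subst hv
        rfl }
  have hc := Nat.card_congr e
  rw [Nat.card_sigma, Nat.card_fun, Nat.card_fin, Nat.card_eq_fintype_card (α := F), hF,
    Fintype.sum_eq_add_sum_compl (⟨0, by simp [zero_pow (show q ≠ 0 by omega)]⟩ : {t : F // t ^ q = t}),
    Finset.sum_congr rfl (fun (t : {t : F // t ^ q = t}) ht =>
      hlevel t.1 (fun h => Finset.mem_compl.1 ht (Finset.mem_singleton.2 (Subtype.ext h))) t.2),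
    Finset.sum_const, smul_eq_mul] at hc
  have hcard : ∀ h0 : (0 : F) ^ q = 0,
      ({(⟨0, h0⟩ : {t : F // t ^ q = t})}ᶜ : Finset _).card = q - 1 := by
    intro h0
    rw [← hfix, Finset.card_compl, Finset.card_singleton, Nat.card_eq_fintype_card]
    have : Fintype.card {t : F // t ≠ 0 ∧ t ^ q = t} + 1 = Fintype.card {t : F // t ^ q = t} := by
      rw [Fintype.card_subtype, Fintype.card_subtype,
        ← Finset.card_insert_of_notMem (a := (0 : F)) (by simp)]
      congr 1
      ext t
      by_cases h : t = 0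
      · simp [h, h0]
      · simp [h]
    omega
  rw [hcard] at hc
  have hc' := congrArg (Nat.cast : ℕ → ℤ) hc
  push_cast [Nat.cast_sub (show 1 ≤ q by omega)] at hc'
  linear_combination -hc'

/-- Number of isotropic vectors of the standard Hermitian form. -/
theorem card_herm_zero (hF : Fintype.card F = q ^ 2) (n : ℕ) :
    Nat.card {v : Fin n → F // Cfsg.hermForm n F q v v = 0} =
      (if Even n then (q ^ n - 1) * (q ^ (n - 1) + 1) else (q ^ n + 1) * (q ^ (n - 1) - 1)) + 1 := by
  have hq := two_le_of_card_sq hF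
  have hz := card_herm_zero_int hF n
  have h1 : 1 ≤ q ^ n := Nat.one_le_pow _ _ (by omega)
  have h2 : 1 ≤ q ^ (n - 1) := Nat.one_le_pow _ _ (by omega)
  apply Nat.eq_of_mul_eq_mul_left (show 0 < q by omega)
  zify
  rw [hz]
  rcases n with _ | k
  · simp
  · simp only [Nat.add_sub_cancel] at h2 ⊢
    rcases Nat.even_or_odd (k + 1) with he | ho
    · rw [if_pos he, he.neg_one_pow]; push_cast [Nat.cast_sub h1]; ring
    · rw [if_neg (Nat.not_even_iff_odd.2 ho), ho.neg_one_pow]; push_cast [Nat.cast_sub h2]; ring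

/-- Number of vectors of norm one of the standard Hermitian form. -/
theorem card_herm_one (hF : Fintype.card F = q ^ 2) (n : ℕ) :
    Nat.card {v : Fin n → F // Cfsg.hermForm n F q v v = 1} =
      (if Even n then q ^ (n - 1) * (q ^ n - 1) else q ^ (n - 1) * (q ^ n + 1)) := by
  have hq := two_le_of_card_sq hF
  have hz := card_herm_zero_int hF n
  have hl := card_herm_level_int hF n
  have h1 : 1 ≤ q ^ n := Nat.one_le_pow _ _ (by omega)
  apply Nat.eq_of_mul_eq_mul_left (show 0 < q * (q - 1) by exact Nat.mul_pos (by omega) (by omega))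
  zify
  push_cast [Nat.cast_sub (show 1 ≤ q by omega)]
  rcases n with _ | k
  · have h0 : Nat.card {v : Fin 0 → F // Cfsg.hermForm 0 F q v v = 1} = 0 :=
      Nat.card_eq_zero.2 (Or.inl ⟨fun v => zero_ne_one (by rw [← v.2]; simp [hermForm_self])⟩)
    rw [h0]; simp
  · simp only [Nat.add_sub_cancel]
    rcases Nat.even_or_odd (k + 1) with he | ho
    · rw [if_pos he]; rw [he.neg_one_pow] at hz; push_cast [Nat.cast_sub h1]
      linear_combination (q : ℤ) * hl - hz
    · rw [if_neg (Nat.not_even_iff_odd.2 ho)]; rw [ho.neg_one_pow] at hz; push_cast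
      linear_combination (q : ℤ) * hl - hz

end CfsgLib.Classical
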