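import Mathlib
import Cfsg.Prelude.Def_LieClassical
import Cfsg.Agent.Lib.Classical.HermCount
import Cfsg.Agent.Lib.Classical.FormStab
import Cfsg.Agent.Lib.Classical.Preserving

/-!
The standard Hermitian form as a sesquilinear map and the order of the general unitary group.
-/

set_option autoImplicit false

namespace CfsgLib.Classical

open CfsgLib.Geom

variable {F : Type*} [Field F] [Fintype F] {q : ℕ}

/-- The standard Hermitian form, semilinear in the first variable: `B u v = hermForm v u`. -/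
noncomputable def hermB (hF : Fintype.card F = q ^ 2) (n : ℕ) :
    (Fin n → F) →ₛₗ[qFrob hF] (Fin n → F) →ₗ[F] F :=
  LinearMap.mk₂'ₛₗ (qFrob hF) (RingHom.id F) (fun u v => ∑ i, v i * qFrob hF (u i))
    (fun u u' v => by simp [mul_add, Finset.sum_add_distrib])
    (fun c u v => by simp [Finset.mul_sum, mul_left_comm])
    (fun u v v' => by simp [add_mul, Finset.sum_add_distrib])
    (fun c u v => by simp [Finset.mul_sum, mul_assoc])

theorem hermB_apply (hF : Fintype.card F = q ^ 2) {n : ℕ} (u v : Fin n → F) :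
    hermB hF n u v = Cfsg.hermForm n F q v u := by
  simp [hermB, Cfsg.hermForm, qFrob_apply]

theorem hermB_conj (hF : Fintype.card F = q ^ 2) {n : ℕ} (u v : Fin n → F) :
    qFrob hF (hermB hF n u v) = hermB hF n v u := by
  simp [hermB, map_sum, qFrob_qFrob, mul_comm]

theorem hermB_sep (hF : Fintype.card F = q ^ 2) {n : ℕ} (u : Fin n → F)
    (hu : ∀ v, hermB hF n u v = 0) : u = 0 := by
  funext i
  refine (qFrob hF).injective ?_
  have := hu (Pi.single i 1)
  simpa [hermB, Pi.single_apply] using this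

theorem qFrob_ne_id (hF : Fintype.card F = q ^ 2) : qFrob hF ≠ RingHom.id F := by
  intro h
  have hq := two_le_of_card_sq hF
  obtain ⟨g, hg⟩ := IsCyclic.exists_generator (α := Fˣ)
  have h1 : g ^ q = g := Units.ext (by
    rw [Units.val_pow_eq_pow_val, ← qFrob_apply hF, h, RingHom.id_apply])
  have h2 : g ^ (q - 1) = 1 := by
    conv_lhs at h1 => rw [show q = q - 1 + 1 by omega]
    rwa [pow_succ, mul_eq_right] at h1
  have h3 := orderOf_le_of_pow_eq_one (by omega) h2
  rw [orderOf_eq_card_of_forall_mem_zpowers hg, units_card_sq hF] at h3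
  have : (q - 1) * 1 < (q - 1) * (q + 1) := Nat.mul_lt_mul_of_pos_left (by omega) (by omega)
  omega

theorem exists_qFrob_trace_one (hF : Fintype.card F = q ^ 2) : ∃ t, t + qFrob hF t = 1 :=
  exists_trace_one (qFrob_ne_id hF) (qFrob_qFrob hF)

theorem card_gu_eq_formIsoms (hF : Fintype.card F = q ^ 2) (n : ℕ) :
    Nat.card (Cfsg.GU n F q) = Nat.card (formIsoms (hermB hF n)) := by
  refine card_preserving_eq _ _ fun g => ?_
  simp only [mem_formIsoms, hermB_apply]
  exact ⟨fun h u v => h v u, fun h u v => h v u⟩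

theorem card_gu_succ (hF : Fintype.card F = q ^ 2) (n : ℕ) :
    Nat.card (Cfsg.GU (n + 1) F q) =
      Nat.card {v : Fin (n + 1) → F // Cfsg.hermForm (n + 1) F q v v = 1} *
        Nat.card (Cfsg.GU n F q) := by
  classical
  rw [card_gu_eq_formIsoms hF, card_gu_eq_formIsoms hF]
  let e : Fin (n + 1) → F := Pi.single 0 1
  have he0 : e ≠ 0 := Pi.single_ne_zero_iff.2 one_ne_zero
  have heB : ∀ y, hermB hF (n + 1) e y = y 0 := fun y => by simp [hermB, e, Pi.single_apply]
  have heB' : ∀ y, hermB hF (n + 1) y e = qFrob hF (y 0) := fun y => by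
    simp [hermB, e, Pi.single_apply]
  let W' : Submodule F (Fin (n + 1) → F) := LinearMap.ker (LinearMap.proj 0)
  have hW' : ∀ y, y ∈ W' ↔ ∀ w ∈ (F ∙ e), hermB hF (n + 1) w y = 0 := by
    intro y
    refine ⟨fun hy w hw => ?_, fun h => ?_⟩
    · obtain ⟨a, rfl⟩ := Submodule.mem_span_singleton.1 hw
      rw [LinearMap.mem_ker, LinearMap.proj_apply] at hy
      simp [heB, hy]
    · rw [LinearMap.mem_ker, LinearMap.proj_apply, ← heB y]
      exact h e (Submodule.mem_span_singleton_self e)
  have hc : IsCompl (F ∙ e) W' := by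
    refine IsCompl.of_eq (eq_bot_iff.2 ?_) (eq_top_iff.2 ?_)
    · rintro x ⟨hx, hx'⟩
      obtain ⟨a, rfl⟩ := Submodule.mem_span_singleton.1 hx
      rw [SetLike.mem_coe, LinearMap.mem_ker, LinearMap.proj_apply] at hx'
      simp [e] at hx'
      simp [hx']
    · intro v _
      exact Submodule.mem_sup.2 ⟨v 0 • e, Submodule.mem_span_singleton.2 ⟨_, rfl⟩, v - v 0 • e,
        by simp [W', e], by abel⟩
  rw [card_eq_orbit_mul_fixing_one (formIsoms (hermB hF (n + 1))) e,
    card_fixingIn_formIsoms _ hc hW' (fun y hy w hw => by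
      rw [← hermB_conj, (hW' y).1 hy w hw, map_zero])]
  congr 1
  · refine Nat.card_congr (Equiv.subtypeEquivRight fun v => ?_)
    rw [← hermB_apply hF]
    refine ⟨fun ⟨g, hg, hv⟩ => by rw [← hv, hg, heB]; simp [e], fun hv => ?_⟩
    let φ : (F ∙ e) →ₗ[F] (Fin (n + 1) → F) :=
      ((LinearMap.proj 0).smulRight v).comp (F ∙ e).subtype
    obtain ⟨g, hg, hgX⟩ := witt_hermitian (qFrob_qFrob hF) (exists_qFrob_trace_one hF)
      (hermB hF (n + 1)) (hermB_conj hF) (hermB_sep hF) (F ∙ e) φ (by
        rintro ⟨x, hx⟩ ⟨y, hy⟩ hxy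
        obtain ⟨a, rfl⟩ := Submodule.mem_span_singleton.1 hx
        obtain ⟨b, rfl⟩ := Submodule.mem_span_singleton.1 hy
        have hv0 : v ≠ 0 := by rintro rfl; simp at hv
        simp [φ, e] at hxy
        exact Subtype.ext (congrArg (· • e) (smul_left_injective F hv0 hxy)))
      (by
        rintro ⟨x, hx⟩ ⟨y, hy⟩
        obtain ⟨a, rfl⟩ := Submodule.mem_span_singleton.1 hx
        obtain ⟨b, rfl⟩ := Submodule.mem_span_singleton.1 hy
        simp [φ, e, hv, heB])
    refine ⟨g, hg, ?_⟩
    have := hgX ⟨e, Submodule.mem_span_singleton_self e⟩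
    simpa [φ, e] using this
  · let ψ : W' ≃ₗ[F] (Fin n → F) :=
      { toFun := fun y i => y.1 i.succ
        map_add' := fun _ _ => rfl
        map_smul' := fun _ _ => rfl
        invFun := fun z => ⟨Fin.cons 0 z, by simp [W']⟩
        left_inv := fun y => Subtype.ext (funext fun i => by
          have h0 : (y : Fin (n + 1) → F) 0 = 0 := y.2
          refine Fin.cases ?_ ?_ i <;> simp [h0])
        right_inv := fun z => funext fun i => by simp }
    refine card_formIsoms_congr _ _ ψ fun x y => ?_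
    have h0 : (x : Fin (n + 1) → F) 0 = 0 := x.2
    simp [hermB, ψ, Fin.sum_univ_succ, h0]

theorem card_gu (hF : Fintype.card F = q ^ 2) (n : ℕ) :
    Nat.card (Cfsg.GU n F q) = q ^ (n * (n - 1) / 2) *
      ∏ i ∈ Finset.range n, (if Even i then q ^ (i + 1) + 1 else q ^ (i + 1) - 1) := by
  induction n with
  | zero => simp
  | succ n ih =>
    rw [card_gu_succ hF, ih, card_herm_one hF, Finset.prod_range_succ]
    have hexp : (n + 1) * (n + 1 - 1) / 2 = n * (n - 1) / 2 + n := by
      rw [← Finset.sum_range_id, ← Finset.sum_range_id, Finset.sum_range_succ]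
    rw [hexp, pow_add, Nat.add_sub_cancel]
    by_cases hn : Even n
    · rw [if_neg (by simp [Nat.even_add_one, hn]), if_pos hn]; ring
    · rw [if_pos (by simp [Nat.even_add_one, hn]), if_neg hn]; ring

end CfsgLib.Classical
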