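import Mathlib
import Cfsg.Agent.Lib.Classical.ExcIsoTwo
import Cfsg.Agent.Lib.Classical.HermOrder

/-!
`PΩ⁻_4(q) ≅ PSL_2(q²)` through the action of `SL_2(q²)` on Hermitian 2×2 matrices.
-/

set_option autoImplicit false

namespace CfsgLib.Classical

open Matrix CfsgLib.Geom
open scoped MatrixGroups commutatorElement

/-- The quadratic extension attached to an anisotropic binary form. -/
theorem exists_quadratic_ext {F K : Type*} [Field F] [Fintype F] [Field K] [Fintype K] {q : ℕ}
    (hF : Fintype.card F = q) (hK : Fintype.card K = q ^ 2) (a b : F)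
    (hab : ∀ z₁ z₂ : F, z₁ ^ 2 + a * z₁ * z₂ + b * z₂ ^ 2 = 0 → z₁ = 0 ∧ z₂ = 0) :
    ∃ (ι : F →+* K) (θ : K), (∀ t, qFrob hK (ι t) = ι t) ∧ (∀ k, qFrob hK k = k → ∃ t, ι t = k) ∧
      θ + qFrob hK θ = ι a ∧ θ * qFrob hK θ = ι b ∧ qFrob hK θ ≠ θ := by
  classical
  obtain ⟨f, hf⟩ : ∃ f : Polynomial F,
      f = Polynomial.X ^ 2 - Polynomial.C a * Polynomial.X + Polynomial.C b := ⟨_, rfl⟩
  have hdeg : f.natDegree = 2 := by rw [hf]; compute_degree!
  have hroot : ∀ t : F, ¬ f.IsRoot t := fun t ht => by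
    have h : t ^ 2 - a * t + b = 0 := by simpa [hf] using ht
    exact one_ne_zero (hab (-t) 1 (by linear_combination h)).2
  have hirr : Irreducible f :=
    Polynomial.irreducible_of_degree_le_three_of_not_isRoot (by simp [hdeg]) hroot
  have : Fact (Irreducible f) := ⟨hirr⟩
  let pb := AdjoinRoot.powerBasis hirr.ne_zero
  have : Module.Finite F (AdjoinRoot f) := pb.finite
  have : Finite (AdjoinRoot f) := Module.finite_of_finite F
  let _ : Fintype (AdjoinRoot f) := Fintype.ofFinite _
  have hcard : Fintype.card (AdjoinRoot f) = Fintype.card K := by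
    rw [hK, ← Nat.card_eq_fintype_card, Module.natCard_eq_pow_finrank (K := F), Nat.card_eq_fintype_card,
      hF, pb.finrank]
    simp [pb, hdeg]
  let e := FiniteField.ringEquivOfCardEq hcard
  let ι : F →+* K := e.toRingHom.comp (AdjoinRoot.of f)
  obtain ⟨θ, hθ⟩ : ∃ θ, θ = e (AdjoinRoot.root f) := ⟨_, rfl⟩
  have hθ0 : θ ^ 2 - ι a * θ + ι b = 0 := by
    have h := AdjoinRoot.eval₂_root f
    rw [Polynomial.eval₂_congr rfl rfl hf] at h
    simp only [Polynomial.eval₂_add, Polynomial.eval₂_sub, Polynomial.eval₂_mul, Polynomial.eval₂_C,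
      Polynomial.eval₂_X, Polynomial.eval₂_pow] at h
    have h' := congrArg e h
    simp only [map_add, map_sub, map_mul, map_pow, map_zero, ← hθ] at h'
    exact h'
  have hfix : ∀ t, qFrob hK (ι t) = ι t := fun t => by
    rw [qFrob_apply, ← map_pow, ← hF, FiniteField.pow_card]
  have hq : 2 ≤ q := two_le_of_card_sq hK
  have hfixed : ∀ k, qFrob hK k = k → ∃ t, ι t = k := by
    intro k hk
    rw [qFrob_apply] at hk
    let P : Polynomial K := Polynomial.X ^ q - Polynomial.X
    have hP0 : P ≠ 0 := FiniteField.X_pow_card_sub_X_ne_zero K (by omega)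
    have hPd : P.natDegree = q := FiniteField.X_pow_card_sub_X_natDegree_eq K (by omega)
    have hle : Finset.univ.image ι ⊆ P.roots.toFinset := by
      intro x hx
      obtain ⟨t, -, rfl⟩ := Finset.mem_image.1 hx
      rw [Multiset.mem_toFinset, Polynomial.mem_roots hP0, Polynomial.IsRoot, Polynomial.eval_sub,
        Polynomial.eval_pow, Polynomial.eval_X, ← qFrob_apply hK, hfix, sub_self]
    have heq : Finset.univ.image ι = P.roots.toFinset := Finset.eq_of_subset_of_card_le hle (by
      rw [Finset.card_image_of_injective _ ι.injective, Finset.card_univ, hF, ← hPd]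
      exact le_trans (Multiset.toFinset_card_le _) (Polynomial.card_roots' P))
    have hmem : k ∈ P.roots.toFinset := by
      rw [Multiset.mem_toFinset, Polynomial.mem_roots hP0, Polynomial.IsRoot, Polynomial.eval_sub,
        Polynomial.eval_pow, Polynomial.eval_X, hk, sub_self]
    rw [← heq] at hmem
    obtain ⟨t, -, ht⟩ := Finset.mem_image.1 hmem
    exact ⟨t, ht⟩
  have hne : qFrob hK θ ≠ θ := by
    intro h
    obtain ⟨t, ht⟩ := hfixed θ h
    refine hroot t ?_
    have : ι (t ^ 2 - a * t + b) = 0 := by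
      rw [map_add, map_sub, map_pow, map_mul, ht]; exact hθ0
    simpa [hf] using (map_eq_zero ι).1 this
  have hs : qFrob hK θ ^ 2 - ι a * qFrob hK θ + ι b = 0 := by
    have h := congrArg (qFrob hK) hθ0
    simpa [map_add, map_sub, map_mul, map_pow, hfix] using h
  have htr : θ + qFrob hK θ = ι a := by
    have h0 : (qFrob hK θ - θ) * (θ + qFrob hK θ - ι a) = 0 := by linear_combination hs - hθ0
    exact sub_eq_zero.1 ((mul_eq_zero.1 h0).resolve_left (sub_ne_zero.2 hne))
  exact ⟨ι, θ, hfix, hfixed, htr, by linear_combination θ * htr - hθ0, hne⟩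

section Herm

variable {F K : Type*} [Field F] [Field K] [Algebra F K] (σ : K →+* K) (θ : K)

/-- Hermitian matrices as vectors for `xy + (z₁² + a z₁ z₂ + b z₂²)`. -/
def herMat (hfix : ∀ t : F, σ (algebraMap F K t) = algebraMap F K t) :
    ((Fin 1 ⊕ Fin 1) ⊕ Fin 2 → F) →ₗ[F] Matrix (Fin 2) (Fin 2) K where
  toFun v := !![algebraMap F K (v (.inl (.inl 0))),
      algebraMap F K (v (.inr 0)) + θ * algebraMap F K (v (.inr 1));
    σ (algebraMap F K (v (.inr 0)) + θ * algebraMap F K (v (.inr 1))),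
      -algebraMap F K (v (.inl (.inr 0)))]
  map_add' v w := by
    ext i j
    fin_cases i <;> fin_cases j <;> simp <;> ring
  map_smul' c v := by
    ext i j
    fin_cases i <;> fin_cases j <;> simp [Algebra.smul_def, hfix] <;> ring

variable {σ} {θ} (hfix : ∀ t : F, σ (algebraMap F K t) = algebraMap F K t)
  (hfixed : ∀ k, σ k = k → ∃ t, algebraMap F K t = k) (hinv : ∀ k, σ (σ k) = k) (hne : σ θ ≠ θ)
include hfix hinv

theorem herMat_mem (v : (Fin 1 ⊕ Fin 1) ⊕ Fin 2 → F) :
    ((herMat σ θ hfix v)ᵀ).map σ = herMat σ θ hfix v := by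
  ext i j
  fin_cases i <;> fin_cases j <;> simp [herMat, hfix, hinv]

include hne

theorem herMat_injective : Function.Injective (herMat σ θ hfix) := by
  refine (injective_iff_map_eq_zero _).2 fun v hv => ?_
  have e00 := congrFun (congrFun hv 0) 0
  have e11 := congrFun (congrFun hv 1) 1
  have e01 := congrFun (congrFun hv 0) 1
  have e10 := congrFun (congrFun hv 1) 0
  simp [herMat, hfix] at e00 e11 e01 e10
  have hsub : σ θ - θ ≠ 0 := sub_ne_zero.2 hne
  have h1 : algebraMap F K (v (.inr 1)) = 0 := by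
    have : (σ θ - θ) * algebraMap F K (v (.inr 1)) = 0 := by linear_combination e10 - e01
    exact (mul_eq_zero.1 this).resolve_left hsub
  rw [h1, mul_zero, add_zero] at e01
  rw [map_eq_zero] at h1 e01
  ext ((i | i) | i) <;> fin_cases i
  · exact e00
  · exact e11
  · exact e01
  · exact h1

include hfixed

theorem herMat_surj {M : Matrix (Fin 2) (Fin 2) K} (hM : Mᵀ.map σ = M) :
    ∃ v, herMat σ θ hfix v = M := by
  have e00 : σ (M 0 0) = M 0 0 := congrFun (congrFun hM 0) 0
  have e11 : σ (M 1 1) = M 1 1 := congrFun (congrFun hM 1) 1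
  have e10 : σ (M 0 1) = M 1 0 := congrFun (congrFun hM 1) 0
  obtain ⟨x, hx⟩ := hfixed _ e00
  obtain ⟨y, hy⟩ := hfixed _ e11
  have hsub : σ θ - θ ≠ 0 := sub_ne_zero.2 hne
  obtain ⟨z2, hz2⟩ := hfixed ((σ (M 0 1) - M 0 1) / (σ θ - θ)) (by
    simp only [map_div₀, map_sub, hinv]
    rw [← neg_sub (σ (M 0 1)), ← neg_sub (σ θ), neg_div_neg_eq])
  have hz2' : algebraMap F K z2 * (σ θ - θ) = σ (M 0 1) - M 0 1 := by
    rw [hz2, div_mul_cancel₀ _ hsub]
  obtain ⟨z1, hz1⟩ := hfixed (M 0 1 - θ * algebraMap F K z2) (by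
    simp only [map_sub, map_mul, hfix]
    linear_combination (-1 : K) * hz2')
  refine ⟨Sum.elim (Sum.elim (fun _ => x) (fun _ => -y)) ![z1, z2], ?_⟩
  have e01 : algebraMap F K z1 + θ * algebraMap F K z2 = M 0 1 := by rw [hz1]; ring
  ext i j
  fin_cases i <;> fin_cases j
  · simpa [herMat] using hx
  · simpa [herMat] using e01
  · have := congrArg σ e01
    simpa [herMat, e10] using this
  · simpa [herMat] using hy

end Herm

theorem pOmega_minus_four {F K : Type*} [Field F] [Fintype F] [Field K] [Fintype K] {q : ℕ}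
    (hF : Fintype.card F = q) (hK : Fintype.card K = q ^ 2) (a b : F)
    (hab : ∀ z₁ z₂ : F, z₁ ^ 2 + a * z₁ * z₂ + b * z₂ ^ 2 = 0 → z₁ = 0 ∧ z₂ = 0) :
    Nonempty (Cfsg.POmega F (Cfsg.quadFormMinus 1 F a b) ≃* Matrix.ProjectiveSpecialLinearGroup (Fin 2) K) := by
  obtain ⟨ι, θ, hfix, hfixed, htr, hnorm, hne⟩ := exists_quadratic_ext hF hK a b hab
  let _ : Algebra F K := ι.toAlgebra
  have hfix' : ∀ t, qFrob hK (algebraMap F K t) = algebraMap F K t := hfix
  let X := herMat (qFrob hK) θ hfix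
  obtain ⟨π, hπ⟩ := X.exists_leftInverse_of_injective
    (LinearMap.ker_eq_bot.2 (herMat_injective hfix (qFrob_qFrob hK) hne))
  have hπX : ∀ v, π (X v) = v := fun v => LinearMap.congr_fun hπ v
  have hXπ : ∀ M : Matrix (Fin 2) (Fin 2) K, Mᵀ.map (qFrob hK) = M → X (π M) = M := by
    intro M hM
    obtain ⟨v, hv⟩ := herMat_surj hfix hfixed (qFrob_qFrob hK) hne hM
    rw [← hv]; exact congrArg X (hπX v)
  let st : SL(2, K) → Matrix (Fin 2) (Fin 2) K := fun g => ((g : Matrix (Fin 2) (Fin 2) K)ᵀ).map (qFrob hK)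
  have hst1 : st 1 = 1 := by simp [st]
  have hstm : ∀ g h : SL(2, K), st (g * h) = st h * st g := fun g h => by
    simp [st, Matrix.SpecialLinearGroup.coe_mul, Matrix.transpose_mul, Matrix.map_mul]
  have hherm : ∀ (g : SL(2, K)) (M : Matrix (Fin 2) (Fin 2) K), Mᵀ.map (qFrob hK) = M →
      (((g : Matrix (Fin 2) (Fin 2) K) * (M * st g))ᵀ).map (qFrob hK) =
        (g : Matrix (Fin 2) (Fin 2) K) * (M * st g) := by
    intro g M hM
    rw [Matrix.transpose_mul, Matrix.transpose_mul, Matrix.map_mul, Matrix.map_mul, hM, mul_assoc]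
    congr 1
    ext i j
    simp [st, qFrob_qFrob]
  have hdet : ∀ v, algebraMap F K (qfMinus 1 F a b v) = -(X v).det := by
    intro v
    simp [X, qfMinus_apply, Cfsg.quadFormMinus, herMat, Matrix.det_fin_two_of, hfix']
    rw [show algebraMap F K a = θ + qFrob hK θ from htr.symm,
      show algebraMap F K b = θ * qFrob hK θ from hnorm.symm]
    ring
  have hdst : ∀ g : SL(2, K), (st g).det = 1 := fun g => by
    show (((g : Matrix (Fin 2) (Fin 2) K)ᵀ).map (qFrob hK)).det = 1
    rw [← RingHom.mapMatrix_apply, ← RingHom.map_det, Matrix.det_transpose, g.2, map_one]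
  let ρ : SL(2, K) →* quadIsoms (qfMinus 1 F a b) := quadHom (qfMinus 1 F a b)
    (fun g => π ∘ₗ LinearMap.mulLeft F (g : Matrix (Fin 2) (Fin 2) K) ∘ₗ LinearMap.mulRight F (st g) ∘ₗ X)
    (fun v => by simp [hst1, hπX])
    (fun g h v => by
      simp only [LinearMap.comp_apply, LinearMap.mulLeft_apply, LinearMap.mulRight_apply]
      rw [hXπ _ (hherm h _ (herMat_mem hfix (qFrob_qFrob hK) v)), Matrix.SpecialLinearGroup.coe_mul, hstm]
      simp only [X, mul_assoc])
    (fun g v => by
      apply (algebraMap F K).injective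
      simp only [LinearMap.comp_apply, LinearMap.mulLeft_apply, LinearMap.mulRight_apply]
      rw [hdet, hdet, hXπ _ (hherm g _ (herMat_mem hfix (qFrob_qFrob hK) v)), Matrix.det_mul,
        Matrix.det_mul, g.2, hdst, one_mul, mul_one])
  rw [← qfMinus_coe]
  have hker : ρ.ker ≤ Subgroup.center SL(2, K) := by
    intro g hg
    have hfixM : ∀ M : Matrix (Fin 2) (Fin 2) K, Mᵀ.map (qFrob hK) = M →
        (g : Matrix (Fin 2) (Fin 2) K) * (M * st g) = M := by
      intro M hM
      have h := congrArg (fun k : quadIsoms (qfMinus 1 F a b) => X (k.1 (π M))) (MonoidHom.mem_ker.1 hg)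
      simp only [ρ, quadHom_apply, LinearMap.comp_apply, LinearMap.mulLeft_apply,
        LinearMap.mulRight_apply, hXπ M hM, Subgroup.coe_one, LinearEquiv.coe_one, id_eq] at h
      rwa [hXπ _ (hherm g M hM)] at h
    have h1 : (g : Matrix (Fin 2) (Fin 2) K) * st g = 1 := by
      simpa using hfixM 1 (by simp [Matrix.transpose_one])
    have h1' : st g * (g : Matrix (Fin 2) (Fin 2) K) = 1 := mul_eq_one_comm.1 h1
    have hcomm : ∀ M : Matrix (Fin 2) (Fin 2) K, Mᵀ.map (qFrob hK) = M →
        (g : Matrix (Fin 2) (Fin 2) K) * M = M * (g : Matrix (Fin 2) (Fin 2) K) := by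
      intro M hM
      calc (g : Matrix (Fin 2) (Fin 2) K) * M
          = (g : Matrix (Fin 2) (Fin 2) K) * (M * st g) * (g : Matrix (Fin 2) (Fin 2) K) := by
            rw [mul_assoc, mul_assoc, h1', mul_one]
        _ = M * (g : Matrix (Fin 2) (Fin 2) K) := by rw [hfixM M hM]
    have hs1 := hcomm !![0, 1; 1, 0] (by ext i j; fin_cases i <;> fin_cases j <;> simp)
    have hs2 := hcomm !![0, θ; qFrob hK θ, 0] (by
      ext i j; fin_cases i <;> fin_cases j <;> simp [qFrob_qFrob])
    have a00 := congrFun (congrFun hs1 0) 0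
    have a01 := congrFun (congrFun hs1 0) 1
    have b00 := congrFun (congrFun hs2 0) 0
    have b01 := congrFun (congrFun hs2 0) 1
    simp [Matrix.mul_apply, Fin.sum_univ_two] at a00 a01 b00 b01
    have z01 : (g : Matrix (Fin 2) (Fin 2) K) 0 1 = 0 := by
      have : (qFrob hK θ - θ) * (g : Matrix (Fin 2) (Fin 2) K) 0 1 = 0 := by
        linear_combination b00 - θ * a00
      exact (mul_eq_zero.1 this).resolve_left (sub_ne_zero.2 hne)
    refine mem_center_of_eq_smul (r := (g : Matrix (Fin 2) (Fin 2) K) 0 0) ?_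
    ext i j
    fin_cases i <;> fin_cases j <;> simp [z01, ← a00, ← a01]
  have hH : Nat.card SL(2, K) = q ^ 2 * ((q ^ 2) ^ 2 - 1) := by rw [card_sl_two_eq, hK]
  have hO : Nat.card (quadIsoms (qfMinus 1 F a b)) = 2 * (q ^ 2 * ((q ^ 2) ^ 2 - 1)) := by
    rw [card_qfMinus_isoms hab 1, hF, Finset.prod_range_one]
    have e : (q ^ 2) ^ 2 - 1 = (q ^ 2 + 1) * (q ^ 2 - 1) := by simpa using Nat.sq_sub_sq (q ^ 2) 1
    rw [e]
    ring
  have hperf : commutator SL(2, K) = ⊤ := by
    have h4 : 4 ≤ Fintype.card K := by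
      rw [hK]; exact Nat.pow_le_pow_left (two_le_of_card_sq hK) 2
    obtain ⟨x, hx, hx2⟩ := exists_sq_ne_one_of_four_le (F := K) h4
    exact Matrix.SL2.commutator_eq_top hx hx2
  have hle : ρ.range ≤ commutator _ := commutator_eq_range_le ρ hperf
  have hQ := qfMinus_sep (F := F) 1 hab
  have hc : Nat.card ρ.ker ≤ Nat.gcd 2 (q ^ 2 - 1) := by
    refine le_trans (Subgroup.card_le_of_le hker) ?_
    rw [card_center_sl, Fintype.card_fin, hK]
  by_cases h2 : (2 : F) = 0
  · have hc1 : Nat.card ρ.ker ≤ 1 := by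
      refine hc.trans (le_of_eq ?_)
      have he : ¬ Odd q := fun ho => two_ne_zero_of_odd (F := F) (hF ▸ ho) h2
      rw [Nat.not_odd_iff_even] at he
      have h' := Nat.even_iff.1 (he.pow_of_ne_zero (n := 2) two_ne_zero)
      have : 1 ≤ q ^ 2 := Nat.one_le_pow _ _ (by have := two_le_of_card_sq hK; omega)
      exact Nat.coprime_two_left.2 (Nat.odd_iff.2 (by omega))
    refine pOmega_equiv_of_hom _ ρ hker mem_center_sl_of_commutator hle (c := 1) hc1 ?_
    have hidx : 2 ≤ (Cfsg.Omega F (⇑(qfMinus 1 F a b))).index := by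
      have hfinE : Finite (((Fin 1 ⊕ Fin 1) ⊕ Fin 2 → F) ≃ₗ[F] ((Fin 1 ⊕ Fin 1) ⊕ Fin 2 → F)) :=
        Finite.of_injective (fun e => (e : _ → _)) DFunLike.coe_injective
      rw [← commutator_quadIsoms_index]
      have hr : ρ.range.index = 2 := by
        have hk1 : Nat.card ρ.ker = 1 := le_antisymm hc1 Nat.card_pos
        have hrange : Nat.card ρ.range = Nat.card SL(2, K) := by
          rw [Subgroup.card_eq_card_quotient_mul_card_subgroup ρ.ker, hk1, mul_one,
            Nat.card_congr (QuotientGroup.quotientKerEquivRange ρ).toEquiv]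
        have hm := ρ.range.card_mul_index
        rw [hrange, hO, ← hH, mul_comm 2] at hm
        exact Nat.eq_of_mul_eq_mul_left Nat.card_pos hm
      have := Subgroup.normal_of_index_eq_two hr
      have hcomm : commutator (quadIsoms (qfMinus 1 F a b)) ≤ ρ.range := by
        have : IsCyclic (quadIsoms (qfMinus 1 F a b) ⧸ ρ.range) := isCyclic_of_prime_card (p := 2) (by
          rw [← Subgroup.index_eq_card, hr])
        rw [commutator_def, Subgroup.commutator_le]
        intro x _ y _
        rw [← QuotientGroup.eq_one_iff, ← QuotientGroup.mk'_apply, map_commutatorElement,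
          commutatorElement_eq_one_iff_mul_comm]
        exact IsCyclic.commGroup.mul_comm _ _
      have := Subgroup.index_antitone hcomm
      omega
    rw [hH, hO, one_mul, mul_comm (q ^ 2 * ((q ^ 2) ^ 2 - 1))]
    exact Nat.mul_le_mul_right _ hidx
  · refine pOmega_equiv_of_hom _ ρ hker mem_center_sl_of_commutator hle (c := 2)
      (hc.trans (Nat.le_of_dvd (by norm_num) (Nat.gcd_dvd_left _ _))) ?_
    rw [omega_index_odd _ hQ h2 (by simp), hH, hO]
    omega

end CfsgLib.Classical
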