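import Cfsg.Agent.Lib.Classical.ExcIsoPerm
import Cfsg.Agent.Lib.Classical.ExcIsoTwo
import Cfsg.Agent.Lib.Classical.ExcIsoMinusFour
import Cfsg.Agent.Lib.Classical.PSLTwoPerm

/-!
# Permutation modules in odd characteristic: `PSL₂(5) ≅ A₅` and `PSL₂(9) ≅ A₆`
-/

namespace CfsgLib.Classical

open Equiv CfsgLib.Geom

section General

variable {R : Type*} [CommRing R] {n : ℕ} {ι : Type} [Fintype ι]
  (L : Matrix (Fin n) ι R) (P : Matrix ι (Fin n) R)

/-- Lift with `L`, permute, project with `P`. -/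
def matAct (σ : Perm (Fin n)) : (ι → R) →ₗ[R] (ι → R) :=
  Matrix.mulVecLin P ∘ₗ LinearMap.funLeft R R ⇑(σ⁻¹) ∘ₗ Matrix.mulVecLin L

/-- The hypotheses making `matAct` an action. -/
def IsMatBasis : Prop :=
  (∀ v : ι → R, P.mulVec (L.mulVec v) = v) ∧
  (∀ v : ι → R, ∑ j, L.mulVec v j = 0) ∧
  (∀ w : Fin n → R, ∑ j, w j = 0 → ∃ t : R, ∀ j, L.mulVec (P.mulVec w) j = w j + t) ∧
  (∀ i, P.mulVec (fun _ => 1) i = 0)

variable {L P}

theorem matAct_apply (σ : Perm (Fin n)) (v : ι → R) :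
    matAct L P σ v = P.mulVec (fun j => L.mulVec v (σ⁻¹ j)) :=
  rfl

theorem matAct_one (h : IsMatBasis L P) (v : ι → R) : matAct L P 1 v = v := by
  rw [matAct_apply]
  simpa using h.1 v

theorem matAct_mul (h : IsMatBasis L P) (g k : Perm (Fin n)) (v : ι → R) :
    matAct L P (g * k) v = matAct L P g (matAct L P k v) := by
  obtain ⟨-, h2, h3, h4⟩ := h
  have hs : ∑ j, L.mulVec v (k⁻¹ j) = 0 := by
    rw [Equiv.sum_comp k⁻¹ (fun j => L.mulVec v j), h2]
  obtain ⟨t, ht⟩ := h3 _ hs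
  rw [matAct_apply g, matAct_apply k]
  simp only [ht]
  have e : (fun j => L.mulVec v (k⁻¹ (g⁻¹ j)) + t) =
      (fun j => L.mulVec v ((g * k)⁻¹ j)) + t • (fun _ => (1 : R)) := by
    funext j
    simp [mul_inv_rev, Perm.mul_apply]
  rw [e, Matrix.mulVec_add, Matrix.mulVec_smul, funext h4, matAct_apply]
  exact (add_eq_left.2 (smul_zero t)).symm

end General

/-- A simple noncommutative group mapped injectively into `Ω(Q)` with the order of `PΩ(Q)`. -/
theorem pOmega_equiv_of_simple {F : Type*} [Field F] [Finite F] {ι : Type} [Fintype ι] [DecidableEq ι]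
    (Q : QuadraticForm F (ι → F)) {H : Type*} [Group H] [IsSimpleGroup H]
    (ρ : H →* quadIsoms Q) (hinj : Function.Injective ρ) (hH : commutator H = ⊤)
    (hcard : Nat.card H = Nat.card (Cfsg.POmega F (⇑Q))) :
    Nonempty (H ≃* Cfsg.POmega F (⇑Q)) := by
  have hle : ∀ x, ρ x ∈ commutator (quadIsoms Q) := fun x =>
    commutator_eq_range_le ρ hH ⟨x, rfl⟩
  let ψ : H →* Cfsg.POmega F (⇑Q) :=
    (QuotientGroup.mk' _).comp ((omegaEquiv Q).toMonoidHom.comp (ρ.codRestrict _ hle))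
  have hbot : ψ.ker = ⊥ := by
    refine (ψ.normal_ker.eq_bot_or_eq_top).resolve_right fun htop => ?_
    have hcomm : ∀ a b : H, a * b = b * a := fun a b => hinj (by
      have hz : ψ a = 1 := MonoidHom.mem_ker.1 (htop ▸ Subgroup.mem_top a)
      have hz' : (omegaEquiv Q) (ρ.codRestrict _ hle a) ∈ Subgroup.center ↥(Cfsg.Omega F (⇑Q)) :=
        (QuotientGroup.eq_one_iff _).1 hz
      have h2 := Subgroup.mem_center_iff.1 hz' ((omegaEquiv Q) (ρ.codRestrict _ hle b))
      have h3 := congrArg Subtype.val ((omegaEquiv Q).injective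
        ((map_mul _ _ _).trans (h2.trans (map_mul _ _ _).symm)))
      rw [map_mul, map_mul]
      exact h3.symm)
    have hc : commutator H = ⊥ := by
      rw [commutator_def, Subgroup.commutator_eq_bot_iff_le_centralizer]
      exact fun x _ => Subgroup.mem_centralizer_iff.2 fun y _ => hcomm y x
    exact top_ne_bot (hH.symm.trans hc)
  have hinjψ : Function.Injective ψ := (MonoidHom.ker_eq_bot_iff ψ).1 hbot
  exact ⟨MulEquiv.ofBijective ψ ((Nat.bijective_iff_injective_and_card ψ).2 ⟨hinjψ, hcard⟩)⟩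

/-- A nontrivial representation of a simple group is faithful. -/
theorem injective_of_ne_one {H K : Type*} [Group H] [Group K] [IsSimpleGroup H] (f : H →* K) {x : H}
    (hx : f x ≠ 1) : Function.Injective f :=
  (MonoidHom.ker_eq_bot_iff f).1 ((f.normal_ker.eq_bot_or_eq_top).resolve_right fun h =>
    hx (MonoidHom.mem_ker.1 (h ▸ Subgroup.mem_top x)))

/-! ### `PSL₂(5) ≅ A₅` -/

section Five

local notation "F5" => ZMod 5

private local instance fact_five : Fact (Nat.Prime 5) := ⟨by norm_num⟩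

/-- Basis `g, e, f` of the sum-zero vectors modulo constants. -/
def fiveLift : Matrix (Fin 5) (Unit ⊕ (Fin 1 ⊕ Fin 1)) F5 :=
  fun j i => Sum.elim (fun _ => ![0, 2, 2, 0, 1] j)
    (Sum.elim (fun _ => ![0, 1, 2, 3, 4] j) (fun _ => ![0, 1, 3, 4, 2] j)) i

/-- The matching projection. -/
def fiveProjPerm : Matrix (Unit ⊕ (Fin 1 ⊕ Fin 1)) (Fin 5) F5 :=
  fun i j => Sum.elim (fun _ => 4 * ![0, 2, 2, 0, 1] j)
    (Sum.elim (fun _ => 3 * ![0, 1, 3, 4, 2] j) (fun _ => 3 * ![0, 1, 2, 3, 4] j)) i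

theorem five_basis : IsMatBasis fiveLift fiveProjPerm := by
  unfold IsMatBasis
  decide +kernel

theorem five_quad : ∀ w : Fin 5 → F5, ∑ j, w j = 0 →
    Cfsg.quadFormOdd 1 F5 (fiveProjPerm.mulVec w) = 4 * ∑ j, w j ^ 2 := by
  unfold Cfsg.quadFormOdd
  decide +kernel

theorem five_act_quad (σ : Perm (Fin 5)) (v : Unit ⊕ (Fin 1 ⊕ Fin 1) → F5) :
    qfOdd 1 F5 (matAct fiveLift fiveProjPerm σ v) = qfOdd 1 F5 v := by
  have hv := five_basis.2.1 v
  rw [qfOdd_apply, qfOdd_apply, matAct_apply, five_quad _ ((Equiv.sum_comp σ⁻¹ _).trans hv),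
    Equiv.sum_comp σ⁻¹ (fun j => fiveLift.mulVec v j ^ 2), ← five_quad _ hv, five_basis.1]

/-- `A₅ → O₃(5)`. -/
noncomputable def altFiveHom : alternatingGroup (Fin 5) →* quadIsoms (qfOdd 1 F5) :=
  (quadHom (qfOdd 1 F5) (matAct fiveLift fiveProjPerm) (matAct_one five_basis)
    (matAct_mul five_basis) five_act_quad).comp (alternatingGroup (Fin 5)).subtype

theorem psl_two_five_equiv :
    Nonempty (Matrix.ProjectiveSpecialLinearGroup (Fin 2) F5 ≃* alternatingGroup (Fin 5)) := by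
  obtain ⟨e⟩ := pOmega_three (F := F5) (by rw [ZMod.card]; decide)
  rw [← qfOdd_coe] at e
  have hs : IsSimpleGroup (alternatingGroup (Fin 5)) := alternatingGroup.isSimpleGroup (by simp)
  have hinj : Function.Injective altFiveHom := injective_of_ne_one altFiveHom
    (x := ⟨swap 0 1 * swap 1 2, Equiv.Perm.mem_alternatingGroup.2 (by decide +kernel)⟩) fun h => by
      have h1 := congrArg (fun g => g.1 (Pi.single (Sum.inl ()) (1 : F5))) h
      simp only [altFiveHom, MonoidHom.comp_apply, quadHom_apply, Subgroup.coe_subtype] at h1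
      have h2 : matAct fiveLift fiveProjPerm (swap (0 : Fin 5) 1 * swap 1 2) (Pi.single (Sum.inl ()) 1) ≠
          Pi.single (Sum.inl ()) 1 := by decide +kernel
      exact h2 h1
  have hcard : Nat.card (alternatingGroup (Fin 5)) = Nat.card (Cfsg.POmega F5 (⇑(qfOdd 1 F5))) := by
    rw [Nat.card_congr e.toEquiv, card_psl_two_eq (F := F5) (ZMod.card 5) 60 (by norm_num),
      nat_card_alternatingGroup, Nat.card_fin]
    rfl
  obtain ⟨f⟩ := pOmega_equiv_of_simple _ altFiveHom hinj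
    (commutator_alternatingGroup_eq_top (by simp)) hcard
  exact ⟨e.symm.trans f.symm⟩

end Five

/-! ### `PSL₂(9) ≅ A₆` -/

section Six

local notation "F3" => ZMod 3

/-- Basis `e, f, g, h` of the sum-zero vectors modulo constants. -/
def sixLift : Matrix (Fin 6) ((Fin 1 ⊕ Fin 1) ⊕ Fin 2) F3 :=
  fun j i => Sum.elim (Sum.elim (fun _ => ![0, 0, 0, 1, 1, 1] j) (fun _ => ![0, 0, 1, 0, 1, 1] j))
    ![![0, 1, 2, 2, 0, 1] j, ![0, 1, 2, 2, 1, 0] j] i

/-- The matching projection. -/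
def sixProj : Matrix ((Fin 1 ⊕ Fin 1) ⊕ Fin 2) (Fin 6) F3 :=
  fun i j => Sum.elim (Sum.elim (fun _ => 2 * ![0, 0, 1, 0, 1, 1] j) (fun _ => 2 * ![0, 0, 0, 1, 1, 1] j))
    ![![0, 1, 2, 2, 0, 1] j, ![0, 1, 2, 2, 1, 0] j] i

theorem six_mat_basis : IsMatBasis sixLift sixProj := by
  unfold IsMatBasis
  decide +kernel

theorem six_quad : ∀ w : Fin 6 → F3, ∑ j, w j = 0 →
    Cfsg.quadFormMinus 1 F3 0 1 (sixProj.mulVec w) = ∑ j, w j ^ 2 := by
  unfold Cfsg.quadFormMinus
  decide +kernel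

theorem six_act_quad (σ : Perm (Fin 6)) (v : (Fin 1 ⊕ Fin 1) ⊕ Fin 2 → F3) :
    qfMinus 1 F3 0 1 (matAct sixLift sixProj σ v) = qfMinus 1 F3 0 1 v := by
  have hv := six_mat_basis.2.1 v
  rw [qfMinus_apply, qfMinus_apply, matAct_apply, six_quad _ ((Equiv.sum_comp σ⁻¹ _).trans hv),
    Equiv.sum_comp σ⁻¹ (fun j => sixLift.mulVec v j ^ 2), ← six_quad _ hv, six_mat_basis.1]

/-- `A₆ → O⁻₄(3)`. -/
noncomputable def altSixHom : alternatingGroup (Fin 6) →* quadIsoms (qfMinus 1 F3 0 1) :=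
  (quadHom (qfMinus 1 F3 0 1) (matAct sixLift sixProj) (matAct_one six_mat_basis)
    (matAct_mul six_mat_basis) six_act_quad).comp (alternatingGroup (Fin 6)).subtype

theorem psl_two_nine_equiv {K : Type*} [Field K] [Fintype K] (hK : Fintype.card K = 9) :
    Nonempty (Matrix.ProjectiveSpecialLinearGroup (Fin 2) K ≃* alternatingGroup (Fin 6)) := by
  obtain ⟨e⟩ := pOmega_minus_four (F := F3) (K := K) (q := 3) (ZMod.card 3) (by rw [hK]; rfl) 0 1
    (by decide +kernel)
  rw [← qfMinus_coe] at e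
  have hs : IsSimpleGroup (alternatingGroup (Fin 6)) := alternatingGroup.isSimpleGroup (by simp)
  have hinj : Function.Injective altSixHom := injective_of_ne_one altSixHom
    (x := ⟨swap 0 3 * swap 3 1, Equiv.Perm.mem_alternatingGroup.2 (by decide +kernel)⟩) fun h => by
      have h1 := congrArg (fun g => g.1 (Pi.single (Sum.inl (Sum.inl 0)) (1 : F3))) h
      simp only [altSixHom, MonoidHom.comp_apply, quadHom_apply, Subgroup.coe_subtype] at h1
      have h2 : matAct sixLift sixProj (swap (0 : Fin 6) 3 * swap 3 1)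
          (Pi.single (Sum.inl (Sum.inl 0)) 1) ≠ Pi.single (Sum.inl (Sum.inl 0)) 1 := by decide +kernel
      exact h2 h1
  have hcard : Nat.card (alternatingGroup (Fin 6)) = Nat.card (Cfsg.POmega F3 (⇑(qfMinus 1 F3 0 1))) := by
    rw [Nat.card_congr e.toEquiv, card_psl_two_eq (F := K) hK 360 (by norm_num),
      nat_card_alternatingGroup, Nat.card_fin]
    rfl
  obtain ⟨f⟩ := pOmega_equiv_of_simple _ altSixHom hinj
    (commutator_alternatingGroup_eq_top (by simp)) hcard
  exact ⟨e.symm.trans f.symm⟩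

end Six

end CfsgLib.Classical
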