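import Mathlib
import Cfsg.Agent.Lib.Classical.HermOrder

/-!
`(q + 1) |SU_n(q)| = |GU_n(q)|`.
-/

set_option autoImplicit false

namespace CfsgLib.Classical

open Matrix

variable {F : Type*} [Field F] [Fintype F] {q : ℕ}

/-- `U` preserves the standard Hermitian form iff `Uᵀ σ(U) = 1`. -/
theorem mem_gu_iff (hF : Fintype.card F = q ^ 2) {n : ℕ} (g : GL (Fin n) F) :
    g ∈ Cfsg.GU n F q ↔ (g : Matrix (Fin n) (Fin n) F)ᵀ * (g : Matrix (Fin n) (Fin n) F).map (qFrob hF) = 1 := by
  have hh : ∀ x y : Fin n → F, Cfsg.hermForm n F q x y = x ⬝ᵥ (qFrob hF ∘ y) := by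
    intro x y
    simp [Cfsg.hermForm, dotProduct, qFrob_apply]
  have hm : ∀ v : Fin n → F, qFrob hF ∘ ((g : Matrix (Fin n) (Fin n) F) *ᵥ v) =
      (g : Matrix (Fin n) (Fin n) F).map (qFrob hF) *ᵥ (qFrob hF ∘ v) := by
    intro v; ext i
    simp [Matrix.mulVec, dotProduct, map_sum]
  have key : ∀ u v : Fin n → F,
      Cfsg.hermForm n F q ((g : Matrix (Fin n) (Fin n) F) *ᵥ u) ((g : Matrix (Fin n) (Fin n) F) *ᵥ v) =
        u ⬝ᵥ (((g : Matrix (Fin n) (Fin n) F)ᵀ * (g : Matrix (Fin n) (Fin n) F).map (qFrob hF)) *ᵥ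
          (qFrob hF ∘ v)) := by
    intro u v
    rw [hh, hm, ← Matrix.vecMul_transpose, ← Matrix.dotProduct_mulVec, Matrix.mulVec_mulVec]
  constructor
  · intro h
    refine Matrix.ext fun i j => ?_
    have h1 := (key (Pi.single i 1) (Pi.single j 1)).symm.trans (h _ _)
    rw [hh, show qFrob hF ∘ (Pi.single j 1 : Fin n → F) = Pi.single j 1 by
      ext k; simp [Pi.single_apply, apply_ite (qFrob hF)]] at h1
    simpa [Matrix.one_apply, Pi.single_apply, @eq_comm _ i j] using h1
  · intro h u v
    show Cfsg.hermForm n F q ((g : Matrix (Fin n) (Fin n) F) *ᵥ u)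
      ((g : Matrix (Fin n) (Fin n) F) *ᵥ v) = Cfsg.hermForm n F q u v
    rw [key, h, Matrix.one_mulVec, hh]

theorem card_su_mul (hF : Fintype.card F = q ^ 2) {n : ℕ} (hn : 1 ≤ n) :
    (q + 1) * Nat.card (Cfsg.SU n F q) = Nat.card (Cfsg.GU n F q) := by
  classical
  let d : Cfsg.GU n F q →* Fˣ := Matrix.GeneralLinearGroup.det.comp (Cfsg.GU n F q).subtype
  have hk : Nat.card d.ker = Nat.card (Cfsg.SU n F q) := by
    refine Nat.card_congr
      { toFun := fun g => ⟨⟨((g.1 : GL (Fin n) F) : Matrix (Fin n) (Fin n) F), by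
            have := congrArg Units.val (MonoidHom.mem_ker.1 g.2)
            simpa [d] using this⟩, fun u v => g.1.2 u v⟩
        invFun := fun s => ⟨⟨Matrix.SpecialLinearGroup.toGL s.1, fun u v => s.2 u v⟩, by
          rw [MonoidHom.mem_ker]; ext; simp [d]⟩
        left_inv := fun g => Subtype.ext (Subtype.ext (Units.ext rfl))
        right_inv := fun s => Subtype.ext (Subtype.ext rfl) }
  have hr : d.range = (powMonoidHom (q + 1) : Fˣ →* Fˣ).ker := by
    ext u
    constructor
    · rintro ⟨g, rfl⟩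
      have h1 := congrArg Matrix.det ((mem_gu_iff hF g.1).1 g.2)
      rw [Matrix.det_mul, Matrix.det_transpose, ← RingHom.mapMatrix_apply, ← RingHom.map_det,
        qFrob_apply, Matrix.det_one] at h1
      rw [MonoidHom.mem_ker, powMonoidHom_apply]
      ext
      simpa [d, pow_succ'] using h1
    · intro hu
      have hu' : (u : F) ^ (q + 1) = 1 := by
        simpa using congrArg Units.val (MonoidHom.mem_ker.1 hu)
      let i₀ : Fin n := ⟨0, hn⟩
      let D : GL (Fin n) F := Matrix.GeneralLinearGroup.mk''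
        (Matrix.diagonal (Function.update (1 : Fin n → F) i₀ (u : F))) (by
          simp [Matrix.det_diagonal, Finset.prod_update_of_mem])
      refine ⟨⟨D, (mem_gu_iff hF D).2 ?_⟩, ?_⟩
      · change (Matrix.diagonal (Function.update (1 : Fin n → F) i₀ (u : F)))ᵀ *
          (Matrix.diagonal (Function.update (1 : Fin n → F) i₀ (u : F))).map (qFrob hF) = 1
        rw [Matrix.diagonal_transpose, Matrix.diagonal_map (map_zero _), Matrix.diagonal_mul_diagonal,
          ← Matrix.diagonal_one]
        congr 1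
        funext k
        by_cases hk : k = i₀
        · simp [hk, qFrob_apply, ← pow_succ', hu']
        · simp [hk]
      · ext
        simp [d, D, Matrix.GeneralLinearGroup.mk'', Matrix.nonsingInvUnit, Matrix.det_diagonal,
          Finset.prod_update_of_mem]
  have h := Subgroup.card_eq_card_quotient_mul_card_subgroup d.ker
  rw [Nat.card_congr (QuotientGroup.quotientKerEquivRange d).toEquiv, hr, hk,
    IsCyclic.card_powMonoidHom_ker, units_card_sq hF, Nat.gcd_mul_left_left] at h
  exact h.symm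

end CfsgLib.Classical
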