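import Mathlib
import Cfsg.Agent.Lib.Classical.SUOrder

/-!
The centre of `SU_n(q)` and the order of `PSU_n(q)`.
-/

set_option autoImplicit false

namespace CfsgLib.Classical

open Matrix

variable {F : Type*} [Field F] [Fintype F] {q : ℕ}

theorem mem_su_iff (hF : Fintype.card F = q ^ 2) {n : ℕ} (s : Matrix.SpecialLinearGroup (Fin n) F) :
    s ∈ Cfsg.SU n F q ↔
      (s : Matrix (Fin n) (Fin n) F)ᵀ * (s : Matrix (Fin n) (Fin n) F).map (qFrob hF) = 1 :=
  mem_gu_iff hF (Matrix.SpecialLinearGroup.toGL s)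

theorem diagonal_mem_su (hF : Fintype.card F = q ^ 2) {n : ℕ} (d : Fin n → F)
    (h1 : ∀ k, d k ^ (q + 1) = 1) (h2 : ∏ k, d k = 1) :
    ∃ s : Cfsg.SU n F q, (s.1 : Matrix (Fin n) (Fin n) F) = Matrix.diagonal d := by
  refine ⟨⟨⟨Matrix.diagonal d, by rw [Matrix.det_diagonal, h2]⟩, (mem_su_iff hF _).2 ?_⟩, rfl⟩
  change (Matrix.diagonal d)ᵀ * (Matrix.diagonal d).map (qFrob hF) = 1
  rw [Matrix.diagonal_transpose, Matrix.diagonal_map (map_zero _), Matrix.diagonal_mul_diagonal,
    ← Matrix.diagonal_one]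
  congr 1
  funext k
  show d k * qFrob hF (d k) = 1
  rw [qFrob_apply, ← pow_succ', h1]

theorem signed_swap_mem_su (hF : Fintype.card F = q ^ 2) {n : ℕ} {i j : Fin n} (hij : i ≠ j) :
    ∃ s : Cfsg.SU n F q, ∀ (v : Fin n → F) (k : Fin n),
      ((s.1 : Matrix (Fin n) (Fin n) F) *ᵥ v) k =
        if k = i then v j else if k = j then -v i else v k := by
  classical
  let s : Matrix.SpecialLinearGroup (Fin n) F :=
    Matrix.SpecialLinearGroup.transvection hij 1 * Matrix.SpecialLinearGroup.transvection hij.symm (-1) *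
      Matrix.SpecialLinearGroup.transvection hij 1
  have hs : ∀ (v : Fin n → F) (k : Fin n), ((s : Matrix (Fin n) (Fin n) F) *ᵥ v) k =
      if k = i then v j else if k = j then -v i else v k := by
    intro v k
    simp only [s, Matrix.SpecialLinearGroup.coe_mul, ← Matrix.mulVec_mulVec,
      Matrix.SpecialLinearGroup.transvection_coe, Matrix.add_mulVec, Matrix.one_mulVec,
      Matrix.single_mulVec_eq, Pi.add_apply, Pi.smul_apply, Pi.single_apply, smul_eq_mul]
    split_ifs <;> first | (exfalso; apply hij; simp_all; done) | simp_all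
  have hinv : ∀ v : Fin n → F, Cfsg.hermForm n F q ((s : Matrix (Fin n) (Fin n) F) *ᵥ v)
      ((s : Matrix (Fin n) (Fin n) F) *ᵥ v) = Cfsg.hermForm n F q v v := fun v => by
    rw [hermForm_self, hermForm_self]
    have : ∀ k, (((s : Matrix (Fin n) (Fin n) F) *ᵥ v) k) ^ (q + 1) = v (Equiv.swap i j k) ^ (q + 1) := by
      intro k
      rw [hs]
      rcases eq_or_ne k i with h | h
      · subst h; simp
      · rcases eq_or_ne k j with h' | h'
        · subst h'
          rw [if_neg h, if_pos rfl, Equiv.swap_apply_right, pow_succ, pow_succ, ← qFrob_apply hF,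
            map_neg, qFrob_apply, neg_mul_neg]
        · rw [if_neg h, if_neg h', Equiv.swap_apply_of_ne_of_ne h h']
    simp only [this]
    exact Equiv.sum_comp (Equiv.swap i j) (fun k => v k ^ (q + 1))
  refine ⟨⟨s, fun u v => ?_⟩, hs⟩
  show Cfsg.hermForm n F q ((s : Matrix (Fin n) (Fin n) F) *ᵥ u)
    ((s : Matrix (Fin n) (Fin n) F) *ᵥ v) = Cfsg.hermForm n F q u v
  simp only [Cfsg.hermForm]
  rw [← Equiv.sum_comp (Equiv.swap i j) (fun k => u k * v k ^ q)]
  refine Finset.sum_congr rfl fun k _ => ?_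
  rw [hs, hs]
  rcases eq_or_ne k i with h | h
  · subst h; simp
  · rcases eq_or_ne k j with h' | h'
    · subst h'
      rw [if_neg h, if_pos rfl, if_neg h, if_pos rfl, Equiv.swap_apply_right, ← qFrob_apply hF,
        map_neg, qFrob_apply, neg_mul_neg]
    · rw [if_neg h, if_neg h', if_neg h, if_neg h', Equiv.swap_apply_of_ne_of_ne h h']

theorem card_center_su (hF : Fintype.card F = q ^ 2) {n : ℕ} (hn : 2 ≤ n) :
    Nat.card (Subgroup.center (Cfsg.SU n F q)) = Nat.gcd n (q + 1) := by
  classical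
  have hq := two_le_of_card_sq hF
  -- an element of norm one which is not its own inverse
  obtain ⟨u, hu, hu2⟩ : ∃ u : Fˣ, u ^ (q + 1) = 1 ∧ u ^ 2 ≠ 1 := by
    obtain ⟨g, hg⟩ := IsCyclic.exists_generator (α := Fˣ)
    have hord : orderOf g = (q - 1) * (q + 1) := by
      rw [orderOf_eq_card_of_forall_mem_zpowers hg, units_card_sq hF]
    refine ⟨g ^ (q - 1), by rw [← pow_mul, ← hord, pow_orderOf_eq_one], fun h => ?_⟩
    rw [← pow_mul, ← orderOf_dvd_iff_pow_eq_one, hord] at h
    have := Nat.le_of_dvd (by omega) (Nat.dvd_of_mul_dvd_mul_left (by omega) h)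
    omega
  have key : ∀ A ∈ Subgroup.center (Cfsg.SU n F q),
      (A.1 : Matrix (Fin n) (Fin n) F) = Matrix.scalar (Fin n) ((A.1 : Matrix (Fin n) (Fin n) F) ⟨0, by omega⟩ ⟨0, by omega⟩) := by
    intro A hA
    have hoff : ∀ i j, i ≠ j → (A.1 : Matrix (Fin n) (Fin n) F) i j = 0 := by
      intro i j hij
      obtain ⟨s, hs⟩ := diagonal_mem_su hF
        (fun k => if k = i then (u : F) else if k = j then (u : F)⁻¹ else 1)
        (fun k => by
          have h := congrArg Units.val hu
          simp only [Units.val_pow_eq_pow_val, Units.val_one] at h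
          split_ifs
          · exact h
          · rw [inv_pow, h, inv_one]
          · exact one_pow _)
        (by
          rw [Finset.prod_eq_mul_prod_sdiff_singleton_of_mem (Finset.mem_univ i)]
          rw [Finset.prod_eq_single_of_mem j (by simp [hij.symm])]
          · simp [hij.symm]
          · intro b hb hbj
            simp only [Finset.mem_sdiff, Finset.mem_singleton] at hb
            simp [hb.2, hbj])
      have hc := congrArg (fun g : Cfsg.SU n F q => (g.1 : Matrix (Fin n) (Fin n) F) i j)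
        (Subgroup.mem_center_iff.1 hA s)
      simp only [Subgroup.coe_mul, Matrix.SpecialLinearGroup.coe_mul, hs, Matrix.diagonal_mul,
        Matrix.mul_diagonal, if_true, if_neg hij.symm] at hc
      have hne : (u : F) ≠ (u : F)⁻¹ := by
        intro h
        apply hu2
        ext
        rw [Units.val_pow_eq_pow_val, Units.val_one, sq]
        nth_rw 2 [h]
        exact mul_inv_cancel₀ u.ne_zero
      exact (mul_eq_zero.1 (show ((u : F) - (u : F)⁻¹) * (A.1 : Matrix (Fin n) (Fin n) F) i j = 0 by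
        linear_combination hc)).resolve_left (sub_ne_zero.2 hne)
    have hdiag : ∀ i j, (A.1 : Matrix (Fin n) (Fin n) F) i i = (A.1 : Matrix (Fin n) (Fin n) F) j j := by
      intro i j
      rcases eq_or_ne i j with rfl | hij
      · rfl
      obtain ⟨s, hs⟩ := signed_swap_mem_su hF hij
      have hc := congrArg (fun g : Cfsg.SU n F q => ((g.1 : Matrix (Fin n) (Fin n) F) *ᵥ Pi.single j 1) i)
        (Subgroup.mem_center_iff.1 hA s)
      have hmul : ∀ (v : Fin n → F) (k : Fin n),
          ((A.1 : Matrix (Fin n) (Fin n) F) *ᵥ v) k = (A.1 : Matrix (Fin n) (Fin n) F) k k * v k := by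
        intro v k
        rw [Matrix.mulVec, dotProduct, Finset.sum_eq_single k]
        · intro b _ hb; rw [hoff k b (Ne.symm hb), zero_mul]
        · simp
      simp only [Subgroup.coe_mul, Matrix.SpecialLinearGroup.coe_mul, ← Matrix.mulVec_mulVec, hs, hmul,
        Pi.single_eq_same, if_true, mul_one] at hc
      exact hc.symm
    ext i j
    rcases eq_or_ne i j with rfl | hij
    · simp [hdiag i ⟨0, by omega⟩]
    · simp [hoff i j hij, hij]
  let P : Subgroup Fˣ := (powMonoidHom (Nat.gcd n (q + 1)) : Fˣ →* Fˣ).ker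
  have hmem : ∀ r : Fˣ, r ∈ P ↔ r ^ n = 1 ∧ r ^ (q + 1) = 1 := fun r => by
    rw [MonoidHom.mem_ker, powMonoidHom_apply, ← orderOf_dvd_iff_pow_eq_one, Nat.dvd_gcd_iff,
      orderOf_dvd_iff_pow_eq_one, orderOf_dvd_iff_pow_eq_one]
  have hex : ∀ r : P, ∃ s : Cfsg.SU n F q,
      (s.1 : Matrix (Fin n) (Fin n) F) = Matrix.diagonal (fun _ => ((r : Fˣ) : F)) := by
    intro r
    refine diagonal_mem_su hF _ (fun _ => ?_) ?_
    · have h := congrArg Units.val ((hmem r).1 r.2).2
      simpa using h
    · have h := congrArg Units.val ((hmem r).1 r.2).1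
      simpa using h
  choose sc hsc using hex
  have hscc : ∀ r, sc r ∈ Subgroup.center (Cfsg.SU n F q) := fun r =>
    Subgroup.mem_center_iff.2 fun B => by
      refine Subtype.ext (Subtype.ext ?_)
      simp only [Subgroup.coe_mul, Matrix.SpecialLinearGroup.coe_mul, hsc, ← Matrix.scalar_apply]
      exact (Matrix.scalar_commute _ (Commute.all _) _).eq.symm
  rw [← Nat.card_congr (Equiv.ofBijective (fun r : P => (⟨sc r, hscc r⟩ : Subgroup.center (Cfsg.SU n F q)))
    ⟨fun r r' h => ?_, fun A => ?_⟩), IsCyclic.card_powMonoidHom_ker, units_card_sq hF]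
  · rw [Nat.gcd_comm]
    exact Nat.gcd_eq_left ((Nat.gcd_dvd_right n (q + 1)).trans (dvd_mul_left _ _))
  · have h' := congrArg (fun A : Subgroup.center (Cfsg.SU n F q) =>
      (A.1.1 : Matrix (Fin n) (Fin n) F) ⟨0, by omega⟩ ⟨0, by omega⟩) h
    simp only [hsc, Matrix.diagonal_apply_eq] at h'
    exact Subtype.ext (Units.ext h')
  · obtain ⟨a, ha⟩ : ∃ a, a = (A.1.1 : Matrix (Fin n) (Fin n) F) ⟨0, by omega⟩ ⟨0, by omega⟩ := ⟨_, rfl⟩
    have hA : (A.1.1 : Matrix (Fin n) (Fin n) F) = Matrix.diagonal (fun _ => a) := by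
      rw [ha, key A.1 A.2]; simp [Matrix.scalar_apply]
    have hd := A.1.1.2
    rw [hA, Matrix.det_diagonal, Finset.prod_const, Finset.card_univ, Fintype.card_fin] at hd
    have hn0 : n ≠ 0 := by omega
    have ha0 : a ≠ 0 := by rintro rfl; simp [hn0] at hd
    have hh := (mem_su_iff hF A.1.1).1 A.1.2
    rw [hA, Matrix.diagonal_transpose, Matrix.diagonal_map (map_zero _),
      Matrix.diagonal_mul_diagonal] at hh
    have hh0 := congrFun (congrFun hh ⟨0, by omega⟩) ⟨0, by omega⟩
    simp [qFrob_apply, ← pow_succ'] at hh0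
    refine ⟨⟨Units.mk0 a ha0, (hmem _).2 ⟨Units.ext (by simpa using hd), Units.ext (by simpa using hh0)⟩⟩,
      Subtype.ext (Subtype.ext (Subtype.ext ?_))⟩
    rw [hsc, hA]
    rfl

theorem card_psu_mul (hF : Fintype.card F = q ^ 2) {n : ℕ} (hn : 2 ≤ n) :
    Nat.gcd n (q + 1) * ((q + 1) * Nat.card (Cfsg.PSU n F q)) = Nat.card (Cfsg.GU n F q) := by
  rw [← card_su_mul hF (by omega), ← card_center_su hF hn,
    Subgroup.card_eq_card_quotient_mul_card_subgroup (Subgroup.center (Cfsg.SU n F q))]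
  ring

end CfsgLib.Classical
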