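import Mathlib

/-!
Self-reciprocal and conjugate-reciprocal polynomials.
-/

set_option autoImplicit false

namespace CfsgLib.Classical.SemiPalin

open Polynomial

variable {F : Type*} [Field F]

theorem coeff_rev {f : F[X]} (h : f.reverse = f) {i : ℕ} (hi : i ≤ f.natDegree) :
    f.coeff (f.natDegree - i) = f.coeff i := by
  conv_rhs => rw [← h, coeff_reverse, revAt_le hi]

theorem even_natDegree_of_eval_ne_zero {f : F[X]} (h : f.reverse = f) (hm : f.eval (-1) ≠ 0) :
    Even f.natDegree := by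
  by_contra hodd
  rw [Nat.not_even_iff_odd] at hodd
  refine hm ?_
  rw [eval_eq_sum_range]
  refine Finset.sum_involution (fun i _ => f.natDegree - i) (fun i hi => ?_) (fun i hi _ => ?_)
    (fun i _ => by simp) (fun i hi => ?_)
  · have hi' : i ≤ f.natDegree := Nat.lt_succ_iff.1 (Finset.mem_range.1 hi)
    rw [coeff_rev h hi', ← mul_add]
    have h1 : (-1 : F) ^ i * (-1) ^ (f.natDegree - i) = -1 := by
      rw [← pow_add, show i + (f.natDegree - i) = f.natDegree by omega, hodd.neg_one_pow]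
    have h2 : (-1 : F) ^ i * (-1) ^ i = 1 := by rw [← mul_pow, neg_one_mul, neg_neg, one_pow]
    have : (-1 : F) ^ i + (-1) ^ (f.natDegree - i) = 0 := by
      linear_combination ((-1 : F) ^ i) * h1 - ((-1 : F) ^ (f.natDegree - i)) * h2
    rw [this, mul_zero]
  · intro he
    obtain ⟨k, hk⟩ := hodd
    have := Finset.mem_range.1 hi
    omega
  · have := Finset.mem_range.1 hi
    omega

theorem coeff_zero_of_rev {f : F[X]} (h : f.reverse = f) (hm : f.Monic) : f.coeff 0 = 1 := by
  conv_lhs => rw [← h, coeff_zero_reverse, hm.leadingCoeff]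

/-- A root `c = ±1` of an even degree self-reciprocal polynomial is double. -/
theorem exists_sq_dvd {f : F[X]} (h : f.reverse = f) (hf : f.Monic) (he : Even f.natDegree) {c : F}
    (hc : c * c = 1) (hr : f.eval c = 0) :
    ∃ g : F[X], g.Monic ∧ g.reverse = g ∧ f = (X - C c) * (X - C c) * g := by
  obtain ⟨g, hg⟩ := dvd_iff_isRoot.2 hr
  have hgm : g.Monic := (monic_X_sub_C c).of_mul_monic_left (hg ▸ hf)
  have hdeg : f.natDegree = g.natDegree + 1 := by
    rw [hg, (monic_X_sub_C c).natDegree_mul hgm, natDegree_X_sub_C, add_comm]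
  have hrX : (X - C c : F[X]).reverse = C (-c) * (X - C c) := by
    have h1 : (X - C c : F[X]).reverse = 1 - C c * X := by
      rw [reverse, natDegree_X_sub_C, reflect_sub, reflect_C]
      rw [pow_one]
      congr 1
      simpa using reflect_monomial (R := F) 1 1
    rw [h1, mul_sub, ← C_mul, neg_mul, hc, map_neg, map_neg, map_one]
    ring
  have hgr : g.reverse = C (-c) * g := by
    rw [hg, reverse_mul_of_domain, hrX] at h
    have h2 : (X - C c) * (C (-c) * g.reverse) = (X - C c) * g := by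
      rw [← mul_assoc, mul_comm _ (C (-c))]; exact h
    have h3 := mul_left_cancel₀ (X_sub_C_ne_zero c) h2
    conv_rhs => rw [← h3, ← mul_assoc, ← C_mul, neg_mul_neg, hc, map_one, one_mul]
  have hgc : g.eval c = 0 := by
    by_cases h2 : (2 : F) = 0
    · have hneg : ∀ a : F, -a = a := fun a => by linear_combination (-a) * h2
      have hc1 : c = 1 := by
        have : (c - 1) * (c - 1) = 0 := by linear_combination hc + (1 - c) * h2
        exact sub_eq_zero.1 (mul_self_eq_zero.1 this)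
      subst hc1
      rw [hneg, map_one, one_mul] at hgr
      by_contra hne
      refine Nat.not_even_iff_odd.2 ?_ (even_natDegree_of_eval_ne_zero hgr (by rwa [hneg]))
      obtain ⟨k, hk⟩ := he
      exact ⟨k - 1, by omega⟩
    · let : Invertible c := ⟨c, hc, hc⟩
      have h4 := eval₂_reverse_mul_pow (RingHom.id F) c g
      rw [show (⅟c : F) = c from rfl, hgr] at h4
      simp only [eval₂_id, eval_mul, eval_C] at h4
      obtain ⟨k, hk⟩ := he
      have hpow : c ^ g.natDegree = c := by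
        rw [show g.natDegree = 2 * (k - 1) + 1 by omega, pow_succ, pow_mul, sq, hc, one_pow, one_mul]
      rw [hpow] at h4
      have : (2 : F) * g.eval c = 0 := by linear_combination -h4 - (g.eval c) * hc
      exact (mul_eq_zero.1 this).resolve_left h2
  obtain ⟨k, hk⟩ := dvd_iff_isRoot.2 hgc
  have hkm : k.Monic := (monic_X_sub_C c).of_mul_monic_left (hk ▸ hgm)
  refine ⟨k, hkm, ?_, by rw [hg, hk, mul_assoc]⟩
  rw [hk, reverse_mul_of_domain, hrX] at hgr
  have hc0 : C (-c) ≠ (0 : F[X]) := by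
    rw [ne_eq, C_eq_zero, neg_eq_zero]; exact left_ne_zero_of_mul_eq_one hc
  exact mul_left_cancel₀ (mul_ne_zero hc0 (X_sub_C_ne_zero c)) (by rw [hgr, mul_assoc])

/-- The conjugate reciprocal `σ(f*)`. -/
noncomputable def srev (σ : F →+* F) (f : F[X]) : F[X] := f.reverse.map σ

theorem srev_mul (σ : F →+* F) (f g : F[X]) : srev σ (f * g) = srev σ f * srev σ g := by
  rw [srev, reverse_mul_of_domain, Polynomial.map_mul]; rfl

theorem reverse_C (a : F) : (C a).reverse = C a := by
  rw [reverse, natDegree_C, reflect_C, pow_zero, mul_one]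

theorem srev_C (σ : F →+* F) (a : F) : srev σ (C a) = C (σ a) := by
  rw [srev, reverse_C, map_C]

theorem natTrailingDegree_eq_zero {f : F[X]} (h0 : f.coeff 0 ≠ 0) : f.natTrailingDegree = 0 :=
  Nat.le_zero.1 (natTrailingDegree_le_of_ne_zero h0)

theorem natDegree_srev (σ : F →+* F) {f : F[X]} (h0 : f.coeff 0 ≠ 0) :
    (srev σ f).natDegree = f.natDegree := by
  rw [srev, natDegree_map, reverse_natDegree, natTrailingDegree_eq_zero h0, Nat.sub_zero]

theorem coeff_srev (σ : F →+* F) (f : F[X]) {i : ℕ} (hi : i ≤ f.natDegree) :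
    (srev σ f).coeff i = σ (f.coeff (f.natDegree - i)) := by
  rw [srev, coeff_map, coeff_reverse, revAt_le hi]

theorem srev_srev (σ : F →+* F) (hσ : ∀ x, σ (σ x) = x) {f : F[X]} (h0 : f.coeff 0 ≠ 0) :
    srev σ (srev σ f) = f := by
  refine Polynomial.ext fun i => ?_
  have hd := natDegree_srev σ h0
  rcases le_or_gt i f.natDegree with hi | hi
  · rw [coeff_srev σ _ (hd ▸ hi), hd, coeff_srev σ f (Nat.sub_le _ _), hσ,
      show f.natDegree - (f.natDegree - i) = i by omega]
  · rw [coeff_eq_zero_of_natDegree_lt hi]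
    refine coeff_eq_zero_of_natDegree_lt (lt_of_le_of_lt ?_ hi)
    rw [srev, natDegree_map]
    exact (reverse_natDegree_le _).trans (by rw [hd])

/-- The monic conjugate reciprocal. -/
noncomputable def tilde (σ : F →+* F) (f : F[X]) : F[X] := C (σ (f.coeff 0))⁻¹ * srev σ f

theorem tilde_mul (σ : F →+* F) (f g : F[X]) : tilde σ (f * g) = tilde σ f * tilde σ g := by
  rw [tilde, tilde, tilde, srev_mul, mul_coeff_zero, map_mul, mul_inv, C_mul]
  ring

theorem tilde_facts (σ : F →+* F) {f : F[X]} (hf : f.Monic) (h0 : f.coeff 0 ≠ 0) :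
    (tilde σ f).Monic ∧ (tilde σ f).natDegree = f.natDegree ∧ (tilde σ f).coeff 0 = (σ (f.coeff 0))⁻¹ := by
  have hne : (σ (f.coeff 0))⁻¹ ≠ 0 := inv_ne_zero ((map_ne_zero σ).2 h0)
  have hd : (tilde σ f).natDegree = f.natDegree := by rw [tilde, natDegree_C_mul hne, natDegree_srev σ h0]
  refine ⟨?_, hd, ?_⟩
  · rw [Monic, leadingCoeff, hd, tilde, coeff_C_mul, coeff_srev σ f le_rfl, Nat.sub_self,
      inv_mul_cancel₀ ((map_ne_zero σ).2 h0)]
  · rw [tilde, coeff_C_mul, coeff_srev σ f (Nat.zero_le _), Nat.sub_zero, ← leadingCoeff, hf.leadingCoeff,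
      map_one, mul_one]

theorem tilde_tilde (σ : F →+* F) (hσ : ∀ x, σ (σ x) = x) {f : F[X]} (hf : f.Monic) (h0 : f.coeff 0 ≠ 0) :
    tilde σ (tilde σ f) = f := by
  conv_lhs => rw [tilde, (tilde_facts σ hf h0).2.2, tilde, srev_mul, srev_C, srev_srev σ hσ h0]
  rw [← mul_assoc, ← C_mul, map_inv₀, hσ, inv_inv, mul_inv_cancel₀ h0, map_one, one_mul]

theorem tilde_irreducible (σ : F →+* F) (hσ : ∀ x, σ (σ x) = x) {f : F[X]} (hf : f.Monic)
    (h0 : f.coeff 0 ≠ 0) (hi : Irreducible f) : Irreducible (tilde σ f) := by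
  obtain ⟨hm, hd, hc⟩ := tilde_facts σ hf h0
  refine (hm.irreducible_iff_natDegree).2 ⟨fun h => ?_, fun a b ha hb hab => ?_⟩
  · have := hd
    rw [h, natDegree_one] at this
    exact hi.natDegree_pos.ne' this.symm
  · have h0ab : (a * b).coeff 0 ≠ 0 := by rw [hab, hc]; exact inv_ne_zero ((map_ne_zero σ).2 h0)
    rw [mul_coeff_zero] at h0ab
    obtain ⟨ha0, hb0⟩ := mul_ne_zero_iff.1 h0ab
    have h2 := congrArg (tilde σ) hab
    rw [tilde_mul, tilde_tilde σ hσ hf h0] at h2
    rcases hi.isUnit_or_isUnit h2.symm with h | h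
    · left; rw [← (tilde_facts σ ha ha0).2.1]; exact natDegree_eq_zero_of_isUnit h
    · right; rw [← (tilde_facts σ hb hb0).2.1]; exact natDegree_eq_zero_of_isUnit h

/-- Every conjugate-reciprocal monic polynomial of positive degree has a conjugate-reciprocal factor that is
irreducible or a product of two different irreducibles swapped by `tilde`. -/
theorem exists_minimal_factor (σ : F →+* F) (hσ : ∀ x, σ (σ x) = x) {f : F[X]} (hf : f.Monic)
    (h0 : f.coeff 0 ≠ 0) (ht : tilde σ f = f) (hd : 0 < f.natDegree) :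
    ∃ a b : F[X], a.Monic ∧ b.Monic ∧ f = a * b ∧ 0 < a.natDegree ∧ tilde σ a = a ∧ tilde σ b = b ∧
      (Irreducible a ∨ ∃ P Q : F[X], Irreducible P ∧ Irreducible Q ∧ P.Monic ∧ Q.Monic ∧ P ≠ Q ∧ a = P * Q) := by
  obtain ⟨P, hPm, hP, R, hR⟩ := exists_monic_irreducible_factor f (fun h => by
    have := natDegree_eq_zero_of_isUnit h; omega)
  have h0' := h0
  rw [hR, mul_coeff_zero] at h0'
  obtain ⟨hP0, hR0⟩ := mul_ne_zero_iff.1 h0'
  have hRm : R.Monic := hPm.of_mul_monic_left (hR ▸ hf)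
  obtain ⟨hQm, hQd, -⟩ := tilde_facts σ hPm hP0
  have hQ := tilde_irreducible σ hσ hPm hP0 hP
  have hsplit : f = tilde σ P * tilde σ R := by rw [← tilde_mul, ← hR, ht]
  by_cases hPQ : tilde σ P = P
  · refine ⟨P, R, hPm, hRm, hR, hP.natDegree_pos, hPQ, ?_, Or.inl hP⟩
    refine mul_left_cancel₀ hP.ne_zero ?_
    rw [← hR]; conv_rhs => rw [hsplit, hPQ]
  · have hdvd : tilde σ P ∣ R := by
      have h1 : tilde σ P ∣ P * R := ⟨tilde σ R, by rw [← hR, hsplit]⟩
      exact (hQ.prime.dvd_or_dvd h1).resolve_left fun h =>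
        hPQ (eq_of_monic_of_associated hQm hPm (hQ.associated_of_dvd hP h))
    obtain ⟨S, hS⟩ := hdvd
    have hSm : S.Monic := hQm.of_mul_monic_left (hS ▸ hRm)
    have hPPm := hPm.mul hQm
    refine ⟨P * tilde σ P, S, hPPm, hSm, by rw [hR, hS, mul_assoc], ?_, ?_, ?_,
      Or.inr ⟨P, tilde σ P, hP, hQ, hPm, hQm, fun h => hPQ h.symm, rfl⟩⟩
    · rw [hPm.natDegree_mul hQm]; have := hP.natDegree_pos; omega
    · rw [tilde_mul, tilde_tilde σ hσ hPm hP0, mul_comm]
    · refine mul_left_cancel₀ (mul_ne_zero hQ.ne_zero hP.ne_zero) ?_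
      have h3 := ht
      rw [hR, hS, tilde_mul, tilde_mul, tilde_tilde σ hσ hPm hP0] at h3
      rw [mul_assoc, h3]; ring

end CfsgLib.Classical.SemiPalin
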