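import Mathlib

/-!
Binary norm forms over finite commutative rings, and the two consequences used for conjugacy in classical
groups: a symmetric unit commuting with `θ` is `τ e * e` for some `e` in the centraliser, and a twisted
Hilbert 90.
-/

set_option autoImplicit false

namespace CfsgLib.Classical.SemiNorm

/-- Over a finite field a binary form with unit discriminant represents every element. -/
theorem exists_binary_field {k : Type*} [Field k] [Finite k] (a b : k) (hd : a * a - 4 * b ≠ 0) (s : k) :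
    ∃ u v : k, u * u + a * u * v + b * v * v = s := by
  have := Fintype.ofFinite k
  by_cases h2 : (2 : k) = 0
  · have : CharP k 2 := CharTwo.of_one_ne_zero_of_two_eq_zero one_ne_zero h2
    obtain ⟨u, hu⟩ := FiniteField.isSquare_of_char_two (ringChar.eq k 2) s
    exact ⟨u, 0, by rw [hu]; ring⟩
  · have hodd : Fintype.card k % 2 = 1 := FiniteField.odd_card_of_char_ne_two (fun h => h2 (by
      have := ringChar.spec k 2
      exact_mod_cast (this.2 (by rw [h]))))
    have hc : (4 * b - a * a) / 4 ≠ 0 := by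
      have h4 : (4 : k) ≠ 0 := by
        rw [show (4 : k) = 2 * 2 by norm_num]; exact mul_ne_zero h2 h2
      rw [div_ne_zero_iff]
      exact ⟨fun h => hd (by linear_combination -h), h4⟩
    obtain ⟨x, y, hxy⟩ := FiniteField.exists_root_sum_quadratic
      (f := Polynomial.X ^ 2 - Polynomial.C s) (g := Polynomial.C ((4 * b - a * a) / 4) * Polynomial.X ^ 2)
      (Polynomial.degree_X_pow_sub_C (by norm_num) s) (Polynomial.degree_C_mul_X_pow 2 hc) hodd
    simp only [Polynomial.eval_sub, Polynomial.eval_pow, Polynomial.eval_X, Polynomial.eval_C,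
      Polynomial.eval_mul] at hxy
    refine ⟨x - a * y / 2, y, ?_⟩
    have h4 : (4 : k) ≠ 0 := by rw [show (4 : k) = 2 * 2 by norm_num]; exact mul_ne_zero h2 h2
    field_simp at hxy ⊢
    linear_combination hxy

section Ring

variable {R : Type*} [CommRing R] [Finite R]

/-- Over a finite commutative ring a binary form with unit discriminant represents every unit. -/
theorem exists_binary (a b : R) (hd : IsUnit (a * a - 4 * b)) {s : R} (hs : IsUnit s) :
    ∃ u v : R, u * u + a * u * v + b * v * v = s := by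
  classical
  let N : R → R → R := fun u v => u * u + a * u * v + b * v * v
  let I := nilradical R
  have hred : IsReduced (R ⧸ I) :=
    (Ideal.isRadical_iff_quotient_reduced I).1 (Ideal.radical_isRadical _)
  let e := IsArtinianRing.equivPi (R ⧸ I)
  let π : R →+* R ⧸ I := Ideal.Quotient.mk I
  have : Finite (R ⧸ I) := Finite.of_surjective π Ideal.Quotient.mk_surjective
  have hcomp : ∀ M : MaximalSpectrum (R ⧸ I), ∃ u v : (R ⧸ I) ⧸ M.asIdeal,
      u * u + e (π a) M * u * v + e (π b) M * v * v = e (π s) M := by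
    intro M
    let _ := Ideal.Quotient.field M.asIdeal
    have : Finite ((R ⧸ I) ⧸ M.asIdeal) :=
      Finite.of_surjective (Ideal.Quotient.mk M.asIdeal) Ideal.Quotient.mk_surjective
    refine exists_binary_field _ _ ?_ _
    have h := (hd.map π).map e
    rw [map_sub, map_mul, map_mul, map_ofNat, map_sub, map_mul, map_mul, map_ofNat] at h
    exact (Pi.isUnit_iff.1 h M).ne_zero
  choose u v huv using hcomp
  obtain ⟨U, hU⟩ : ∃ U : R, e (π U) = u := by
    obtain ⟨y, hy⟩ := e.surjective u
    obtain ⟨U, rfl⟩ := Ideal.Quotient.mk_surjective y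
    exact ⟨U, hy⟩
  obtain ⟨W, hW⟩ : ∃ W : R, e (π W) = v := by
    obtain ⟨y, hy⟩ := e.surjective v
    obtain ⟨W, rfl⟩ := Ideal.Quotient.mk_surjective y
    exact ⟨W, hy⟩
  have hnil : N U W - s ∈ I := by
    rw [← Ideal.Quotient.eq_zero_iff_mem]
    refine e.injective ?_
    funext M
    show e (π (N U W - s)) M = e 0 M
    simp only [N, map_sub, map_add, map_mul, hU, hW, map_zero, Pi.sub_apply, Pi.add_apply,
      Pi.mul_apply, Pi.zero_apply, huv M, sub_self]
  obtain ⟨p, r, hpr⟩ : ∃ p r : R, 2 * p + a * r = 1 := by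
    obtain ⟨d, hd'⟩ := hd.exists_left_inv
    exact ⟨-(2 * b) * d, a * d, by linear_combination hd'⟩
  have hNU : IsUnit (N U W) := by
    have : IsNilpotent (N U W - s) := hnil
    simpa using this.isUnit_add_right_of_commute hs (Commute.all _ _)
  obtain ⟨w, hw⟩ := hNU.exists_left_inv
  have hw' : (s - N U W) * w ∈ I := I.mul_mem_right _ (by simpa using I.neg_mem hnil)
  let f : I → I := fun y => ⟨(y : R) + N p r * (y : R) * (y : R),
    I.add_mem y.2 (I.mul_mem_left _ y.2)⟩
  have hf : Function.Injective f := by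
    intro y y' h
    have h' : ((y : R) - y') * (1 + N p r * ((y : R) + y')) = 0 := by
      have := congrArg Subtype.val h
      simp only [f] at this
      linear_combination this
    have hu : IsUnit (1 + N p r * ((y : R) + y')) :=
      IsNilpotent.isUnit_one_add (I.mul_mem_left _ (I.add_mem y.2 y'.2))
    exact Subtype.ext (sub_eq_zero.1 ((hu.mul_left_eq_zero).1 h'))
  obtain ⟨y, hy⟩ := (Finite.injective_iff_surjective.1 hf) ⟨_, hw'⟩
  have hy' : (y : R) + N p r * (y : R) * (y : R) = (s - N U W) * w := congrArg Subtype.val hy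
  refine ⟨U * (1 + p * y) - b * W * (r * y), U * (r * y) + W * (1 + p * y) + a * W * (r * y), ?_⟩
  simp only [N] at hy' hw ⊢
  linear_combination (U * U + a * U * W + b * W * W) * (hy' + (y : R) * hpr) + (s - (U * U + a * U * W + b * W * W)) * hw

/-- A binary quadratic form whose outer coefficients generate the unit ideal takes a unit value. -/
theorem exists_unit_value (A B C x z : R) (h : x * A + z * C = 1) :
    ∃ u v : R, IsUnit (A * u * u + B * u * v + C * v * v) := by
  classical
  let I := nilradical R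
  have hred : IsReduced (R ⧸ I) :=
    (Ideal.isRadical_iff_quotient_reduced I).1 (Ideal.radical_isRadical _)
  let e := IsArtinianRing.equivPi (R ⧸ I)
  let π : R →+* R ⧸ I := Ideal.Quotient.mk I
  let u : ∀ M : MaximalSpectrum (R ⧸ I), (R ⧸ I) ⧸ M.asIdeal := fun M =>
    if e (π A) M = 0 then 0 else 1
  let v : ∀ M : MaximalSpectrum (R ⧸ I), (R ⧸ I) ⧸ M.asIdeal := fun M =>
    if e (π A) M = 0 then 1 else 0
  obtain ⟨U, hU⟩ : ∃ U : R, e (π U) = u := by
    obtain ⟨y, hy⟩ := e.surjective u
    obtain ⟨U, rfl⟩ := Ideal.Quotient.mk_surjective y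
    exact ⟨U, hy⟩
  obtain ⟨W, hW⟩ : ∃ W : R, e (π W) = v := by
    obtain ⟨y, hy⟩ := e.surjective v
    obtain ⟨W, rfl⟩ := Ideal.Quotient.mk_surjective y
    exact ⟨W, hy⟩
  refine ⟨U, W, ?_⟩
  have key : IsUnit (e (π (A * U * U + B * U * W + C * W * W))) := by
    rw [Pi.isUnit_iff]
    intro M
    let _ := Ideal.Quotient.field M.asIdeal
    refine isUnit_iff_ne_zero.2 fun h0 => ?_
    have h1 := congrArg (fun y => e (π y) M) h
    simp only [map_add, map_mul, map_one, Pi.add_apply, Pi.mul_apply, Pi.one_apply] at h1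
    simp only [map_add, map_mul, hU, hW, Pi.add_apply, Pi.mul_apply, u, v] at h0
    by_cases hA : e (π A) M = 0
    · simp only [hA, if_true, mul_zero, add_zero, zero_add, mul_one] at h0 h1
      rw [h0, mul_zero] at h1
      exact zero_ne_one h1
    · simp only [hA, if_false, mul_zero, add_zero, mul_one] at h0
  have h' : IsUnit (π (A * U * U + B * U * W + C * W * W)) := by
    simpa using key.map e.symm
  obtain ⟨y, hy⟩ := h'.exists_left_inv
  obtain ⟨y, rfl⟩ := Ideal.Quotient.mk_surjective y
  have hn : y * (A * U * U + B * U * W + C * W * W) - 1 ∈ I := by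
    rw [← Ideal.Quotient.eq_zero_iff_mem, map_sub, map_mul, map_one, sub_eq_zero]; exact hy
  have hu : IsUnit (y * (A * U * U + B * U * W + C * W * W)) := by
    simpa using IsNilpotent.isUnit_add_right_of_commute (hn : IsNilpotent _) isUnit_one (Commute.all _ _)
  exact isUnit_of_mul_isUnit_right hu

end Ring

section Star

variable {M : Type*} [Ring M] [Finite M] (τ : M →+ M)

/-- A finite subring contains the inverses of its units. -/
theorem isUnit_mk {S : Subring M} {x : M} (hx : x ∈ S) (hu : IsUnit x) : IsUnit (⟨x, hx⟩ : S) := by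
  have hinj : Function.Injective (fun y : S => (⟨x, hx⟩ : S) * y) := fun y y' h =>
    Subtype.ext (hu.mul_left_cancel (congrArg Subtype.val h))
  obtain ⟨y, hy⟩ := (Finite.injective_iff_surjective.1 hinj) 1
  have hy' : x * (y : M) = 1 := congrArg Subtype.val hy
  refine ⟨⟨⟨x, hx⟩, y, hy, Subtype.ext ?_⟩, rfl⟩
  refine hu.mul_left_cancel ?_
  show x * ((y : M) * x) = x * 1
  rw [← mul_assoc, hy', one_mul, mul_one]

omit [Finite M] in
theorem commute_closure {s : Set M} {x y : M} (h : ∀ z ∈ s, Commute x z)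
    (hy : y ∈ Subring.closure s) : Commute x y :=
  Subring.mem_centralizer_iff.1 ((Subring.closure_le (t := Subring.centralizer {x})).2
    (fun z hz => Subring.mem_centralizer_iff.2 fun g hg => by rw [Set.mem_singleton_iff.1 hg]; exact h z hz)
    hy) x rfl

/-- A `τ`-fixed unit `S` commuting with `θ` is `τ e * e`, with `e` commuting with whatever commutes
with `S` and `θ`. -/
theorem exists_star_mul (h1 : τ 1 = 1) (hmul : ∀ x y, τ (x * y) = τ y * τ x) {S θ θ' : M}
    (hS : IsUnit S) (hτS : τ S = S) (hθ : τ θ = θ') (hθ' : τ θ' = θ) (hSθ : Commute S θ)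
    (hSθ' : Commute S θ') (hθθ : Commute θ θ') (hd : IsUnit (θ - θ')) :
    ∃ e : M, τ e * e = S ∧ ∀ f, Commute f S → Commute f θ → Commute f θ' → Commute f e := by
  obtain ⟨c, hc⟩ : ∃ c, c = θ + θ' := ⟨_, rfl⟩
  obtain ⟨d, hdd⟩ : ∃ d, d = θ' * θ := ⟨_, rfl⟩
  let G : Set M := {S, c, d}
  let R := Subring.closure G
  have hcS : Commute c S := by rw [hc]; exact (hSθ.add_right hSθ').symm
  have hdS : Commute d S := by rw [hdd]; exact (hSθ'.mul_right hSθ).symm
  have hθc : Commute θ c := by rw [hc]; exact (Commute.refl θ).add_right hθθ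
  have hθd : Commute θ d := by rw [hdd]; exact hθθ.mul_right (Commute.refl θ)
  have hθ'c : Commute θ' c := by rw [hc]; exact hθθ.symm.add_right (Commute.refl θ')
  have hθ'd : Commute θ' d := by rw [hdd]; exact (Commute.refl θ').mul_right hθθ.symm
  have hcd : Commute c d := by rw [hc]; exact hθd.add_left hθ'd
  have hcomm : ∀ x ∈ G, ∀ y ∈ G, x * y = y * x := by
    simp only [G, Set.mem_insert_iff, Set.mem_singleton_iff]
    rintro x (rfl | rfl | rfl) y (rfl | rfl | rfl)
    exacts [rfl, hcS.symm, hdS.symm, hcS, rfl, hcd, hdS, hcd.symm, rfl]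
  have := Subring.isMulCommutative_closure hcomm
  let _ : CommRing R := { Subring.toRing R with mul_comm := mul_comm' }
  have hGθ : ∀ z ∈ G, Commute θ z := by
    simp only [G, Set.mem_insert_iff, Set.mem_singleton_iff]
    rintro z (rfl | rfl | rfl)
    exacts [hSθ.symm, hθc, hθd]
  have hGθ' : ∀ z ∈ G, Commute θ' z := by
    simp only [G, Set.mem_insert_iff, Set.mem_singleton_iff]
    rintro z (rfl | rfl | rfl)
    exacts [hSθ'.symm, hθ'c, hθ'd]
  have hfix : ∀ x ∈ R, τ x = x := by
    intro x hx
    induction hx using Subring.closure_induction with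
    | mem z hz =>
      simp only [G, Set.mem_insert_iff, Set.mem_singleton_iff] at hz
      rcases hz with rfl | rfl | rfl
      · exact hτS
      · rw [hc, map_add, hθ, hθ', add_comm]
      · rw [hdd, hmul, hθ, hθ']
    | zero => exact map_zero τ
    | one => exact h1
    | add _ _ _ _ i j => rw [map_add, i, j]
    | neg _ _ i => rw [map_neg, i]
    | mul y z hy hz i j =>
      rw [hmul, i, j]
      exact congrArg Subtype.val (mul_comm' (⟨z, hz⟩ : R) ⟨y, hy⟩)
  have hcR : c ∈ R := Subring.subset_closure (by simp [G])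
  have hdR : d ∈ R := Subring.subset_closure (by simp [G])
  have hSR : S ∈ R := Subring.subset_closure (by simp [G])
  have hu : IsUnit ((⟨c, hcR⟩ : R) * ⟨c, hcR⟩ - 4 * ⟨d, hdR⟩) := by
    have h4 : (4 : R) = 1 + 1 + 1 + 1 := by norm_num
    have hsq : (((⟨c, hcR⟩ : R) * ⟨c, hcR⟩ - 4 * ⟨d, hdR⟩ : R) : M) = (θ - θ') * (θ - θ') := by
      rw [h4]
      show c * c - (1 + 1 + 1 + 1) * d = _
      simp only [hc, hdd, add_mul, mul_add, sub_mul, mul_sub, one_mul, hθθ.eq]
      abel
    have hm := isUnit_mk ((⟨c, hcR⟩ : R) * ⟨c, hcR⟩ - 4 * ⟨d, hdR⟩).2 (hsq ▸ hd.mul hd)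
    exact hm
  obtain ⟨u, v, huv⟩ := @exists_binary R _ _ _ _ hu ⟨S, hSR⟩ (isUnit_mk hSR hS)
  refine ⟨u + v * θ, ?_, fun f hfS hfθ hfθ' => ?_⟩
  · have huv' := congrArg Subtype.val huv
    simp only [Subring.coe_add, Subring.coe_mul] at huv'
    have e1 : τ ((u : M) + v * θ) = u + θ' * v := by
      rw [map_add, hfix _ u.2, hmul, hθ, hfix _ v.2]
    have hvθ : Commute θ' (v : M) := commute_closure hGθ' v.2
    have huθ' : Commute θ' (u : M) := commute_closure hGθ' u.2
    have huθ : Commute θ (u : M) := commute_closure hGθ u.2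
    have hvθ2 : Commute θ (v : M) := commute_closure hGθ v.2
    have huv2 : Commute (u : M) v := congrArg Subtype.val (mul_comm' u v)
    rw [e1, ← huv', hc, hdd]
    have a1 : (u : M) * (v * θ) = θ * u * v := by
      rw [huθ.eq, mul_assoc, hvθ2.eq]
    have a2 : θ' * v * u = θ' * u * v := by rw [mul_assoc, ← huv2.eq, ← mul_assoc]
    have a3 : θ' * v * (v * θ) = θ' * θ * v * v := by
      rw [← mul_assoc, mul_assoc (θ' * (v : M)) v θ, ← hvθ2.eq, mul_assoc θ' (v : M) _, ← mul_assoc (v : M) θ v,
        ← hvθ2.eq, mul_assoc, mul_assoc, mul_assoc]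
    simp only [add_mul, mul_add, a1, a2, a3]
    abel
  · have hfG : ∀ z ∈ G, Commute f z := by
      simp only [G, Set.mem_insert_iff, Set.mem_singleton_iff]
      rintro z (rfl | rfl | rfl)
      · exact hfS
      · rw [hc]; exact hfθ.add_right hfθ'
      · rw [hdd]; exact hfθ'.mul_right hfθ
    exact (commute_closure hfG u.2).add_right ((commute_closure hfG v.2).mul_right hfθ)

/-- Twisted Hilbert 90: some `z = w + y * τ w` is a unit. -/
theorem exists_twisted (h1 : τ 1 = 1) (hmul : ∀ x y, τ (x * y) = τ y * τ x) {θ θ' y y' : M}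
    (hθ : τ θ = θ') (hθ' : τ θ' = θ) (hy : τ y = y') (hy' : τ y' = y) (hyy : y * y' = 1) (hyy' : y' * y = 1)
    (hθy : Commute θ y) (hθ'y : Commute θ' y) (hθθ : Commute θ θ') (hd : IsUnit (θ - θ')) :
    ∃ z : M, IsUnit z ∧ τ z * y = z ∧
      ∀ f, Commute f θ → Commute f θ' → Commute f y → Commute f z := by
  let G : Set M := {θ, θ', y, y'}
  let R := Subring.closure G
  let Y : Mˣ := ⟨y, y', hyy, hyy'⟩
  have hθy' : Commute θ y' := Commute.units_inv_right (u := Y) hθy
  have hθ'y' : Commute θ' y' := Commute.units_inv_right (u := Y) hθ'y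
  have hcomm : ∀ a ∈ G, ∀ b ∈ G, a * b = b * a := by
    simp only [G, Set.mem_insert_iff, Set.mem_singleton_iff]
    rintro a (rfl | rfl | rfl | rfl) b (rfl | rfl | rfl | rfl)
    exacts [rfl, hθθ, hθy, hθy', hθθ.symm, rfl, hθ'y, hθ'y', hθy.symm, hθ'y.symm, rfl,
      hyy.trans hyy'.symm, hθy'.symm, hθ'y'.symm, hyy'.trans hyy.symm, rfl]
  have := Subring.isMulCommutative_closure hcomm
  let _ : CommRing R := { Subring.toRing R with mul_comm := mul_comm' }
  have hττ : ∀ x ∈ R, τ x ∈ R ∧ τ (τ x) = x := by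
    intro x hx
    induction hx using Subring.closure_induction with
    | mem z hz =>
      simp only [G, Set.mem_insert_iff, Set.mem_singleton_iff] at hz
      rcases hz with rfl | rfl | rfl | rfl
      · exact ⟨hθ ▸ Subring.subset_closure (by simp [G]), by rw [hθ, hθ']⟩
      · exact ⟨hθ' ▸ Subring.subset_closure (by simp [G]), by rw [hθ', hθ]⟩
      · exact ⟨hy ▸ Subring.subset_closure (by simp [G]), by rw [hy, hy']⟩
      · exact ⟨hy' ▸ Subring.subset_closure (by simp [G]), by rw [hy', hy]⟩
    | zero => simp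
    | one => simp [h1]
    | add _ _ _ _ i j => exact ⟨by rw [map_add]; exact add_mem i.1 j.1, by rw [map_add, map_add, i.2, j.2]⟩
    | neg _ _ i => exact ⟨by rw [map_neg]; exact neg_mem i.1, by rw [map_neg, map_neg, i.2]⟩
    | mul _ _ _ _ i j => exact ⟨by rw [hmul]; exact mul_mem j.1 i.1, by rw [hmul, hmul, i.2, j.2]⟩
  let T : R →+* R :=
    { toFun := fun x => ⟨τ x, (hττ x x.2).1⟩
      map_one' := Subtype.ext h1
      map_mul' := fun a b => by
        rw [mul_comm (⟨τ a, _⟩ : R)]
        exact Subtype.ext (hmul a b)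
      map_zero' := Subtype.ext (map_zero τ)
      map_add' := fun a b => Subtype.ext (map_add τ _ _) }
  have hTT : ∀ x, T (T x) = x := fun x => Subtype.ext (hττ x x.2).2
  let t : R := ⟨θ, Subring.subset_closure (by simp [G])⟩
  let η : R := ⟨y, Subring.subset_closure (by simp [G])⟩
  have hη : T η * η = 1 := Subtype.ext (show τ y * y = 1 by rw [hy, hyy'])
  have hdu : IsUnit (t - T t) := isUnit_mk (t - T t).2 (show IsUnit (θ - τ θ) by rw [hθ]; exact hd)
  let K : R → R := fun w => w + η * T w
  have hK : ∀ w, T (K w) * η = K w := fun w => by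
    simp only [K, map_add, map_mul, hTT]
    linear_combination w * hη
  obtain ⟨dd, hdd⟩ := hdu.exists_left_inv
  -- `θ * K 1 - K θ` is a unit
  have hη' : T η * η = 1 := hη
  have hideal : ∃ a b : R, a * (T (K 1) * K 1) + b * (T (K t) * K t) = 1 := by
    obtain ⟨a, b, hab⟩ : ∃ a b : R, a * K 1 + b * K t = 1 := by
      refine ⟨dd * T η * t, -(dd * T η), ?_⟩
      simp only [K, map_one]
      linear_combination hdd + (dd * (t - T t)) * hη
    refine ⟨η * (a * a + 2 * (a * a * a * K 1 * (b * K t)) * 0) * (a * K 1 + 3 * (b * K t)),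
      η * (b * b) * (3 * (a * K 1) + b * K t), ?_⟩
    linear_combination ((a * K 1 + b * K t) ^ 2 + (a * K 1 + b * K t) + 1) * hab +
      (a * a * (a * K 1 + 3 * (b * K t))) * K 1 * hK 1 +
      (b * b * (3 * (a * K 1) + b * K t)) * K t * hK t
  obtain ⟨a, b, hab⟩ := hideal
  -- make the coefficients `T`-fixed
  obtain ⟨ε, hε⟩ : ∃ ε : R, ε + T ε = 1 := by
    refine ⟨t * dd, ?_⟩
    have hTd : T dd * (T t - t) = 1 := by
      have := congrArg T hdd
      simpa [map_sub, hTT] using this
    have hTdd : T dd = -dd := by linear_combination (-(T dd)) * hdd - dd * hTd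
    simp only [map_mul]
    linear_combination hdd + (T t) * hTdd
  let R0 : Subring R := RingHom.eqLocus T (RingHom.id R)
  have hmem : ∀ x : R, x + T x ∈ R0 := fun x => by
    show T (x + T x) = x + T x
    rw [map_add, hTT, add_comm]
  have hN : ∀ x : R, T x * x ∈ R0 := fun x => by
    show T (T x * x) = T x * x
    rw [map_mul, hTT, mul_comm]
  obtain ⟨u, v, huv⟩ := exists_unit_value (R := R0) ⟨_, hN (K 1)⟩ ⟨_, hmem (T (K 1) * K t)⟩ ⟨_, hN (K t)⟩
    ⟨_, hmem (ε * a)⟩ ⟨_, hmem (ε * b)⟩ (Subtype.ext (by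
      have h' := congrArg T hab
      simp only [map_add, map_mul, map_one, hTT] at h'
      show (ε * a + T (ε * a)) * (T (K 1) * K 1) + (ε * b + T (ε * b)) * (T (K t) * K t) = 1
      simp only [map_mul]
      linear_combination ε * hab + T ε * h' + hε))
  have hKuv : K (u + v * t) = u * K 1 + v * K t := by
    have hu : T (u : R) = u := u.2
    have hv : T (v : R) = v := v.2
    simp only [K, map_add, map_mul, map_one, hu, hv]
    ring
  refine ⟨(K (u + v * t) : R), ?_, congrArg Subtype.val (hK _), fun f hfθ hfθ' hfy => ?_⟩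
  · have hU : IsUnit (T (K (u + v * t)) * K (u + v * t)) := by
      have h2 := huv.map R0.subtype
      convert h2 using 1
      have hu : T (u : R) = u := u.2
      have hv : T (v : R) = v := v.2
      rw [hKuv]
      simp only [map_add, map_mul, hu, hv, Subring.subtype_apply, hTT]
      ring
    exact (isUnit_of_mul_isUnit_right hU).map R.subtype
  · refine commute_closure (fun z hz => ?_) (K (u + v * t)).2
    simp only [G, Set.mem_insert_iff, Set.mem_singleton_iff] at hz
    rcases hz with rfl | rfl | rfl | rfl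
    exacts [hfθ, hfθ', hfy, Commute.units_inv_right (u := Y) hfy]

end Star

end CfsgLib.Classical.SemiNorm
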