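import Mathlib
import Cfsg.Prelude.Def_LieClassical
import Cfsg.Agent.Lib.Classical.HermOrder
import Cfsg.Agent.Lib.Classical.SemiNorm
import Cfsg.Agent.Lib.KnownC.HermCongr

/-!
Conjugacy in `GU_n(q)` is controlled by `GL_n(q²)`, and the classes of `GL_n(q²)` meeting `GU_n(q)`.
-/

set_option autoImplicit false

namespace CfsgLib.Classical.SemiUnitary

open Matrix CfsgLib.Geom CfsgLib.Classical

variable {K : Type*} [Field K] [Fintype K] {q n : ℕ} (hK : Fintype.card K = q ^ 2)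

local notation "Mn" => Matrix (Fin n) (Fin n) K

/-- Conjugate transpose for `x ↦ x ^ q`. -/
noncomputable def star' : Mn →+ Mn where
  toFun X := (X.map (qFrob hK))ᵀ
  map_zero' := by ext i j; simp
  map_add' X Y := by ext i j; simp

theorem star'_apply (X : Mn) : star' hK X = (X.map (qFrob hK))ᵀ := rfl

theorem star'_one : star' hK (1 : Mn) = 1 := by
  rw [star'_apply, Matrix.map_one _ (map_zero _) (map_one _), transpose_one]

theorem star'_mul (X Y : Mn) : star' hK (X * Y) = star' hK Y * star' hK X := by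
  rw [star'_apply, star'_apply, star'_apply, Matrix.map_mul, transpose_mul]

theorem map_map (X : Mn) : (X.map (qFrob hK)).map (qFrob hK) = X := by
  ext i j; exact qFrob_qFrob hK _

theorem det_map (X : Mn) : (X.map (qFrob hK)).det = qFrob hK X.det :=
  (RingHom.map_det (qFrob hK) X).symm

theorem star'_star' (X : Mn) : star' hK (star' hK X) = X := by
  rw [star'_apply, star'_apply, ← transpose_map, transpose_transpose, map_map]

theorem star'_scalar (c : K) : star' hK (scalar (Fin n) c) = scalar (Fin n) (qFrob hK c) := by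
  ext i j
  by_cases h : i = j
  · subst h; simp [star'_apply]
  · simp [star'_apply, h, Ne.symm h]

theorem hermForm_eq (u v : Fin n → K) :
    Cfsg.hermForm n K q u v = u ⬝ᵥ fun i => qFrob hK (v i) := by
  simp [Cfsg.hermForm, dotProduct, qFrob_apply]

theorem hermForm_mulVec (X Y : Mn) (u v : Fin n → K) :
    Cfsg.hermForm n K q (X *ᵥ u) (Y *ᵥ v) = u ⬝ᵥ (Xᵀ * Y.map (qFrob hK)) *ᵥ fun i => qFrob hK (v i) := by
  have hm : (fun i => qFrob hK ((Y *ᵥ v) i)) = Y.map (qFrob hK) *ᵥ fun i => qFrob hK (v i) := by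
    ext i; simp [mulVec, dotProduct, map_sum]
  rw [hermForm_eq hK, hm, ← vecMul_transpose, ← dotProduct_mulVec, mulVec_mulVec]

theorem mem_gu_iff (g : GL (Fin n) K) :
    g ∈ Cfsg.GU n K q ↔ (g : Mn)ᵀ * (g : Mn).map (qFrob hK) = 1 := by
  constructor
  · intro h
    ext i j
    have h' := h (Pi.single i 1) (Pi.single j 1)
    change Cfsg.hermForm n K q ((g : Mn) *ᵥ _) ((g : Mn) *ᵥ _) = _ at h'
    rw [hermForm_mulVec hK, hermForm_eq hK] at h'
    have hs : (fun k => qFrob hK ((Pi.single j 1 : Fin n → K) k)) = Pi.single j 1 := by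
      ext k; rcases eq_or_ne k j with rfl | hk <;> simp [*]
    rw [hs, mulVec_single_one, single_one_dotProduct, single_one_dotProduct] at h'
    rw [show ((g : Mn)ᵀ * (g : Mn).map (qFrob hK)) i j = _ from h', one_apply, Pi.single_apply]
  · intro h u v
    show Cfsg.hermForm n K q ((g : Mn) *ᵥ u) ((g : Mn) *ᵥ v) = _
    rw [hermForm_mulVec hK, h, one_mulVec, hermForm_eq hK]

theorem exists_theta : ∃ c : K, qFrob hK c ≠ c := by
  by_contra h
  push Not at h
  exact qFrob_ne_id hK (RingHom.ext h)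

include hK in
theorem isUnit_theta {c : K} (hc : qFrob hK c ≠ c) :
    IsUnit (scalar (Fin n) c - scalar (Fin n) (qFrob hK c) : Mn) := by
  rw [← map_sub]; exact (isUnit_iff_ne_zero.2 (sub_ne_zero.2 hc.symm)).map _

include hK in
/-- Two unitary matrices intertwined by an invertible matrix are intertwined by a unitary one. -/
theorem exists_unitary_intertwine {A B : GL (Fin n) K} (hA : A ∈ Cfsg.GU n K q) (hB : B ∈ Cfsg.GU n K q)
    (x : GL (Fin n) K) (hx : x * A = B * x) : ∃ y ∈ Cfsg.GU n K q, y * A = B * y := by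
  obtain ⟨c, hc⟩ := exists_theta hK
  rw [mem_gu_iff hK] at hA hB
  obtain ⟨A', hA'⟩ : ∃ A' : Mn, A' = (A : Mn).map (qFrob hK) := ⟨_, rfl⟩
  obtain ⟨G, hG⟩ : ∃ G : Mn, G = (x : Mn)ᵀ * (x : Mn).map (qFrob hK) := ⟨_, rfl⟩
  have hxA : (x : Mn) * (A : Mn) = (B : Mn) * (x : Mn) := congrArg Units.val hx
  have hinv : (A : Mn)ᵀ * (G * A') = G := by
    rw [hG, hA']
    calc (A : Mn)ᵀ * ((x : Mn)ᵀ * (x : Mn).map (qFrob hK) * (A : Mn).map (qFrob hK))
        = ((x : Mn) * (A : Mn))ᵀ * ((x : Mn) * (A : Mn)).map (qFrob hK) := by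
          rw [transpose_mul, Matrix.map_mul]; simp only [mul_assoc]
      _ = (x : Mn)ᵀ * ((B : Mn)ᵀ * (B : Mn).map (qFrob hK)) * (x : Mn).map (qFrob hK) := by
          rw [hxA, transpose_mul, Matrix.map_mul]; simp only [mul_assoc]
      _ = _ := by rw [hB, mul_one]
  have hGA : Commute A' G := by
    have h2 : A' * (A : Mn)ᵀ = 1 := by rw [hA']; exact mul_eq_one_comm.1 hA
    have := congrArg (A' * ·) hinv
    simp only [← mul_assoc, h2, one_mul] at this
    exact this.symm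
  have hxdet : IsUnit (x : Mn).det := (isUnit_iff_isUnit_det _).1 x.isUnit
  have hGu : IsUnit G := by
    rw [isUnit_iff_isUnit_det, hG, det_mul, det_transpose]
    refine hxdet.mul ?_
    rw [det_map]; exact hxdet.map _
  have hGs : star' hK G = G := by
    rw [hG, star'_mul, star'_apply, star'_apply, map_map, ← transpose_map, transpose_transpose]
  obtain ⟨e, he, hcom⟩ := SemiNorm.exists_star_mul (star' hK) (star'_one hK) (star'_mul hK) hGu hGs
    (star'_scalar hK c) (by rw [star'_scalar, qFrob_qFrob])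
    (scalar_commute c (Commute.all c) G).symm (scalar_commute _ (Commute.all _) G).symm
    (scalar_commute c (Commute.all c) _) (isUnit_theta hK hc)
  obtain ⟨E, hE⟩ : ∃ E : Mn, E = e.map (qFrob hK) := ⟨_, rfl⟩
  have hEG : Eᵀ * E.map (qFrob hK) = G := by rw [hE, map_map, ← star'_apply, he]
  have hEu : IsUnit E := (isUnit_iff_isUnit_det _).2 (by
    have h' := (isUnit_iff_isUnit_det _).1 hGu
    rw [← hEG, det_mul, det_transpose] at h'
    exact isUnit_of_mul_isUnit_left h')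
  have hEA : E * (A : Mn) = (A : Mn) * E := by
    have h' := congrArg (fun X : Mn => X.map (qFrob hK))
      (hcom A' hGA (scalar_commute c (Commute.all c) _).symm
        (scalar_commute _ (Commute.all _) _).symm).eq
    simp only [Matrix.map_mul, hA', map_map, ← hE] at h'
    exact h'.symm
  refine ⟨x * hEu.unit⁻¹, ?_, ?_⟩
  · rw [mem_gu_iff hK, Units.val_mul, transpose_mul, Matrix.map_mul]
    calc ((hEu.unit⁻¹ : GL (Fin n) K) : Mn)ᵀ * (x : Mn)ᵀ *
          ((x : Mn).map (qFrob hK) * ((hEu.unit⁻¹ : GL (Fin n) K) : Mn).map (qFrob hK))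
        = ((hEu.unit⁻¹ : GL (Fin n) K) : Mn)ᵀ * (Eᵀ * E.map (qFrob hK)) *
            ((hEu.unit⁻¹ : GL (Fin n) K) : Mn).map (qFrob hK) := by
          rw [hEG, hG]; simp only [mul_assoc]
      _ = (E * ((hEu.unit⁻¹ : GL (Fin n) K) : Mn))ᵀ * (E * ((hEu.unit⁻¹ : GL (Fin n) K) : Mn)).map (qFrob hK) := by
          rw [transpose_mul, Matrix.map_mul]; simp only [mul_assoc]
      _ = 1 := by
          rw [hEu.mul_val_inv, transpose_one, Matrix.map_one _ (map_zero _) (map_one _), mul_one]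
  · have h1 : hEu.unit * A = A * hEu.unit := Units.ext hEA
    have h2 : hEu.unit⁻¹ * A = A * hEu.unit⁻¹ := by
      rw [inv_mul_eq_iff_eq_mul, ← mul_assoc, h1, mul_inv_cancel_right]
    rw [mul_assoc, h2, ← mul_assoc, hx, mul_assoc]

include hK in
/-- Conjugacy in `GU_n(q)` is conjugacy in `GL_n(q²)`. -/
theorem isConj_iff_gl (A B : ↥(Cfsg.GU n K q)) :
    IsConj A B ↔ IsConj (A : GL (Fin n) K) (B : GL (Fin n) K) := by
  refine ⟨fun h => MonoidHom.map_isConj (Cfsg.GU n K q).subtype h, fun h => ?_⟩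
  obtain ⟨x, hx⟩ := isConj_iff.1 h
  obtain ⟨y, hy, hyA⟩ := exists_unitary_intertwine hK A.2 B.2 x (mul_inv_eq_iff_eq_mul.1 hx)
  exact isConj_iff.2 ⟨⟨y, hy⟩, Subtype.ext (mul_inv_eq_iff_eq_mul.2 hyA)⟩

theorem exists_qFrobEquiv : ∃ σ : K ≃+* K, (∀ x, σ x = qFrob hK x) ∧ orderOf σ = 2 := by
  refine ⟨RingEquiv.ofBijective (qFrob hK)
    ⟨(qFrob hK).injective, fun x => ⟨qFrob hK x, qFrob_qFrob hK x⟩⟩, fun x => rfl, ?_⟩
  refine orderOf_eq_prime (p := 2) ?_ ?_
  · exact RingEquiv.ext fun x => qFrob_qFrob hK x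
  · intro h
    exact qFrob_ne_id hK (RingHom.ext fun x => RingEquiv.congr_fun h x)

include hK in
/-- An invertible matrix with an invariant nondegenerate sesquilinear form is similar to a unitary one. -/
theorem exists_unitary_of_invariant (A G : GL (Fin n) K)
    (h : (A : Mn)ᵀ * (G : Mn) * (A : Mn).map (qFrob hK) = (G : Mn)) :
    ∃ B : ↥(Cfsg.GU n K q), IsConj A (B : GL (Fin n) K) := by
  obtain ⟨c, hc⟩ := exists_theta hK
  obtain ⟨σ, hσ, hσ2⟩ := exists_qFrobEquiv hK
  obtain ⟨G', hG'⟩ : ∃ G' : Mn, G' = ((G⁻¹ : GL (Fin n) K) : Mn) := ⟨_, rfl⟩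
  have hG1 : G' * (G : Mn) = 1 := by rw [hG']; exact G.inv_mul
  have hG2 : (G : Mn) * G' = 1 := by rw [hG']; exact G.mul_inv
  obtain ⟨Gs, hGs⟩ : ∃ Gs : Mn, Gs = star' hK (G : Mn) := ⟨_, rfl⟩
  obtain ⟨Gs', hGs'⟩ : ∃ Gs' : Mn, Gs' = star' hK G' := ⟨_, rfl⟩
  have hGs1 : Gs * Gs' = 1 := by rw [hGs, hGs', ← star'_mul, hG1, star'_one]
  have hGs2 : Gs' * Gs = 1 := by rw [hGs, hGs', ← star'_mul, hG2, star'_one]
  let τ : Mn →+ Mn :=
    { toFun := fun X => G' * star' hK X * (G : Mn)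
      map_zero' := by simp
      map_add' := fun X Y => by simp [mul_add, add_mul] }
  have hτ : ∀ X, τ X = G' * star' hK X * (G : Mn) := fun X => rfl
  have hτ1 : τ 1 = 1 := by rw [hτ, star'_one, mul_one, hG1]
  have hτm : ∀ X Y, τ (X * Y) = τ Y * τ X := fun X Y => by
    rw [hτ, hτ, hτ, star'_mul]
    calc G' * (star' hK Y * star' hK X) * (G : Mn) = G' * star' hK Y * 1 * star' hK X * (G : Mn) := by
          rw [mul_one]; simp only [mul_assoc]
      _ = _ := by rw [← hG2]; simp only [mul_assoc]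
  have hτs : ∀ a : K, τ (scalar (Fin n) a) = scalar (Fin n) (qFrob hK a) := fun a => by
    rw [hτ, star'_scalar, ← (scalar_commute _ (Commute.all _) G').eq, mul_assoc, hG1, mul_one]
  have hy : τ (G' * Gs) = Gs' * (G : Mn) := by
    rw [hτ, star'_mul, hGs, star'_star', ← hGs']
    calc G' * ((G : Mn) * Gs') * (G : Mn) = (G' * (G : Mn)) * Gs' * (G : Mn) := by simp only [mul_assoc]
      _ = _ := by rw [hG1, one_mul]
  have hy' : τ (Gs' * (G : Mn)) = G' * Gs := by
    rw [hτ, star'_mul, hGs', star'_star', ← hGs]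
    calc G' * (Gs * G') * (G : Mn) = G' * Gs * (G' * (G : Mn)) := by simp only [mul_assoc]
      _ = _ := by rw [hG1, mul_one]
  obtain ⟨z, hz, hzy, hzc⟩ := SemiNorm.exists_twisted τ hτ1 hτm (hτs c) (by rw [hτs, qFrob_qFrob]) hy hy'
    (by rw [mul_assoc, ← mul_assoc Gs, hGs1, one_mul, hG1])
    (by rw [mul_assoc, ← mul_assoc (G : Mn), hG2, one_mul, hGs2])
    (scalar_commute c (Commute.all c) _) (scalar_commute _ (Commute.all _) _)
    (scalar_commute c (Commute.all c) _) (isUnit_theta hK hc)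
  obtain ⟨A', hA'⟩ : ∃ A' : Mn, A' = (A : Mn).map (qFrob hK) := ⟨_, rfl⟩
  have hinv : (A : Mn)ᵀ * (G : Mn) * A' = (G : Mn) := hA' ▸ h
  have hinvs : (A : Mn)ᵀ * Gs * A' = Gs := by
    conv_rhs => rw [hGs, ← hinv, star'_mul, star'_mul, ← mul_assoc]
    rw [hGs, hA']
    rw [star'_apply (X := (A : Mn).map (qFrob hK)), map_map, star'_apply (X := (A : Mn)ᵀ), ← transpose_map,
      transpose_transpose]
  have hAy : Commute A' (G' * Gs) := by
    have hAt : IsUnit ((A : Mn)ᵀ) := by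
      rw [isUnit_iff_isUnit_det, det_transpose, ← isUnit_iff_isUnit_det]; exact A.isUnit
    show A' * (G' * Gs) = G' * Gs * A'
    refine (hAt.mul G.isUnit).mul_left_cancel ?_
    calc (A : Mn)ᵀ * (G : Mn) * (A' * (G' * Gs)) = ((A : Mn)ᵀ * (G : Mn) * A') * G' * Gs := by
          simp only [mul_assoc]
      _ = (A : Mn)ᵀ * Gs * A' := by rw [hinv, hG2, one_mul, hinvs]
      _ = (A : Mn)ᵀ * ((G : Mn) * G') * Gs * A' := by rw [hG2, mul_one]
      _ = _ := by simp only [mul_assoc]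
  obtain ⟨H, hH⟩ : ∃ H : Mn, H = (G : Mn) * z := ⟨_, rfl⟩
  have hHs : star' hK H = H := by
    rw [hH, star'_mul, ← hGs]
    conv_rhs => rw [← hzy, hτ]
    calc star' hK z * Gs = ((G : Mn) * G') * star' hK z * (((G : Mn) * G') * Gs) := by
          rw [hG2, one_mul, one_mul]
      _ = _ := by simp only [mul_assoc]
  have hHu : IsUnit H := hH ▸ G.isUnit.mul hz
  have hHA : (A : Mn)ᵀ * H * A' = H := by
    have := (hzc A' (scalar_commute c (Commute.all c) _).symm
      (scalar_commute _ (Commute.all _) _).symm hAy).eq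
    rw [hH, mul_assoc, mul_assoc, ← this, ← mul_assoc, ← mul_assoc, hinv]
  obtain ⟨k, hk⟩ := CfsgLib.KnownC.exists_congr_one σ hσ2 hHu.unit (by
    rw [IsUnit.unit_spec]
    conv_rhs => rw [← hHs, star'_apply]
    ext i j
    simp [hσ])
  rw [IsUnit.unit_spec, show (k : Mn).map σ = (k : Mn).map (qFrob hK) from Matrix.ext fun i j => hσ _] at hk
  obtain ⟨P, hP⟩ : ∃ P : GL (Fin n) K, (P : Mn) = (k : Mn)ᵀ :=
    ⟨⟨(k : Mn)ᵀ, ((k⁻¹ : GL (Fin n) K) : Mn)ᵀ, by rw [← transpose_mul, k.inv_mul, transpose_one],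
      by rw [← transpose_mul, k.mul_inv, transpose_one]⟩, rfl⟩
  have hPH : (P : Mn)ᵀ * (P : Mn).map (qFrob hK) = H := by
    rw [hk, hP, transpose_transpose, transpose_map]
  refine ⟨⟨P * A * P⁻¹, (mem_gu_iff hK _).2 ?_⟩, isConj_iff.2 ⟨P, rfl⟩⟩
  obtain ⟨P', hP'⟩ : ∃ P' : Mn, P' = ((P⁻¹ : GL (Fin n) K) : Mn) := ⟨_, rfl⟩
  rw [Units.val_mul, Units.val_mul, ← hP']
  calc ((P : Mn) * (A : Mn) * P')ᵀ * ((P : Mn) * (A : Mn) * P').map (qFrob hK)
      = P'ᵀ * ((A : Mn)ᵀ * ((P : Mn)ᵀ * (P : Mn).map (qFrob hK)) * (A : Mn).map (qFrob hK)) *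
          P'.map (qFrob hK) := by
        simp only [transpose_mul, Matrix.map_mul, mul_assoc]
    _ = P'ᵀ * ((P : Mn)ᵀ * (P : Mn).map (qFrob hK)) * P'.map (qFrob hK) := by rw [hPH, ← hA', hHA]
    _ = ((P : Mn) * P')ᵀ * ((P : Mn) * P').map (qFrob hK) := by
        simp only [transpose_mul, Matrix.map_mul, mul_assoc]
    _ = 1 := by
        rw [hP', P.mul_inv, transpose_one, Matrix.map_one _ (map_zero _) (map_one _), mul_one]

include hK in
/-- `A` is similar to a unitary matrix iff it is similar to its inverse conjugate transpose. -/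
theorem similar_unitary_iff (A : GL (Fin n) K) :
    (∃ B : ↥(Cfsg.GU n K q), IsConj A (B : GL (Fin n) K)) ↔
      IsConj (A : Mn) ((((A : Mn).map fun x : K => x ^ q)).transpose)⁻¹ := by
  have hf : (A : Mn).map (fun x : K => x ^ q) = (A : Mn).map (qFrob hK) := by
    ext i j; simp [qFrob_apply]
  rw [hf]
  constructor
  · rintro ⟨⟨B, hB⟩, hAB⟩
    obtain ⟨x, hx⟩ := isConj_iff.1 hAB
    obtain ⟨x', hx'⟩ : ∃ x' : Mn, x' = ((x⁻¹ : GL (Fin n) K) : Mn) := ⟨_, rfl⟩
    rw [mem_gu_iff hK] at hB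
    rw [← show x * A * x⁻¹ = B from hx] at hB
    rw [Units.val_mul, Units.val_mul, ← hx'] at hB
    obtain ⟨G, hG⟩ : ∃ G : Mn, G = (x : Mn)ᵀ * (x : Mn).map (qFrob hK) := ⟨_, rfl⟩
    have hinv : (A : Mn)ᵀ * G * (A : Mn).map (qFrob hK) = G := by
      have hxx : x' * (x : Mn) = 1 := by rw [hx']; exact x.inv_mul
      calc (A : Mn)ᵀ * G * (A : Mn).map (qFrob hK)
          = ((x : Mn) * (A : Mn) * (x' * (x : Mn)))ᵀ * ((x : Mn) * (A : Mn) * (x' * (x : Mn))).map (qFrob hK) := by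
            rw [hG, hxx, mul_one]; simp only [transpose_mul, Matrix.map_mul, mul_assoc]
        _ = (x : Mn)ᵀ * (((x : Mn) * (A : Mn) * x')ᵀ * ((x : Mn) * (A : Mn) * x').map (qFrob hK)) *
              (x : Mn).map (qFrob hK) := by simp only [transpose_mul, Matrix.map_mul, mul_assoc]
        _ = G := by rw [hB, mul_one, hG]
    have hGs : IsUnit (G.map (qFrob hK)) := by
      refine (IsUnit.map (qFrob hK).mapMatrix ?_ : IsUnit ((qFrob hK).mapMatrix G))
      rw [hG, isUnit_iff_isUnit_det, det_mul, det_transpose, det_map]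
      exact ((isUnit_iff_isUnit_det _).1 x.isUnit).mul (((isUnit_iff_isUnit_det _).1 x.isUnit).map _)
    refine ⟨hGs.unit, ?_⟩
    show G.map (qFrob hK) * (A : Mn) = _ * G.map (qFrob hK)
    have h2 := congrArg (fun X : Mn => X.map (qFrob hK)) hinv
    simp only [Matrix.map_mul, map_map] at h2
    rw [mul_assoc, transpose_map] at h2
    conv_rhs => rw [← h2, ← mul_assoc, nonsing_inv_mul _ (by
      rw [det_transpose, det_map]
      exact ((isUnit_iff_isUnit_det _).1 A.isUnit).map _), one_mul]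
  · intro h
    obtain ⟨x, hx⟩ := h
    have hdet : IsUnit ((A : Mn).map (qFrob hK))ᵀ.det := by
      rw [det_transpose, det_map]
      exact ((isUnit_iff_isUnit_det _).1 A.isUnit).map _
    have h2 : ((A : Mn).map (qFrob hK))ᵀ * ((x : Mn) * (A : Mn)) = (x : Mn) := by
      rw [show (x : Mn) * (A : Mn) = _ from hx, ← mul_assoc, mul_nonsing_inv _ hdet, one_mul]
    have h3 := congrArg (fun X : Mn => X.map (qFrob hK)) h2
    simp only [Matrix.map_mul, ← transpose_map, map_map] at h3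
    exact exists_unitary_of_invariant hK A ((Units.map (qFrob hK).mapMatrix.toMonoidHom) x)
      (by rw [mul_assoc]; exact h3)

include hK in
/-- If a unitary matrix fixes an anisotropic vector then its centraliser in `GU` has every unitary
determinant. -/
theorem exists_comm_det_of_fixed {A : GL (Fin n) K} (hA : A ∈ Cfsg.GU n K q) {w : Fin n → K}
    (hw : (A : Mn) *ᵥ w = w) (hww : Cfsg.hermForm n K q w w ≠ 0) {c : K} (hc : c * qFrob hK c = 1) :
    ∃ y ∈ Cfsg.GU n K q, y * A = A * y ∧ (y : Mn).det = c := by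
  obtain ⟨a, ha⟩ : ∃ a : K, a = (c - 1) / Cfsg.hermForm n K q w w := ⟨_, rfl⟩
  obtain ⟨ws, hws⟩ : ∃ ws : Fin n → K, ws = fun i => qFrob hK (w i) := ⟨_, rfl⟩
  have hwd : Cfsg.hermForm n K q w w = ws ⬝ᵥ w := by rw [hermForm_eq hK, hws, dotProduct_comm]
  have hd : qFrob hK (ws ⬝ᵥ w) = ws ⬝ᵥ w := by
    simp only [hws, dotProduct, map_sum, map_mul, qFrob_qFrob]
    exact Finset.sum_congr rfl fun i _ => mul_comm _ _
  obtain ⟨X, hX⟩ : ∃ X : Mn, X = 1 + a • vecMulVec w ws := ⟨_, rfl⟩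
  have hdet : X.det = c := by
    rw [hX, ← smul_vecMulVec, vecMulVec_eq Unit, det_one_add_replicateCol_mul_replicateRow,
      dotProduct_smul, smul_eq_mul, ha, ← hwd, div_mul_cancel₀ _ hww]
    ring
  have hc0 : c ≠ 0 := left_ne_zero_of_mul_eq_one hc
  let y : GL (Fin n) K := Matrix.GeneralLinearGroup.mkOfDetNeZero X (by rw [hdet]; exact hc0)
  have hy : (y : Mn) = X := rfl
  refine ⟨y, (mem_gu_iff hK y).2 ?_, Units.ext ?_, hdet⟩
  · rw [hy, hX]
    have hsw : (vecMulVec w ws).map (qFrob hK) = vecMulVec ws w := by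
      ext i j; simp [vecMulVec_apply, hws, qFrob_qFrob]
    rw [Matrix.map_add _ (map_add _), Matrix.map_one _ (map_zero _) (map_one _),
      show (a • vecMulVec w ws).map (qFrob hK) = qFrob hK a • (vecMulVec w ws).map (qFrob hK) from
        Matrix.ext fun i j => map_mul (qFrob hK) a _, hsw, transpose_add, transpose_one, transpose_smul,
      transpose_vecMulVec]
    rw [add_mul, one_mul, mul_add, mul_one, smul_mul_smul_comm, vecMulVec_mul_vecMulVec,
      vecMulVec_smul, smul_smul, add_assoc, ← add_smul, ← add_smul]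
    have key : qFrob hK a + (a + a * qFrob hK a * (w ⬝ᵥ ws)) = 0 := by
      rw [dotProduct_comm, ha, map_div₀, map_sub, map_one, hwd, hd]
      rw [hwd] at hww
      field_simp
      linear_combination hc
    rw [key, zero_smul, add_zero]
  · rw [Units.val_mul, Units.val_mul, hy, hX, add_mul, mul_add, one_mul, mul_one, smul_mul_assoc,
      mul_smul_comm, vecMulVec_mul, mul_vecMulVec, hw]
    congr 3
    rw [mem_gu_iff hK] at hA
    have h1 := congrArg (fun X : Mn => X.map (qFrob hK)) hA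
    simp only [Matrix.map_mul, map_map, Matrix.map_one _ (map_zero _) (map_one _)] at h1
    have h2 : (A : Mn).map (qFrob hK) *ᵥ ws = ws := by
      rw [hws]; ext i; conv_rhs => rw [← hw]
      simp [mulVec, dotProduct, map_sum]
    conv_lhs => rw [← h2]
    rw [← transpose_transpose ((A : Mn).map (qFrob hK)), mulVec_transpose, vecMul_vecMul, ← transpose_map, h1,
      vecMul_one]

end CfsgLib.Classical.SemiUnitary
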