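import Mathlib
import Cfsg.Agent.Lib.Classical.SemiUnitary
import Cfsg.Agent.Lib.Classical.SemiPalin
import Cfsg.Agent.Lib.KnownB.SSMatrix

/-!
Semisimple unitary matrices with given characteristic polynomial; their centralisers have every unitary
determinant.
-/

set_option autoImplicit false

namespace CfsgLib.Classical.SemiUnitaryExists

open Matrix Polynomial CfsgLib.Classical
open CfsgLib.KnownB.SSClass
open scoped Polynomial

variable {K : Type*} [Field K] [Fintype K] {q n : ℕ} (hK : Fintype.card K = q ^ 2) (p : ℕ) [Fact p.Prime]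
  [CharP K p]

local notation "Mn" => Matrix (Fin n) (Fin n) K

omit [Fintype K] in
theorem coeff_zero_ne_zero (A : GL (Fin n) K) : (A : Mn).charpoly.coeff 0 ≠ 0 := by
  intro h
  have := Units.ne_zero (Matrix.GeneralLinearGroup.det A)
  rw [Matrix.GeneralLinearGroup.val_det_apply, det_eq_sign_charpoly_coeff, h, mul_zero] at this
  exact this rfl

omit [Fintype K] in
theorem charpoly_inv_eq (A : GL (Fin n) K) :
    (A : Mn)⁻¹.charpoly = C ((A : Mn).charpoly.coeff 0)⁻¹ * (A : Mn).charpoly.reverse := by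
  rw [charpoly_inv _ A.isUnit, Ring.inverse_eq_inv', ← reverse_charpoly, det_eq_sign_charpoly_coeff,
    mul_inv, map_mul, Fintype.card_fin, ← inv_pow, inv_neg, inv_one, map_pow, map_neg, map_one,
    ← mul_assoc ((-1 : K[X]) ^ n), ← mul_pow, neg_one_mul, neg_neg, one_pow, one_mul]

/-- The characteristic polynomial of a unitary matrix is conjugate-reciprocal. -/
theorem tilde_charpoly {A : GL (Fin n) K} (hA : A ∈ Cfsg.GU n K q) :
    SemiPalin.tilde (qFrob hK) (A : Mn).charpoly = (A : Mn).charpoly := by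
  rw [SemiUnitary.mem_gu_iff hK] at hA
  have h1 : (A : Mn)⁻¹ = ((A : Mn).map (qFrob hK))ᵀ := inv_eq_left_inv (by
    have h2 := congrArg Matrix.transpose hA
    rwa [transpose_mul, transpose_transpose, transpose_one] at h2)
  have h2 := charpoly_inv_eq A
  rw [h1, charpoly_transpose, charpoly_map] at h2
  have h3 := congrArg (Polynomial.map (qFrob hK)) h2
  rw [Polynomial.map_map, show (qFrob hK).comp (qFrob hK) = RingHom.id K from RingHom.ext (qFrob_qFrob hK),
    Polynomial.map_id, Polynomial.map_mul, map_C, map_inv₀] at h3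
  exact h3.symm

include hK p in
/-- Every conjugate-reciprocal polynomial is the characteristic polynomial of a semisimple unitary matrix. -/
theorem exists_gu {f : K[X]} (hf : f.Monic) (hn : f.natDegree = n) (h0 : f.coeff 0 ≠ 0)
    (ht : SemiPalin.tilde (qFrob hK) f = f) :
    ∃ B : GL (Fin n) K, B ∈ Cfsg.GU n K q ∧ (orderOf B).Coprime p ∧ (B : Mn).charpoly = f := by
  obtain ⟨g, hg, hgc⟩ := exists_gl p hf hn h0
  let φ : GL (Fin n) K →* GL (Fin n) K := Units.map (qFrob hK).mapMatrix.toMonoidHom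
  obtain ⟨h, hh⟩ : ∃ h : GL (Fin n) K, (h : Mn) = ((φ g⁻¹ : GL (Fin n) K) : Mn)ᵀ :=
    ⟨⟨((φ g⁻¹ : GL (Fin n) K) : Mn)ᵀ, ((φ g : GL (Fin n) K) : Mn)ᵀ,
      by rw [← transpose_mul, ← Units.val_mul, ← map_mul, mul_inv_cancel, map_one, Units.val_one, transpose_one],
      by rw [← transpose_mul, ← Units.val_mul, ← map_mul, inv_mul_cancel, map_one, Units.val_one, transpose_one]⟩,
      rfl⟩
  have hho : (orderOf h).Coprime p := by
    refine Nat.Coprime.coprime_dvd_left (orderOf_dvd_of_pow_eq_one (Units.ext ?_)) hg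
    rw [Units.val_pow_eq_pow_val, hh, ← transpose_pow, ← Units.val_pow_eq_pow_val, ← map_pow, inv_pow,
      pow_orderOf_eq_one, inv_one, map_one, Units.val_one, transpose_one]
  have hφi : ((φ g⁻¹ : GL (Fin n) K) : Mn) = (g : Mn)⁻¹.map (qFrob hK) := by
    show ((g⁻¹ : GL (Fin n) K) : Mn).map (qFrob hK) = _
    rw [Matrix.coe_units_inv]
  have hhc : (h : Mn).charpoly = f := by
    conv_rhs => rw [← ht]
    rw [hh, charpoly_transpose, hφi, charpoly_map, charpoly_inv_eq, hgc, Polynomial.map_mul, map_C, map_inv₀]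
    rfl
  obtain ⟨x, hx⟩ := isConj_iff.1 (gl_isConj_of_charpoly p hg hho (hgc.trans hhc.symm))
  have hinv : ((φ g : GL (Fin n) K) : Mn)ᵀ * (x : Mn) * (g : Mn) = (x : Mn) := by
    have h2 := congrArg Units.val (mul_inv_eq_iff_eq_mul.1 hx)
    rw [Units.val_mul, Units.val_mul, hh] at h2
    rw [mul_assoc, h2, ← mul_assoc, ← transpose_mul, ← Units.val_mul, ← map_mul, inv_mul_cancel, map_one,
      Units.val_one, transpose_one, one_mul]
  obtain ⟨B, hB⟩ := SemiUnitary.exists_unitary_of_invariant hK g (φ x) (by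
    have h3 := congrArg (fun X : Mn => X.map (qFrob hK)) hinv
    simp only [Matrix.map_mul] at h3
    rw [transpose_map, show ((φ g : GL (Fin n) K) : Mn).map (qFrob hK) = (g : Mn) from SemiUnitary.map_map hK _] at h3
    exact h3)
  refine ⟨B, B.2, ?_, ?_⟩
  · obtain ⟨y, hy⟩ := isConj_iff.1 hB
    rw [← hy, show y * g * y⁻¹ = MulAut.conj y g from rfl, MulEquiv.orderOf_eq]
    exact hg
  · rw [← charpoly_isConj hB, hgc]

/-- The centraliser of a semisimple matrix with multiplicity-free characteristic polynomial is commutative. -/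
theorem commute_of_squarefree {f : K[X]} (hf : f.Monic) {N : ℕ} (hN : 0 < N)
    (hdvd : f ∣ X ^ (Nat.card K ^ N) - X) {A : GL (Fin n) K} (hA : (orderOf A).Coprime p)
    (hAf : (A : Mn).charpoly = f) {X₁ X₂ : Mn} (h₁ : Commute X₁ (A : Mn)) (h₂ : Commute X₂ (A : Mn)) :
    Commute X₁ X₂ := by
  have : Module.Finite K (AdjoinRoot f) := (AdjoinRoot.powerBasis' hf).finite
  have hss : SS (LinearMap.mulLeft K (AdjoinRoot.root f)) := by
    refine ⟨N, hN, LinearMap.ext fun x => ?_⟩
    obtain ⟨c, hc⟩ := hdvd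
    have hroot : AdjoinRoot.root f ^ (Nat.card K ^ N) = AdjoinRoot.root f := by
      have := congrArg (AdjoinRoot.mk f) hc
      rw [map_sub, map_pow, AdjoinRoot.mk_X, map_mul, AdjoinRoot.mk_self, zero_mul, sub_eq_zero] at this
      exact this
    rw [LinearMap.pow_mulLeft, hroot]
  have hchar : (LinearMap.mulLeft K (AdjoinRoot.root f)).charpoly = f := by
    have h := charpoly_leftMulMatrix (AdjoinRoot.powerBasis' hf)
    rw [AdjoinRoot.powerBasis'_gen, AdjoinRoot.minpoly_root hf.ne_zero, hf.leadingCoeff, inv_one, map_one,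
      mul_one] at h
    refine Eq.trans ?_ h
    rw [← LinearMap.charpoly_toMatrix _ (AdjoinRoot.powerBasis' hf).basis, Algebra.leftMulMatrix_apply]
    rfl
  obtain ⟨e, he⟩ := exists_conj n (toLinAlgEquiv' (A : Mn)) (LinearMap.mulLeft K (AdjoinRoot.root f)) (by simp)
    ((ss_iff_coprime p A).2 hA) hss (by rw [CfsgLib.KnownB.SSClass.charpoly_toLin, hchar, hAf])
  have hmul : ∀ X : Mn, Commute X (A : Mn) → ∃ c : AdjoinRoot f, ∀ a, e (X *ᵥ e.symm a) = c * a := by
    intro X hX
    let ψ : AdjoinRoot f →ₗ[K] AdjoinRoot f := e.toLinearMap ∘ₗ toLin' X ∘ₗ e.symm.toLinearMap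
    have hψ : ∀ a, ψ a = e (X *ᵥ e.symm a) := fun a => rfl
    have hroot : ∀ a, ψ (AdjoinRoot.root f * a) = AdjoinRoot.root f * ψ a := fun a => by
      have hA' : ∀ b, e.symm (AdjoinRoot.root f * b) = (A : Mn) *ᵥ e.symm b := fun b => e.injective (by
        rw [e.apply_symm_apply]
        have := he (e.symm b)
        rw [e.apply_symm_apply] at this
        exact this)
      rw [hψ, hψ, hA', mulVec_mulVec, hX.eq, ← mulVec_mulVec]
      exact (he _).symm
    refine ⟨ψ 1, fun a => ?_⟩
    rw [← hψ]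
    obtain ⟨P, rfl⟩ := AdjoinRoot.mk_surjective a
    induction P using Polynomial.induction_on with
    | C c => rw [AdjoinRoot.mk_C, ← AdjoinRoot.algebraMap_eq, Algebra.algebraMap_eq_smul_one, map_smul,
        mul_smul_comm, mul_one]
    | add P Q hP hQ => rw [map_add, map_add, hP, hQ, mul_add]
    | monomial k c hk =>
      rw [pow_succ, ← mul_assoc, mul_comm _ (Polynomial.X : K[X]), map_mul, AdjoinRoot.mk_X, hroot, hk, mul_left_comm]
  obtain ⟨c₁, hc₁⟩ := hmul X₁ h₁
  obtain ⟨c₂, hc₂⟩ := hmul X₂ h₂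
  refine (Matrix.toLin' (R := K)).injective (LinearMap.ext fun v => ?_)
  obtain ⟨a, rfl⟩ := e.symm.surjective v
  show (X₁ * X₂) *ᵥ _ = (X₂ * X₁) *ᵥ _
  rw [← mulVec_mulVec, ← mulVec_mulVec]
  refine e.injective ?_
  rw [← e.symm_apply_apply (X₂ *ᵥ e.symm a), ← e.symm_apply_apply (X₁ *ᵥ e.symm a), hc₂, hc₁, hc₁, hc₂]
  exact mul_left_comm _ _ _

theorem dvd_X_pow_sub_X {P : K[X]} (hP : Irreducible P) (hPm : P.Monic) {N : ℕ} (hd : P.natDegree ∣ N) :
    P ∣ X ^ (Nat.card K ^ N) - X := by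
  have : Fact (Irreducible P) := ⟨hP⟩
  have : Module.Finite K (AdjoinRoot P) := (AdjoinRoot.powerBasis' hPm).finite
  have : Finite (AdjoinRoot P) := Module.finite_of_finite K
  have := Fintype.ofFinite (AdjoinRoot P)
  obtain ⟨k, rfl⟩ := hd
  rw [← AdjoinRoot.mk_eq_zero, map_sub, map_pow, AdjoinRoot.mk_X, sub_eq_zero, pow_mul]
  refine pow_pow_fix ?_ k
  conv_lhs => rw [show Nat.card K ^ P.natDegree = Fintype.card (AdjoinRoot P) by
    rw [← Nat.card_eq_fintype_card, Module.natCard_eq_pow_finrank (K := K) (V := AdjoinRoot P),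
      (AdjoinRoot.powerBasis' hPm).finrank, AdjoinRoot.powerBasis'_dim]]
  exact FiniteField.pow_card _

include hK p in
/-- In a multiplicity-free situation every unitary determinant occurs in the centraliser. -/
theorem exists_comm_det_squarefree {f : K[X]} (hf : f.Monic) (hn : 0 < n) {N : ℕ} (hN : 0 < N)
    (hdvd : f ∣ X ^ (Nat.card K ^ N) - X) {A : GL (Fin n) K} (hA : A ∈ Cfsg.GU n K q)
    (hAo : (orderOf A).Coprime p) (hAf : (A : Mn).charpoly = f) {c : K} (hc : c * qFrob hK c = 1) :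
    ∃ y ∈ Cfsg.GU n K q, y * A = A * y ∧ (y : Mn).det = c := by
  -- `c = b / σ b`
  obtain ⟨b, hb0, hb⟩ : ∃ b : K, b ≠ 0 ∧ b = c * qFrob hK b := by
    obtain ⟨t, ht⟩ := exists_qFrob_trace_one hK
    by_cases hne : t + c * qFrob hK t = 0
    · obtain ⟨θ, hθ⟩ := SemiUnitary.exists_theta hK
      refine ⟨θ * t + c * qFrob hK (θ * t), fun h => ?_, ?_⟩
      · rw [map_mul] at h
        have h' : (θ - qFrob hK θ) * t = 0 := by linear_combination h - qFrob hK θ * hne
        rcases mul_eq_zero.1 h' with h'' | h''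
        · exact hθ (sub_eq_zero.1 h'').symm
        · rw [h'', map_zero, add_zero] at ht; exact zero_ne_one ht
      · simp only [map_add, map_mul, qFrob_qFrob]
        linear_combination (-(θ * t)) * hc
    · refine ⟨t + c * qFrob hK t, hne, ?_⟩
      rw [map_add, map_mul, qFrob_qFrob]
      linear_combination (-t) * hc
  obtain ⟨d, hd, hdd⟩ := exists_comm_det_gl p hn hAo hb0
  rw [SemiUnitary.mem_gu_iff hK] at hA
  let ds := SemiUnitary.star' hK ((d : GL (Fin n) K) : Mn)
  let di := ((d⁻¹ : GL (Fin n) K) : Mn)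
  have hAs : SemiUnitary.star' hK (A : Mn) = ((A⁻¹ : GL (Fin n) K) : Mn) := by
    refine (Units.inv_eq_of_mul_eq_one_left ?_).symm
    have := congrArg Matrix.transpose hA
    rwa [transpose_mul, transpose_transpose, transpose_one] at this
  have hdA : Commute ((d : GL (Fin n) K) : Mn) (A : Mn) := congrArg Units.val hd
  have hdsA : Commute ds (A : Mn) := by
    have h1 : ds * ((A⁻¹ : GL (Fin n) K) : Mn) = ((A⁻¹ : GL (Fin n) K) : Mn) * ds := by
      rw [← hAs]
      simp only [ds, ← SemiUnitary.star'_mul, hdA.eq]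
    exact Commute.units_inv_right_iff.1 h1
  have hcomm : Commute ((d : GL (Fin n) K) : Mn) ds := commute_of_squarefree p hf hN hdvd hAo hAf hdA hdsA
  obtain ⟨s, hs⟩ : ∃ s : GL (Fin n) K, (s : Mn) = ds :=
    ⟨⟨ds, SemiUnitary.star' hK di, by rw [← SemiUnitary.star'_mul, Units.inv_mul, SemiUnitary.star'_one],
      by rw [← SemiUnitary.star'_mul, Units.mul_inv, SemiUnitary.star'_one]⟩, rfl⟩
  have hds : Commute d s := Units.ext (by rw [Units.val_mul, Units.val_mul, hs]; exact hcomm.eq)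
  have hsA : Commute s A := Units.ext (by rw [Units.val_mul, Units.val_mul, hs]; exact hdsA.eq)
  have hssd : SemiUnitary.star' hK (s : Mn) = (d : Mn) := by rw [hs]; exact SemiUnitary.star'_star' hK _
  refine ⟨d * s⁻¹, ?_, (Commute.mul_left (hd : Commute d A) hsA.inv_left).eq, ?_⟩
  · obtain ⟨y, hy⟩ : ∃ y, y = d * s⁻¹ := ⟨_, rfl⟩
    have hsy : SemiUnitary.star' hK (y : Mn) * (y : Mn) = 1 := by
      have hsi : SemiUnitary.star' hK ((s⁻¹ : GL (Fin n) K) : Mn) = ((d⁻¹ : GL (Fin n) K) : Mn) := by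
        refine (Units.inv_eq_of_mul_eq_one_left ?_).symm
        rw [← hssd, ← SemiUnitary.star'_mul, Units.mul_inv, SemiUnitary.star'_one]
      rw [hy, Units.val_mul, SemiUnitary.star'_mul, hsi, show SemiUnitary.star' hK (d : Mn) = (s : Mn) from hs.symm, ← Units.val_mul, ← Units.val_mul, ← Units.val_mul,
        ← Units.val_one]
      congr 1
      calc d⁻¹ * s * (d * s⁻¹) = d⁻¹ * (s * d) * s⁻¹ := by group
        _ = 1 := by rw [← hds.eq]; group
    rw [← hy, SemiUnitary.mem_gu_iff hK]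
    have := congrArg (fun X : Mn => X.map (qFrob hK)) hsy
    simp only [SemiUnitary.star'_apply, Matrix.map_mul, ← transpose_map, SemiUnitary.map_map,
      Matrix.map_one _ (map_zero _) (map_one _)] at this
    exact this
  · rw [Units.val_mul, det_mul, hdd, Matrix.coe_units_inv, det_nonsing_inv, Ring.inverse_eq_inv', hs]
    show b * (SemiUnitary.star' hK (d : Mn)).det⁻¹ = c
    rw [SemiUnitary.star'_apply, det_transpose, SemiUnitary.det_map, hdd, mul_inv_eq_iff_eq_mul₀ ((_root_.map_ne_zero _).2 hb0)]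
    exact hb

end CfsgLib.Classical.SemiUnitaryExists
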