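import Mathlib
import Cfsg.Agent.Lib.Classical.SemiUnitaryExists

/-!
Semisimple classes of `SU_n(q)`.
-/

set_option autoImplicit false

namespace CfsgLib.Classical.SemiUnitaryClasses

open Matrix Polynomial CfsgLib.Classical CfsgLib.Classical.SemiUnitaryExists
open CfsgLib.KnownB.SSClass
open scoped Polynomial

variable {K : Type*} [Field K] [Fintype K] {q : ℕ} (hK : Fintype.card K = q ^ 2) (p : ℕ) [Fact p.Prime]
  [CharP K p]

/-- Block diagonal of two square matrices, on `Fin n`. -/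
noncomputable def blk {d₁ d₂ n : ℕ} (e : Fin d₁ ⊕ Fin d₂ ≃ Fin n) (X : Matrix (Fin d₁) (Fin d₁) K)
    (Y : Matrix (Fin d₂) (Fin d₂) K) : Matrix (Fin n) (Fin n) K :=
  Matrix.reindex e e (fromBlocks X 0 0 Y)

omit [Fintype K] in
theorem blk_mul {d₁ d₂ n : ℕ} (e : Fin d₁ ⊕ Fin d₂ ≃ Fin n) (X X' : Matrix (Fin d₁) (Fin d₁) K)
    (Y Y' : Matrix (Fin d₂) (Fin d₂) K) : blk e X Y * blk e X' Y' = blk e (X * X') (Y * Y') := by
  simp only [blk, reindex_apply, submatrix_mul_equiv, fromBlocks_multiply, Matrix.mul_zero, Matrix.zero_mul,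
    add_zero, zero_add]

omit [Fintype K] in
theorem blk_one {d₁ d₂ n : ℕ} (e : Fin d₁ ⊕ Fin d₂ ≃ Fin n) :
    blk e (1 : Matrix (Fin d₁) (Fin d₁) K) (1 : Matrix (Fin d₂) (Fin d₂) K) = 1 := by
  simp only [blk, reindex_apply, fromBlocks_one, submatrix_one_equiv]

/-- Block diagonal as a homomorphism. -/
noncomputable def blkHom {d₁ d₂ n : ℕ} (e : Fin d₁ ⊕ Fin d₂ ≃ Fin n) :
    GL (Fin d₁) K × GL (Fin d₂) K →* GL (Fin n) K where
  toFun X := ⟨blk e (X.1 : Matrix _ _ K) (X.2 : Matrix _ _ K),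
    blk e ((X.1⁻¹ : GL (Fin d₁) K) : Matrix _ _ K) ((X.2⁻¹ : GL (Fin d₂) K) : Matrix _ _ K),
    by rw [blk_mul, Units.mul_inv, Units.mul_inv, blk_one],
    by rw [blk_mul, Units.inv_mul, Units.inv_mul, blk_one]⟩
  map_one' := Units.ext (blk_one e)
  map_mul' X Y := Units.ext (blk_mul e _ _ _ _).symm

omit [Fintype K] in
theorem blkHom_val {d₁ d₂ n : ℕ} (e : Fin d₁ ⊕ Fin d₂ ≃ Fin n) (X : GL (Fin d₁) K × GL (Fin d₂) K) :
    ((blkHom e X : GL (Fin n) K) : Matrix (Fin n) (Fin n) K) = blk e (X.1 : Matrix _ _ K) (X.2 : Matrix _ _ K) :=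
  rfl

include hK in
theorem blkHom_mem {d₁ d₂ n : ℕ} (e : Fin d₁ ⊕ Fin d₂ ≃ Fin n) {X : GL (Fin d₁) K × GL (Fin d₂) K}
    (h1 : X.1 ∈ Cfsg.GU d₁ K q) (h2 : X.2 ∈ Cfsg.GU d₂ K q) : blkHom e X ∈ Cfsg.GU n K q := by
  rw [SemiUnitary.mem_gu_iff hK] at h1 h2 ⊢
  rw [blkHom_val]
  have ht : ∀ (A : Matrix (Fin d₁) (Fin d₁) K) (D : Matrix (Fin d₂) (Fin d₂) K), (blk e A D)ᵀ = blk e Aᵀ Dᵀ :=
    fun A D => by
      simp only [blk, reindex_apply, transpose_submatrix, fromBlocks_transpose, transpose_zero]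
  have hm : ∀ (A : Matrix (Fin d₁) (Fin d₁) K) (D : Matrix (Fin d₂) (Fin d₂) K),
      (blk e A D).map (qFrob hK) = blk e (A.map (qFrob hK)) (D.map (qFrob hK)) := fun A D => by
    ext i j
    simp only [blk, reindex_apply, submatrix_apply, Matrix.map_apply]
    rcases e.symm i with a | a <;> rcases e.symm j with b | b <;> simp
  rw [ht, hm, blk_mul, h1, h2, blk_one]

include hK p in
/-- The centraliser in `GU_n(q)` of a semisimple element has every unitary determinant. -/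
theorem exists_comm_det {n : ℕ} (hn : 0 < n) {A : GL (Fin n) K} (hA : A ∈ Cfsg.GU n K q)
    (hAo : (orderOf A).Coprime p) {c : K} (hc : c * qFrob hK c = 1) :
    ∃ y ∈ Cfsg.GU n K q, y * A = A * y ∧ (y : Matrix (Fin n) (Fin n) K).det = c := by
  have hf0 := coeff_zero_ne_zero A
  have hft := tilde_charpoly hK hA
  obtain ⟨a, b, ha, hb, hab, had, hat, hbt, hshape⟩ := SemiPalin.exists_minimal_factor (qFrob hK)
    (qFrob_qFrob hK) (charpoly_monic _) hf0 hft (by rw [charpoly_natDegree_eq_dim, Fintype.card_fin]; exact hn)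
  rw [hab, mul_coeff_zero] at hf0
  obtain ⟨ha0, hb0⟩ := mul_ne_zero_iff.1 hf0
  obtain ⟨N, hN, hdvd⟩ : ∃ N, 0 < N ∧ a ∣ X ^ (Nat.card K ^ N) - X := by
    rcases hshape with hi | ⟨P, Q, hP, hQ, hPm, hQm, hPQ, rfl⟩
    · exact ⟨a.natDegree, hi.natDegree_pos, dvd_X_pow_sub_X hi ha dvd_rfl⟩
    · refine ⟨P.natDegree * Q.natDegree, Nat.mul_pos hP.natDegree_pos hQ.natDegree_pos,
        IsCoprime.mul_dvd (hP.coprime_iff_not_dvd.2 fun h => hPQ ?_)
          (dvd_X_pow_sub_X hP hPm (dvd_mul_right _ _)) (dvd_X_pow_sub_X hQ hQm (dvd_mul_left _ _))⟩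
      exact eq_of_monic_of_associated hPm hQm (hP.associated_of_dvd hQ h)
  obtain ⟨d₁, hd₁⟩ : ∃ d, d = a.natDegree := ⟨_, rfl⟩
  obtain ⟨d₂, hd₂⟩ : ∃ d, d = b.natDegree := ⟨_, rfl⟩
  obtain ⟨B₁, hB₁, hB₁o, hB₁c⟩ := exists_gu hK p ha hd₁.symm ha0 hat
  obtain ⟨B₂, hB₂, hB₂o, hB₂c⟩ := exists_gu hK p hb hd₂.symm hb0 hbt
  obtain ⟨y₁, hy₁, hy₁B, hy₁d⟩ := exists_comm_det_squarefree hK p ha (hd₁ ▸ had) hN hdvd hB₁ hB₁o hB₁c hc
  have hsum : d₁ + d₂ = n := by
    have := congrArg natDegree hab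
    rw [charpoly_natDegree_eq_dim, Fintype.card_fin, ha.natDegree_mul hb] at this
    omega
  let e : Fin d₁ ⊕ Fin d₂ ≃ Fin n := finSumFinEquiv.trans (finCongr hsum)
  obtain ⟨B, hBdef⟩ : ∃ B : GL (Fin d₁) K × GL (Fin d₂) K →* GL (Fin n) K, B = blkHom e := ⟨_, rfl⟩
  have hBval : ∀ X, ((B X : GL (Fin n) K) : Matrix (Fin n) (Fin n) K) =
      blk e (X.1 : Matrix _ _ K) (X.2 : Matrix _ _ K) := fun X => by rw [hBdef, blkHom_val]
  have hBU : ∀ X : GL (Fin d₁) K × GL (Fin d₂) K, X.1 ∈ Cfsg.GU d₁ K q → X.2 ∈ Cfsg.GU d₂ K q →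
      B X ∈ Cfsg.GU n K q := fun X h1 h2 => hBdef ▸ blkHom_mem hK e h1 h2
  have hBc : ((B (B₁, B₂) : GL (Fin n) K) : Matrix (Fin n) (Fin n) K).charpoly =
      (A : Matrix (Fin n) (Fin n) K).charpoly := by
    rw [hab, hBval]
    show (Matrix.reindex e e (fromBlocks _ 0 0 _)).charpoly = _
    rw [charpoly_reindex, charpoly_fromBlocks_zero₁₂, hB₁c, hB₂c]
  have hBo : (orderOf (B (B₁, B₂))).Coprime p := by
    refine Nat.Coprime.coprime_dvd_left (orderOf_dvd_of_pow_eq_one (n := orderOf B₁ * orderOf B₂) ?_)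
      (Nat.Coprime.mul_left hB₁o hB₂o)
    rw [← map_pow, Prod.pow_mk, pow_mul, pow_orderOf_eq_one, one_pow, pow_mul', pow_orderOf_eq_one, one_pow]
    exact map_one B
  obtain ⟨x, hx⟩ := isConj_iff.1 (gl_isConj_of_charpoly p hAo hBo hBc.symm)
  obtain ⟨z, hz, hzA⟩ := SemiUnitary.exists_unitary_intertwine hK hA (hBU (B₁, B₂) hB₁ hB₂) x
    (mul_inv_eq_iff_eq_mul.1 hx)
  refine ⟨z⁻¹ * B (y₁, 1) * z, mul_mem (mul_mem (inv_mem hz) (hBU (y₁, 1) hy₁ (one_mem _))) hz, ?_, ?_⟩
  · have h1 : B (y₁, 1) * B (B₁, B₂) = B (B₁, B₂) * B (y₁, 1) := by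
      rw [← map_mul, ← map_mul, Prod.mk_mul_mk, Prod.mk_mul_mk, hy₁B, one_mul, mul_one]
    have hA' : A = z⁻¹ * B (B₁, B₂) * z := by rw [mul_assoc, ← hzA, inv_mul_cancel_left]
    rw [hA']
    calc z⁻¹ * B (y₁, 1) * z * (z⁻¹ * B (B₁, B₂) * z) = z⁻¹ * (B (y₁, 1) * B (B₁, B₂)) * z := by group
      _ = _ := by rw [h1]; group
  · have hdet : ((B (y₁, 1) : GL (Fin n) K) : Matrix (Fin n) (Fin n) K).det = c := by
      rw [hBval]
      show (Matrix.reindex e e (fromBlocks _ 0 0 _)).det = _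
      rw [det_reindex_self, det_fromBlocks_zero₁₂, hy₁d, Units.val_one, det_one, mul_one]
    rw [Units.val_mul, Units.val_mul, det_mul, det_mul, hdet, mul_comm _ c, mul_assoc, ← det_mul, Units.inv_mul,
      det_one, mul_one]

omit [Fintype K] in
theorem orderOf_toGL {n : ℕ} (g : Matrix.SpecialLinearGroup (Fin n) K) :
    orderOf (Matrix.SpecialLinearGroup.toGL g) = orderOf g :=
  orderOf_injective _ Matrix.SpecialLinearGroup.toGL_injective g

include hK p in
/-- Semisimple elements of `SU_n(q)` with equal characteristic polynomials are conjugate. -/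
theorem isConj_su {n : ℕ} (g h : ↥(Cfsg.SU n K q)) (hg : (orderOf g).Coprime p) (hh : (orderOf h).Coprime p)
    (hc : ((g : Matrix.SpecialLinearGroup (Fin n) K) : Matrix (Fin n) (Fin n) K).charpoly =
      ((h : Matrix.SpecialLinearGroup (Fin n) K) : Matrix (Fin n) (Fin n) K).charpoly) : IsConj g h := by
  rcases Nat.eq_zero_or_pos n with rfl | hn
  · have : Subsingleton (Matrix.SpecialLinearGroup (Fin 0) K) :=
      ⟨fun a b => Subtype.ext (Matrix.ext fun i => i.elim0)⟩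
    rw [Subtype.ext (Subsingleton.elim (g : Matrix.SpecialLinearGroup (Fin 0) K) h)]
  obtain ⟨G, hG⟩ : ∃ G : GL (Fin n) K, G = Matrix.SpecialLinearGroup.toGL g.1 := ⟨_, rfl⟩
  obtain ⟨H, hH⟩ : ∃ H : GL (Fin n) K, H = Matrix.SpecialLinearGroup.toGL h.1 := ⟨_, rfl⟩
  have hGU : G ∈ Cfsg.GU n K q := hG ▸ g.2
  have hHU : H ∈ Cfsg.GU n K q := hH ▸ h.2
  have hGo : (orderOf G).Coprime p := by rwa [hG, orderOf_toGL, Subgroup.orderOf_coe]
  have hHo : (orderOf H).Coprime p := by rwa [hH, orderOf_toGL, Subgroup.orderOf_coe]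
  obtain ⟨x, hx⟩ := isConj_iff.1 (gl_isConj_of_charpoly p hGo hHo (by rw [hG, hH]; exact hc))
  obtain ⟨y, hy, hyG⟩ := SemiUnitary.exists_unitary_intertwine hK hGU hHU x (mul_inv_eq_iff_eq_mul.1 hx)
  have hyd : (y : Matrix (Fin n) (Fin n) K).det * qFrob hK (y : Matrix (Fin n) (Fin n) K).det = 1 := by
    have := congrArg Matrix.det ((SemiUnitary.mem_gu_iff hK y).1 hy)
    rwa [Matrix.det_mul, Matrix.det_transpose, SemiUnitary.det_map, Matrix.det_one] at this
  obtain ⟨d, hd, hdG, hdd⟩ := exists_comm_det hK p hn hGU hGo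
    (c := qFrob hK (y : Matrix (Fin n) (Fin n) K).det) (by rw [qFrob_qFrob, mul_comm]; exact hyd)
  obtain ⟨z, hz⟩ : ∃ z : Matrix.SpecialLinearGroup (Fin n) K, Matrix.SpecialLinearGroup.toGL z = y * d :=
    ⟨⟨((y * d : GL (Fin n) K) : Matrix (Fin n) (Fin n) K), by rw [Units.val_mul, Matrix.det_mul, hdd, hyd]⟩,
      Units.ext rfl⟩
  have hzU : z ∈ Cfsg.SU n K q := fun u v =>
    (hz ▸ mul_mem hy hd : Matrix.SpecialLinearGroup.toGL z ∈ Cfsg.GU n K q) u v
  refine isConj_iff.2 ⟨⟨z, hzU⟩, mul_inv_eq_iff_eq_mul.2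
    (Subtype.ext (Matrix.SpecialLinearGroup.toGL_injective ?_))⟩
  rw [Subgroup.coe_mul, Subgroup.coe_mul, map_mul, map_mul, hz]
  show y * d * Matrix.SpecialLinearGroup.toGL g.1 = Matrix.SpecialLinearGroup.toGL h.1 * (y * d)
  rw [← hG, ← hH, mul_assoc, hdG, ← mul_assoc, hyG, mul_assoc]

include hK in
/-- The fixed field of `x ↦ x ^ q` has `q` elements. -/
theorem natCard_fixed : Nat.card {x : K // qFrob hK x = x} = q := by
  obtain ⟨θ, hθ⟩ := SemiUnitary.exists_theta hK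
  have hne : θ - qFrob hK θ ≠ 0 := sub_ne_zero.2 hθ.symm
  have hd : qFrob hK (θ - qFrob hK θ) = -(θ - qFrob hK θ) := by rw [map_sub, qFrob_qFrob, neg_sub]
  have h := Nat.card_congr (Equiv.ofBijective
    (fun ab : {x : K // qFrob hK x = x} × {x : K // qFrob hK x = x} => (ab.1 : K) + ab.2 * θ) ⟨?_, ?_⟩)
  · rw [Nat.card_prod, Nat.card_eq_fintype_card (α := K), hK] at h
    nlinarith
  · rintro ⟨⟨a, ha⟩, ⟨b, hb⟩⟩ ⟨⟨a', ha'⟩, ⟨b', hb'⟩⟩ e
    have e' : a + b * θ = a' + b' * θ := e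
    have e2 := congrArg (qFrob hK) e'
    rw [map_add, map_add, map_mul, map_mul, ha, hb, ha', hb'] at e2
    have hbb : (b - b') * (θ - qFrob hK θ) = 0 := by linear_combination e' - e2
    obtain rfl := sub_eq_zero.1 ((mul_eq_zero.1 hbb).resolve_right hne)
    obtain rfl : a = a' := add_right_cancel e'
    rfl
  · intro x
    refine ⟨(⟨x - (x - qFrob hK x) / (θ - qFrob hK θ) * θ, ?_⟩,
      ⟨(x - qFrob hK x) / (θ - qFrob hK θ), ?_⟩), by simp⟩
    · simp only [map_sub, map_mul, map_div₀, qFrob_qFrob]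
      have h2 : qFrob hK θ - θ ≠ 0 := sub_ne_zero.2 hθ
      field_simp
      ring
    · simp only [map_sub, map_div₀, qFrob_qFrob]
      rw [← neg_sub x, ← neg_sub θ, neg_div_neg_eq]

include hK in
theorem natCard_eps {ε : K} (hε : ε * qFrob hK ε = 1) :
    Nat.card {x : K // x = ε * qFrob hK x} = q := by
  obtain ⟨δ, hδ0, hδ⟩ : ∃ δ : K, δ ≠ 0 ∧ δ = ε * qFrob hK δ := by
    obtain ⟨t, ht⟩ := exists_qFrob_trace_one hK
    by_cases hne : t + ε * qFrob hK t = 0
    · obtain ⟨θ, hθ⟩ := SemiUnitary.exists_theta hK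
      refine ⟨θ * t + ε * qFrob hK (θ * t), fun h => ?_, ?_⟩
      · rw [map_mul] at h
        have h' : (θ - qFrob hK θ) * t = 0 := by linear_combination h - qFrob hK θ * hne
        rcases mul_eq_zero.1 h' with h'' | h''
        · exact hθ (sub_eq_zero.1 h'').symm
        · rw [h'', map_zero, add_zero] at ht; exact zero_ne_one ht
      · simp only [map_add, map_mul, qFrob_qFrob]
        linear_combination (-(θ * t)) * hε
    · refine ⟨t + ε * qFrob hK t, hne, ?_⟩
      rw [map_add, map_mul, qFrob_qFrob]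
      linear_combination (-t) * hε
  refine Eq.trans (Nat.card_congr ?_) (natCard_fixed hK)
  refine
    { toFun := fun x => ⟨x.1 / δ, ?_⟩
      invFun := fun y => ⟨y.1 * δ, ?_⟩
      left_inv := fun x => Subtype.ext (div_mul_cancel₀ _ hδ0)
      right_inv := fun y => Subtype.ext (mul_div_cancel_right₀ _ hδ0) }
  · have hε0 : ε ≠ 0 := left_ne_zero_of_mul_eq_one hε
    conv_rhs => rw [x.2, hδ, mul_div_mul_left _ _ hε0]
    rw [map_div₀]
  · conv_lhs => rw [hδ]
    rw [map_mul, y.2]; ring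

include hK in
theorem natCard_twisted {ε : K} (hε : ε * qFrob hK ε = 1) :
    ∀ m : ℕ, Nat.card {v : Fin m → K // ∀ i, v i = ε * qFrob hK (v i.rev)} = q ^ m := by
  intro m
  induction m using Nat.strong_induction_on with
  | _ m ih =>
    match m with
    | 0 => exact Nat.card_eq_one_iff_unique.2 ⟨⟨fun a b => Subtype.ext (funext fun i => i.elim0)⟩,
        ⟨⟨fun i => i.elim0, fun i => i.elim0⟩⟩⟩
    | 1 =>
      rw [pow_one]
      refine Eq.trans (Nat.card_congr ?_) (natCard_eps hK hε)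
      refine
        { toFun := fun v => ⟨v.1 0, by simpa using v.2 0⟩
          invFun := fun x => ⟨fun _ => x.1, fun _ => x.2⟩
          left_inv := fun v => Subtype.ext (funext fun i => by rw [Subsingleton.elim i 0])
          right_inv := fun x => rfl }
    | k + 2 =>
      have hrev : ∀ j : Fin k, (j.castSucc.succ : Fin (k + 2)).rev = j.rev.castSucc.succ := fun j =>
        Fin.ext (by simp only [Fin.val_rev, Fin.val_succ, Fin.val_castSucc]; omega)
      have hlast : (0 : Fin (k + 2)).rev = Fin.last (k + 1) := Fin.rev_zero (k + 1)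
      have e : {v : Fin (k + 2) → K // ∀ i, v i = ε * qFrob hK (v i.rev)} ≃
          K × {w : Fin k → K // ∀ i, w i = ε * qFrob hK (w i.rev)} :=
        { toFun := fun v => (v.1 0, ⟨fun j => v.1 j.castSucc.succ, fun j => by
            have := v.2 j.castSucc.succ
            rw [hrev] at this
            exact this⟩)
          invFun := fun xw => ⟨Fin.cons xw.1 (Fin.snoc (α := fun _ => K) xw.2.1 (ε * qFrob hK xw.1)), fun i => by
            induction i using Fin.cases with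
            | zero =>
              rw [hlast, ← Fin.succ_last, Fin.cons_zero, Fin.cons_succ, Fin.snoc_last, map_mul, qFrob_qFrob,
                ← mul_assoc, hε, one_mul]
            | succ j =>
              induction j using Fin.lastCases with
              | last =>
                rw [Fin.cons_succ, Fin.snoc_last, Fin.succ_last, Fin.rev_last, Fin.cons_zero]
              | cast j =>
                rw [hrev, Fin.cons_succ, Fin.cons_succ, Fin.snoc_castSucc, Fin.snoc_castSucc]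
                exact xw.2.2 j⟩
          left_inv := fun v => Subtype.ext (funext fun i => by
            induction i using Fin.cases with
            | zero => rfl
            | succ j =>
              induction j using Fin.lastCases with
              | last =>
                simp only [Fin.cons_succ, Fin.snoc_last]
                conv_rhs => rw [v.2 (Fin.last k).succ]
                rw [Fin.succ_last, Fin.rev_last]
              | cast j => simp only [Fin.cons_succ, Fin.snoc_castSucc])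
          right_inv := fun xw => Prod.ext rfl (Subtype.ext (funext fun j => by
            simp only [Fin.cons_succ, Fin.snoc_castSucc])) }
      rw [Nat.card_congr e, Nat.card_prod, ih k (by omega), Nat.card_eq_fintype_card, hK, ← pow_add]
      ring_nf

include hK in
theorem natCard_conjugate_reciprocal {n : ℕ} (hn : 1 ≤ n) :
    Nat.card {f : K[X] // f.Monic ∧ f.natDegree = n ∧ f.coeff 0 = (-1) ^ n ∧
      SemiPalin.tilde (qFrob hK) f = f} = q ^ (n - 1) := by
  classical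
  obtain ⟨σ, hσ⟩ : ∃ σ : K →+* K, σ = qFrob hK := ⟨_, rfl⟩
  obtain ⟨ε, hεdef⟩ : ∃ ε : K, ε = (-1) ^ n := ⟨_, rfl⟩
  have hεσ : σ ε = ε := by rw [hεdef, map_pow, map_neg, map_one]
  have hεε : ε * ε = 1 := by rw [hεdef, ← mul_pow, neg_one_mul, neg_neg, one_pow]
  have hεi : ε⁻¹ = ε := inv_eq_of_mul_eq_one_right hεε
  rw [← hεdef, ← natCard_twisted hK (ε := ε) (by rw [← hσ, hεσ, hεε]) (n - 1)]
  have hcoeff : ∀ f : K[X], f.natDegree = n → f.coeff 0 = ε → ∀ i, i ≤ n →
      (SemiPalin.tilde σ f).coeff i = ε * σ (f.coeff (n - i)) := fun f hd h0 i hi => by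
    rw [SemiPalin.tilde, h0, hεσ, hεi, coeff_C_mul, SemiPalin.coeff_srev σ f (hd ▸ hi), hd]
  refine Nat.card_congr (Equiv.ofBijective (fun f => ⟨fun i : Fin (n - 1) => f.1.coeff (i + 1), fun i => ?_⟩) ⟨?_, ?_⟩)
  · obtain ⟨f, hf, hd, h0, ht⟩ := f
    show f.coeff (i + 1) = ε * qFrob hK (f.coeff (i.rev + 1))
    have := i.2
    conv_lhs => rw [← ht, ← hσ, hcoeff f hd h0 _ (by omega)]
    rw [hσ, Fin.val_rev, show n - 1 - (↑i + 1) + 1 = n - (↑i + 1) by omega]
  · rintro ⟨f, hf, hd, h0, ht⟩ ⟨g, hg, he, g0, gt⟩ h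
    refine Subtype.ext (Polynomial.ext fun i => ?_)
    show f.coeff i = g.coeff i
    rcases lt_trichotomy i n with hi | rfl | hi
    · rcases Nat.eq_zero_or_pos i with rfl | hp
      · rw [h0, g0]
      · have := congrFun (congrArg Subtype.val h) ⟨i - 1, by omega⟩
        simpa [Nat.sub_add_cancel hp] using this
    · have h1 := hf.leadingCoeff
      have h2 := hg.leadingCoeff
      rw [leadingCoeff, hd] at h1
      rw [leadingCoeff, he] at h2
      rw [h1, h2]
    · rw [coeff_eq_zero_of_natDegree_lt (by omega), coeff_eq_zero_of_natDegree_lt (by omega)]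
  · rintro ⟨v, hv⟩
    obtain ⟨w, hw⟩ : ∃ w : ℕ → K, ∀ j, w j = if j = 0 then ε else if h : j - 1 < n - 1 then v ⟨_, h⟩ else
        if j = n then 1 else 0 := ⟨_, fun j => rfl⟩
    obtain ⟨f, hf⟩ : ∃ f : K[X], f = ∑ j ∈ Finset.range (n + 1), monomial j (w j) := ⟨_, rfl⟩
    have hc : ∀ j, f.coeff j = if j ≤ n then w j else 0 := fun j => by
      rw [hf, finsetSum_coeff]
      simp only [coeff_monomial, Finset.sum_ite_eq', Finset.mem_range, Nat.lt_succ_iff]
    have hwn : w n = 1 := by rw [hw, if_neg (by omega), dif_neg (by omega), if_pos rfl]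
    have hdeg : f.natDegree = n := by
      refine le_antisymm (natDegree_le_iff_coeff_eq_zero.2 fun j hj => ?_) (le_natDegree_of_ne_zero ?_)
      · rw [hc, if_neg (by omega)]
      · rw [hc, if_pos le_rfl, hwn]; exact one_ne_zero
    have hm : f.Monic := by rw [Monic, leadingCoeff, hdeg, hc, if_pos le_rfl, hwn]
    have h0 : f.coeff 0 = ε := by rw [hc, if_pos (Nat.zero_le _), hw, if_pos rfl]
    have hε0 : ε ≠ 0 := left_ne_zero_of_mul_eq_one hεε
    have ht : SemiPalin.tilde σ f = f := by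
      refine Polynomial.ext fun j => ?_
      rcases le_or_gt j n with hj | hj
      · rw [hcoeff f hdeg h0 j hj, hc, hc, if_pos (Nat.sub_le _ _), if_pos hj]
        rcases Nat.eq_zero_or_pos j with rfl | hp
        · rw [Nat.sub_zero, hwn, map_one, mul_one, hw, if_pos rfl]
        rcases eq_or_lt_of_le hj with rfl | hlt
        · rw [Nat.sub_self, hwn, hw, if_pos rfl, hεσ, hεε]
        · rw [hw, hw, if_neg (show j ≠ 0 by omega), if_neg (show n - j ≠ 0 by omega),
            dif_pos (show j - 1 < n - 1 by omega), dif_pos (show n - j - 1 < n - 1 by omega), hσ]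
          refine Eq.trans ?_ (hv ⟨j - 1, by omega⟩).symm
          congr 3
          exact Fin.ext (by rw [Fin.val_rev]; show n - j - 1 = n - 1 - (j - 1 + 1); omega)
      · rw [coeff_eq_zero_of_natDegree_lt (by rw [(SemiPalin.tilde_facts σ hm (h0 ▸ hε0)).2.1]; omega),
          hc, if_neg (by omega)]
    refine ⟨⟨f, hm, hdeg, h0, hσ ▸ ht⟩, Subtype.ext (funext fun i => ?_)⟩
    show f.coeff (i + 1) = v i
    have := i.2
    rw [hc, if_pos (by omega), hw, if_neg (by omega), dif_pos (by omega)]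
    exact congrArg v (Fin.ext (by simp))

include hK p in
/-- `SU_n(q)` has `q^(n-1)` classes of semisimple elements. -/
theorem natCard_classes_su {n : ℕ} (hn : 1 ≤ n) :
    Nat.card {c : ConjClasses ↥(Cfsg.SU n K q) // ∃ g : ↥(Cfsg.SU n K q), ConjClasses.mk g = c ∧
      (orderOf g).Coprime p} = q ^ (n - 1) := by
  classical
  rw [← natCard_conjugate_reciprocal hK hn]
  let mat : ↥(Cfsg.SU n K q) → Matrix (Fin n) (Fin n) K := fun g =>
    ((g : Matrix.SpecialLinearGroup (Fin n) K) : Matrix (Fin n) (Fin n) K)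
  let cp : ConjClasses ↥(Cfsg.SU n K q) → K[X] :=
    Quotient.lift (fun g => (mat g).charpoly) fun a b h =>
      charpoly_isConj (g := Matrix.SpecialLinearGroup.toGL a.1) (h := Matrix.SpecialLinearGroup.toGL b.1)
        (MonoidHom.map_isConj (Matrix.SpecialLinearGroup.toGL.comp (Cfsg.SU n K q).subtype) h)
  have hcp : ∀ g, cp (ConjClasses.mk g) = (mat g).charpoly := fun g => rfl
  refine Nat.card_congr (Equiv.ofBijective (fun c => ⟨cp c.1, ?_⟩) ⟨?_, ?_⟩)
  · obtain ⟨g, hg⟩ := ConjClasses.mk_surjective c.1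
    rw [← hg, hcp]
    refine ⟨charpoly_monic _, by rw [charpoly_natDegree_eq_dim, Fintype.card_fin], ?_,
      tilde_charpoly hK (A := Matrix.SpecialLinearGroup.toGL g.1) g.2⟩
    have hd := det_eq_sign_charpoly_coeff (mat g)
    rw [show (mat g).det = 1 from g.1.2, Fintype.card_fin] at hd
    have hs : ((-1 : K) ^ n) * (-1) ^ n = 1 := by rw [← mul_pow, neg_one_mul, neg_neg, one_pow]
    linear_combination ((mat g).charpoly.coeff 0) * (-hs) - ((-1 : K) ^ n) * hd
  · rintro ⟨_, g, rfl, hg⟩ ⟨_, h, rfl, hh⟩ he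
    have hpq := congrArg Subtype.val he
    simp only [hcp] at hpq
    exact Subtype.ext (ConjClasses.mk_eq_mk_iff_isConj.mpr (isConj_su hK p g h hg hh hpq))
  · rintro ⟨f, hf, hfn, hf0, hft⟩
    obtain ⟨B, hB, hBo, hBc⟩ := exists_gu hK p hf hfn
      (by rw [hf0]; exact pow_ne_zero _ (neg_ne_zero.mpr one_ne_zero)) hft
    have hdet : (B : Matrix (Fin n) (Fin n) K).det = 1 := by
      rw [det_eq_sign_charpoly_coeff, hBc, hf0, Fintype.card_fin, ← mul_pow, neg_one_mul, neg_neg, one_pow]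
    obtain ⟨y, hy⟩ : ∃ y : Matrix.SpecialLinearGroup (Fin n) K, Matrix.SpecialLinearGroup.toGL y = B :=
      ⟨⟨_, hdet⟩, Units.ext rfl⟩
    have hyU : y ∈ Cfsg.SU n K q := fun u v => (hy ▸ hB : Matrix.SpecialLinearGroup.toGL y ∈ Cfsg.GU n K q) u v
    refine ⟨⟨ConjClasses.mk ⟨y, hyU⟩, _, rfl, ?_⟩, Subtype.ext ?_⟩
    · rw [← Subgroup.orderOf_coe, ← orderOf_toGL, hy]; exact hBo
    · show (y : Matrix (Fin n) (Fin n) K).charpoly = f
      rw [← hBc, ← hy]; rfl

end CfsgLib.Classical.SemiUnitaryClasses
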