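import Mathlib
import Cfsg.Prelude.Def_LieTypeDatum
import Cfsg.Agent.Lib.Geom.Symp
import Cfsg.Agent.Lib.Geom.StdForms

/-!
Matrices of symmetric and alternating forms: similitude groups, projective congruence, transport.
-/

set_option autoImplicit false
set_option linter.unusedSectionVars false

namespace CfsgLib.Classical.GraphForm

open Matrix CfsgLib.Geom
open QuadraticMap (polar)

variable {F : Type*} [Field F] {ι κ : Type} [Fintype ι] [DecidableEq ι] [Fintype κ] [DecidableEq κ]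

/-- The matrices multiplying the form by a non-zero scalar. -/
def formSim (B : Matrix ι ι F) : Subgroup (GL ι F) where
  carrier := {x | ∃ c : Fˣ, x.1ᵀ * B * x.1 = (c : F) • B}
  one_mem' := ⟨1, by simp⟩
  mul_mem' := by
    rintro x y ⟨c, hc⟩ ⟨d, hd⟩
    refine ⟨c * d, ?_⟩
    calc (x * y).1ᵀ * B * (x * y).1 = y.1ᵀ * (x.1ᵀ * B * x.1) * y.1 := by
          rw [Units.val_mul, transpose_mul]; simp only [Matrix.mul_assoc]
      _ = _ := by rw [hc, mul_smul_comm, smul_mul, hd, smul_smul, Units.val_mul]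
  inv_mem' := by
    rintro x ⟨c, hc⟩
    refine ⟨c⁻¹, ?_⟩
    have h : (x⁻¹).1ᵀ * (x.1ᵀ * B * x.1) * (x⁻¹).1 = B := by
      rw [← Matrix.mul_assoc, ← Matrix.mul_assoc, ← transpose_mul, Units.mul_inv, transpose_one, Matrix.one_mul,
        Matrix.mul_assoc, Units.mul_inv, Matrix.mul_one]
    rw [hc, mul_smul_comm, smul_mul] at h
    conv_rhs => arg 2; rw [← h]
    rw [smul_smul, Units.inv_mul, one_smul]

theorem mem_formSim {B : Matrix ι ι F} {x : GL ι F} :
    x ∈ formSim B ↔ ∃ c : Fˣ, x.1ᵀ * B * x.1 = (c : F) • B := Iff.rfl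

/-- An alternating matrix. -/
def IsAlt (B : Matrix ι ι F) : Prop := Bᵀ = -B ∧ ∀ i, B i i = 0

/-- A symmetric or antisymmetric matrix. -/
def IsForm (B : Matrix ι ι F) : Prop := Bᵀ = B ∨ Bᵀ = -B

theorem isForm_iff (B : Matrix ι ι F) : IsForm B ↔ IsAlt B ∨ (Bᵀ = B ∧ ¬ IsAlt B) := by
  constructor
  · intro h
    by_cases ha : IsAlt B
    · exact Or.inl ha
    rcases h with h | h
    · exact Or.inr ⟨h, ha⟩
    by_cases h2 : (2 : F) = 0
    · exact Or.inr ⟨by
        rw [h]; ext i j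
        rw [Matrix.neg_apply]
        linear_combination -(B i j) * h2, ha⟩
    refine Or.inl ⟨h, fun i => ?_⟩
    have := congrFun (congrFun h i) i
    rw [transpose_apply, Matrix.neg_apply] at this
    exact (mul_eq_zero.1 (show (2 : F) * B i i = 0 by linear_combination this)).resolve_left h2
  · rintro (h | h)
    · exact Or.inr h.1
    · exact Or.inl h.1

theorem dot_conj (A B : Matrix ι ι F) (u v : ι → F) :
    (A *ᵥ u) ⬝ᵥ B *ᵥ (A *ᵥ v) = u ⬝ᵥ (Aᵀ * B * A) *ᵥ v := by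
  rw [← mulVec_mulVec, ← mulVec_mulVec, dotProduct_mulVec u, vecMul_transpose]

theorem ext_dot {A B : Matrix ι ι F} (h : ∀ u v, u ⬝ᵥ A *ᵥ v = u ⬝ᵥ B *ᵥ v) : A = B :=
  Matrix.ext fun i j => by simpa [mulVec_single_one, single_one_dotProduct] using h (Pi.single i 1) (Pi.single j 1)

theorem dot_smul (c : F) (B : Matrix ι ι F) (u v : ι → F) :
    u ⬝ᵥ (c • B) *ᵥ v = c * (u ⬝ᵥ B *ᵥ v) := by
  rw [smul_mulVec, dotProduct_smul, smul_eq_mul]

/-- Projective congruence. -/
def FormCongr (B B' : Matrix ι ι F) : Prop :=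
  ∃ (P : GL ι F) (c : Fˣ), P.1ᵀ * B * P.1 = (c : F) • B'

theorem FormCongr.refl (B : Matrix ι ι F) : FormCongr B B := ⟨1, 1, by simp⟩

theorem FormCongr.symm {B B' : Matrix ι ι F} (h : FormCongr B B') : FormCongr B' B := by
  obtain ⟨P, c, h⟩ := h
  refine ⟨P⁻¹, c⁻¹, ?_⟩
  have h1 : B' = ((c⁻¹ : Fˣ) : F) • (P.1ᵀ * B * P.1) := by rw [h, smul_smul, Units.inv_mul, one_smul]
  rw [h1, mul_smul_comm, smul_mul]
  congr 1
  rw [← Matrix.mul_assoc, ← Matrix.mul_assoc, ← transpose_mul, Units.mul_inv, transpose_one, Matrix.one_mul,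
    Matrix.mul_assoc, Units.mul_inv, Matrix.mul_one]

theorem FormCongr.trans {B B' B'' : Matrix ι ι F} (h : FormCongr B B') (h' : FormCongr B' B'') :
    FormCongr B B'' := by
  obtain ⟨P, c, h⟩ := h
  obtain ⟨P', c', h'⟩ := h'
  refine ⟨P * P', c * c', ?_⟩
  calc (P * P').1ᵀ * B * (P * P').1 = P'.1ᵀ * (P.1ᵀ * B * P.1) * P'.1 := by
        rw [Units.val_mul, transpose_mul]; simp only [Matrix.mul_assoc]
    _ = _ := by rw [h, mul_smul_comm, smul_mul, h', smul_smul, Units.val_mul]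

theorem isAlt_congr {B B' : Matrix ι ι F} (h : FormCongr B B') (hB : IsAlt B) : IsAlt B' := by
  obtain ⟨P, c, hP⟩ := h
  have hB' : B' = ((c⁻¹ : Fˣ) : F) • (P.1ᵀ * B * P.1) := by rw [hP, smul_smul, Units.inv_mul, one_smul]
  have hq : ∀ u, u ⬝ᵥ B *ᵥ u = 0 := fun u => by
    have hs : ∀ i j, u i * (B i j * u j) + u j * (B j i * u i) = 0 := fun i j => by
      have := congrFun (congrFun hB.1 i) j
      rw [transpose_apply, Matrix.neg_apply] at this
      linear_combination (u i * u j) * this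
    rw [dotProduct]
    simp only [mulVec, dotProduct, Finset.mul_sum]
    rw [← Finset.sum_product']
    refine Finset.sum_involution (fun ij _ => (ij.2, ij.1)) (fun ij _ => hs ij.1 ij.2) (fun ij _ hne he => ?_)
      (fun ij _ => Finset.mem_univ _) (fun ij _ => rfl)
    obtain ⟨i, j⟩ := ij
    obtain rfl : j = i := congrArg Prod.fst he
    exact hne (by simp [hB.2])
  refine ⟨?_, fun i => ?_⟩
  · rw [hB', transpose_smul, transpose_mul, transpose_mul, transpose_transpose, hB.1, Matrix.neg_mul,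
      Matrix.mul_neg, smul_neg, Matrix.mul_assoc]
  · have := hq (P.1 *ᵥ Pi.single i 1)
    rw [dot_conj, mulVec_single_one, single_one_dotProduct] at this
    rw [hB', Matrix.smul_apply, show (P.1ᵀ * B * P.1) i i = 0 from this, smul_zero]

theorem det_of_congr {B B' : Matrix ι ι F} {P : GL ι F} {c : F} (h : P.1ᵀ * B * P.1 = c • B') :
    P.1.det * P.1.det * B.det = c ^ Fintype.card ι * B'.det := by
  rw [← det_smul, ← h, det_mul, det_mul, det_transpose]
  ring

/-! ### Transport -/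

/-- An isomorphism of projective groups from one of the linear groups. -/
theorem projQuot_congr (e : GL ι F ≃* GL κ F)
    (he : (Cfsg.Geo.scalars ι F).map e.toMonoidHom = Cfsg.Geo.scalars κ F)
    {H : Subgroup (GL ι F)} {H' : Subgroup (GL κ F)} (hH : H.map e.toMonoidHom = H') :
    Nonempty (Cfsg.projQuot H ≃* Cfsg.projQuot H') := by
  subst hH
  refine ⟨QuotientGroup.congr _ _ (e.subgroupMap H) ?_⟩
  ext y
  constructor
  · rintro ⟨x, hx, rfl⟩
    exact he ▸ Subgroup.mem_map_of_mem e.toMonoidHom hx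
  · intro hy
    obtain ⟨x, rfl⟩ := (e.subgroupMap H).surjective y
    refine ⟨x, ?_, rfl⟩
    have hy' : e x.1 ∈ (Cfsg.Geo.scalars ι F).map e.toMonoidHom := by rw [he]; exact hy
    obtain ⟨z, hz, hzx⟩ := hy'
    show x.1 ∈ Cfsg.Geo.scalars ι F
    rwa [← e.injective hzx]

theorem scalars_map_conj (P : GL ι F) :
    (Cfsg.Geo.scalars ι F).map (MulAut.conj P).toMonoidHom = Cfsg.Geo.scalars ι F := by
  have key : ∀ (Q x : GL ι F), x ∈ Cfsg.Geo.scalars ι F → Q * x * Q⁻¹ = x := by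
    intro Q x hx
    obtain ⟨c, hc⟩ := (Cfsg.Geo.mem_scalars_iff x).1 hx
    refine Units.ext ?_
    rw [Units.val_mul, Units.val_mul, hc, mul_smul_comm, mul_one, smul_mul, Units.mul_inv]
  ext x
  constructor
  · rintro ⟨y, hy, rfl⟩
    show P * y * P⁻¹ ∈ _
    rwa [key P y hy]
  · exact fun hx => ⟨x, hx, key P x hx⟩

theorem formSim_congr {B B' : Matrix ι ι F} (h : FormCongr B B') :
    Nonempty (Cfsg.projQuot (formSim B') ≃* Cfsg.projQuot (formSim B)) := by
  obtain ⟨P, c, hP⟩ := h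
  refine projQuot_congr (MulAut.conj P) (scalars_map_conj P) ?_
  have hB' : B' = ((c⁻¹ : Fˣ) : F) • (P.1ᵀ * B * P.1) := by rw [hP, smul_smul, Units.inv_mul, one_smul]
  have hB : B = (c : F) • ((P⁻¹).1ᵀ * B' * (P⁻¹).1) := by
    rw [← Matrix.smul_mul, ← Matrix.mul_smul, ← hP, ← Matrix.mul_assoc, ← Matrix.mul_assoc, ← transpose_mul,
      Units.mul_inv, transpose_one, Matrix.one_mul, Matrix.mul_assoc, Units.mul_inv, Matrix.mul_one]
  ext x
  constructor
  · rintro ⟨y, ⟨d, hd⟩, rfl⟩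
    refine ⟨d, ?_⟩
    show (P.1 * y.1 * (P⁻¹).1)ᵀ * B * (P.1 * y.1 * (P⁻¹).1) = _
    conv_rhs => rw [hB]
    calc (P.1 * y.1 * (P⁻¹).1)ᵀ * B * (P.1 * y.1 * (P⁻¹).1)
        = (P⁻¹).1ᵀ * (y.1ᵀ * (P.1ᵀ * B * P.1) * y.1) * (P⁻¹).1 := by
          rw [transpose_mul, transpose_mul]; simp only [Matrix.mul_assoc]
      _ = _ := by
          rw [hP, mul_smul_comm, smul_mul, hd, mul_smul_comm, mul_smul_comm, smul_mul, smul_mul, smul_comm]
  · rintro ⟨d, hd⟩
    refine ⟨P⁻¹ * x * P, ⟨d, ?_⟩, by simp [MulAut.conj_apply]; group⟩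
    show ((P⁻¹).1 * x.1 * P.1)ᵀ * B' * ((P⁻¹).1 * x.1 * P.1) = _
    conv_rhs => rw [hB']
    calc ((P⁻¹).1 * x.1 * P.1)ᵀ * B' * ((P⁻¹).1 * x.1 * P.1)
        = P.1ᵀ * (x.1ᵀ * ((P⁻¹).1ᵀ * B' * (P⁻¹).1) * x.1) * P.1 := by
          rw [transpose_mul, transpose_mul]; simp only [Matrix.mul_assoc]
      _ = _ := by
          rw [show (P⁻¹).1ᵀ * B' * (P⁻¹).1 = ((c⁻¹ : Fˣ) : F) • B by
            conv_rhs => rw [hB, smul_smul, Units.inv_mul, one_smul], mul_smul_comm, smul_mul, hd,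
            mul_smul_comm, mul_smul_comm, smul_mul, smul_mul, smul_comm]

/-- Reindexing of invertible matrices. -/
def glReindex (e : ι ≃ κ) : GL ι F ≃* GL κ F :=
  Units.mapEquiv (Matrix.reindexAlgEquiv F F e).toMulEquiv

theorem glReindex_val (e : ι ≃ κ) (x : GL ι F) : (glReindex e x).1 = Matrix.reindex e e x.1 := rfl

theorem formSim_reindex (e : ι ≃ κ) (B : Matrix ι ι F) :
    Nonempty (Cfsg.projQuot (formSim B) ≃* Cfsg.projQuot (formSim (Matrix.reindex e e B))) := by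
  refine projQuot_congr (glReindex e) ?_ ?_
  · ext x
    constructor
    · rintro ⟨y, hy, rfl⟩
      obtain ⟨c, hc⟩ := (Cfsg.Geo.mem_scalars_iff y).1 hy
      refine (Cfsg.Geo.mem_scalars_iff _).2 ⟨c, ?_⟩
      show (Matrix.reindexAlgEquiv F F e) y.1 = _
      rw [hc, map_smul, map_one]
    · intro hx
      obtain ⟨c, hc⟩ := (Cfsg.Geo.mem_scalars_iff x).1 hx
      refine ⟨(glReindex e).symm x, (Cfsg.Geo.mem_scalars_iff _).2 ⟨c, ?_⟩, (glReindex e).apply_symm_apply x⟩
      show (Matrix.reindexAlgEquiv F F e).symm x.1 = _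
      rw [hc, map_smul, map_one]
  · ext x
    obtain ⟨y, rfl⟩ := (glReindex e).surjective x
    rw [show glReindex e y ∈ (formSim B).map (glReindex e).toMonoidHom ↔ y ∈ formSim B from
      Subgroup.mem_map_iff_mem (glReindex e).injective]
    refine exists_congr fun c => ?_
    have h : (glReindex e y).1ᵀ * Matrix.reindex e e B * (glReindex e y).1 =
        Matrix.reindex e e (y.1ᵀ * B * y.1) := by
      rw [glReindex_val, transpose_reindex]
      exact ((map_mul (Matrix.reindexAlgEquiv F F e) _ _).trans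
        (congrArg (· * _) (map_mul (Matrix.reindexAlgEquiv F F e) _ _))).symm
    rw [h, show (c : F) • Matrix.reindex e e B = Matrix.reindex e e ((c : F) • B) from rfl]
    exact (Matrix.reindex e e).injective.eq_iff.symm

/-! ### Standard groups -/

theorem gSp_eq (m : ℕ) : Cfsg.GSp m F = formSim (Matrix.J (Fin m) F) := by
  ext x
  refine exists_congr fun c => ⟨fun h => ext_dot fun u v => ?_, fun h u v => ?_⟩
  · rw [dot_smul, ← dot_conj]
    exact h u v
  · show (x.1 *ᵥ u) ⬝ᵥ _ *ᵥ (x.1 *ᵥ v) = _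
    rw [dot_conj, h, dot_smul]
    rfl

theorem polar_eq_dot (Q : QuadraticForm F (ι → F)) (u v : ι → F) :
    polar Q u v = u ⬝ᵥ LinearMap.toMatrix₂' F Q.polarBilin *ᵥ v := by
  rw [← Matrix.toBilin'_apply']
  show Q.polarBilin u v = _
  congr 2
  exact (Matrix.toBilin'.apply_symm_apply Q.polarBilin).symm

theorem quadSim_eq (Q : QuadraticForm F (ι → F)) (h2 : (2 : F) ≠ 0) :
    Cfsg.Geo.quadSimilarityGroup (F := F) (⇑Q) = formSim (LinearMap.toMatrix₂' F Q.polarBilin) := by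
  ext x
  refine exists_congr fun c => ⟨fun h => ext_dot fun u v => ?_, fun h v => ?_⟩
  · rw [dot_smul, ← dot_conj, ← polar_eq_dot, ← polar_eq_dot]
    simp only [polar, ← mulVec_add, h]
    ring
  · refine mul_left_cancel₀ h2 ?_
    have h1 : ∀ u, (2 : F) * Q u = polar Q u u := fun u => by
      rw [QuadraticMap.polar_self, two_nsmul, two_mul]
    rw [mul_left_comm, h1, h1, polar_eq_dot, polar_eq_dot, dot_conj, h, dot_smul]

end CfsgLib.Classical.GraphForm
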