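import Mathlib
import Cfsg.Agent.Lib.Geom.Symp
import Cfsg.Agent.Lib.Geom.SympSpace

/-!
The determinant of a similitude of a non-degenerate alternating form.
-/

set_option autoImplicit false

namespace CfsgLib.Classical

open CfsgLib.Geom
open Matrix

theorem det_symp_similitude {F V : Type*} [Field F] [Finite F] [AddCommGroup V] [Module F V]
    [FiniteDimensional F V] (B : V →ₗ[F] V →ₗ[F] F) (halt : ∀ v, B v v = 0)
    (hsep : ∀ x, (∀ y, B x y = 0) → x = 0) {k : ℕ} (hk : Module.finrank F V = 2 * k) (f : V →ₗ[F] V) {c : F}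
    (hc : c ≠ 0) (hf : ∀ u v, B (f u) (f v) = c * B u v) : LinearMap.det f = c ^ k := by
  obtain ⟨e, he⟩ := exists_symp_isometry (2 * k) (sympBilin k F) B sympBilin_self sympBilin_sep halt hsep
    (by simp [two_mul]) hk
  obtain ⟨M, hM⟩ : ∃ M : Matrix (Fin k ⊕ Fin k) (Fin k ⊕ Fin k) F,
      M = LinearMap.toMatrix' (e.symm.toLinearMap ∘ₗ f ∘ₗ e.toLinearMap) := ⟨_, rfl⟩
  have hdet : LinearMap.det f = M.det := by
    rw [hM, LinearMap.det_toMatrix']
    exact (LinearMap.det_conj f e.symm).symm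
  have hMf : ∀ u v, Cfsg.sympForm k F (M *ᵥ u) (M *ᵥ v) = c * Cfsg.sympForm k F u v := fun u v => by
    rw [← sympBilin_apply, ← sympBilin_apply, hM, LinearMap.toMatrix'_mulVec, LinearMap.toMatrix'_mulVec,
      ← he, ← he]
    simp [hf]
  obtain ⟨D, hD⟩ : ∃ D : Matrix (Fin k ⊕ Fin k) (Fin k ⊕ Fin k) F,
      D = Matrix.diagonal (Sum.elim (fun _ => c⁻¹) fun _ => 1) := ⟨_, rfl⟩
  have hDM : D * M ∈ Matrix.symplecticGroup (Fin k) F := by
    rw [mem_symplecticGroup_iff_form]
    intro u v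
    rw [← mulVec_mulVec, ← mulVec_mulVec, hD]
    refine mul_left_cancel₀ hc ?_
    rw [← hMf u v, sympForm_eq_sum, sympForm_eq_sum, Finset.mul_sum]
    refine Finset.sum_congr rfl fun i _ => ?_
    simp [Matrix.mulVec_diagonal]
    field_simp
  have h := SymplecticGroup.det_eq_one hDM
  rw [det_mul, hD, det_diagonal, Fintype.prod_sum_type] at h
  simp at h
  rw [hdet]
  field_simp at h
  linear_combination h

end CfsgLib.Classical
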