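import Mathlib
import Cfsg.Agent.Lib.Classical.GraphFormBasic
import Cfsg.Agent.Lib.Classical.SkewDet
import Cfsg.Agent.Lib.Classical.AltPerfect
import Cfsg.Agent.Lib.Geom.FormClass
import Cfsg.Agent.Lib.Geom.OrthMatrix
import Cfsg.Agent.Lib.Geom.PSpInvol

/-!
Classification of symmetric and alternating invertible matrices up to congruence over finite fields, and
determinants of their similitudes.
-/

set_option autoImplicit false
set_option linter.unusedSectionVars false

namespace CfsgLib.Classical.GraphForm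

open Matrix CfsgLib.Geom
open QuadraticMap (polar)

variable {F : Type*} [Field F] [Finite F] {ι : Type} [Fintype ι] [DecidableEq ι]

theorem toBilin'_sep {B : Matrix ι ι F} (hB : IsUnit B) (x : ι → F)
    (hx : ∀ y, Matrix.toBilin' B x y = 0) : x = 0 := by
  have hB' : IsUnit Bᵀ := by rwa [isUnit_iff_isUnit_det, det_transpose, ← isUnit_iff_isUnit_det]
  refine Matrix.mulVec_injective_of_isUnit hB' ?_
  rw [mulVec_zero]
  funext i
  have h := hx (Pi.single i 1)
  rw [Matrix.toBilin'_apply', dotProduct_mulVec, dotProduct_single, mul_one, ← mulVec_transpose] at h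
  exact h

theorem congr_of_equiv {B B' : Matrix ι ι F} (e : (ι → F) ≃ₗ[F] (ι → F))
    (he : ∀ x y, Matrix.toBilin' B' (e x) (e y) = Matrix.toBilin' B x y) :
    ∃ P : GL ι F, P.1ᵀ * B' * P.1 = B :=
  ⟨glOfEquiv e, ext_dot fun u v => by
    have h := he u v
    rw [Matrix.toBilin'_apply', Matrix.toBilin'_apply', ← glOfEquiv_mulVec e u, ← glOfEquiv_mulVec e v,
      dot_conj] at h
    exact h⟩

theorem toBilin'_alt {B : Matrix ι ι F} (hB : IsAlt B) (v : ι → F) : Matrix.toBilin' B v v = 0 := by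
  rw [Matrix.toBilin'_apply', dotProduct]
  simp only [mulVec, dotProduct, Finset.mul_sum]
  rw [← Finset.sum_product']
  refine Finset.sum_involution (fun ij _ => (ij.2, ij.1)) (fun ij _ => ?_) (fun ij _ hne he => ?_)
    (fun ij _ => Finset.mem_univ _) (fun ij _ => rfl)
  · have := congrFun (congrFun hB.1 ij.1) ij.2
    rw [transpose_apply, Matrix.neg_apply] at this
    linear_combination (v ij.1 * v ij.2) * this
  · obtain ⟨i, j⟩ := ij
    obtain rfl : j = i := congrArg Prod.fst he
    exact hne (by simp [hB.2])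

theorem even_card_of_alt {B : Matrix ι ι F} (hB : IsAlt B) (hu : IsUnit B) : Even (Fintype.card ι) :=
  even_finrank_symp _ (Matrix.toBilin' B) (toBilin'_alt hB) (toBilin'_sep hu) (Module.finrank_fintype_fun_eq_card F)

/-- All invertible alternating matrices are congruent. -/
theorem alt_congr {B B' : Matrix ι ι F} (hB : IsAlt B) (hu : IsUnit B) (hB' : IsAlt B') (hu' : IsUnit B') :
    ∃ P : GL ι F, P.1ᵀ * B' * P.1 = B := by
  obtain ⟨e, he⟩ := exists_symp_isometry (Fintype.card ι) (Matrix.toBilin' B) (Matrix.toBilin' B')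
    (toBilin'_alt hB) (toBilin'_sep hu) (toBilin'_alt hB') (toBilin'_sep hu')
    (Module.finrank_fintype_fun_eq_card F) (Module.finrank_fintype_fun_eq_card F)
  exact congr_of_equiv e he

/-- In odd characteristic symmetric invertible matrices are congruent when their determinants have the same
square class. -/
theorem sym_congr (h2 : (2 : F) ≠ 0) {B B' : Matrix ι ι F} (hB : Bᵀ = B) (hu : IsUnit B) (hB' : B'ᵀ = B')
    (hu' : IsUnit B') (hd : IsSquare (B.det * B'.det)) : ∃ P : GL ι F, P.1ᵀ * B' * P.1 = B := by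
  have hp : ∀ {C : Matrix ι ι F}, Cᵀ = C → ∀ u v,
      polar (Matrix.toBilin' C).toQuadraticMap u v = 2 * Matrix.toBilin' C u v := fun {C} hC u v => by
    rw [LinearMap.BilinMap.polar_toQuadraticMap, two_mul]
    congr 1
    rw [Matrix.toBilin'_apply', Matrix.toBilin'_apply', dotProduct_comm, dotProduct_mulVec, ← mulVec_transpose, hC,
      dotProduct_comm]
  have hsep : ∀ {C : Matrix ι ι F}, Cᵀ = C → IsUnit C →
      ∀ x, (∀ y, polar (Matrix.toBilin' C).toQuadraticMap x y = 0) → x = 0 := fun {C} hC hCu x hx =>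
    toBilin'_sep hCu x fun y => by
      have := hx y
      rw [hp hC] at this
      exact (mul_eq_zero.1 this).resolve_left h2
  have hdet : ∀ {C : Matrix ι ι F}, Cᵀ = C →
      (LinearMap.toMatrix₂ (Pi.basisFun F ι) (Pi.basisFun F ι) (Matrix.toBilin' C).toQuadraticMap.polarBilin).det
        = 2 ^ Fintype.card ι * C.det := fun {C} hC => by
    rw [← det_smul]
    congr 1
    ext i j
    rw [LinearMap.toMatrix₂_apply, Pi.basisFun_apply, Pi.basisFun_apply, QuadraticMap.polarBilin_apply_apply, hp hC,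
      Matrix.toBilin'_apply', Matrix.smul_apply, mulVec_single_one, single_one_dotProduct, smul_eq_mul]
    rfl
  obtain ⟨e, he⟩ := exists_isometry_of_disc (Matrix.toBilin' B).toQuadraticMap (Matrix.toBilin' B').toQuadraticMap h2
    (hsep hB hu) (hsep hB' hu') (Pi.basisFun F ι) (Pi.basisFun F ι) (by
      rw [hdet hB, hdet hB', mul_mul_mul_comm]
      exact (IsSquare.mul_self _).mul hd)
  refine congr_of_equiv e fun x y => mul_left_cancel₀ h2 ?_
  rw [← hp hB', ← hp hB]
  simp only [polar, ← map_add, he]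

/-- The square root of the diagonal of a symmetric matrix in characteristic two, as a vector. -/
theorem exists_diag_vector (h2 : (2 : F) = 0) {B : Matrix ι ι F} (hB : Bᵀ = B) (hu : IsUnit B) :
    ∃ w : ι → F, ∀ v, Matrix.toBilin' B v v = (Matrix.toBilin' B v w) ^ 2 := by
  choose d hd using fun i => (isSquare_of_two_eq_zero h2 (B i i))
  obtain ⟨w, hw⟩ : ∃ w, B *ᵥ w = d :=
    Matrix.mulVec_surjective_iff_isUnit.2 hu d
  refine ⟨w, fun v => ?_⟩
  rw [Matrix.toBilin'_apply', Matrix.toBilin'_apply', hw, sq, dotProduct, dotProduct]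
  simp only [mulVec, dotProduct, Finset.mul_sum, Finset.sum_mul]
  rw [← Finset.sum_product', ← Finset.sum_product', ← sub_eq_zero, ← Finset.sum_sub_distrib]
  refine Finset.sum_involution (fun ij _ => (ij.2, ij.1)) (fun ij _ => ?_) (fun ij _ hne he => ?_)
    (fun ij _ => Finset.mem_univ _) (fun ij _ => rfl)
  · have := congrFun (congrFun hB ij.1) ij.2
    rw [transpose_apply] at this
    linear_combination (v ij.2 * v ij.1) * this + (v ij.1 * v ij.2 * B ij.1 ij.2 - v ij.1 * d ij.1 * (v ij.2 * d ij.2)) * h2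
  · obtain ⟨i, j⟩ := ij
    obtain rfl : j = i := congrArg Prod.fst he
    exact hne (by simp only; rw [hd j]; ring)

/-- In characteristic two the symmetric invertible matrices which are not alternating are congruent. -/
theorem sym_congr_two (h2 : (2 : F) = 0) {B B' : Matrix ι ι F} (hB : Bᵀ = B) (hu : IsUnit B) (hna : ¬ IsAlt B)
    (hB' : B'ᵀ = B') (hu' : IsUnit B') (hna' : ¬ IsAlt B') : ∃ P : GL ι F, P.1ᵀ * B' * P.1 = B := by
  classical
  obtain ⟨w, hw⟩ := exists_diag_vector h2 hB hu
  obtain ⟨w', hw'⟩ := exists_diag_vector h2 hB' hu'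
  have hsymm : ∀ {C : Matrix ι ι F}, Cᵀ = C → ∀ u v, Matrix.toBilin' C u v = Matrix.toBilin' C v u :=
    fun {C} hC u v => by
      rw [Matrix.toBilin'_apply', Matrix.toBilin'_apply', dotProduct_comm, dotProduct_mulVec, ← mulVec_transpose, hC,
        dotProduct_comm]
  have hw0 : ∀ {C : Matrix ι ι F}, Cᵀ = C → ¬ IsAlt C → ∀ {z}, (∀ v, Matrix.toBilin' C v v = (Matrix.toBilin' C v z) ^ 2) → z ≠ 0 := by
    intro C hC hn z hz h0
    refine hn ⟨hC.trans (Matrix.ext fun i j => by rw [Matrix.neg_apply]; linear_combination (C i j) * h2), fun i => ?_⟩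
    have := hz (Pi.single i 1)
    rwa [h0, map_zero, zero_pow two_ne_zero, Matrix.toBilin'_apply', mulVec_single_one, single_one_dotProduct] at this
  -- the value at `w` is `0` or `1`
  have hval : ∀ {C : Matrix ι ι F} {z}, (∀ v, Matrix.toBilin' C v v = (Matrix.toBilin' C v z) ^ 2) →
      Matrix.toBilin' C z z = 0 ∨ Matrix.toBilin' C z z = 1 := fun {C z} hz => by
    have h := hz z
    by_cases h0 : Matrix.toBilin' C z z = 0
    · exact Or.inl h0
    · exact Or.inr (mul_left_cancel₀ h0 (by linear_combination -h))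
  have hpar : ∀ {C : Matrix ι ι F} {z}, Cᵀ = C → IsUnit C → ¬ IsAlt C →
      (∀ v, Matrix.toBilin' C v v = (Matrix.toBilin' C v z) ^ 2) →
      (Matrix.toBilin' C z z = 0 → Even (Fintype.card ι)) ∧ (Matrix.toBilin' C z z = 1 → Odd (Fintype.card ι)) := by
    intro C z hC hCu hCn hz
    obtain ⟨l, hl⟩ : ∃ l : (ι → F) →ₗ[F] F, ∀ v, l v = Matrix.toBilin' C v z :=
      ⟨(Matrix.toBilin' C).flip z, fun _ => rfl⟩
    constructor <;> intro hzz
    · refine even_finrank_symp _ (Matrix.toBilin' C + LinearMap.mk₂ F (fun u v => l u * l v) (by intros; simp [add_mul])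
        (by intros; simp [mul_assoc]) (by intros; simp [mul_add]) (by intros; simp [mul_left_comm]))
        (fun v => ?_) (fun v hv => ?_) (Module.finrank_fintype_fun_eq_card F)
      · simp only [LinearMap.add_apply, LinearMap.mk₂_apply, hl, hz v]
        linear_combination (Matrix.toBilin' C v z) ^ 2 * h2
      · simp only [LinearMap.add_apply, LinearMap.mk₂_apply, hl] at hv
        have h1 := hv z
        rw [hzz, mul_zero, add_zero] at h1
        exact toBilin'_sep hCu v fun y => by simpa [h1] using hv y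
    · have hker : Module.finrank F (LinearMap.ker l) + 1 = Fintype.card ι := by
        have h1 := l.finrank_range_add_finrank_ker
        rw [LinearMap.range_eq_top.2 fun c => ⟨c • z, by rw [map_smul, hl, hzz, smul_eq_mul, mul_one]⟩, finrank_top,
          Module.finrank_self, Module.finrank_fintype_fun_eq_card] at h1
        omega
      rw [← hker]
      refine (even_finrank_symp _ ((Matrix.toBilin' C).compl₁₂ (LinearMap.ker l).subtype (LinearMap.ker l).subtype)
        (fun v => ?_) (fun v hv => ?_) rfl).add_one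
      · show Matrix.toBilin' C v.1 v.1 = 0
        rw [hz, ← hl, show l v.1 = 0 from v.2, zero_pow two_ne_zero]
      · refine Subtype.ext (toBilin'_sep hCu _ fun y => ?_)
        have hy : y - l y • z ∈ LinearMap.ker l := by
          rw [LinearMap.mem_ker, map_sub, map_smul, hl z, hzz, smul_eq_mul, mul_one, sub_self]
        have h1 : Matrix.toBilin' C v.1 (y - l y • z) = 0 := hv ⟨_, hy⟩
        rw [map_sub, map_smul, ← hl v.1, show l v.1 = 0 from v.2, smul_zero, sub_zero] at h1
        exact h1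
  obtain ⟨l, hl⟩ : ∃ l : (ι → F) →ₗ[F] F, ∀ v, l v = Matrix.toBilin' B v w :=
    ⟨(Matrix.toBilin' B).flip w, fun _ => rfl⟩
  obtain ⟨l', hl'⟩ : ∃ l' : (ι → F) →ₗ[F] F, ∀ v, l' v = Matrix.toBilin' B' v w' :=
    ⟨(Matrix.toBilin' B').flip w', fun _ => rfl⟩
  rcases hval hw with h0 | h1
  · have h0' : Matrix.toBilin' B' w' w' = 0 := (hval hw').resolve_right fun h =>
      Nat.not_even_iff_odd.2 ((hpar hB' hu' hna' hw').2 h) ((hpar hB hu hna hw).1 h0)
    obtain ⟨A, hA⟩ : ∃ A : (ι → F) →ₗ[F] (ι → F) →ₗ[F] F, ∀ u v, A u v = Matrix.toBilin' B u v + l u * l v :=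
      ⟨Matrix.toBilin' B + LinearMap.mk₂ F (fun u v => l u * l v) (by intros; simp [add_mul])
        (by intros; simp [mul_assoc]) (by intros; simp [mul_add]) (by intros; simp [mul_left_comm]), fun _ _ => rfl⟩
    obtain ⟨A', hA'⟩ : ∃ A' : (ι → F) →ₗ[F] (ι → F) →ₗ[F] F, ∀ u v, A' u v = Matrix.toBilin' B' u v + l' u * l' v :=
      ⟨Matrix.toBilin' B' + LinearMap.mk₂ F (fun u v => l' u * l' v) (by intros; simp [add_mul])
        (by intros; simp [mul_assoc]) (by intros; simp [mul_add]) (by intros; simp [mul_left_comm]), fun _ _ => rfl⟩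
    have halt : ∀ v, A v v = 0 := fun v => by
      rw [hA, hw v, ← hl]; linear_combination (l v) ^ 2 * h2
    have halt' : ∀ v, A' v v = 0 := fun v => by
      rw [hA', hw' v, ← hl']; linear_combination (l' v) ^ 2 * h2
    have hsep : ∀ v, (∀ y, A v y = 0) → v = 0 := fun v hv => toBilin'_sep hu v fun y => by
      have hlw : l v = 0 := by simpa [hA, hl w, h0, ← hl v] using hv w
      simpa [hA, hlw] using hv y
    have hsep' : ∀ v, (∀ y, A' v y = 0) → v = 0 := fun v hv => toBilin'_sep hu' v fun y => by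
      have hlw : l' v = 0 := by simpa [hA', hl' w', h0', ← hl' v] using hv w'
      simpa [hA', hlw] using hv y
    obtain ⟨e₀, he₀⟩ := exists_symp_isometry (Fintype.card ι) A A' halt hsep halt' hsep'
      (Module.finrank_fintype_fun_eq_card F) (Module.finrank_fintype_fun_eq_card F)
    obtain ⟨g, hg⟩ := exists_isom_one (B := A') halt' hsep' (x := e₀ w) (y := w')
      (fun h => hw0 hB hna hw (e₀.map_eq_zero_iff.1 h)) (hw0 hB' hna' hw')
    refine congr_of_equiv (e₀.trans g.1) fun x y => ?_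
    have hgA : ∀ u v, A' (g.1 (e₀ u)) (g.1 (e₀ v)) = A u v := fun u v => by rw [g.2, he₀]
    have hL : ∀ u, l' (g.1 (e₀ u)) = l u := fun u => by
      have := hgA u w
      rwa [hg, hA', hA, hl' w', hl w, h0, h0', mul_zero, mul_zero, add_zero, add_zero, ← hl' _, ← hl _] at this
    have := hgA x y
    rw [hA', hA, hL, hL] at this
    exact add_right_cancel this
  · have h1' : Matrix.toBilin' B' w' w' = 1 := (hval hw').resolve_left fun h =>
      Nat.not_even_iff_odd.2 ((hpar hB hu hna hw).2 h1) ((hpar hB' hu' hna' hw').1 h)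
    have key : ∀ {C : Matrix ι ι F} {z} {k : (ι → F) →ₗ[F] F}, Cᵀ = C → IsUnit C →
        (∀ v, k v = Matrix.toBilin' C v z) → (∀ v, Matrix.toBilin' C v v = (Matrix.toBilin' C v z) ^ 2) →
        Matrix.toBilin' C z z = 1 →
        Module.finrank F (LinearMap.ker k) + 1 = Fintype.card ι ∧
        (∀ x : LinearMap.ker k, Matrix.toBilin' C x.1 x.1 = 0) ∧
        ∀ x : LinearMap.ker k, (∀ y : LinearMap.ker k, Matrix.toBilin' C x.1 y.1 = 0) → x = 0 := by
      intro C z k hC hCu hk hz hzz
      refine ⟨?_, fun x => by rw [hz, ← hk, show k x.1 = 0 from x.2, zero_pow two_ne_zero], fun x hx => ?_⟩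
      · have h1 := k.finrank_range_add_finrank_ker
        rw [LinearMap.range_eq_top.2 fun c => ⟨c • z, by rw [map_smul, hk, hzz, smul_eq_mul, mul_one]⟩, finrank_top,
          Module.finrank_self, Module.finrank_fintype_fun_eq_card] at h1
        omega
      · refine Subtype.ext (toBilin'_sep hCu _ fun y => ?_)
        have hy : y - k y • z ∈ LinearMap.ker k := by
          rw [LinearMap.mem_ker, map_sub, map_smul, hk z, hzz, smul_eq_mul, mul_one, sub_self]
        have h1 : Matrix.toBilin' C x.1 (y - k y • z) = 0 := hx ⟨_, hy⟩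
        rw [map_sub, map_smul, ← hk x.1, show k x.1 = 0 from x.2, smul_zero, sub_zero] at h1
        exact h1
    obtain ⟨hd, ha, hs⟩ := key hB hu hl hw h1
    obtain ⟨hd', ha', hs'⟩ := key hB' hu' hl' hw' h1'
    obtain ⟨e₀, he₀⟩ := exists_symp_isometry _
      ((Matrix.toBilin' B).compl₁₂ (LinearMap.ker l).subtype (LinearMap.ker l).subtype)
      ((Matrix.toBilin' B').compl₁₂ (LinearMap.ker l').subtype (LinearMap.ker l').subtype)
      ha hs ha' hs' rfl (by omega)
    obtain ⟨P, hP⟩ : ∃ P : (ι → F) →ₗ[F] LinearMap.ker l, ∀ v, (P v).1 = v - l v • w :=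
      ⟨LinearMap.codRestrict _ (LinearMap.id - l.smulRight w) fun v => by
        simp [hl w, h1], fun v => rfl⟩
    obtain ⟨f, hf⟩ : ∃ f : (ι → F) →ₗ[F] (ι → F), ∀ v, f v = l v • w' + (e₀ (P v)).1 :=
      ⟨l.smulRight w' + (LinearMap.ker l').subtype ∘ₗ e₀.toLinearMap ∘ₗ P, fun v => rfl⟩
    have hB'f : ∀ x y, Matrix.toBilin' B' (f x) (f y) = Matrix.toBilin' B x y := fun x y => by
      have hw'e : ∀ z : LinearMap.ker l', Matrix.toBilin' B' z.1 w' = 0 := fun z => (hl' z.1).symm.trans z.2
      have hwe : ∀ z : LinearMap.ker l, Matrix.toBilin' B z.1 w = 0 := fun z => (hl z.1).symm.trans z.2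
      have h3 : Matrix.toBilin' B' (e₀ (P x)).1 (e₀ (P y)).1 = Matrix.toBilin' B (P x).1 (P y).1 := he₀ _ _
      have hx : x = l x • w + (P x).1 := by rw [hP]; abel
      have hy : y = l y • w + (P y).1 := by rw [hP]; abel
      conv_rhs => rw [hx, hy]
      rw [hf, hf]
      simp only [map_add, map_smul, LinearMap.add_apply, LinearMap.smul_apply, smul_eq_mul, h1, h1', h3,
        hsymm hB' w', hw'e, hsymm hB w, hwe, mul_zero, add_zero, zero_add]
    have hfi : Function.Injective f := (injective_iff_map_eq_zero f).2 fun x hx => toBilin'_sep hu x fun y => by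
      rw [← hB'f, hx, map_zero, LinearMap.zero_apply]
    exact congr_of_equiv (LinearEquiv.ofInjectiveEndo f hfi) hB'f

/-- Congruence of two forms of the same kind, with a multiplier. -/
theorem form_congr_smul {B : Matrix ι ι F} (hB : IsForm B) (hu : IsUnit B) (c : Fˣ) {k : ℕ}
    (hk : Fintype.card ι = 2 * k) : ∃ P : GL ι F, P.1ᵀ * B * P.1 = (c : F) • B := by
  have hcu : IsUnit ((c : F) • B) := by
    rw [isUnit_iff_isUnit_det, det_smul]
    exact (c.isUnit.pow _).mul ((isUnit_iff_isUnit_det _).1 hu)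
  rcases (isForm_iff B).1 hB with h | ⟨h, hn⟩
  · exact alt_congr ⟨by rw [transpose_smul, h.1, smul_neg], fun i => by simp [h.2]⟩ hcu h hu
  by_cases h2 : (2 : F) = 0
  · refine sym_congr_two h2 (by rw [transpose_smul, h]) hcu (fun ha => hn ⟨?_, fun i => ?_⟩) h hu hn
    · refine smul_right_injective _ c.ne_zero ?_
      simp only
      rw [← transpose_smul, ha.1, smul_neg]
    · exact (mul_eq_zero.1 (ha.2 i)).resolve_left c.ne_zero
  · refine sym_congr h2 (by rw [transpose_smul, h]) hcu h hu ?_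
    rw [det_smul, mul_assoc, hk, two_mul, pow_add]
    exact (IsSquare.mul_self _).mul (IsSquare.mul_self _)

/-- The possible determinants of similitudes in even dimension. -/
theorem det_sim_cases {B : Matrix ι ι F} (hu : IsUnit B) {k : ℕ} (hk : Fintype.card ι = 2 * k) {x : GL ι F}
    {c : F} (hx : x.1ᵀ * B * x.1 = c • B) : x.1.det = c ^ k ∨ x.1.det = -c ^ k := by
  have h := det_of_congr hx
  have hB : B.det ≠ 0 := ((isUnit_iff_isUnit_det _).1 hu).ne_zero
  rw [hk, two_mul, pow_add] at h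
  exact mul_self_eq_mul_self_iff.1 (mul_right_cancel₀ hB h)

theorem det_sim_of_alt_or_two {B : Matrix ι ι F} (hu : IsUnit B) (hcase : IsAlt B ∨ (2 : F) = 0) {k : ℕ}
    (hk : Fintype.card ι = 2 * k) {x : GL ι F} {c : F} (hc : c ≠ 0) (hx : x.1ᵀ * B * x.1 = c • B) :
    x.1.det = c ^ k := by
  rcases hcase with h | h
  · rw [← LinearMap.det_toLin']
    refine det_symp_similitude (Matrix.toBilin' B) (toBilin'_alt h) (toBilin'_sep hu)
      (by rw [Module.finrank_fintype_fun_eq_card, hk]) _ hc fun u v => ?_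
    rw [Matrix.toBilin'_apply', Matrix.toBilin'_apply', Matrix.toLin'_apply, Matrix.toLin'_apply, dot_conj, hx,
      dot_smul]
  · rcases det_sim_cases hu hk hx with e | e
    · exact e
    · rw [e]; linear_combination (-(c ^ k)) * h

/-- In odd characteristic and even dimension both signs occur for every multiplier of a symmetric form. -/
theorem exists_sim_neg [Nonempty ι] (h2 : (2 : F) ≠ 0) {B : Matrix ι ι F} (hB : Bᵀ = B) (hu : IsUnit B) {k : ℕ}
    (hk : Fintype.card ι = 2 * k) (c : Fˣ) :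
    ∃ x : GL ι F, x.1ᵀ * B * x.1 = (c : F) • B ∧ x.1.det = -((c : F) ^ k) := by
  obtain ⟨i₀⟩ := ‹Nonempty ι›
  have hB0 : B.det ≠ 0 := ((isUnit_iff_isUnit_det _).1 hu).ne_zero
  obtain ⟨D, hD⟩ : ∃ D, D = Matrix.diagonal (fun i => if i = i₀ then B.det else (1 : F)) := ⟨_, rfl⟩
  have hDdet : D.det = B.det := by rw [hD, det_diagonal, Finset.prod_ite_eq' Finset.univ i₀]; simp
  have hDu : IsUnit D := by rw [isUnit_iff_isUnit_det, hDdet]; exact (Ne.isUnit hB0)
  obtain ⟨P, hP⟩ := sym_congr h2 (hD ▸ diagonal_transpose _) hDu hB hu (by rw [hDdet]; exact IsSquare.mul_self _)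
  obtain ⟨R, hR⟩ : ∃ R : GL ι F, R.1 = Matrix.diagonal (fun i => if i = i₀ then (-1 : F) else 1) :=
    ⟨GeneralLinearGroup.mkOfDetNeZero (Matrix.diagonal (fun i => if i = i₀ then (-1 : F) else 1)) (by rw [det_diagonal, Finset.prod_ite_eq' Finset.univ i₀]; simp), rfl⟩
  have hRdet : R.1.det = -1 := by rw [hR, det_diagonal, Finset.prod_ite_eq' Finset.univ i₀]; simp
  have hRD : R.1ᵀ * D * R.1 = D := by
    rw [hR, hD, diagonal_transpose, diagonal_mul_diagonal, diagonal_mul_diagonal]
    congr 1; funext i; split <;> ring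
  have hRB : (P * R * P⁻¹).1ᵀ * B * (P * R * P⁻¹).1 = B := by
    calc (P * R * P⁻¹).1ᵀ * B * (P * R * P⁻¹).1
        = (P⁻¹).1ᵀ * (R.1ᵀ * (P.1ᵀ * B * P.1) * R.1) * (P⁻¹).1 := by
          simp only [Units.val_mul, transpose_mul, Matrix.mul_assoc]
      _ = B := by
          rw [hP, hRD, ← hP, ← Matrix.mul_assoc, ← Matrix.mul_assoc, ← transpose_mul, Units.mul_inv, transpose_one,
            Matrix.one_mul, Matrix.mul_assoc, Units.mul_inv, Matrix.mul_one]
  obtain ⟨x, hx⟩ := form_congr_smul (Or.inl hB) hu c hk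
  rcases det_sim_cases hu hk hx with e | e
  · refine ⟨P * R * P⁻¹ * x, ?_, ?_⟩
    · calc (P * R * P⁻¹ * x).1ᵀ * B * (P * R * P⁻¹ * x).1
          = x.1ᵀ * ((P * R * P⁻¹).1ᵀ * B * (P * R * P⁻¹).1) * x.1 := by
            rw [Units.val_mul (P * R * P⁻¹), transpose_mul]; simp only [Matrix.mul_assoc]
        _ = _ := by rw [hRB, hx]
    · show (P.1 * R.1 * (P⁻¹).1 * x.1).det = _
      rw [det_mul, det_units_conj, hRdet, e, neg_one_mul]
  · exact ⟨x, hx, e⟩

/-- Similitudes in odd dimension. -/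
theorem det_sim_odd {B : Matrix ι ι F} (hu : IsUnit B) {k : ℕ} (hk : Fintype.card ι = 2 * k + 1) {x : GL ι F}
    {c : Fˣ} (hx : x.1ᵀ * B * x.1 = (c : F) • B) :
    ∃ s : Fˣ, s * s = c ∧ x.1.det = (s : F) ^ (2 * k + 1) := by
  have h := det_of_congr hx
  have hB : B.det ≠ 0 := ((isUnit_iff_isUnit_det _).1 hu).ne_zero
  rw [hk] at h
  have hd : x.1.det * x.1.det = (c : F) ^ (2 * k + 1) := mul_right_cancel₀ hB h
  have hdet : x.1.det ≠ 0 := ((isUnit_iff_isUnit_det _).1 x.isUnit).ne_zero
  obtain ⟨s, hs⟩ : ∃ s, s = Units.mk0 x.1.det hdet / c ^ k := ⟨_, rfl⟩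
  have hss : s * s = c := Units.ext (by
    rw [hs, Units.val_mul, Units.val_div_eq_div_val, Units.val_mk0, Units.val_pow_eq_pow_val, div_mul_div_comm, hd,
      ← pow_add, pow_succ, two_mul, mul_div_cancel_left₀ _ (pow_ne_zero _ c.ne_zero)])
  refine ⟨s, hss, ?_⟩
  rw [pow_succ, pow_mul, sq, ← Units.val_mul, hss, hs, Units.val_div_eq_div_val, Units.val_mk0,
    Units.val_pow_eq_pow_val, mul_div_cancel₀ _ (pow_ne_zero _ c.ne_zero)]

end CfsgLib.Classical.GraphForm
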