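import Mathlib
import Cfsg.Agent.Lib.Geom.WittSesq

/-!
Unitary transvections, Eichler transformations and the group generated by transvections, for a non-degenerate
Hermitian space with surjective norm.
-/

set_option autoImplicit false

namespace CfsgLib.Classical

open CfsgLib.Geom

/-- The standing hypotheses: a non-degenerate Hermitian form for a non-trivial involution with surjective norm. -/
structure IsHermSpace {F V : Type*} [Field F] [AddCommGroup V] [Module F V] {σ : F →+* F}
    (B : V →ₛₗ[σ] V →ₗ[F] F) : Prop where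
  conj : ∀ u v, σ (B u v) = B v u
  sep : ∀ x, (∀ y, B x y = 0) → x = 0
  invol : ∀ a, σ (σ a) = a
  ne_id : σ ≠ RingHom.id F
  norm_surj : ∀ a, σ a = a → ∃ l, σ l * l = a

namespace IsHermSpace

variable {F V : Type*} [Field F] [AddCommGroup V] [Module F V] {σ : F →+* F}
  {B : V →ₛₗ[σ] V →ₗ[F] F}

theorem exists_trace (H : IsHermSpace B) {a : F} (ha : σ a = a) : ∃ t, t + σ t = a := by
  obtain ⟨t, ht⟩ := exists_trace_one H.ne_id H.invol
  exact ⟨a * t, by rw [map_mul, ha, ← mul_add, ht, mul_one]⟩

theorem exists_moved (H : IsHermSpace B) : ∃ r, σ r ≠ r := by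
  by_contra h
  push Not at h
  exact H.ne_id (RingHom.ext h)

theorem exists_trace_zero (H : IsHermSpace B) : ∃ τ : F, τ ≠ 0 ∧ τ + σ τ = 0 := by
  obtain ⟨r, hr⟩ := H.exists_moved
  exact ⟨r - σ r, sub_ne_zero.2 (Ne.symm hr), by rw [map_sub, H.invol]; ring⟩

theorem exists_norm_one (H : IsHermSpace B) : ∃ l : F, l ≠ 1 ∧ σ l * l = 1 := by
  obtain ⟨r, hr⟩ := H.exists_moved
  have hr0 : r ≠ 0 := fun h => hr (by simp [h])
  have hs0 : σ r ≠ 0 := fun h => hr0 (σ.injective (h.trans (map_zero σ).symm))
  refine ⟨σ r / r, fun h => hr ((div_eq_one_iff_eq hr0).1 h), ?_⟩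
  rw [map_div₀, H.invol]
  field_simp

theorem self_fixed (H : IsHermSpace B) (v : V) : σ (B v v) = B v v := H.conj v v

theorem eq_zero_comm (H : IsHermSpace B) {u v : V} (h : B u v = 0) : B v u = 0 := by
  rw [← H.conj u v, h, map_zero]

theorem eq_one_comm (H : IsHermSpace B) {u v : V} (h : B u v = 1) : B v u = 1 := by
  rw [← H.conj u v, h, map_one]

theorem exists_partner (H : IsHermSpace B) {x : V} (hx : x ≠ 0) : ∃ z, B x z = 1 := by
  obtain ⟨y, hy⟩ : ∃ y, B x y ≠ 0 := by
    by_contra h
    push Not at h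
    exact hx (H.sep x h)
  exact ⟨(B x y)⁻¹ • y, by rw [map_smul, smul_eq_mul, inv_mul_cancel₀ hy]⟩

theorem exists_hyperbolic (H : IsHermSpace B) {x : V} (hx : x ≠ 0) (hxx : B x x = 0) :
    ∃ y, B x y = 1 ∧ B y y = 0 := by
  obtain ⟨y, hy⟩ := H.exists_partner hx
  obtain ⟨t, ht⟩ := H.exists_trace (a := -B y y) (by rw [map_neg, H.self_fixed])
  refine ⟨y + t • x, by rw [map_add, map_smul, hy, hxx, smul_zero, add_zero], ?_⟩
  simp only [map_add, map_smulₛₗ, LinearMap.add_apply, LinearMap.smul_apply, smul_eq_mul,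
    RingHom.id_apply, hxx, hy, H.eq_one_comm hy]
  linear_combination ht

variable [FiniteDimensional F V]

omit [FiniteDimensional F V] in
/-- The component orthogonal to a hyperbolic pair. -/
theorem proj_perp (H : IsHermSpace B) {x y : V} (hxx : B x x = 0) (hyy : B y y = 0) (hxy : B x y = 1)
    (z : V) : B x (z - B y z • x - B x z • y) = 0 ∧ B y (z - B y z • x - B x z • y) = 0 := by
  constructor
  · simp [map_sub, map_smul, hxx, hxy]
  · simp [map_sub, map_smul, hyy, H.eq_one_comm hxy]

theorem exists_perp_ne_zero {k : ℕ} (a : Fin k → V) (hk : k < Module.finrank F V) :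
    ∃ v, v ≠ 0 ∧ ∀ i, B (a i) v = 0 := by
  let L : V →ₗ[F] (Fin k → F) := LinearMap.pi fun i => B (a i)
  obtain ⟨w, hw, hw0⟩ : ∃ w ∈ LinearMap.ker L, w ≠ 0 := by
    refine Submodule.exists_mem_ne_zero_of_ne_bot fun h => ?_
    have h1 := L.finrank_range_add_finrank_ker
    have h2 := Submodule.finrank_le (LinearMap.range L)
    rw [h, finrank_bot] at h1
    simp at h2
    omega
  exact ⟨w, hw0, fun i => congrFun hw i⟩

theorem exists_perp_anisotropic (H : IsHermSpace B) (h3 : 3 ≤ Module.finrank F V) {x y : V}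
    (hxx : B x x = 0) (hyy : B y y = 0) (hxy : B x y = 1) :
    ∃ e, B x e = 0 ∧ B y e = 0 ∧ B e e ≠ 0 := by
  obtain ⟨v, hv0, hv⟩ := exists_perp_ne_zero (B := B) ![x, y] (by omega)
  have hxv : B x v = 0 := hv 0
  have hyv : B y v = 0 := hv 1
  by_cases hvv : B v v = 0
  swap
  · exact ⟨v, hxv, hyv, hvv⟩
  obtain ⟨z, hz⟩ := H.exists_partner hv0
  obtain ⟨hr1, hr2⟩ := H.proj_perp hxx hyy hxy z
  obtain ⟨r, hr⟩ : ∃ r, r = z - B y z • x - B x z • y := ⟨_, rfl⟩
  rw [← hr] at hr1 hr2
  have hvr : B v r = 1 := by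
    rw [hr]; simp [map_sub, map_smul, hz, H.eq_zero_comm hxv, H.eq_zero_comm hyv]
  by_cases hrr : B r r = 0
  swap
  · exact ⟨r, hr1, hr2, hrr⟩
  obtain ⟨t, ht⟩ := H.exists_trace (map_one σ)
  refine ⟨r + t • v, by simp [hr1, hxv], by simp [hr2, hyv], ?_⟩
  simp only [map_add, map_smulₛₗ, LinearMap.add_apply, LinearMap.smul_apply, smul_eq_mul,
    RingHom.id_apply, hrr, hvv, hvr, H.eq_one_comm hvr]
  intro h
  exact one_ne_zero (show (1 : F) = 0 by linear_combination h - ht)

theorem exists_perp_value (H : IsHermSpace B) (h3 : 3 ≤ Module.finrank F V) {x y : V}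
    (hxx : B x x = 0) (hyy : B y y = 0) (hxy : B x y = 1) {a : F} (ha : σ a = a) :
    ∃ e, B x e = 0 ∧ B y e = 0 ∧ B e e = a := by
  obtain ⟨e, h1, h2, he⟩ := H.exists_perp_anisotropic h3 hxx hyy hxy
  obtain ⟨l, hl⟩ := H.norm_surj (a / B e e) (by rw [map_div₀, ha, H.self_fixed])
  refine ⟨l • e, by simp [h1], by simp [h2], ?_⟩
  simp only [map_smulₛₗ, LinearMap.smul_apply, smul_eq_mul, RingHom.id_apply]
  rw [eq_div_iff he] at hl
  linear_combination hl

theorem exists_perp_isotropic (H : IsHermSpace B) {k : ℕ} (a : Fin k → V)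
    (hk : k + 1 < Module.finrank F V) : ∃ s, s ≠ 0 ∧ (∀ i, B (a i) s = 0) ∧ B s s = 0 := by
  obtain ⟨v, hv0, hv⟩ := exists_perp_ne_zero (B := B) a (by omega)
  by_cases hvv : B v v = 0
  · exact ⟨v, hv0, hv, hvv⟩
  obtain ⟨w, hw0, hw⟩ := exists_perp_ne_zero (B := B) (Fin.cons v a) hk
  have hvw : B v w = 0 := by simpa using hw 0
  have haw : ∀ i, B (a i) w = 0 := fun i => by simpa using hw i.succ
  by_cases hww : B w w = 0
  · exact ⟨w, hw0, haw, hww⟩
  obtain ⟨l, hl⟩ := H.norm_surj (-B w w / B v v)
    (by rw [map_div₀, map_neg, H.self_fixed, H.self_fixed])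
  refine ⟨l • v + w, fun h => ?_, fun i => by simp [hv i, haw i], ?_⟩
  · have h1 := congrArg (B w) h
    simp [H.eq_zero_comm hvw] at h1
    exact hww h1
  · simp only [map_add, map_smulₛₗ, LinearMap.add_apply, LinearMap.smul_apply, smul_eq_mul,
      RingHom.id_apply, hvw, H.eq_zero_comm hvw]
    rw [eq_div_iff hvv] at hl
    linear_combination hl

theorem exists_isotropic (H : IsHermSpace B) (h3 : 3 ≤ Module.finrank F V) :
    ∃ x, x ≠ 0 ∧ B x x = 0 := by
  obtain ⟨s, hs0, -, hs⟩ := H.exists_perp_isotropic (k := 0) ![] (by omega)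
  exact ⟨s, hs0, hs⟩

end IsHermSpace

variable {F V : Type*} [Field F] [AddCommGroup V] [Module F V] {σ : F →+* F}
variable {B : V →ₛₗ[σ] V →ₗ[F] F}

theorem herm_ext {g h : formIsoms B} (e : ∀ x, g.1 x = h.1 x) : g = h :=
  Subtype.ext (LinearEquiv.ext e)

/-- The Eichler map `z ↦ z + B(x,z) w - B(w,z) x + c B(x,z) x`. -/
def eichLin (B : V →ₛₗ[σ] V →ₗ[F] F) (x w : V) (c : F) : V →ₗ[F] V :=
  LinearMap.id + (B x).smulRight w - (B w).smulRight x + c • (B x).smulRight x

theorem eichLin_apply (x w : V) (c : F) (z : V) :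
    eichLin B x w c z = z + B x z • w + (c * B x z - B w z) • x := by
  simp only [eichLin, LinearMap.add_apply, LinearMap.sub_apply, LinearMap.id_apply,
    LinearMap.smul_apply, LinearMap.smulRight_apply]
  module

/-- When the parameters of an Eichler map are admissible. -/
def EichOK (B : V →ₛₗ[σ] V →ₗ[F] F) (x w : V) (c : F) : Prop :=
  B x x = 0 ∧ B x w = 0 ∧ c + σ c + B w w = 0

theorem EichOK.neg (H : IsHermSpace B) {x w : V} {c : F} (h : EichOK B x w c) :
    EichOK B x (-w) (σ c) := by
  refine ⟨h.1, by rw [map_neg, h.2.1, neg_zero], ?_⟩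
  rw [H.invol]
  simp only [map_neg, LinearMap.neg_apply, neg_neg]
  linear_combination h.2.2

theorem EichOK.add (H : IsHermSpace B) {x w w' : V} {c c' : F} (h : EichOK B x w c)
    (h' : EichOK B x w' c') : EichOK B x (w + w') (c + c' - B w w') := by
  refine ⟨h.1, by rw [map_add, h.2.1, h'.2.1, add_zero], ?_⟩
  simp only [map_sub, map_add, LinearMap.add_apply, H.conj]
  linear_combination h.2.2 + h'.2.2

theorem eichLin_add (H : IsHermSpace B) {x w w' : V} {c c' : F} (h : EichOK B x w c)
    (h' : EichOK B x w' c') (z : V) :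
    eichLin B x w c (eichLin B x w' c' z) = eichLin B x (w + w') (c + c' - B w w') z := by
  simp only [eichLin_apply, map_add, map_smul, LinearMap.add_apply, smul_eq_mul, h.1, h'.2.1,
    H.eq_zero_comm h.2.1]
  module

theorem eichLin_isom (H : IsHermSpace B) {x w : V} {c : F} (h : EichOK B x w c) (u v : V) :
    B (eichLin B x w c u) (eichLin B x w c v) = B u v := by
  simp only [eichLin_apply, map_add, map_sub, map_mul, map_smulₛₗ, LinearMap.add_apply,
    LinearMap.smul_apply, smul_eq_mul, RingHom.id_apply, h.1, h.2.1, H.eq_zero_comm h.2.1, H.conj]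
  linear_combination (B x v * B u x) * h.2.2

theorem exists_eich (H : IsHermSpace B) (x w : V) (c : F) :
    ∃ g : formIsoms B, (EichOK B x w c → ∀ z, g.1 z = eichLin B x w c z) ∧
      (¬ EichOK B x w c → g = 1) := by
  by_cases h : EichOK B x w c
  · have hn := h.neg H
    have e1 : c + σ c - B w (-w) = 0 := by rw [map_neg]; linear_combination h.2.2
    have e2 : σ c + c - B (-w) w = 0 := by
      simp only [map_neg, LinearMap.neg_apply]; linear_combination h.2.2
    have z0 : ∀ z, eichLin B x 0 0 z = z := fun z => by simp [eichLin_apply]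
    let e : V ≃ₗ[F] V := LinearEquiv.ofLinearMap (eichLin B x w c) (eichLin B x (-w) (σ c))
      (LinearMap.ext fun z => by
        rw [LinearMap.comp_apply, eichLin_add H h hn, add_neg_cancel, e1, z0]; rfl)
      (LinearMap.ext fun z => by
        rw [LinearMap.comp_apply, eichLin_add H hn h, neg_add_cancel, e2, z0]; rfl)
    exact ⟨⟨e, fun u v => eichLin_isom H h u v⟩, fun _ z => rfl, fun h' => absurd h h'⟩
  · exact ⟨1, fun h' => absurd h' h, fun _ => rfl⟩

/-- The Eichler transformation, and `1` for inadmissible parameters. -/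
noncomputable def eich (H : IsHermSpace B) (x w : V) (c : F) : formIsoms B := (exists_eich H x w c).choose

variable (H : IsHermSpace B)
include H

theorem eich_apply {x w : V} {c : F} (h : EichOK B x w c) (z : V) :
    (eich H x w c).1 z = z + B x z • w + (c * B x z - B w z) • x :=
  ((exists_eich H x w c).choose_spec.1 h z).trans (eichLin_apply x w c z)

theorem eich_of_not {x w : V} {c : F} (h : ¬ EichOK B x w c) : eich H x w c = 1 :=
  (exists_eich H x w c).choose_spec.2 h

theorem eich_mul {x w w' : V} {c c' : F} (h : EichOK B x w c) (h' : EichOK B x w' c') :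
    eich H x w c * eich H x w' c' = eich H x (w + w') (c + c' - B w w') := by
  refine herm_ext fun z => ?_
  rw [Subgroup.coe_mul, LinearEquiv.mul_apply, eich_apply H (h.add H h'), eich_apply H h,
    eich_apply H h', ← eichLin_apply, ← eichLin_apply, ← eichLin_apply, eichLin_add H h h']

theorem eich_zero (x : V) : eich H x 0 0 = 1 := by
  by_cases h : EichOK B x 0 0
  · exact herm_ext fun z => by rw [eich_apply H h]; simp
  · exact eich_of_not H h

theorem eich_inv {x w : V} {c : F} (h : EichOK B x w c) :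
    (eich H x w c)⁻¹ = eich H x (-w) (σ c) := by
  refine inv_eq_of_mul_eq_one_right ?_
  rw [eich_mul H h (h.neg H), add_neg_cancel,
    show c + σ c - B w (-w) = 0 by rw [map_neg]; linear_combination h.2.2, eich_zero H]

theorem eich_conj (g : formIsoms B) (x w : V) (c : F) :
    g * eich H x w c * g⁻¹ = eich H (g.1 x) (g.1 w) c := by
  have hg : ∀ u v, B (g.1 u) (g.1 v) = B u v := g.2
  have hiff : EichOK B (g.1 x) (g.1 w) c ↔ EichOK B x w c := by simp only [EichOK, hg]
  by_cases h : EichOK B x w c
  · refine herm_ext fun z => ?_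
    obtain ⟨y, rfl⟩ := g.1.surjective z
    simp only [Subgroup.coe_mul, Subgroup.coe_inv, LinearEquiv.mul_apply, LinearEquiv.coe_inv,
      LinearEquiv.symm_apply_apply]
    rw [eich_apply H (hiff.2 h), eich_apply H h, hg, hg]
    simp only [map_add, map_smul]
  · rw [eich_of_not H h, eich_of_not H (fun h' => h (hiff.1 h')), mul_one, mul_inv_cancel]

theorem eich_smul {x w : V} {c a : F} (ha : a ≠ 0) (hxx : B x x = 0) :
    eich H (a • x) w c = eich H x (σ a • w) (σ a * a * c) := by
  have hs : σ a ≠ 0 := fun h => ha (σ.injective (h.trans (map_zero σ).symm))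
  have hiff : EichOK B (a • x) w c ↔ EichOK B x (σ a • w) (σ a * a * c) := by
    simp only [EichOK, map_smulₛₗ, LinearMap.smul_apply, smul_eq_mul, RingHom.id_apply, map_mul, H.invol,
      hxx, mul_zero, true_and, mul_eq_zero, hs, false_or]
    refine and_congr_right fun _ => ?_
    constructor
    · intro h; linear_combination (σ a * a) * h
    · intro h
      exact (mul_eq_zero.1 (show (σ a * a) * (c + σ c + B w w) = 0 by linear_combination h)).resolve_left
        (mul_ne_zero hs ha)
  by_cases h : EichOK B (a • x) w c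
  · refine herm_ext fun z => ?_
    rw [eich_apply H h, eich_apply H (hiff.1 h)]
    simp only [map_smulₛₗ, LinearMap.smul_apply, smul_eq_mul, RingHom.id_apply, H.invol]
    module
  · rw [eich_of_not H h, eich_of_not H (fun h' => h (hiff.2 h'))]

theorem eich_move {x u v : V} (hxx : B x x = 0) (hu : B x u = 1) (hv : B x v = 1)
    (huv : B u u = B v v) :
    EichOK B x (v - u) (B (v - u) u) ∧ (eich H x (v - u) (B (v - u) u)).1 u = v := by
  have hok : EichOK B x (v - u) (B (v - u) u) := by
    refine ⟨hxx, by rw [map_sub, hu, hv, sub_self], ?_⟩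
    simp only [map_sub, LinearMap.sub_apply, H.conj]
    linear_combination (-1 : F) * huv
  refine ⟨hok, ?_⟩
  rw [eich_apply H hok, hu]
  simp

/-- The group generated by the unitary transvections. -/
def utGroup : Subgroup (formIsoms B) :=
  Subgroup.closure (Set.range fun p : V × F => eich H p.1 0 p.2)

theorem transv_mem (x : V) (c : F) : eich H x 0 c ∈ utGroup H :=
  Subgroup.subset_closure ⟨(x, c), rfl⟩

theorem utGroup_normal : (utGroup H).Normal := by
  refine ⟨fun n hn g => ?_⟩
  unfold utGroup at hn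
  induction hn using Subgroup.closure_induction with
  | mem t ht =>
    obtain ⟨⟨x, c⟩, rfl⟩ := ht
    rw [eich_conj, map_zero]
    exact transv_mem H _ _
  | one => simp
  | mul a b _ _ iha ihb => rw [← conj_mul]; exact mul_mem iha ihb
  | inv a _ iha => rw [← conj_inv]; exact inv_mem iha

theorem transv_ok {x : V} (hxx : B x x = 0) {c : F} (hc : c + σ c = 0) : EichOK B x 0 c :=
  ⟨hxx, map_zero _, by simpa using hc⟩

theorem transv_apply {x : V} (hxx : B x x = 0) {c : F} (hc : c + σ c = 0) (z : V) :
    (eich H x 0 c).1 z = z + (c * B x z) • x := by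
  rw [eich_apply H (transv_ok H hxx hc)]
  simp

/-- Whether an Eichler transformation lies in the transvection group does not depend on the scalar. -/
theorem eich_mem_of_exists {x w : V} {c c' : F} (h : EichOK B x w c) (h' : EichOK B x w c')
    (hm : eich H x w c' ∈ utGroup H) : eich H x w c ∈ utGroup H := by
  have hd : EichOK B x 0 (c - c') := transv_ok H h.1 (by
    rw [map_sub]; linear_combination h.2.2 - h'.2.2)
  have e : eich H x w c = eich H x w c' * eich H x 0 (c - c') := by
    rw [eich_mul H h' hd]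
    simp
  rw [e]
  exact mul_mem hm (transv_mem H _ _)

theorem exists_ok {x w : V} (hxx : B x x = 0) (hxw : B x w = 0) : ∃ c, EichOK B x w c := by
  obtain ⟨t, ht⟩ := H.exists_trace (a := -B w w) (by rw [map_neg, H.self_fixed])
  exact ⟨t, hxx, hxw, by linear_combination ht⟩

theorem eich_add_mem {x w w' : V} (h1 : ∀ c, EichOK B x w c → eich H x w c ∈ utGroup H)
    (h2 : ∀ c, EichOK B x w' c → eich H x w' c ∈ utGroup H) (hxx : B x x = 0) (hxw : B x w = 0)
    (hxw' : B x w' = 0) {c : F} (h : EichOK B x (w + w') c) : eich H x (w + w') c ∈ utGroup H := by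
  obtain ⟨d, hd⟩ := exists_ok H hxx hxw
  obtain ⟨d', hd'⟩ := exists_ok H hxx hxw'
  refine eich_mem_of_exists H h (hd.add H hd') ?_
  rw [← eich_mul H hd hd']
  exact mul_mem (h1 d hd) (h2 d' hd')

/-- For an isotropic `w` orthogonal to `x` the Eichler transformation is a product of transvections. -/
theorem eich_mem_of_isotropic {x w : V} {c : F} (h : EichOK B x w c) (hww : B w w = 0) :
    eich H x w c ∈ utGroup H := by
  obtain ⟨τ, hτ0, hτ⟩ := H.exists_trace_zero
  have hxx := h.1
  have hxw := h.2.1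
  have hwx := H.eq_zero_comm hxw
  obtain ⟨a, ha⟩ : ∃ a : F, a = τ⁻¹ := ⟨_, rfl⟩
  have hst : σ τ = -τ := by linear_combination hτ
  have hsa : σ a = -a := by rw [ha, map_inv₀, hst, inv_neg]
  have hta : τ * a = 1 := by rw [ha, mul_inv_cancel₀ hτ0]
  have hp : B (x + a • w) (x + a • w) = 0 := by
    simp [map_smulₛₗ, hxx, hxw, hwx, hww]
  have hnτ : -τ + σ (-τ) = 0 := by rw [map_neg]; linear_combination -hτ
  have hc2 : -τ * (σ a * a) + σ (-τ * (σ a * a)) = 0 := by
    simp only [map_mul, map_neg, H.invol]; linear_combination (-(σ a * a)) * hτ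
  have h0 : EichOK B x w 0 := ⟨hxx, hxw, by simp [hww]⟩
  refine eich_mem_of_exists H h h0 ?_
  have e : eich H x w 0 = eich H (x + a • w) 0 τ * eich H x 0 (-τ) * eich H w 0 (-τ * (σ a * a)) := by
    refine herm_ext fun z => ?_
    simp only [Subgroup.coe_mul, LinearEquiv.mul_apply]
    rw [eich_apply H h0, transv_apply H hww hc2, transv_apply H hxx hnτ, transv_apply H hp hτ]
    simp only [map_add, map_smulₛₗ, LinearMap.add_apply, LinearMap.smul_apply, smul_eq_mul,
      RingHom.id_apply, hxx, hxw, hwx, hww, mul_zero, add_zero, zero_mul, zero_sub]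
    match_scalars <;> first | ring1 | linear_combination (B w z) * hta - (B w z * τ) * hsa |
      linear_combination (-(B x z)) * hta | linear_combination (B x z) * hta
  rw [e]
  exact mul_mem (mul_mem (transv_mem H _ _) (transv_mem H _ _)) (transv_mem H _ _)

/-- Elements of the transvection group acting as a torus on a hyperbolic pair. -/
theorem exists_torus {x y : V} (hxx : B x x = 0) (hyy : B y y = 0) (hxy : B x y = 1) {μ : F}
    (hμ : σ μ = μ) (hμ0 : μ ≠ 0) :
    ∃ h ∈ utGroup H, h.1 x = μ • x ∧ ∀ w, B x w = 0 → B y w = 0 → h.1 w = w := by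
  obtain ⟨τ, hτ0, hτ⟩ := H.exists_trace_zero
  have hyx := H.eq_one_comm hxy
  let W : F → formIsoms B := fun a => eich H x 0 a * eich H y 0 (-a⁻¹) * eich H x 0 a
  have hst : σ τ = -τ := by linear_combination hτ
  have hneg : ∀ a : F, a + σ a = 0 → -a⁻¹ + σ (-a⁻¹) = 0 := fun a ha => by
    rw [map_neg, map_inv₀, show σ a = -a by linear_combination ha, inv_neg]; ring
  have hWx : ∀ a : F, a + σ a = 0 → a ≠ 0 → (W a).1 x = (-a⁻¹) • y ∧ (W a).1 y = a • x := by
    intro a ha ha0
    constructor <;>
    · simp only [W, Subgroup.coe_mul, LinearEquiv.mul_apply]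
      simp only [transv_apply H hxx ha, transv_apply H hyy (hneg a ha), map_add, map_smul, hxx, hyy, hxy,
        hyx, smul_eq_mul]
      match_scalars <;> field_simp <;> ring
  have hWw : ∀ (a : F) (w : V), a + σ a = 0 → B x w = 0 → B y w = 0 → (W a).1 w = w := by
    intro a w ha hxw hyw
    simp only [W, Subgroup.coe_mul, LinearEquiv.mul_apply]
    simp [transv_apply H hxx ha, transv_apply H hyy (hneg a ha), hxw, hyw]
  have hWm : ∀ a, W a ∈ utGroup H := fun a =>
    mul_mem (mul_mem (transv_mem H _ _) (transv_mem H _ _)) (transv_mem H _ _)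
  have ha : -(μ * τ) + σ (-(μ * τ)) = 0 := by
    rw [map_neg, map_mul, hμ, hst]; ring
  have ha0 : -(μ * τ) ≠ 0 := neg_ne_zero.2 (mul_ne_zero hμ0 hτ0)
  refine ⟨W (-(μ * τ)) * W τ, mul_mem (hWm _) (hWm _), ?_, fun w hw hw' => ?_⟩
  · rw [Subgroup.coe_mul, LinearEquiv.mul_apply, (hWx τ hτ hτ0).1, map_smul, (hWx _ ha ha0).2,
      smul_smul]
    congr 1
    field_simp
  · rw [Subgroup.coe_mul, LinearEquiv.mul_apply, hWw τ w hτ hw hw', hWw _ w ha hw hw']

variable [FiniteDimensional F V]

/-- Every Eichler transformation is a product of transvections, outside dimension three over the field of four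
elements. -/
theorem eich_mem (h3 : 3 ≤ Module.finrank F V)
    (h32 : 4 ≤ Module.finrank F V ∨ ∃ μ : F, σ μ = μ ∧ μ ≠ 0 ∧ μ ≠ 1) (x w : V) (c : F) :
    eich H x w c ∈ utGroup H := by
  by_cases h : EichOK B x w c
  swap
  · rw [eich_of_not H h]; exact one_mem _
  have hxx := h.1
  by_cases hx0 : x = 0
  · have : eich H x w c = 1 := herm_ext fun z => by rw [eich_apply H h]; simp [hx0]
    rw [this]; exact one_mem _
  obtain ⟨y, hxy, hyy⟩ := H.exists_hyperbolic hx0 hxx
  -- multiples of `x`
  have hline : ∀ (a c : F), EichOK B x (a • x) c → eich H x (a • x) c ∈ utGroup H := by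
    intro a c hok
    have e : eich H x (a • x) c = eich H x 0 (c + a - σ a) := by
      have hc : (c + a - σ a) + σ (c + a - σ a) = 0 := by
        have := hok.2.2
        simp only [map_smulₛₗ, LinearMap.smul_apply, smul_eq_mul, RingHom.id_apply, hxx] at this
        simp only [map_sub, map_add, H.invol]
        linear_combination this
      refine herm_ext fun z => ?_
      rw [eich_apply H hok, transv_apply H hxx hc]
      simp only [map_smulₛₗ, LinearMap.smul_apply, smul_eq_mul]
      module
    rw [e]; exact transv_mem H _ _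
  -- vectors orthogonal to both
  have hperp : ∀ w c, B y w = 0 → EichOK B x w c → eich H x w c ∈ utGroup H := by
    intro w c hyw hok
    have hxw := hok.2.1
    rcases h32 with h4 | ⟨μ, hμ, hμ0, hμ1⟩
    · obtain ⟨s, hs0, hsp, hss⟩ := H.exists_perp_isotropic ![x, y] (by omega)
      have hxs : B x s = 0 := hsp 0
      have hys : B y s = 0 := hsp 1
      obtain ⟨z, hz⟩ := H.exists_partner hs0
      obtain ⟨hr1, -⟩ := H.proj_perp hxx hyy hxy z
      obtain ⟨r, hr⟩ : ∃ r, r = z - B y z • x - B x z • y := ⟨_, rfl⟩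
      rw [← hr] at hr1
      have hsr : B s r = 1 := by
        rw [hr]; simp [map_sub, map_smul, hz, H.eq_zero_comm hxs, H.eq_zero_comm hys]
      have main : ∀ v c, B s v ≠ 0 → EichOK B x v c → eich H x v c ∈ utGroup H := by
        intro v c hsv hok
        have hvs : B v s ≠ 0 := fun h => hsv (H.eq_zero_comm h)
        obtain ⟨t, ht⟩ := H.exists_trace (a := -B v v) (by rw [map_neg, H.self_fixed])
        have hq : B (v + (t / B v s) • s) (v + (t / B v s) • s) = 0 := by
          simp only [map_add, map_smulₛₗ, LinearMap.add_apply, LinearMap.smul_apply, smul_eq_mul,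
            RingHom.id_apply, hss, mul_zero, add_zero, map_div₀, H.conj]
          field_simp
          linear_combination ht
        have e : v = (v + (t / B v s) • s) + (-(t / B v s)) • s := by rw [neg_smul, add_neg_cancel_right]
        rw [e] at hok ⊢
        refine eich_add_mem H (fun d hd => eich_mem_of_isotropic H hd hq)
          (fun d hd => eich_mem_of_isotropic H hd (by simp [map_smulₛₗ, hss])) hxx
          (by simp [map_smul, hxs, show B x v = 0 from by
            have := hok.2.1; simpa [map_smul, hxs] using this])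
          (by simp [hxs]) hok
      by_cases hsw : B s w = 0
      · have e : w = (w + r) + -r := by abel
        rw [e] at hok ⊢
        exact eich_add_mem H (fun d hd => main _ d (by rw [map_add, hsw, hsr, zero_add]; exact one_ne_zero) hd)
          (fun d hd => main _ d (by rw [map_neg, hsr]; exact neg_ne_zero.2 one_ne_zero) hd) hxx
          (by rw [map_add, hxw, hr1, add_zero]) (by rw [map_neg, hr1, neg_zero]) hok
      · exact main w c hsw hok
    · obtain ⟨h', hh', hhx, hhw⟩ := exists_torus H hxx hyy hxy hμ hμ0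
      have hm1 : μ - 1 ≠ 0 := sub_ne_zero.2 hμ1
      obtain ⟨u, hu⟩ : ∃ u, u = (μ - 1)⁻¹ • w := ⟨_, rfl⟩
      have hxu : B x u = 0 := by rw [hu, map_smul, hxw, smul_zero]
      obtain ⟨d, hd⟩ := exists_ok H hxx hxu
      have hd' : EichOK B x (μ • u) (μ * μ * d) := by
        refine ⟨hxx, by rw [map_smul, hxu, smul_zero], ?_⟩
        simp only [map_mul, hμ, map_smulₛₗ, LinearMap.smul_apply, smul_eq_mul, RingHom.id_apply]
        linear_combination (μ * μ) * hd.2.2
      have hn := utGroup_normal H
      have hc : h' * eich H x u d * h'⁻¹ * (eich H x u d)⁻¹ ∈ utGroup H := by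
        rw [mul_assoc, mul_assoc]
        refine mul_mem hh' ?_
        rw [← mul_assoc]
        exact hn.conj_mem _ (inv_mem hh') _
      rw [eich_conj, hhx, hhw u hxu (by rw [hu, map_smul, hyw, smul_zero]),
        eich_smul H hμ0 hxx, hμ, eich_inv H hd, eich_mul H hd' (hd.neg H)] at hc
      have hw : μ • u + -u = w := by
        rw [← sub_eq_add_neg, ← one_smul F u, smul_smul, mul_one, ← sub_smul, hu, smul_inv_smul₀ hm1]
      have hok' := hd'.add H (hd.neg H)
      rw [hw] at hc hok'
      exact eich_mem_of_exists H hok hok' hc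
  have hxw := h.2.1
  have e : w = B y w • x + (w - B y w • x) := (add_sub_cancel _ _).symm
  rw [e] at h ⊢
  refine eich_add_mem H (fun d hd => hline _ d hd) (fun d hd => hperp _ d ?_ hd) hxx ?_ ?_ h
  · rw [map_sub, map_smul, smul_eq_mul, H.eq_one_comm hxy, mul_one, sub_self]
  · rw [map_smul, hxx, smul_zero]
  · rw [map_sub, map_smul, hxw, hxx, smul_zero, sub_zero]

end CfsgLib.Classical
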