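import Mathlib
import Cfsg.Agent.Lib.Classical.UnitaryTransv

/-!
The group generated by unitary transvections: transitivity, perfectness, simplicity of its central quotient, and
its complement inside the isometry group.
-/

set_option autoImplicit false

namespace CfsgLib.Classical

open CfsgLib.Geom
open scoped LinearAlgebra.Projectivization Pointwise commutatorElement
open Projectivization (mk mk_eq_mk_iff' mk_rep rep_nonzero)

variable {F V : Type*} [Field F] [AddCommGroup V] [Module F V] [FiniteDimensional F V] {σ : F →+* F}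
variable {B : V →ₛₗ[σ] V →ₗ[F] F} (H : IsHermSpace B)
  (h3 : 3 ≤ Module.finrank F V)
  (h32 : 4 ≤ Module.finrank F V ∨ ∃ μ : F, σ μ = μ ∧ μ ≠ 0 ∧ μ ≠ 1)

include H h3

omit h3 in
theorem exists_isotropic_dual {x y : V} (h : LinearIndependent F ![x, y]) (hxx : B x x = 0)
    (hxy : B x y = 0) (a : F) : ∃ z, B z z = 0 ∧ B x z = 1 ∧ B y z = a := by
  let L : V →ₗ[F] F × F := (B x).prod (B y)
  have hsurj : Function.Surjective L := by
    rw [← LinearMap.range_eq_top, ← Subspace.dualAnnihilator_inj, Submodule.dualAnnihilator_top,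
      Submodule.eq_bot_iff]
    intro φ hφ
    rw [Submodule.mem_dualAnnihilator] at hφ
    have h0 : ∀ z, φ (1, 0) * B x z + φ (0, 1) * B y z = 0 := fun z => by
      have := hφ (L z) ⟨z, rfl⟩
      rw [show L z = B x z • ((1 : F), (0 : F)) + B y z • ((0 : F), (1 : F)) by simp [L], map_add,
        map_smul, map_smul, smul_eq_mul, smul_eq_mul] at this
      linear_combination this
    have h1 : σ (φ (1, 0)) • x + σ (φ (0, 1)) • y = 0 := H.sep _ fun z => by
      simp only [map_add, map_smulₛₗ, LinearMap.add_apply, LinearMap.smul_apply, smul_eq_mul, H.invol]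
      exact h0 z
    obtain ⟨e1, e2⟩ := LinearIndependent.pair_iff.1 h _ _ h1
    refine LinearMap.ext fun p => ?_
    rw [show p = p.1 • ((1 : F), (0 : F)) + p.2 • ((0 : F), (1 : F)) by ext <;> simp, map_add, map_smul,
      map_smul, σ.injective (e1.trans (map_zero σ).symm), σ.injective (e2.trans (map_zero σ).symm)]
    simp
  obtain ⟨z, hz⟩ := hsurj (1, a)
  have hz1 : B x z = 1 := congrArg Prod.fst hz
  have hz2 : B y z = a := congrArg Prod.snd hz
  obtain ⟨t, ht⟩ := H.exists_trace (a := -B z z) (by rw [map_neg, H.self_fixed])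
  refine ⟨z + t • x, ?_, by simp [hz1, hxx], by simp [hz2, H.eq_zero_comm hxy]⟩
  simp only [map_add, map_smulₛₗ, LinearMap.add_apply, LinearMap.smul_apply, smul_eq_mul,
    RingHom.id_apply, hxx, hz1, H.eq_one_comm hz1]
  linear_combination ht

/-- Any isotropic vector has an isotropic vector non-orthogonal to it and to any other. -/
theorem exists_common_nonorth {x y : V} (hx : x ≠ 0) (hxx : B x x = 0) (hyy : B y y = 0) (hy : y ≠ 0)
    (hxy : B x y = 0) : ∃ z, B z z = 0 ∧ B x z ≠ 0 ∧ B y z ≠ 0 := by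
  by_cases hi : LinearIndependent F ![x, y]
  · obtain ⟨z, hz, h1, h2⟩ := exists_isotropic_dual H hi hxx hxy 1
    exact ⟨z, hz, by rw [h1]; exact one_ne_zero, by rw [h2]; exact one_ne_zero⟩
  · rw [LinearIndependent.pair_iff' hx] at hi
    push Not at hi
    obtain ⟨a, rfl⟩ := hi
    obtain ⟨z, hz1, hz2⟩ := H.exists_hyperbolic hx hxx
    refine ⟨z, hz2, by rw [hz1]; exact one_ne_zero, ?_⟩
    simp only [map_smulₛₗ, LinearMap.smul_apply, smul_eq_mul, hz1, mul_one]
    exact fun h => hy (by rw [σ.injective (h.trans (map_zero σ).symm), zero_smul])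

include h32

theorem ut_move {x u v : V} (hxx : B x x = 0) (hu : B x u = 1) (hv : B x v = 1)
    (huv : B u u = B v v) : ∃ g ∈ utGroup H, g.1 x = x ∧ g.1 u = v := by
  obtain ⟨hok, hm⟩ := eich_move H hxx hu hv huv
  refine ⟨_, eich_mem H h3 h32 _ _ _, ?_, hm⟩
  rw [eich_apply H hok, hxx, H.eq_zero_comm hok.2.1]
  simp

theorem ut_transitive_nonorth {x y : V} (hxx : B x x = 0) (hyy : B y y = 0) (hxy : B x y ≠ 0) :
    ∃ g ∈ utGroup H, g.1 x = y := by
  obtain ⟨c, hc⟩ : ∃ c, c = B x y := ⟨_, rfl⟩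
  obtain ⟨y', hy'⟩ : ∃ y', y' = c⁻¹ • y := ⟨_, rfl⟩
  have hc0 : c ≠ 0 := hc ▸ hxy
  have h1 : B x y' = 1 := by rw [hy', map_smul, ← hc, smul_eq_mul, inv_mul_cancel₀ hc0]
  have h2 : B y' y' = 0 := by simp [hy', map_smulₛₗ, hyy]
  have hyc : y = c • y' := by rw [hy', smul_inv_smul₀ hc0]
  obtain ⟨e, he1, he2, hee⟩ := H.exists_perp_value h3 hxx h2 h1
    (a := -(1 / σ c + σ (1 / σ c))) (by rw [map_neg, map_add, H.invol]; ring)
  obtain ⟨z, hz⟩ : ∃ z, z = (1 / σ c) • x + y' + e := ⟨_, rfl⟩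
  have hsc : σ c ≠ 0 := fun h => hc0 (σ.injective (h.trans (map_zero σ).symm))
  have hzz : B z z = 0 := by
    simp only [hz, map_add, map_smulₛₗ, LinearMap.add_apply, LinearMap.smul_apply, smul_eq_mul,
      RingHom.id_apply, hxx, h2, h1, H.eq_one_comm h1, he1, he2, H.eq_zero_comm he1, H.eq_zero_comm he2, hee]
    ring
  have hzx : B z x = 1 := H.eq_one_comm (by simp [hz, hxx, h1, he1])
  have hzy : B z y = 1 := H.eq_one_comm (by
    simp [hyc, hz, map_smulₛₗ, h2, H.eq_one_comm h1, he2, mul_inv_cancel₀ hsc])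
  obtain ⟨g, hg, -, hgx⟩ := ut_move H h3 h32 hzz hzx hzy (hxx.trans hyy.symm)
  exact ⟨g, hg, hgx⟩

/-- The transvection group is transitive on non-zero isotropic vectors. -/
theorem ut_transitive {x y : V} (hxx : B x x = 0) (hyy : B y y = 0) (hx : x ≠ 0) (hy : y ≠ 0) :
    ∃ g ∈ utGroup H, g.1 x = y := by
  by_cases hxy : B x y = 0
  · obtain ⟨z, hz, h1, h2⟩ := exists_common_nonorth H h3 hx hxx hyy hy hxy
    obtain ⟨g, hg, hgx⟩ := ut_transitive_nonorth H h3 h32 hxx hz h1
    obtain ⟨k, hk, hky⟩ := ut_transitive_nonorth H h3 h32 hyy hz h2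
    refine ⟨k⁻¹ * g, mul_mem (inv_mem hk) hg, ?_⟩
    rw [Subgroup.coe_mul, LinearEquiv.mul_apply, hgx, ← hky]
    exact k.1.symm_apply_apply y
  · exact ut_transitive_nonorth H h3 h32 hxx hyy hxy

/-- The transvection group is transitive on vectors of norm one. -/
theorem ut_transitive_one {u v : V} (hu : B u u = 1) (hv : B v v = 1) :
    ∃ g ∈ utGroup H, g.1 u = v := by
  have key : ∀ u, B u u = 1 → ∃ x, B x x = 0 ∧ B x u = 1 := by
    intro u hu
    obtain ⟨x, hx0, hxx⟩ := H.exists_isotropic h3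
    by_cases hxu : B x u = 0
    · obtain ⟨z, hz, -, huz⟩ := exists_isotropic_dual H
        ((LinearIndependent.pair_iff' hx0).2 fun a ha => by
          rw [← ha] at hu; simp [map_smulₛₗ, hxx] at hu) hxx hxu 1
      exact ⟨z, hz, H.eq_one_comm huz⟩
    · exact ⟨(σ (B x u))⁻¹ • x, by simp [map_smulₛₗ, hxx],
        by simp [map_smulₛₗ, map_inv₀, H.invol, hxu, inv_mul_cancel₀ hxu]⟩
  obtain ⟨x, hxx, hxu⟩ := key u hu
  obtain ⟨y, hyy, hyv⟩ := key v hv
  have hx0 : x ≠ 0 := fun h => by simp [h] at hxu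
  have hy0 : y ≠ 0 := fun h => by simp [h] at hyv
  obtain ⟨g, hg, hgy⟩ := ut_transitive H h3 h32 hyy hxx hy0 hx0
  have hgv : B x (g.1 v) = 1 := by rw [← hgy, g.2, hyv]
  obtain ⟨k, hk, -, hku⟩ := ut_move H h3 h32 hxx hxu hgv (by rw [g.2, hu, hv])
  refine ⟨g⁻¹ * k, mul_mem (inv_mem hg) hk, ?_⟩
  rw [Subgroup.coe_mul, LinearEquiv.mul_apply, hku]
  exact g.1.symm_apply_apply v

/-- Every transvection is a single commutator of elements of the transvection group. -/
theorem transv_eq_commutator (x : V) (c : F) :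
    ∃ a ∈ utGroup H, ∃ b ∈ utGroup H, eich H x 0 c = ⁅a, b⁆ := by
  by_cases h : EichOK B x 0 c ∧ x ≠ 0
  swap
  · refine ⟨1, one_mem _, 1, one_mem _, ?_⟩
    rw [commutatorElement_one_left]
    by_cases hok : EichOK B x 0 c
    · have hx0 : x = 0 := by_contra fun hx => h ⟨hok, hx⟩
      exact herm_ext fun z => by rw [eich_apply H hok]; simp [hx0]
    · exact eich_of_not H hok
  obtain ⟨hok, hx0⟩ := h
  have hxx := hok.1
  have hc : c + σ c = 0 := by simpa using hok.2.2
  obtain ⟨y, hxy, hyy⟩ := H.exists_hyperbolic hx0 hxx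
  obtain ⟨e, hxe, -, hee⟩ := H.exists_perp_anisotropic h3 hxx hyy hxy
  obtain ⟨t, ht⟩ := H.exists_trace (map_one σ)
  obtain ⟨β, hβ⟩ : ∃ β, β = -(c * t) / B e e := ⟨_, rfl⟩
  obtain ⟨d, hd⟩ := exists_ok H hxx hxe
  obtain ⟨d', hd'⟩ := exists_ok H (w := β • e) hxx (by rw [map_smul, hxe, smul_zero])
  have key : B (β • e) e - B e (β • e) = c := by
    simp only [map_smulₛₗ, LinearMap.smul_apply, smul_eq_mul, RingHom.id_apply, hβ, map_div₀, map_neg,
      map_mul, H.self_fixed, show σ c = -c by linear_combination hc]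
    field_simp
    linear_combination c * ht
  refine ⟨_, eich_mem H h3 h32 x e d, _, eich_mem H h3 h32 x (β • e) d', ?_⟩
  have h12 := hd.add H hd'
  have h21 := hd'.add H hd
  rw [commutatorElement_def, mul_assoc, ← mul_inv_rev, eich_mul H hd hd', eich_mul H hd' hd,
    eich_inv H h21, eich_mul H h12 (h21.neg H)]
  congr 1
  · abel
  · have := h21.2.2
    simp only [map_neg, map_add, LinearMap.add_apply] at this ⊢
    linear_combination (-1 : F) * key - this

theorem utGroup_le_commutator : utGroup H ≤ ⁅utGroup H, utGroup H⁆ := by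
  refine (Subgroup.closure_le _).2 ?_
  rintro _ ⟨⟨x, c⟩, rfl⟩
  obtain ⟨a, ha, b, hb, e⟩ := transv_eq_commutator H h3 h32 x c
  show eich H x 0 c ∈ ⁅utGroup H, utGroup H⁆
  rw [e]
  exact Subgroup.commutator_mem_commutator ha hb

theorem commutator_utGroup : commutator ↥(utGroup H) = ⊤ := by
  refine Subgroup.map_injective (Subgroup.subtype_injective (utGroup H)) ?_
  rw [Subgroup.map_subtype_commutator, ← MonoidHom.range_eq_map, Subgroup.range_subtype]
  exact le_antisymm (Subgroup.commutator_le_self _) (utGroup_le_commutator H h3 h32)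

omit h32 in
/-- An element fixing every isotropic point is a scalar. -/
theorem exists_scalar_of_fix_isotropic (g : formIsoms B)
    (hg : ∀ x, B x x = 0 → x ≠ 0 → ∃ a : F, g.1 x = a • x) : ∃ a : F, ∀ v, g.1 v = a • v := by
  obtain ⟨τ, hτ0, hτ⟩ := H.exists_trace_zero
  have nonorth : ∀ {x y : V}, B x x = 0 → B y y = 0 → B x y ≠ 0 → ∀ {a b : F},
      g.1 x = a • x → g.1 y = b • y → a = b := by
    intro x y hxx hyy hxy a b ha hb
    have hx0 : x ≠ 0 := fun h => hxy (by simp [h])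
    have hi : LinearIndependent F ![x, y] := (LinearIndependent.pair_iff' hx0).2 fun k hk => hxy (by
      rw [← hk, map_smul, hxx, smul_zero])
    have hz : B (x + (τ / B x y) • y) (x + (τ / B x y) • y) = 0 := by
      simp only [map_add, map_smulₛₗ, LinearMap.add_apply, LinearMap.smul_apply, smul_eq_mul,
        RingHom.id_apply, hxx, hyy, map_div₀, H.conj]
      have : B y x ≠ 0 := fun h => hxy (H.eq_zero_comm h)
      field_simp
      linear_combination (B y x * B x y) * hτ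
    obtain ⟨k, hk⟩ := hg _ hz (fun h => by
      have h1 := (LinearIndependent.pair_iff.1 hi 1 _ (by rw [one_smul]; exact h)).1
      exact one_ne_zero h1)
    rw [map_add, map_smul, ha, hb, smul_add, smul_smul, smul_smul] at hk
    have h1 := LinearIndependent.pair_iff.1 hi (a - k) (τ / B x y * b - k * (τ / B x y))
      (by rw [sub_smul, sub_smul, sub_add_sub_comm, hk, sub_self])
    have hne : τ / B x y ≠ 0 := div_ne_zero hτ0 hxy
    have h2 : τ / B x y * (b - k) = 0 := by linear_combination h1.2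
    rw [sub_eq_zero.1 h1.1, sub_eq_zero.1 ((mul_eq_zero.1 h2).resolve_left hne)]
  obtain ⟨x, hx0, hxx⟩ := H.exists_isotropic h3
  obtain ⟨a, ha⟩ := hg x hxx hx0
  have hall : ∀ y, B y y = 0 → g.1 y = a • y := by
    intro y hyy
    by_cases hy0 : y = 0
    · simp [hy0]
    obtain ⟨b, hb⟩ := hg y hyy hy0
    suffices a = b by rw [this]; exact hb
    by_cases hxy : B x y = 0
    · obtain ⟨z, hz, h1, h2⟩ := exists_common_nonorth H h3 hx0 hxx hyy hy0 hxy
      obtain ⟨k, hk⟩ := hg z hz (fun h => h1 (by rw [h, map_zero]))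
      exact (nonorth hxx hz h1 ha hk).trans (nonorth hyy hz h2 hb hk).symm
    · exact nonorth hxx hyy hxy ha hb
  have hne : ∀ v, B x v ≠ 0 → g.1 v = a • v := by
    intro v hv
    obtain ⟨t, ht⟩ := H.exists_trace (a := -B v v) (by rw [map_neg, H.self_fixed])
    have hvx : B v x ≠ 0 := fun h => hv (H.eq_zero_comm h)
    have h1 : B (v + (t / B v x) • x) (v + (t / B v x) • x) = 0 := by
      simp only [map_add, map_smulₛₗ, LinearMap.add_apply, LinearMap.smul_apply, smul_eq_mul,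
        RingHom.id_apply, hxx, map_div₀, H.conj]
      field_simp
      linear_combination (B x v * B v x) * ht
    have h2 := hall _ h1
    rw [map_add, map_smul, ha, smul_add, smul_comm _ a x] at h2
    exact add_right_cancel h2
  refine ⟨a, fun v => ?_⟩
  by_cases hv : B x v = 0
  · obtain ⟨p, hp⟩ := H.exists_partner hx0
    have h1 := hne (v + p) (by rw [map_add, hv, hp, zero_add]; exact one_ne_zero)
    rw [map_add, hne p (by rw [hp]; exact one_ne_zero), smul_add] at h1
    exact add_right_cancel h1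
  · exact hne v hv

omit h32 in
theorem mem_center_utGroup_iff (g : ↥(utGroup H)) :
    g ∈ Subgroup.center ↥(utGroup H) ↔ ∃ a : F, ∀ v, g.1.1 v = a • v := by
  constructor
  · intro hg
    refine exists_scalar_of_fix_isotropic H h3 g.1 fun x hxx hx0 => ?_
    obtain ⟨τ, hτ0, hτ⟩ := H.exists_trace_zero
    obtain ⟨z, hz⟩ := H.exists_partner hx0
    have hcomm : g.1 * eich H x 0 τ = eich H x 0 τ * g.1 :=
      (congrArg Subtype.val (Subgroup.mem_center_iff.1 hg ⟨_, transv_mem H x τ⟩)).symm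
    have e : eich H (g.1.1 x) 0 τ = eich H x 0 τ := by
      rw [← map_zero g.1.1, ← eich_conj, hcomm, mul_inv_cancel_right]
      simp
    have h1 := congrArg (fun k : formIsoms B => k.1 z) e
    simp only [transv_apply H (show B (g.1.1 x) (g.1.1 x) = 0 by rw [g.1.2]; exact hxx) hτ,
      transv_apply H hxx hτ, hz, mul_one, add_right_inj] at h1
    have hne : τ * B (g.1.1 x) z ≠ 0 := fun h => by
      rw [h, zero_smul] at h1
      exact hx0 ((smul_eq_zero.1 h1.symm).resolve_left hτ0)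
    exact ⟨(τ * B (g.1.1 x) z)⁻¹ * τ, by rw [mul_smul, ← h1, inv_smul_smul₀ hne]⟩
  · rintro ⟨a, ha⟩
    refine Subgroup.mem_center_iff.2 fun k => Subtype.ext (herm_ext fun v => ?_)
    simp only [Subgroup.coe_mul, LinearEquiv.mul_apply, ha, map_smul]

omit [FiniteDimensional F V] h3 h32 in
theorem ut_mk_smul (g : ↥(utGroup H)) (v : V) (hv : v ≠ 0) :
    g • mk F v hv = mk F (g.1.1 v) (fun h => hv (g.1.1.injective (h.trans (map_zero g.1.1).symm))) :=
  rfl

omit [FiniteDimensional F V] h3 h32 in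
theorem ut_mul_apply (g k : ↥(utGroup H)) (v : V) : (g * k).1.1 v = g.1.1 (k.1.1 v) :=
  rfl

omit [FiniteDimensional F V] h3 h32 in
theorem ut_inv_apply (g : ↥(utGroup H)) (v : V) : (g⁻¹).1.1 v = g.1.1.symm v :=
  rfl

omit [FiniteDimensional F V] h3 h32 in
theorem isotropic_mk_iff {v : V} (hv : v ≠ 0) :
    B (mk F v hv).rep (mk F v hv).rep = 0 ↔ B v v = 0 := by
  obtain ⟨a, ha⟩ := (mk_eq_mk_iff' F _ _ (rep_nonzero (mk F v hv)) hv).1 (mk_rep _)
  have ha0 : a ≠ 0 := by
    rintro rfl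
    exact rep_nonzero (mk F v hv) (by rw [← ha, zero_smul])
  rw [← ha]
  simp [map_smulₛₗ, ha0]

/-- The isotropic points. -/
def isoPoints : SubMulAction ↥(utGroup H) (ℙ F V) where
  carrier := {P | B P.rep P.rep = 0}
  smul_mem' g P hP := by
    induction P using Projectivization.ind with | _ v hv =>
    simp only [Set.mem_ofPred_eq, ut_mk_smul, isotropic_mk_iff H] at hP ⊢
    rw [g.1.2]; exact hP

omit [FiniteDimensional F V] h3 h32 in
theorem mem_isoPoints (v : V) (hv : v ≠ 0) : mk F v hv ∈ isoPoints H ↔ B v v = 0 :=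
  isotropic_mk_iff H hv

theorem isoPoints_isPretransitive : MulAction.IsPretransitive ↥(utGroup H) (isoPoints H) := by
  refine ⟨?_⟩
  rintro ⟨P, hP⟩ ⟨P', hP'⟩
  induction P using Projectivization.ind with | _ x hx0 =>
  induction P' using Projectivization.ind with | _ y hy0 =>
  obtain ⟨g, hg, hgx⟩ := ut_transitive H h3 h32 ((mem_isoPoints H _ _).1 hP)
    ((mem_isoPoints H _ _).1 hP') hx0 hy0
  refine ⟨⟨g, hg⟩, Subtype.ext ?_⟩
  rw [SubMulAction.val_smul]
  simp only [ut_mk_smul, hgx]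

theorem isoPoints_isQuasiPreprimitive :
    MulAction.IsQuasiPreprimitive ↥(utGroup H) (isoPoints H) := by
  have hmem := mem_isoPoints H
  refine { toIsPretransitive := isoPoints_isPretransitive H h3 h32,
           isPretransitive_of_normal := fun {M} hM hMfix => ?_ }
  have hsub : ∀ (n : M) (P : isoPoints H), ((n • P : isoPoints H) : ℙ F V) = n.1 • (P : ℙ F V) :=
    fun _ _ => rfl
  let R : V → V → Prop := fun x y => ∃ n : M, ∃ a : F, a ≠ 0 ∧ n.1.1.1 x = a • y
  have Rrefl : ∀ x, R x x := fun x => ⟨1, 1, one_ne_zero, by simp⟩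
  have Rsymm : ∀ {x y}, R x y → R y x := fun {x y} ⟨n, a, ha, hn⟩ => ⟨n⁻¹, a⁻¹, inv_ne_zero ha, by
    have h := congrArg n.1.1.1.symm hn
    rw [LinearEquiv.symm_apply_apply, map_smul] at h
    rw [h, inv_smul_smul₀ ha]
    rfl⟩
  have Rtrans : ∀ {x y z}, R x y → R y z → R x z := fun {x y z} ⟨n, a, ha, hn⟩ ⟨k, b, hb, hk⟩ =>
    ⟨k * n, a * b, mul_ne_zero ha hb, by
      rw [Subgroup.coe_mul M, ut_mul_apply, hn, map_smul, hk, smul_smul]⟩
  have Rscale : ∀ {x y} {c : F}, c ≠ 0 → R x y → R x (c • y) := fun {x y c} hc ⟨n, a, ha, hn⟩ =>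
    ⟨n, a * c⁻¹, mul_ne_zero ha (inv_ne_zero hc), by rw [hn, smul_smul, inv_mul_cancel_right₀ hc]⟩
  have Rconj : ∀ g : formIsoms B, g ∈ utGroup H → ∀ {x y}, R x y → R (g.1 x) (g.1 y) :=
    fun g hg {x y} ⟨n, a, ha, hn⟩ =>
      ⟨⟨_, hM.conj_mem n.1 n.2 (⟨g, hg⟩ : ↥(utGroup H))⟩, a, ha, by
        rw [ut_mul_apply, ut_mul_apply, ut_inv_apply, LinearEquiv.symm_apply_apply, hn, map_smul]⟩
  obtain ⟨P, hP⟩ := (Set.ne_univ_iff_exists_notMem _).1 hMfix
  simp only [MulAction.mem_fixedPoints, not_forall] at hP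
  obtain ⟨n, hn⟩ := hP
  obtain ⟨P, hPX⟩ := P
  induction P using Projectivization.ind with | _ p hp =>
  have hp' := (hmem _ _).1 hPX
  obtain ⟨q, hq⟩ : ∃ q, q = n.1.1.1 p := ⟨_, rfl⟩
  have hq' : B q q = 0 := by rw [hq, n.1.1.2]; exact hp'
  have hpq : LinearIndependent F ![p, q] := by
    rw [LinearIndependent.pair_iff' hp]
    intro a ha
    refine hn (Subtype.ext ?_)
    rw [hsub, ut_mk_smul, mk_eq_mk_iff']
    exact ⟨a, by rw [ha, hq]⟩
  have hR : R p q := ⟨n, 1, one_ne_zero, by rw [one_smul, hq]⟩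
  obtain ⟨x₀, y₀, hx₀, hy₀, hxy₀, hR₀⟩ : ∃ x y, B x x = 0 ∧ B y y = 0 ∧ B x y ≠ 0 ∧ R x y := by
    by_cases hb : B p q = 0
    · obtain ⟨z, hz, hpz, hqz⟩ := exists_isotropic_dual H hpq hp' hb 0
      obtain ⟨τ, hτ0, hτ⟩ := H.exists_trace_zero
      refine ⟨p, (eich H z 0 τ).1 p, hp', by rw [(eich H z 0 τ).2]; exact hp', ?_, ?_⟩
      · rw [transv_apply H hz hτ, H.eq_one_comm hpz, mul_one, map_add, map_smul, hp', hpz]
        simpa using hτ0
      · have hfix' : (eich H z 0 τ).1 q = q := by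
          rw [transv_apply H hz hτ, H.eq_zero_comm hqz]; simp
        have h2 := Rconj _ (transv_mem H z τ) hR
        rw [hfix'] at h2
        exact Rtrans hR (Rsymm h2)
    · exact ⟨p, q, hp', hq', hb, hR⟩
  have hall : ∀ x y, B x x = 0 → B y y = 0 → B x y ≠ 0 → R x y := by
    intro x y hx hy hxy
    have hx0 : x ≠ 0 := fun h => by simp [h] at hxy
    have hx₀0 : x₀ ≠ 0 := fun h => by simp [h] at hxy₀
    obtain ⟨g, hg, hgx⟩ := ut_transitive H h3 h32 hx₀ hx hx₀0 hx0
    obtain ⟨u, hu⟩ : ∃ u, u = (B x₀ y₀)⁻¹ • g.1 y₀ := ⟨_, rfl⟩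
    obtain ⟨v, hv⟩ : ∃ v, v = (B x y)⁻¹ • y := ⟨_, rfl⟩
    have h1 : B x u = 1 := by
      rw [hu, map_smul, ← hgx, g.2, smul_eq_mul, inv_mul_cancel₀ hxy₀]
    have h2 : B x v = 1 := by rw [hv, map_smul, smul_eq_mul, inv_mul_cancel₀ hxy]
    obtain ⟨k, hk, hkx, hku⟩ := ut_move H h3 h32 hx h1 h2
      (by simp [hu, hv, map_smulₛₗ, (g.2 y₀ y₀).trans hy₀, hy])
    have h3' := Rconj k hk (Rscale (inv_ne_zero hxy₀) (Rconj g hg hR₀))
    rw [hgx, hkx, ← hu, hku, hv] at h3'
    have h4 := Rscale hxy h3'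
    rwa [smul_inv_smul₀ hxy] at h4
  refine ⟨?_⟩
  rintro ⟨P₁, hP₁⟩ ⟨P₂, hP₂⟩
  induction P₁ using Projectivization.ind with | _ x hx0 =>
  induction P₂ using Projectivization.ind with | _ y hy0 =>
  have hx := (hmem _ _).1 hP₁
  have hy := (hmem _ _).1 hP₂
  obtain ⟨m, a, ha, hm⟩ : R x y := by
    by_cases hxy : B x y = 0
    · obtain ⟨z, hz, h1, h2⟩ := exists_common_nonorth H h3 hx0 hx hy hy0 hxy
      exact Rtrans (hall x z hx hz h1) (Rsymm (hall y z hy hz h2))
    · exact hall x y hx hy hxy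
  refine ⟨m, Subtype.ext ?_⟩
  rw [hsub, ut_mk_smul, mk_eq_mk_iff']
  exact ⟨a, hm.symm⟩

/-- The transvection group of an isotropic point. -/
noncomputable def utRoot (P : isoPoints H) : Subgroup ↥(utGroup H) where
  carrier := {g | ∃ c, c + σ c = 0 ∧ g.1 = eich H P.1.rep 0 c}
  mul_mem' := by
    rintro a b ⟨c, hc, ha⟩ ⟨d, hd, hb⟩
    refine ⟨c + d, by rw [map_add]; linear_combination hc + hd, ?_⟩
    rw [Subgroup.coe_mul, ha, hb, eich_mul H (transv_ok H P.2 hc) (transv_ok H P.2 hd)]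
    simp
  one_mem' := ⟨0, by simp, (eich_zero H _).symm⟩
  inv_mem' := by
    rintro a ⟨c, hc, ha⟩
    refine ⟨σ c, by rw [H.invol]; linear_combination hc, ?_⟩
    rw [Subgroup.coe_inv, ha, eich_inv H (transv_ok H P.2 hc), neg_zero]

omit [FiniteDimensional F V] h3 h32 in
theorem mem_utRoot (v : V) (hv : v ≠ 0) (hX : mk F v hv ∈ isoPoints H) (g : ↥(utGroup H)) :
    g ∈ utRoot H ⟨mk F v hv, hX⟩ ↔ ∃ c, c + σ c = 0 ∧ g.1 = eich H v 0 c := by
  obtain ⟨a, ha⟩ := (mk_eq_mk_iff' F _ _ (rep_nonzero (mk F v hv)) hv).1 (mk_rep _)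
  have ha0 : a ≠ 0 := by
    rintro rfl
    exact rep_nonzero (mk F v hv) (by rw [← ha, zero_smul])
  have hs0 : σ a ≠ 0 := fun h => ha0 (σ.injective (h.trans (map_zero σ).symm))
  have hv' := (mem_isoPoints H v hv).1 hX
  show (∃ c, c + σ c = 0 ∧ g.1 = eich H (mk F v hv).rep 0 c) ↔ _
  rw [← ha]
  constructor
  · rintro ⟨c, hc, h⟩
    refine ⟨σ a * a * c, by simp only [map_mul, H.invol]; linear_combination (σ a * a) * hc, ?_⟩
    rw [h, eich_smul H ha0 hv', smul_zero]
  · rintro ⟨c, hc, h⟩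
    refine ⟨c / (σ a * a), ?_, ?_⟩
    · simp only [map_div₀, map_mul, H.invol]
      field_simp
      linear_combination hc
    · rw [h, eich_smul H ha0 hv', smul_zero, mul_div_cancel₀ _ (mul_ne_zero hs0 ha0)]

omit [FiniteDimensional F V] h3 h32 in
theorem transv_mem_iSup (x : V) (c : F) (t : ↥(utGroup H)) (ht : (t : formIsoms B) = eich H x 0 c) :
    t ∈ ⨆ P, utRoot H P := by
  by_cases hc : EichOK B x 0 c ∧ x ≠ 0
  · refine Subgroup.mem_iSup_of_mem (S := utRoot H) ⟨mk F x hc.2, (mem_isoPoints H _ _).2 hc.1.1⟩ ?_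
    exact (mem_utRoot H x hc.2 _ t).2 ⟨c, by simpa using hc.1.2.2, ht⟩
  · have h1 : eich H x 0 c = 1 := by
      by_cases hd : EichOK B x 0 c
      · have hx0 : x = 0 := by_contra fun h => hc ⟨hd, h⟩
        exact herm_ext fun z => by rw [eich_apply H hd]; simp [hx0]
      · exact eich_of_not H hd
    rw [h1] at ht
    rw [Subtype.ext (ht.trans (Subgroup.coe_one (utGroup H)).symm)]
    exact one_mem _

omit [FiniteDimensional F V] h3 h32 in
theorem ut_conj_iff (g k : formIsoms B) (v : V) :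
    (∃ c, c + σ c = 0 ∧ k = eich H (g.1 v) 0 c) ↔
      ∃ c, c + σ c = 0 ∧ g⁻¹ * k * g = eich H v 0 c := by
  refine exists_congr fun c => and_congr_right fun _ => ?_
  have e : g * eich H v 0 c * g⁻¹ = eich H (g.1 v) 0 c := by rw [eich_conj, map_zero]
  rw [← e]
  constructor
  · rintro rfl; group
  · intro h; rw [← h]; group

/-- The transvection groups form an Iwasawa structure. -/
noncomputable def utIwasawa : MulAction.IwasawaStructure ↥(utGroup H) (isoPoints H) where
  T := utRoot H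
  is_comm P := ⟨⟨by
    rintro ⟨a, c, hc, ha⟩ ⟨b, d, hd, hb⟩
    refine Subtype.ext (Subtype.ext ?_)
    show a.1 * b.1 = b.1 * a.1
    rw [ha, hb, eich_mul H (transv_ok H P.2 hc) (transv_ok H P.2 hd),
      eich_mul H (transv_ok H P.2 hd) (transv_ok H P.2 hc), add_comm c]⟩⟩
  is_conj g P := by
    obtain ⟨P, hP⟩ := P
    induction P using Projectivization.ind with | _ v hv =>
    ext k
    rw [Subgroup.mem_pointwise_smul_iff_inv_smul_mem]
    have e : g • (⟨mk F v hv, hP⟩ : isoPoints H) = ⟨mk F (g.1.1 v)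
        (fun h => hv (g.1.1.injective (h.trans (map_zero g.1.1).symm))),
        (mem_isoPoints H _ _).2 (by rw [g.1.2]; exact (mem_isoPoints H _ _).1 hP)⟩ :=
      Subtype.ext (by rw [SubMulAction.val_smul, ut_mk_smul])
    rw [e, mem_utRoot, mem_utRoot]
    simp only [MulAut.smul_def, MulAut.inv_apply, MulAut.conj_symm_apply]
    exact ut_conj_iff H g.1 k.1 v
  is_generator := by
    rw [eq_top_iff]
    intro g _
    suffices ∀ t ∈ utGroup H, ∀ ht : t ∈ utGroup H,
        (⟨t, ht⟩ : ↥(utGroup H)) ∈ iSup (utRoot H) from this g.1 g.2 g.2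
    intro t ht
    induction ht using Subgroup.closure_induction with
    | mem t ht =>
      intro ht'
      obtain ⟨⟨x, c⟩, he⟩ := ht
      exact transv_mem_iSup H x c ⟨t, ht'⟩ he.symm
    | one => intro _; exact one_mem _
    | mul a b ha hb iha ihb => intro _; exact mul_mem (iha ha) (ihb hb)
    | inv a ha iha => intro _; exact inv_mem (iha ha)

theorem isSimpleGroup_utGroup :
    IsSimpleGroup (↥(utGroup H) ⧸ Subgroup.center ↥(utGroup H)) := by
  have hne : Subgroup.center ↥(utGroup H) ≠ ⊤ := by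
    intro hc
    obtain ⟨x, hx0, hxx⟩ := H.exists_isotropic h3
    obtain ⟨τ, hτ0, hτ⟩ := H.exists_trace_zero
    obtain ⟨p, hp⟩ := H.exists_partner hx0
    obtain ⟨a, ha⟩ := (mem_center_utGroup_iff H h3 ⟨_, transv_mem H x τ⟩).1 (hc ▸ Subgroup.mem_top _)
    have h1 := ha x
    have h2 := ha p
    simp only [transv_apply H hxx hτ, hxx, hp, mul_one, mul_zero, zero_smul, add_zero] at h1 h2
    have h3' : a = 1 := smul_left_injective F hx0 (by simpa using h1.symm)
    rw [h3', one_smul, add_eq_left, smul_eq_zero] at h2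
    exact h2.elim hτ0 hx0
  have : Nontrivial (↥(utGroup H) ⧸ Subgroup.center ↥(utGroup H)) :=
    QuotientGroup.nontrivial_iff.2 hne
  refine IsSimpleGroup.mk fun K hK => ?_
  obtain ⟨N, hN⟩ : ∃ N, N = K.comap (QuotientGroup.mk' (Subgroup.center ↥(utGroup H))) := ⟨_, rfl⟩
  have hNn : N.Normal := by rw [hN]; infer_instance
  by_cases hfix : MulAction.fixedPoints N (isoPoints H) = Set.univ
  · left
    rw [eq_bot_iff]
    intro x hx
    obtain ⟨g, rfl⟩ := QuotientGroup.mk'_surjective _ x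
    rw [Subgroup.mem_bot, QuotientGroup.mk'_apply, QuotientGroup.eq_one_iff]
    refine (mem_center_utGroup_iff H h3 g).2 (exists_scalar_of_fix_isotropic H h3 g.1 fun v hvv hv => ?_)
    have h := (Set.eq_univ_iff_forall.1 hfix ⟨mk F v hv, (mem_isoPoints H v hv).2 hvv⟩)
      ⟨g, by rw [hN]; exact hx⟩
    have h' : g • mk F v hv = mk F v hv := congrArg Subtype.val h
    rw [ut_mk_smul, mk_eq_mk_iff'] at h'
    obtain ⟨a, ha⟩ := h'
    exact ⟨a, ha.symm⟩
  · right
    have := isoPoints_isQuasiPreprimitive H h3 h32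
    have h := (utIwasawa H).commutator_le N hfix
    rw [commutator_utGroup H h3 h32, top_le_iff] at h
    rw [← Subgroup.map_comap_eq_self_of_surjective (QuotientGroup.mk'_surjective _) K, ← hN, h]
    exact Subgroup.map_top_of_surjective _ (QuotientGroup.mk'_surjective _)

end CfsgLib.Classical
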