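import Mathlib
import Cfsg.Agent.Lib.Classical.UnitarySimple
import Cfsg.Agent.Lib.Classical.SUOrder
import Cfsg.Prelude.Def_ClassicalGeometry

/-!
`SU_n(q)` is the group generated by unitary transvections, for `n ≥ 3` and `(n, q) ≠ (3, 2)`; simplicity of
`PSU_n(q)`.
-/

set_option autoImplicit false

namespace CfsgLib.Classical

open CfsgLib.Geom
open Matrix
open scoped commutatorElement

variable {F : Type*} [Field F]

theorem det_id_add_smulRight {ι : Type} [Fintype ι] [DecidableEq ι]
    (φ : (ι → F) →ₗ[F] F) (v : ι → F) :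
    LinearMap.det (LinearMap.id + φ.smulRight v) = 1 + φ v := by
  rw [← LinearMap.det_toMatrix', show LinearMap.toMatrix' (LinearMap.id + φ.smulRight v) =
      1 + Matrix.replicateCol Unit v * Matrix.replicateRow Unit (fun j => φ (Pi.single j 1)) from ?_,
    Matrix.det_one_add_replicateCol_mul_replicateRow]
  · congr 1
    conv_rhs => rw [← Finset.univ_sum_single v, map_sum]
    refine Finset.sum_congr rfl fun i _ => ?_
    rw [show (Pi.single i (v i) : ι → F) = v i • Pi.single i 1 by simp [← Pi.single_smul], map_smul,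
      smul_eq_mul, mul_comm]
  · rw [map_add, LinearMap.toMatrix'_id]
    congr 1
    ext i j
    simp [LinearMap.toMatrix'_apply, Matrix.mul_apply, mul_comm]

variable [Fintype F] {q : ℕ}

theorem isHermSpace_hermB (hF : Fintype.card F = q ^ 2) (n : ℕ) : IsHermSpace (hermB hF n) where
  conj := hermB_conj hF
  sep := hermB_sep hF
  invol := qFrob_qFrob hF
  ne_id := qFrob_ne_id hF
  norm_surj a ha := by
    rw [qFrob_apply] at ha
    by_cases ha0 : a = 0
    · exact ⟨0, by simp [ha0]⟩
    · have hc := card_norm_fibre hF ha0 ha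
      obtain ⟨⟨x, hx⟩⟩ : Nonempty {x : F // x ^ (q + 1) = a} := (Nat.card_pos_iff.1 (by omega)).1
      exact ⟨x, by rw [qFrob_apply, ← pow_succ, hx]⟩

theorem exists_fixed_ne (hF : Fintype.card F = q ^ 2) (hq : 3 ≤ q) :
    ∃ μ : F, qFrob hF μ = μ ∧ μ ≠ 0 ∧ μ ≠ 1 := by
  obtain ⟨g, hg⟩ := IsCyclic.exists_generator (α := Fˣ)
  have hord : orderOf g = (q - 1) * (q + 1) := by
    rw [orderOf_eq_card_of_forall_mem_zpowers hg, units_card_sq hF]
  refine ⟨((g ^ (q + 1) : Fˣ) : F), ?_, Units.ne_zero _, fun h => ?_⟩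
  · rw [qFrob_apply, ← Units.val_pow_eq_pow_val, ← pow_mul,
      show (q + 1) * q = (q - 1) * (q + 1) + (q + 1) by
        obtain ⟨k, rfl⟩ : ∃ k, q = k + 1 := ⟨q - 1, by omega⟩
        simp only [Nat.add_sub_cancel]
        ring,
      pow_add, ← hord, pow_orderOf_eq_one, one_mul]
  · have h1 : g ^ (q + 1) = 1 := Units.ext h
    have h2 := Nat.le_of_dvd (by omega) (orderOf_dvd_of_pow_eq_one h1)
    rw [hord] at h2
    have : 2 * (q + 1) ≤ (q - 1) * (q + 1) := Nat.mul_le_mul_right _ (by omega)
    omega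

theorem herm_h32 (hF : Fintype.card F = q ^ 2) {n : ℕ} (hn : 3 ≤ n) (h : ¬ (n = 3 ∧ q = 2)) :
    4 ≤ Module.finrank F (Fin n → F) ∨ ∃ μ : F, qFrob hF μ = μ ∧ μ ≠ 0 ∧ μ ≠ 1 := by
  have hq := two_le_of_card_sq hF
  rw [Module.finrank_fintype_fun_eq_card, Fintype.card_fin]
  rcases Nat.lt_or_ge 3 n with h4 | h4
  · exact Or.inl h4
  · exact Or.inr (exists_fixed_ne hF (by
      rcases Nat.lt_or_ge q 3 with h' | h'
      · exact absurd ⟨by omega, by omega⟩ h
      · exact h'))

theorem hermB_single (hF : Fintype.card F = q ^ 2) {n : ℕ} (i j : Fin n) :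
    hermB hF n (Pi.single i 1) (Pi.single j 1) = if i = j then 1 else 0 := by
  simp [hermB, Pi.single_apply, apply_ite (qFrob hF)]

/-- The determinant on the unitary group. -/
noncomputable def hermDet (hF : Fintype.card F = q ^ 2) (n : ℕ) : formIsoms (hermB hF n) →* Fˣ :=
  LinearEquiv.det.comp (formIsoms (hermB hF n)).subtype

theorem hermDet_of_apply (hF : Fintype.card F = q ^ 2) {n : ℕ} (g : formIsoms (hermB hF n))
    (φ : (Fin n → F) →ₗ[F] F) (v : Fin n → F) (hg : ∀ z, g.1 z = z + φ z • v) :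
    (hermDet hF n g : F) = 1 + φ v := by
  rw [← det_id_add_smulRight φ v]
  show ((LinearEquiv.det g.1 : Fˣ) : F) = _
  rw [LinearEquiv.coe_det]
  exact congrArg LinearMap.det (LinearMap.ext fun z => by simp [hg])

theorem exists_qrefl (hF : Fintype.card F = q ^ 2) {n : ℕ} {v : Fin n → F} (hv : hermB hF n v v ≠ 0)
    {l : F} (hl : qFrob hF l * l = 1) :
    ∃ g : formIsoms (hermB hF n), ∀ z, g.1 z = z + ((l - 1) / hermB hF n v v * hermB hF n v z) • v := by
  have H := isHermSpace_hermB hF n
  let T : (Fin n → F) →ₗ[F] (Fin n → F) :=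
    LinearMap.id + (((l - 1) / hermB hF n v v) • hermB hF n v).smulRight v
  have hT : ∀ z, T z = z + ((l - 1) / hermB hF n v v * hermB hF n v z) • v := fun z => by simp [T]
  obtain ⟨e, he, hea⟩ := exists_mem_formIsoms (hermB hF n) H.sep T (fun a b => by
    simp only [hT, map_add, map_smulₛₗ, LinearMap.add_apply, LinearMap.smul_apply, smul_eq_mul,
      RingHom.id_apply, map_mul, map_div₀, map_sub, map_one, H.conj, H.self_fixed]
    field_simp
    linear_combination (hermB hF n v b * hermB hF n a v) * hl)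
  exact ⟨⟨e, he⟩, fun z => (hea z).trans (hT z)⟩

/-- The quasi-reflections at a vector. -/
def qreflGroup (hF : Fintype.card F = q ^ 2) {n : ℕ} (e : Fin n → F) (he : hermB hF n e e = 1) :
    Subgroup (formIsoms (hermB hF n)) where
  carrier := {g | ∃ l : F, ∀ z, g.1 z = z + ((l - 1) * hermB hF n e z) • e}
  one_mem' := ⟨1, fun z => by simp⟩
  mul_mem' := by
    rintro a b ⟨l, ha⟩ ⟨m, hb⟩
    refine ⟨l * m, fun z => ?_⟩
    rw [Subgroup.coe_mul, LinearEquiv.mul_apply, ha, hb]
    simp only [map_add, map_smul, smul_eq_mul, he]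
    module
  inv_mem' := by
    rintro a ⟨l, ha⟩
    have hl : l ≠ 0 := by
      rintro rfl
      have h1 : a.1 e = 0 := by rw [ha, he]; simp
      have h2 := a.1.map_eq_zero_iff.1 h1
      rw [h2] at he
      simp at he
    refine ⟨l⁻¹, fun z => ?_⟩
    rw [Subgroup.coe_inv, LinearEquiv.coe_inv, LinearEquiv.symm_apply_eq, ha]
    simp only [map_add, map_smul, smul_eq_mul, he]
    match_scalars
    · ring
    · field_simp
      ring

theorem exists_unit_multiple (hF : Fintype.card F = q ^ 2) {n : ℕ} {v : Fin n → F}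
    (hv : hermB hF n v v ≠ 0) : ∃ l : F, l ≠ 0 ∧ hermB hF n (l • v) (l • v) = 1 := by
  have H := isHermSpace_hermB hF n
  obtain ⟨l, hl⟩ := H.norm_surj (hermB hF n v v)⁻¹ (by rw [map_inv₀, H.self_fixed])
  refine ⟨l, fun h => hv (by simpa [h] using hl.symm), ?_⟩
  simp only [map_smulₛₗ, LinearMap.smul_apply, smul_eq_mul, RingHom.id_apply]
  have e : qFrob hF l * l * hermB hF n v v = 1 := by rw [hl, inv_mul_cancel₀ hv]
  linear_combination e

theorem utGroup_eq_ker_hermDet (hF : Fintype.card F = q ^ 2) {n : ℕ} (hn : 3 ≤ n)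
    (h32 : ¬ (n = 3 ∧ q = 2)) :
    utGroup (isHermSpace_hermB hF n) = (hermDet hF n).ker := by
  classical
  set H := isHermSpace_hermB hF n with hH
  have h3' : 3 ≤ Module.finrank F (Fin n → F) := by simpa using hn
  have h32' := herm_h32 hF hn h32
  let e : Fin n → F := Pi.single ⟨0, by omega⟩ 1
  have he : hermB hF n e e = 1 := by rw [hermB_single, if_pos rfl]
  have hdet1 : utGroup H ≤ (hermDet hF n).ker := by
    refine (Subgroup.closure_le _).2 ?_
    rintro _ ⟨⟨x, c⟩, rfl⟩
    show hermDet hF n (eich H x 0 c) = 1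
    by_cases hok : EichOK (hermB hF n) x 0 c
    · refine Units.ext ?_
      rw [hermDet_of_apply hF _ (c • hermB hF n x) x (fun z => by
        rw [transv_apply H hok.1 (by simpa using hok.2.2)]; simp), Units.val_one]
      simp [hok.1]
    · rw [eich_of_not H hok, map_one]
  refine le_antisymm hdet1 fun g hg => ?_
  have := utGroup_normal H
  obtain ⟨S, hS⟩ : ∃ S, S = utGroup H ⊔ qreflGroup hF e he := ⟨_, rfl⟩
  have hNS : utGroup H ≤ S := hS ▸ le_sup_left
  -- all quasi-reflections
  have hrefl : ∀ (v : Fin n → F) (g : formIsoms (hermB hF n)) (c : F), hermB hF n v v ≠ 0 →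
      (∀ z, g.1 z = z + (c * hermB hF n v z) • v) → g ∈ S := by
    intro v g c hv hgv
    obtain ⟨l, hl0, hl⟩ := exists_unit_multiple hF hv
    obtain ⟨k, hk, hke⟩ := ut_transitive_one H h3' h32' hl he
    have : k * g * k⁻¹ ∈ qreflGroup hF e he := by
      refine ⟨1 + c / (qFrob hF l * l), fun z => ?_⟩
      obtain ⟨y, rfl⟩ := k.1.surjective z
      simp only [Subgroup.coe_mul, Subgroup.coe_inv, LinearEquiv.mul_apply, LinearEquiv.coe_inv,
        LinearEquiv.symm_apply_apply, hgv, map_add, map_smul]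
      rw [← hke, k.2]
      simp only [map_smulₛₗ, LinearMap.smul_apply, smul_eq_mul, RingHom.id_apply, smul_smul]
      have hs : qFrob hF l ≠ 0 := fun h => hl0 ((qFrob hF).injective (h.trans (map_zero _).symm))
      congr 2
      field_simp
      ring
    have h2 : k⁻¹ * (k * g * k⁻¹) * k ∈ S :=
      mul_mem (mul_mem (inv_mem (hNS hk)) (hS ▸ Subgroup.mem_sup_right this)) (hNS hk)
    convert h2 using 1
    group
  -- moving a vector within a hyperplane of fixed vectors
  have step : ∀ u v : Fin n → F, hermB hF n u u = hermB hF n v v →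
      hermB hF n (u - v) u ≠ 0 → ∃ s ∈ S, s.1 u = v ∧
        ∀ z, hermB hF n (u - v) z = 0 → s.1 z = z := by
    intro u v huv ha
    obtain ⟨w, hw⟩ : ∃ w, w = u - v := ⟨_, rfl⟩
    rw [← hw] at ha ⊢
    have hww : hermB hF n w w = hermB hF n w u + qFrob hF (hermB hF n w u) := by
      simp only [hw, map_sub, LinearMap.sub_apply, H.conj]
      linear_combination (-1 : F) * huv
    by_cases hw0 : hermB hF n w w = 0
    · obtain ⟨c, hc⟩ : ∃ c, c = -(hermB hF n w u)⁻¹ := ⟨_, rfl⟩
      have htr : c + qFrob hF c = 0 := by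
        rw [hw0] at hww
        rw [hc, map_neg, map_inv₀,
          show qFrob hF (hermB hF n w u) = -hermB hF n w u by linear_combination -hww, inv_neg]
        ring
      refine ⟨eich H w 0 c, hNS (transv_mem H _ _), ?_, fun z hz => ?_⟩
      · rw [transv_apply H hw0 htr, hc, neg_mul, inv_mul_cancel₀ ha, neg_one_smul, hw]; abel
      · rw [transv_apply H hw0 htr, hz]; simp
    · obtain ⟨l, hl⟩ : ∃ l, l = 1 - hermB hF n w w / hermB hF n w u := ⟨_, rfl⟩
      have hl1 : qFrob hF l * l = 1 := by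
        have hs : qFrob hF (hermB hF n w u) ≠ 0 := fun h =>
          ha ((qFrob hF).injective (h.trans (map_zero _).symm))
        rw [hl, map_sub, map_one, map_div₀, H.self_fixed, hww]
        field_simp
        ring
      obtain ⟨g, hg⟩ := exists_qrefl hF hw0 hl1
      refine ⟨g, hrefl w g _ hw0 hg, ?_, fun z hz => ?_⟩
      · rw [hg, show (l - 1) / hermB hF n w w * hermB hF n w u = -1 by
          rw [hl]; field_simp; ring, neg_one_smul, hw]; abel
      · rw [hg, hz]; simp
  have move : ∀ u v : Fin n → F, hermB hF n u u = hermB hF n v v → hermB hF n u u ≠ 0 →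
      ∃ s ∈ S, s.1 u = v ∧
        ∀ z, hermB hF n u z = 0 → hermB hF n v z = 0 → s.1 z = z := by
    intro u v huv hu
    by_cases ha : hermB hF n (u - v) u = 0
    · obtain ⟨l, hl1, hl⟩ := H.exists_norm_one
      obtain ⟨g, hg⟩ := exists_qrefl hF hu hl
      have hgu : g.1 u = l • u := by
        rw [hg, div_mul_cancel₀ _ hu, sub_smul, one_smul, add_sub_cancel]
      have hvu : hermB hF n v u = hermB hF n u u := by
        simp only [map_sub, LinearMap.sub_apply] at ha
        linear_combination -ha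
      obtain ⟨s, hs, hsu, hsz⟩ := step (l • u) v
        (by rw [← hgu, g.2, huv]) (by
          simp only [map_sub, map_smul, map_smulₛₗ, LinearMap.sub_apply, LinearMap.smul_apply,
            smul_eq_mul, hvu]
          intro h
          have : (1 - l) * hermB hF n u u = 0 := by linear_combination h - (hermB hF n u u) * hl
          exact hl1 (sub_eq_zero.1 ((mul_eq_zero.1 this).resolve_right hu)).symm)
      refine ⟨s * g, mul_mem hs (hrefl u g _ hu hg), ?_, fun z h1 h2 => ?_⟩
      · rw [Subgroup.coe_mul, LinearEquiv.mul_apply, hgu, hsu]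
      · rw [Subgroup.coe_mul, LinearEquiv.mul_apply, show g.1 z = z by rw [hg, h1]; simp]
        exact hsz z (by simp [map_smulₛₗ, h1, h2])
    · obtain ⟨s, hs, hsu, hsz⟩ := step u v huv ha
      exact ⟨s, hs, hsu, fun z h1 h2 => hsz z (by simp [h1, h2])⟩
  have chain : ∀ k : ℕ, k ≤ n → ∀ g : formIsoms (hermB hF n),
      ∃ s ∈ S, ∀ i : Fin n, i.1 < k → (s * g).1 (Pi.single i 1) = Pi.single i 1 := by
    intro k
    induction k with
    | zero => intro _ g; exact ⟨1, one_mem _, fun i hi => absurd hi (Nat.not_lt_zero _)⟩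
    | succ k ih =>
      intro hk g
      obtain ⟨s, hs, hsf⟩ := ih (by omega) g
      let j : Fin n := ⟨k, by omega⟩
      obtain ⟨t, ht, htu, htz⟩ := move ((s * g).1 (Pi.single j 1)) (Pi.single j 1)
        ((s * g).2 _ _) (by rw [(s * g).2, hermB_single, if_pos rfl]; exact one_ne_zero)
      refine ⟨t * s, mul_mem ht hs, fun i hi => ?_⟩
      rw [mul_assoc]
      show t.1 ((s * g).1 (Pi.single i 1)) = Pi.single i 1
      rcases eq_or_ne i j with rfl | hij
      · exact htu
      · have hlt : i.1 < k := by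
          have : i.1 ≠ k := fun h => hij (Fin.ext h)
          omega
        rw [hsf i hlt]
        refine htz _ ?_ ?_
        · rw [← hsf i hlt, (s * g).2, hermB_single, if_neg (Ne.symm hij)]
        · rw [hermB_single, if_neg (Ne.symm hij)]
  obtain ⟨s, hs, hsf⟩ := chain n le_rfl g
  have hsg : s * g = 1 := herm_ext fun z => by
    have : ((s * g).1 : (Fin n → F) →ₗ[F] (Fin n → F)) = LinearMap.id :=
      (Pi.basisFun F (Fin n)).ext fun i => by
        rw [Pi.basisFun_apply]
        exact hsf i i.2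
    exact LinearMap.congr_fun this z
  have hgS : g ∈ S := by rw [eq_inv_of_mul_eq_one_right hsg]; exact inv_mem hs
  rw [hS] at hgS
  obtain ⟨a, ha, b, ⟨l, hb⟩, rfl⟩ := Subgroup.mem_sup_of_normal_left.1 hgS
  have hbd : hermDet hF n b = 1 := by
    rw [MonoidHom.mem_ker, map_mul, MonoidHom.mem_ker.1 (hdet1 ha), one_mul] at hg
    exact hg
  have hl : l = 1 := by
    have := hermDet_of_apply hF b ((l - 1) • hermB hF n e) e (fun z => by rw [hb]; simp)
    rw [hbd, Units.val_one, LinearMap.smul_apply, he, smul_eq_mul] at this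
    linear_combination -this
  have hb1 : b = 1 := herm_ext fun z => by rw [hb, hl]; simp
  rw [hb1, mul_one]
  exact ha

/-- `SU_n(q)` as a group of linear automorphisms. -/
noncomputable def suHom (hF : Fintype.card F = q ^ 2) (n : ℕ) :
    Cfsg.SU n F q →* formIsoms (hermB hF n) :=
  ((glLin (ι := Fin n) (F := F)).toMonoidHom.comp
    (Matrix.SpecialLinearGroup.toGL.comp (Cfsg.SU n F q).subtype)).codRestrict _ fun s u v => by
      rw [hermB_apply, hermB_apply]
      exact s.2 v u

theorem suHom_apply (hF : Fintype.card F = q ^ 2) {n : ℕ} (s : Cfsg.SU n F q) (v : Fin n → F) :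
    (suHom hF n s).1 v = (s.1 : Matrix (Fin n) (Fin n) F) *ᵥ v :=
  rfl

theorem suHom_injective (hF : Fintype.card F = q ^ 2) (n : ℕ) : Function.Injective (suHom hF n) :=
  fun a b h => Subtype.ext (Subtype.ext (Matrix.ext_iff_mulVec.2 fun v => by
    rw [← suHom_apply hF, h, suHom_apply hF]))

theorem range_suHom (hF : Fintype.card F = q ^ 2) (n : ℕ) :
    (suHom hF n).range = (hermDet hF n).ker := by
  have hdet : ∀ g : (Fin n → F) ≃ₗ[F] (Fin n → F),
      ((glLin.symm g : GL (Fin n) F) : Matrix (Fin n) (Fin n) F).det = (LinearEquiv.det g : F) := by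
    intro g
    rw [LinearEquiv.coe_det, ← LinearMap.det_toMatrix']
    congr 1
  ext g
  constructor
  · rintro ⟨s, rfl⟩
    refine MonoidHom.mem_ker.2 (Units.ext ?_)
    show ((LinearEquiv.det (suHom hF n s).1 : Fˣ) : F) = 1
    rw [← hdet, show glLin.symm (suHom hF n s).1 = Matrix.SpecialLinearGroup.toGL s.1 from
      glLin.symm_apply_apply _]
    exact s.1.2
  · intro hg
    refine ⟨⟨⟨((glLin.symm g.1 : GL (Fin n) F) : Matrix (Fin n) (Fin n) F), ?_⟩, fun u v => ?_⟩,
      herm_ext fun v => ?_⟩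
    · rw [hdet]; exact congrArg Units.val (MonoidHom.mem_ker.1 hg)
    · show Cfsg.hermForm n F q (((glLin.symm g.1 : GL (Fin n) F) : Matrix (Fin n) (Fin n) F) *ᵥ u)
        (((glLin.symm g.1 : GL (Fin n) F) : Matrix (Fin n) (Fin n) F) *ᵥ v) = _
      rw [← glLin_apply, ← glLin_apply, MulEquiv.apply_symm_apply, ← hermB_apply hF, ← hermB_apply hF]
      exact g.2 v u
    · rw [suHom_apply]
      exact ((glLin_apply _ v).symm.trans (by rw [MulEquiv.apply_symm_apply]))

/-- `SU_n(q)` and the transvection group. -/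
noncomputable def suEquiv (hF : Fintype.card F = q ^ 2) {n : ℕ} (hn : 3 ≤ n) (h32 : ¬ (n = 3 ∧ q = 2)) :
    Cfsg.SU n F q ≃* ↥(utGroup (isHermSpace_hermB hF n)) :=
  (MonoidHom.ofInjective (suHom_injective hF n)).trans (MulEquiv.subgroupCongr (by
    rw [range_suHom, utGroup_eq_ker_hermDet hF hn h32]))

theorem suEquiv_coe (hF : Fintype.card F = q ^ 2) {n : ℕ} (hn : 3 ≤ n) (h32 : ¬ (n = 3 ∧ q = 2))
    (s : Cfsg.SU n F q) :
    ((suEquiv hF hn h32 s : ↥(utGroup (isHermSpace_hermB hF n))) : formIsoms (hermB hF n)) =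
      suHom hF n s :=
  rfl

theorem isSimpleGroup_psu (hF : Fintype.card F = q ^ 2) {n : ℕ} (hn : 3 ≤ n)
    (h32 : ¬ (n = 3 ∧ q = 2)) : IsSimpleGroup (Cfsg.PSU n F q) := by
  have := isSimpleGroup_utGroup (isHermSpace_hermB hF n) (by simpa using hn) (herm_h32 hF hn h32)
  let e := suEquiv hF hn h32
  exact (QuotientGroup.congr (Subgroup.center (Cfsg.SU n F q))
    (Subgroup.center ↥(utGroup (isHermSpace_hermB hF n))) e (by
      ext x
      simp only [Subgroup.mem_map, Subgroup.mem_center_iff]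
      constructor
      · rintro ⟨y, hy, rfl⟩ g
        obtain ⟨g, rfl⟩ := e.surjective g
        exact (map_mul e g y).symm.trans ((congrArg e (hy g)).trans (map_mul e y g))
      · intro hx
        obtain ⟨y, rfl⟩ := e.surjective x
        exact ⟨y, fun g => e.injective (by rw [map_mul, map_mul, hx]), rfl⟩)).isSimpleGroup

theorem unitaryTransvection_mulVec (hF : Fintype.card F = q ^ 2) {n : ℕ} (v : Fin n → F) (c : F)
    (z : Fin n → F) :
    Cfsg.unitaryTransvection n q v c *ᵥ z = z + (c * hermB hF n v z) • v := by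
  rw [Cfsg.unitaryTransvection, Matrix.add_mulVec, Matrix.one_mulVec, Matrix.smul_mulVec,
    Matrix.vecMulVec_mulVec, hermB_apply]
  congr 1
  ext i
  simp [Cfsg.hermForm, dotProduct, mul_assoc, mul_comm, mul_left_comm]

theorem closure_transvections_eq_top (hF : Fintype.card F = q ^ 2) {n : ℕ} (hn : 3 ≤ n)
    (h32 : ¬ (n = 3 ∧ q = 2)) :
    Subgroup.closure {A : ↥(Cfsg.SU n F q) | ∃ (v : Fin n → F) (c : F),
      Cfsg.hermForm n F q v v = 0 ∧ ((A : Matrix.SpecialLinearGroup (Fin n) F) : Matrix (Fin n) (Fin n) F) =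
        Cfsg.unitaryTransvection n q v c} = ⊤ := by
  set H := isHermSpace_hermB hF n
  let e := suEquiv hF hn h32
  rw [eq_top_iff]
  intro A _
  suffices ∀ t ∈ utGroup H, ∀ A : Cfsg.SU n F q, suHom hF n A = t →
      A ∈ Subgroup.closure _ from this _ (e A).2 A (suEquiv_coe hF hn h32 A).symm
  intro t ht
  unfold utGroup at ht
  induction ht using Subgroup.closure_induction with
  | mem t ht =>
    obtain ⟨⟨x, c⟩, rfl⟩ := ht
    intro A hA
    by_cases hok : EichOK (hermB hF n) x 0 c
    · refine Subgroup.subset_closure ⟨x, c, (hermB_apply hF x x).symm.trans hok.1,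
        Matrix.ext_iff_mulVec.2 fun z => ?_⟩
      rw [unitaryTransvection_mulVec hF, ← suHom_apply hF, hA]
      exact transv_apply H hok.1 (by simpa using hok.2.2) z
    · have : A = 1 := suHom_injective hF n (by rw [hA, map_one]; exact eich_of_not H hok)
      rw [this]; exact one_mem _
  | one =>
    intro A hA
    rw [suHom_injective hF n (hA.trans (map_one _).symm)]
    exact one_mem _
  | mul a b ha hb iha ihb =>
    intro A hA
    have hA' : A = e.symm ⟨a, ha⟩ * e.symm ⟨b, hb⟩ := by
      refine e.injective ?_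
      rw [map_mul, e.apply_symm_apply, e.apply_symm_apply]
      exact Subtype.ext ((suEquiv_coe hF hn h32 A).trans hA)
    rw [hA']
    refine mul_mem (iha _ ?_) (ihb _ ?_)
    · rw [← suEquiv_coe hF hn h32, e.apply_symm_apply]
    · rw [← suEquiv_coe hF hn h32, e.apply_symm_apply]
  | inv a ha iha =>
    intro A hA
    rw [← inv_inv A]
    exact inv_mem (iha _ (by rw [map_inv, hA, inv_inv]))

theorem transvection_mem_commutatorSet (hF : Fintype.card F = q ^ 2) {n : ℕ} (hn : 3 ≤ n)
    (h32 : ¬ (n = 3 ∧ q = 2)) (A : ↥(Cfsg.SU n F q)) {v : Fin n → F} {c : F}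
    (hv : Cfsg.hermForm n F q v v = 0)
    (hA : ((A : Matrix.SpecialLinearGroup (Fin n) F) : Matrix (Fin n) (Fin n) F) =
      Cfsg.unitaryTransvection n q v c) :
    A ∈ commutatorSet ↥(Cfsg.SU n F q) := by
  set H := isHermSpace_hermB hF n
  have hvv : hermB hF n v v = 0 := (hermB_apply hF v v).trans hv
  have hAz : ∀ z, (suHom hF n A).1 z = z + (c * hermB hF n v z) • v := fun z => by
    rw [suHom_apply, hA, unitaryTransvection_mulVec hF]
  obtain ⟨x, d, hd⟩ : ∃ x d, suHom hF n A = eich H x 0 d := by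
    by_cases hv0 : v = 0
    · exact ⟨0, 0, by rw [eich_zero H]; exact herm_ext fun z => by rw [hAz]; simp [hv0]⟩
    obtain ⟨z, hz⟩ := H.exists_partner hv0
    have htr : c + qFrob hF c = 0 := by
      have := (suHom hF n A).2 z z
      rw [hAz] at this
      simp only [map_add, map_smulₛₗ, LinearMap.add_apply, LinearMap.smul_apply, smul_eq_mul,
        RingHom.id_apply, hvv, hz, H.eq_one_comm hz, map_mul, map_one] at this
      linear_combination this
    exact ⟨v, c, herm_ext fun z => by rw [hAz, transv_apply H hvv htr]⟩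
  obtain ⟨a, ha, b, hb, e'⟩ :=
    transv_eq_commutator H (by simpa using hn) (herm_h32 hF hn h32) x d
  let e := suEquiv hF hn h32
  refine ⟨e.symm ⟨a, ha⟩, e.symm ⟨b, hb⟩, suHom_injective hF n ?_⟩
  rw [hd, e', map_commutatorElement, ← suEquiv_coe hF hn h32, ← suEquiv_coe hF hn h32,
    e.apply_symm_apply, e.apply_symm_apply]

end CfsgLib.Classical
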