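import Mathlib
import Cfsg.Agent.Lib.Classical.GraphFormBasic
import Cfsg.Agent.Lib.KnownC.AutPSUField

/-!
Involutory graph automorphisms of `PSU_n(q)` and forms over the field of `q` elements.
-/

set_option autoImplicit false
set_option linter.unusedSectionVars false

namespace CfsgLib.Classical.GraphForm

open Matrix CfsgLib.KnownC CfsgLib.Geom

variable {n q : ℕ} {F : Type*} [Field F] [Fintype F] (hF : Fintype.card F = q ^ 2)
variable {F₀ : Type*} [Field F₀] [Fintype F₀]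

/-- The automorphism `γ` comes from the matrix `B` over the fixed field through `h`. -/
def PSUData (ι : F₀ →+* F) (γ : MulAut (Cfsg.PSU n F q)) (B : Matrix (Fin n) (Fin n) F₀) (h : GL (Fin n) F)
    (w : F) : Prop :=
  w ≠ 0 ∧ (h.1.map (frobQ hF))ᵀ * h.1 = w • B.map ι ∧ frobQ hF w • Bᵀ.map ι = w • B.map ι ∧
    ∃ (e : Fˣ) (g : Cfsg.GU n F q), g.1.1 = (e : F) • (h.1 * (h⁻¹).1.map (frobQ hF)) ∧
      γ = psuSemiAut g (frobQ hF)

theorem mapτ_mul (A B : Matrix (Fin n) (Fin n) F) :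
    (A * B).map (frobQ hF) = A.map (frobQ hF) * B.map (frobQ hF) := Matrix.map_mul

theorem mapτ_one : (1 : Matrix (Fin n) (Fin n) F).map (frobQ hF) = 1 :=
  Matrix.map_one _ (map_zero _) (map_one _)

theorem mapτ_smul (a : F) (A : Matrix (Fin n) (Fin n) F) :
    (a • A).map (frobQ hF) = frobQ hF a • A.map (frobQ hF) :=
  Matrix.map_smul' _ _ _ (map_mul _)

theorem mapτ_mapτ (A : Matrix (Fin n) (Fin n) F) : (A.map (frobQ hF)).map (frobQ hF) = A := by
  rw [Matrix.map_map, show (⇑(frobQ hF) ∘ ⇑(frobQ hF)) = id from funext (frobQ_frobQ hF), Matrix.map_id]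

theorem ne_zero_GL [NeZero n] (k : GL (Fin n) F) : ∃ i j, k.1 i j ≠ 0 := by
  by_contra hc
  push Not at hc
  exact k.isUnit.ne_zero (Matrix.ext hc)

variable {ι : F₀ →+* F} (hι : ∀ x, frobQ hF x = x ↔ ∃ a, ι a = x)

include hι in
theorem mapι_fix (A : Matrix (Fin n) (Fin n) F₀) : (A.map ι).map (frobQ hF) = A.map ι :=
  Matrix.ext fun _ _ => (hι _).2 ⟨_, rfl⟩

include hι in
theorem exists_mapι {A : Matrix (Fin n) (Fin n) F} (hA : A.map (frobQ hF) = A) :
    ∃ A₀ : Matrix (Fin n) (Fin n) F₀, A₀.map ι = A := by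
  choose f hf using fun i j => (hι _).1 (congrArg (fun M : Matrix _ _ F => M i j) hA)
  exact ⟨Matrix.of f, Matrix.ext hf⟩

theorem mapι_injective : Function.Injective fun A : Matrix (Fin n) (Fin n) F₀ => A.map ι :=
  Matrix.map_injective ι.injective

theorem mapι_smul (a : F₀) (A : Matrix (Fin n) (Fin n) F₀) : (a • A).map ι = ι a • A.map ι :=
  Matrix.map_smul' _ _ _ (map_mul _)

theorem exists_GL_mapι [NeZero n] {x : GL (Fin n) F} {A : Matrix (Fin n) (Fin n) F₀} {u : F}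
    (hx : x.1 = u • A.map ι) : ∃ P : GL (Fin n) F₀, P.1 = A := by
  refine ⟨GeneralLinearGroup.mkOfDetNeZero A fun h => ?_, rfl⟩
  have h1 := ((isUnit_iff_isUnit_det _).1 x.isUnit).ne_zero
  rw [hx, det_smul, show (A.map ι).det = ι A.det from (RingHom.map_det ι A).symm, h, map_zero, mul_zero] at h1
  exact h1 rfl

section Conj

variable {γ γ' : MulAut (Cfsg.PSU n F q)} {B B' : Matrix (Fin n) (Fin n) F₀} {h h' : GL (Fin n) F} {w w' : F}

include hι in
/-- Conjugators come from similitudes over the fixed field. -/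
theorem exists_of_conj [NeZero n] (hn : 3 ≤ n) (h32 : ¬ (n = 3 ∧ q = 2)) (hu' : IsUnit B')
    (hd : PSUData hF ι γ B h w) (hd' : PSUData hF ι γ' B' h' w') {k : Cfsg.GU n F q}
    (hk : psuInndiagHom k * γ' * (psuInndiagHom k)⁻¹ = γ) :
    ∃ (u : Fˣ) (P : GL (Fin n) F₀) (c : F₀ˣ), k.1.1 = (u : F) • (h.1 * P.1.map ι * (h'⁻¹).1) ∧
      P.1ᵀ * B * P.1 = (c : F₀) • B' ∧ (u : F) * frobQ hF u * w * ι c = w' := by
  obtain ⟨hw, hB, -, e, g, hg, rfl⟩ := hd
  obtain ⟨hw', hB', -, e', g', hg', rfl⟩ := hd'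
  rw [mul_inv_eq_iff_eq_mul, psuSemiAut_eq_mul g, psuSemiAut_eq_mul g', mul_assoc (psuInndiagHom g),
    psuSemiAut_one_mul_inndiag, ← mul_assoc, ← mul_assoc, ← map_mul, ← map_mul, mul_left_inj,
    psuInndiagHom_eq_iff hF hn h32] at hk
  obtain ⟨l, hl⟩ := hk
  have hl' : k.1.1 * g'.1.1 = (l : F) • (g.1.1 * k.1.1.map (frobQ hF)) := hl
  rw [hg, hg', mul_smul_comm, smul_mul, smul_smul] at hl'
  obtain ⟨μ, hμ⟩ : ∃ μ : Fˣ, μ = l * e * e'⁻¹ := ⟨_, rfl⟩
  obtain ⟨x, hx⟩ : ∃ x : GL (Fin n) F, x = h⁻¹ * k.1 * h' := ⟨_, rfl⟩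
  have hxv : x.1 = (h⁻¹).1 * k.1.1 * h'.1 := by rw [hx]; rfl
  have hxμ : x.1 = (μ : F) • x.1.map (frobQ hF) := by
    have h1 : k.1.1 * (h'.1 * (h'⁻¹).1.map (frobQ hF)) =
        (μ : F) • (h.1 * (h⁻¹).1.map (frobQ hF) * k.1.1.map (frobQ hF)) := by
      have h2 := congrArg (((e'⁻¹ : Fˣ) : F) • ·) hl'
      simp only [smul_smul, Units.inv_mul, one_smul] at h2
      rw [h2, hμ, Units.val_mul, Units.val_mul]
      congr 1
      ring
    have h2 := congrArg (fun M => (h⁻¹).1 * M * h'.1.map (frobQ hF)) h1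
    simp only [← Matrix.mul_assoc] at h2
    rw [Matrix.mul_assoc _ ((h'⁻¹).1.map (frobQ hF)), ← mapτ_mul, Units.inv_mul, mapτ_one, Matrix.mul_one,
      mul_smul_comm, smul_mul] at h2
    conv_lhs => rw [hxv, h2]
    rw [hxv, mapτ_mul, mapτ_mul]
    congr 1
    simp only [← Matrix.mul_assoc]
    rw [Units.inv_mul, Matrix.one_mul]
  have hμN : unitNorm (frobQ hF) μ = 1 := by
    obtain ⟨i, j, hij⟩ := ne_zero_GL x
    have h1 : x.1 i j = μ * frobQ hF (x.1 i j) := congrFun (congrFun hxμ i) j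
    have h2 : frobQ hF (x.1 i j) = frobQ hF μ * x.1 i j := by
      conv_lhs => rw [h1, map_mul, frobQ_frobQ]
    refine Units.ext (mul_right_cancel₀ hij ?_)
    rw [unitNorm_two _ (orderOf_frobQ hF), Units.val_one, one_mul, mul_assoc, ← h2]
    exact h1.symm
  obtain ⟨u, hu⟩ : μ ∈ (unitTwist (frobQ hF)).range := by rw [← unitNorm_ker]; exact hμN
  have huv : (μ : F) = (u : F) / frobQ hF u := by rw [← hu, coe_unitTwist]
  have hτu : frobQ hF (u : F) ≠ 0 := (map_ne_zero _).2 u.ne_zero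
  obtain ⟨P₀, hP₀⟩ := exists_mapι hF hι (A := (u : F)⁻¹ • x.1) (by
    rw [mapτ_smul, map_inv₀]
    conv_rhs => rw [hxμ, smul_smul, huv]
    congr 1
    field_simp)
  have hxP : x.1 = (u : F) • P₀.map ι := by rw [hP₀, smul_smul, mul_inv_cancel₀ u.ne_zero, one_smul]
  obtain ⟨P, rfl⟩ := exists_GL_mapι hxP
  have hk' : k.1.1 = (u : F) • (h.1 * P.1.map ι * (h'⁻¹).1) := by
    have hk2 : k.1 = h * x * h'⁻¹ := by rw [hx]; group
    rw [hk2, Units.val_mul, Units.val_mul, hxP, mul_smul_comm, smul_mul]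
  have hGU := (mem_GU_iff_frobQ hF k.1).1 k.2
  rw [hk', mapτ_smul, mapτ_mul, mapτ_mul, mapι_fix hF hι, transpose_smul, transpose_mul, transpose_mul,
    smul_mul_smul_comm] at hGU
  have h3 : (frobQ hF (u : F) * u) • ((P.1.map ι)ᵀ * ((h.1.map (frobQ hF))ᵀ * h.1) * P.1.map ι) =
      (h'.1.map (frobQ hF))ᵀ * h'.1 := by
    calc _ = (h'.1.map (frobQ hF))ᵀ * ((frobQ hF (u : F) * u) • (((h'⁻¹).1.map (frobQ hF))ᵀ *
          ((P.1.map ι)ᵀ * (h.1.map (frobQ hF))ᵀ) * (h.1 * P.1.map ι * (h'⁻¹).1))) * h'.1 := by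
          rw [mul_smul_comm, smul_mul]
          congr 1
          simp only [← Matrix.mul_assoc]
          rw [← transpose_mul ((h'⁻¹).1.map (frobQ hF)) (h'.1.map (frobQ hF)), ← mapτ_mul, Units.inv_mul, mapτ_one,
            transpose_one, Matrix.one_mul]
          simp only [Matrix.mul_assoc]
          rw [Units.inv_mul, Matrix.mul_one]
      _ = _ := by rw [hGU, Matrix.mul_one]
  rw [hB, hB', mul_smul_comm, smul_mul, smul_smul, ← transpose_map, ← Matrix.map_mul, ← Matrix.map_mul] at h3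
  obtain ⟨i, j, hij⟩ : ∃ i j, B' i j ≠ 0 := by
    by_contra hc
    push Not at hc
    exact hu'.ne_zero (Matrix.ext hc)
  have h4 : frobQ hF (u : F) * u * w * ι ((P.1ᵀ * B * P.1) i j) = w' * ι (B' i j) := congrFun (congrFun h3 i) j
  have hc0 : (P.1ᵀ * B * P.1) i j ≠ 0 := fun h0 => by
    rw [h0, map_zero, mul_zero] at h4
    exact mul_ne_zero hw' ((map_ne_zero ι).2 hij) h4.symm
  obtain ⟨c, hc⟩ : ∃ c : F₀ˣ, (c : F₀) = (P.1ᵀ * B * P.1) i j / B' i j :=
    ⟨Units.mk0 _ (div_ne_zero hc0 hij), rfl⟩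
  have hwc : (u : F) * frobQ hF u * w * ι c = w' := by
    have hij' : ι (B' i j) ≠ 0 := (map_ne_zero ι).2 hij
    rw [hc, map_div₀]
    field_simp
    linear_combination h4
  refine ⟨u, P, c, hk', mapι_injective (ι := ι) ?_, hwc⟩
  refine smul_right_injective _ (mul_ne_zero (mul_ne_zero hτu u.ne_zero) hw) ?_
  simp only
  rw [h3, mapι_smul, smul_smul]
  congr 1
  linear_combination -hwc

include hι in
/-- Similitudes over the fixed field give conjugators. -/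
theorem exists_conj_of [NeZero n] (hd : PSUData hF ι γ B h w) (hd' : PSUData hF ι γ' B' h' w')
    {u : Fˣ} {P : GL (Fin n) F₀} {c : F₀} (hP : P.1ᵀ * B * P.1 = c • B')
    (hwc : (u : F) * frobQ hF u * w * ι c = w') :
    ∃ k : Cfsg.GU n F q, k.1.1 = (u : F) • (h.1 * P.1.map ι * (h'⁻¹).1) ∧
      (3 ≤ n → ¬ (n = 3 ∧ q = 2) → psuInndiagHom k * γ' * (psuInndiagHom k)⁻¹ = γ) := by
  obtain ⟨hw, hB, -, e, g, hg, rfl⟩ := hd
  obtain ⟨hw', hB', -, e', g', hg', rfl⟩ := hd'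
  obtain ⟨k, hk⟩ : ∃ k : GL (Fin n) F, k.1 = (u : F) • (h.1 * P.1.map ι * (h'⁻¹).1) :=
    ⟨GeneralLinearGroup.scalar (Fin n) u * (h * GeneralLinearGroup.map ι P * h'⁻¹), by
      rw [scalar_mul_val]; rfl⟩
  have hkτ : k.1.map (frobQ hF) = frobQ hF (u : F) • (h.1.map (frobQ hF) * P.1.map ι * (h'⁻¹).1.map (frobQ hF)) := by
    rw [hk, mapτ_smul, mapτ_mul, mapτ_mul, mapι_fix hF hι]
  have hGU : k ∈ Cfsg.GU n F q := by
    rw [mem_GU_iff_frobQ hF, hkτ, hk, transpose_smul, transpose_mul, transpose_mul, smul_mul_smul_comm]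
    calc (frobQ hF (u : F) * u) • (((h'⁻¹).1.map (frobQ hF))ᵀ * ((P.1.map ι)ᵀ * (h.1.map (frobQ hF))ᵀ) *
          (h.1 * P.1.map ι * (h'⁻¹).1))
        = (frobQ hF (u : F) * u) • (((h'⁻¹).1.map (frobQ hF))ᵀ *
            ((P.1.map ι)ᵀ * ((h.1.map (frobQ hF))ᵀ * h.1) * P.1.map ι) * (h'⁻¹).1) := by
          simp only [Matrix.mul_assoc]
      _ = ((h'⁻¹).1.map (frobQ hF))ᵀ * ((h'.1.map (frobQ hF))ᵀ * h'.1) * (h'⁻¹).1 := by
          rw [hB, hB', mul_smul_comm, smul_mul, ← transpose_map (f := ⇑ι), ← Matrix.map_mul, ← Matrix.map_mul, hP,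
            mapι_smul, smul_smul, mul_smul_comm, smul_mul, mul_smul_comm, smul_mul, smul_smul]
          congr 1
          linear_combination hwc
      _ = 1 := by
          rw [← Matrix.mul_assoc, ← transpose_mul, ← mapτ_mul, Units.mul_inv, mapτ_one, transpose_one,
            Matrix.one_mul, Units.mul_inv]
  refine ⟨⟨k, hGU⟩, hk, fun hn h32 => ?_⟩
  rw [mul_inv_eq_iff_eq_mul, psuSemiAut_eq_mul g, psuSemiAut_eq_mul g', mul_assoc (psuInndiagHom g),
    psuSemiAut_one_mul_inndiag, ← mul_assoc, ← mul_assoc, ← map_mul, ← map_mul, mul_left_inj,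
    psuInndiagHom_eq_iff hF hn h32]
  refine ⟨e' * u * (Units.map (frobQ hF : F →+* F).toMonoidHom u)⁻¹ * e⁻¹, ?_⟩
  show k.1 * g'.1.1 = _ • (g.1.1 * k.1.map (frobQ hF))
  rw [hkτ, hg, hg', hk, smul_mul_smul_comm, smul_mul_smul_comm, smul_smul]
  have e1 : h.1 * P.1.map ι * (h'⁻¹).1 * (h'.1 * (h'⁻¹).1.map (frobQ hF)) =
      h.1 * (h⁻¹).1.map (frobQ hF) * (h.1.map (frobQ hF) * P.1.map ι * (h'⁻¹).1.map (frobQ hF)) := by
    rw [Matrix.mul_assoc h.1 ((h⁻¹).1.map (frobQ hF)), ← Matrix.mul_assoc ((h⁻¹).1.map (frobQ hF)),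
      ← Matrix.mul_assoc ((h⁻¹).1.map (frobQ hF)), ← mapτ_mul, Units.inv_mul, mapτ_one, Matrix.one_mul,
      ← Matrix.mul_assoc, Matrix.mul_assoc (h.1 * P.1.map ι) ((h'⁻¹).1), Units.inv_mul, Matrix.mul_one,
      Matrix.mul_assoc h.1]
  rw [e1]
  congr 1
  simp only [Units.val_mul, Units.val_inv_eq_inv_val, Units.coe_map]
  show _ = (e' : F) * u * (frobQ hF (u : F))⁻¹ * (e : F)⁻¹ * ((e : F) * frobQ hF (u : F))
  have := (map_ne_zero (frobQ hF)).2 u.ne_zero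
  have := e.ne_zero
  field_simp

include hι in
theorem exists_norm_eq {c : F} (hc : c ≠ 0) (hfix : frobQ hF c = c) : ∃ u : Fˣ, (u : F) * frobQ hF u = c := by
  obtain ⟨u, hu0, hu⟩ := exists_mul_apply_eq (frobQ hF) (orderOf_frobQ hF) hc hfix
  exact ⟨Units.mk0 u hu0, hu⟩

include hι in
theorem conj_iff_congr [NeZero n] (hn : 3 ≤ n) (h32 : ¬ (n = 3 ∧ q = 2)) (hu' : IsUnit B')
    (hd : PSUData hF ι γ B h w) (hd' : PSUData hF ι γ' B' h' w') :
    Cfsg.IsConjUnder (Cfsg.inndiagPSU n F q) γ' γ ↔ FormCongr B B' := by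
  rw [inndiagPSU_eq_range]
  constructor
  · rintro ⟨_, ⟨k, rfl⟩, hk⟩
    obtain ⟨u, P, c, -, hP, -⟩ := exists_of_conj hF hι hn h32 hu' hd hd' hk.symm
    exact ⟨P, c, hP⟩
  · rintro ⟨P, c, hP⟩
    obtain ⟨hw, -, hs, -⟩ := id hd
    obtain ⟨hw', -, hs', -⟩ := id hd'
    have hιc : ι (c : F₀) ≠ 0 := (map_ne_zero ι).2 c.ne_zero
    have hfix : frobQ hF (w' / (w * ι c)) = w' / (w * ι c) := by
      have h1 := congrArg (fun M => (P.1.map ι)ᵀ * M * P.1.map ι) hs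
      simp only [mul_smul_comm, smul_mul] at h1
      rw [← transpose_map, ← Matrix.map_mul, ← Matrix.map_mul, ← Matrix.map_mul, ← Matrix.map_mul,
        show P.1ᵀ * Bᵀ * P.1 = (P.1ᵀ * B * P.1)ᵀ by
          rw [transpose_mul, transpose_mul, transpose_transpose, Matrix.mul_assoc], hP, transpose_smul,
        mapι_smul, mapι_smul, smul_smul, smul_smul] at h1
      obtain ⟨i, j, hij⟩ : ∃ i j, B' i j ≠ 0 := by
        by_contra hc
        push Not at hc
        exact hu'.ne_zero (Matrix.ext hc)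
      have e1 : frobQ hF w * ι c * ι (B' j i) = w * ι c * ι (B' i j) := congrFun (congrFun h1 i) j
      have e2 : frobQ hF w' * ι (B' j i) = w' * ι (B' i j) := congrFun (congrFun hs' i) j
      have hfw : frobQ hF w ≠ 0 := (map_ne_zero _).2 hw
      have e3 : frobQ hF w' * w = w' * frobQ hF w := by
        refine mul_right_cancel₀ (mul_ne_zero hιc ((map_ne_zero ι).2 hij)) ?_
        linear_combination (-(frobQ hF w')) * e1 + frobQ hF w * ι c * e2
      rw [map_div₀, map_mul, (hι _).2 ⟨_, rfl⟩]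
      field_simp
      linear_combination e3
    obtain ⟨u, hu⟩ := exists_norm_eq hF hι (div_ne_zero hw' (mul_ne_zero hw hιc)) hfix
    obtain ⟨k, -, hk⟩ := exists_conj_of hF hι hd hd' (u := u) hP (by
      rw [hu]; field_simp)
    exact ⟨_, ⟨k, rfl⟩, (hk hn h32).symm⟩

end Conj

end CfsgLib.Classical.GraphForm
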