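import Mathlib
import Cfsg.Agent.Lib.Classical.GraphPSU
import Cfsg.Agent.Lib.Classical.GraphFormClass
import Cfsg.Agent.Lib.KnownC.AutPSLUnitary

/-!
Involutory graph automorphisms of `PSU_n(q)`: existence, centralisers and splitting.
-/

set_option autoImplicit false
set_option linter.unusedSectionVars false

namespace CfsgLib.Classical.GraphForm

open Matrix CfsgLib.KnownC CfsgLib.Geom

variable {n q : ℕ} {F : Type*} [Field F] [Fintype F] (hF : Fintype.card F = q ^ 2)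
variable {F₀ : Type*} [Field F₀] [Fintype F₀]
variable {ι : F₀ →+* F} (hι : ∀ x, frobQ hF x = x ↔ ∃ a, ι a = x)

include hF in
theorem exists_fixed_field (h₀ : Fintype.card F₀ = q) :
    ∃ ι : F₀ →+* F, ∀ x, frobQ hF x = x ↔ ∃ a, ι a = x := by
  obtain ⟨p, _⟩ := CharP.exists F₀
  obtain ⟨f, hp, hf⟩ := FiniteField.card F₀ p
  haveI : Fact p.Prime := ⟨hp⟩
  have hFf : Fintype.card F = p ^ (2 * (f : ℕ)) := by rw [hF, ← h₀, hf, ← pow_mul, mul_comm]
  obtain ⟨-, -, h⟩ := exists_fixed_embedding (frobQ hF) hFf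
  exact h F₀ (by rw [orderOf_frobQ, Nat.mul_div_cancel_left _ two_pos, hf])

theorem eq_frobQ {σ : F ≃+* F} (hσ : orderOf σ = 2) : σ = frobQ hF := by
  obtain ⟨p, _⟩ := CharP.exists F
  obtain ⟨f, hp, hf⟩ := FiniteField.card F p
  haveI : Fact p.Prime := ⟨hp⟩
  exact RingEquiv.ext fun x => by
    rw [(apply_of_orderOf_two hf σ hσ).2 x, (apply_of_orderOf_two hf _ (orderOf_frobQ hF)).2 x]

include hι in
/-- Every involutory graph automorphism comes from a form over the fixed field. -/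
theorem exists_data [NeZero n] (hn : 3 ≤ n) (h32 : ¬ (n = 3 ∧ q = 2)) {γ : MulAut (Cfsg.PSU n F q)}
    (hγ : Cfsg.IsGraphAutClassPSU γ) (hγ2 : orderOf γ = 2) :
    ∃ (B : Matrix (Fin n) (Fin n) F₀) (h : GL (Fin n) F) (w : F),
      IsForm B ∧ IsUnit B ∧ PSUData hF ι γ B h w := by
  obtain ⟨-, δ, φ, σ, hσ, hδ, hφ, hγe⟩ := hγ
  obtain ⟨g, hg⟩ := (isInnerDiagonalAutPSU_iff δ).1 hδ
  have hγg : γ = psuSemiAut g σ := by
    rw [hγe, (isFieldAutPSUOf_iff σ φ).1 hφ, hg, psuSemiAut_eq_mul g σ]; rfl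
  have hsq : γ ^ 2 = 1 := hγ2 ▸ pow_orderOf_eq_one γ
  rw [hγg, sq, psuSemiAut_mul, psuSemiAut_eq_one_iff hF hn h32] at hsq
  obtain ⟨hσ2, c, hc⟩ := hsq
  have hσo : orderOf σ = 2 := by
    refine orderOf_eq_prime (by rw [sq]; exact hσ2) fun h1 => ?_
    rw [h1, orderOf_one] at hσ
    simp at hσ
  obtain rfl := eq_frobQ hF hσo
  have hc' : g.1.1 * g.1.1.map (frobQ hF) = (c : F) • 1 := hc
  have hGU := (mem_GU_iff_frobQ hF g.1).1 g.2
  have hτg : IsUnit (g.1.1.map (frobQ hF))ᵀ := IsUnit.of_mul_eq_one _ hGU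
  obtain ⟨i₀⟩ : Nonempty (Fin n) := ⟨⟨0, by omega⟩⟩
  have hgT : g.1.1ᵀ = (c : F) • g.1.1 := by
    refine hτg.mul_left_cancel ?_
    rw [← transpose_mul, hc', mul_smul_comm, hGU, transpose_smul, transpose_one]
  have hcc : (c : F) * c = 1 := by
    obtain ⟨i, j, hij⟩ := ne_zero_GL g.1
    have h1 := congrArg Matrix.transpose hgT
    rw [transpose_transpose, transpose_smul, hgT, smul_smul] at h1
    refine mul_right_cancel₀ hij ?_
    rw [one_mul]
    exact (congrFun (congrFun h1 i) j).symm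
  have hcfix : frobQ hF (c : F) = c := by
    rcases mul_self_eq_one_iff.1 hcc with e | e <;> rw [e] <;> simp
  obtain ⟨e, he⟩ := exists_norm_eq hF hι (c := (c : F)⁻¹) (inv_ne_zero c.ne_zero) (by rw [map_inv₀, hcfix])
  obtain ⟨g', hg'⟩ : ∃ g' : GL (Fin n) F, g'.1 = (e : F) • g.1.1 :=
    ⟨GeneralLinearGroup.scalar (Fin n) e * g.1, by rw [scalar_mul_val]⟩
  obtain ⟨h, hh⟩ := exists_descent (frobQ hF) g' (by
    rw [orderOf_frobQ, normProd_succ, normProd_succ, normProd_zero, map_one, mul_one]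
    refine Units.ext ?_
    show g'.1 * g'.1.map (frobQ hF) = 1
    rw [hg', mapτ_smul, smul_mul_smul_comm, hc', smul_smul, he, inv_mul_cancel₀ c.ne_zero, one_smul])
  have hgh : g'.1 * h.1.map (frobQ hF) = h.1 := congrArg Units.val hh
  obtain ⟨M, hM⟩ : ∃ M, M = (h.1.map (frobQ hF))ᵀ * h.1 := ⟨_, rfl⟩
  have hMT : Mᵀ = (c : F) • M := by
    calc Mᵀ = (g'.1 * h.1.map (frobQ hF))ᵀ * h.1.map (frobQ hF) := by
          rw [hgh, hM, transpose_mul, transpose_transpose]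
      _ = (c : F) • ((h.1.map (frobQ hF))ᵀ * (g'.1 * h.1.map (frobQ hF))) := by
          rw [hg', transpose_mul, transpose_smul, hgT]
          simp only [smul_mul, mul_smul_comm, smul_smul, Matrix.mul_assoc]
          congr 1
          ring
      _ = _ := by rw [hgh, hM]
  have hMτ : M.map (frobQ hF) = (c : F) • M := by
    rw [← hMT, hM, mapτ_mul, transpose_mul, transpose_transpose, ← transpose_map, mapτ_mapτ]
  obtain ⟨u, hu⟩ : c ∈ (unitTwist (frobQ hF)).range := by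
    rw [← unitNorm_ker, MonoidHom.mem_ker]
    exact Units.ext (by rw [unitNorm_two _ (orderOf_frobQ hF), hcfix, hcc, Units.val_one])
  have hcu : (u : F) = c * frobQ hF u := by
    rw [← hu, coe_unitTwist, div_mul_cancel₀ _ ((map_ne_zero _).2 u.ne_zero)]
  obtain ⟨B, hB⟩ := exists_mapι hF hι (A := (u : F) • M) (by
    rw [mapτ_smul, hMτ, smul_smul, mul_comm, ← hcu])
  have hMu : IsUnit M := by
    rw [hM]
    refine IsUnit.mul ?_ h.isUnit
    rw [isUnit_iff_isUnit_det, det_transpose, ← isUnit_iff_isUnit_det]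
    exact (GeneralLinearGroup.map (frobQ hF : F →+* F) h).isUnit
  have hBT : Bᵀ.map ι = (c : F) • B.map ι := by rw [transpose_map, hB, transpose_smul, hMT, smul_comm]
  refine ⟨B, h, (u : F)⁻¹, ?_, ?_, inv_ne_zero u.ne_zero, ?_, ?_, e⁻¹ * 1, g, ?_, hγg⟩
  · rcases mul_self_eq_one_iff.1 hcc with e1 | e1
    · exact Or.inl (mapι_injective (ι := ι) (show Bᵀ.map ι = B.map ι by rw [hBT, e1, one_smul]))
    · refine Or.inr (mapι_injective (ι := ι) ?_)
      show Bᵀ.map ι = (-B).map ι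
      rw [hBT, e1, neg_one_smul, Matrix.map_neg _ (map_neg ι)]
  · rw [isUnit_iff_isUnit_det, isUnit_iff_ne_zero]
    intro h0
    have h1 : (B.map ι).det = 0 := by rw [show (B.map ι).det = ι B.det from (RingHom.map_det ι B).symm, h0, map_zero]
    rw [hB, det_smul] at h1
    exact mul_ne_zero (pow_ne_zero _ u.ne_zero) ((isUnit_iff_isUnit_det _).1 hMu).ne_zero h1
  · rw [← hM, hB, smul_smul, inv_mul_cancel₀ u.ne_zero, one_smul]
  · rw [hBT, smul_smul, map_inv₀]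
    congr 1
    have := (map_ne_zero (frobQ hF)).2 u.ne_zero
    have := u.ne_zero
    field_simp
    linear_combination hcu * c + (frobQ hF (u : F)) * hcc
  · rw [mul_one]
    have h1 : g'.1 * h.1.map (frobQ hF) * (h⁻¹).1.map (frobQ hF) = h.1 * (h⁻¹).1.map (frobQ hF) := by rw [hgh]
    rw [Matrix.mul_assoc, ← mapτ_mul, Units.mul_inv, mapτ_one, Matrix.mul_one] at h1
    rw [← h1, hg', smul_smul, Units.inv_mul, one_smul]

include hι in
/-- Every form gives an involutory graph automorphism. -/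
theorem exists_graph [NeZero n] (hn : 3 ≤ n) (h32 : ¬ (n = 3 ∧ q = 2)) {B : Matrix (Fin n) (Fin n) F₀}
    (hB : IsForm B) (hu : IsUnit B) :
    ∃ (γ : MulAut (Cfsg.PSU n F q)) (h : GL (Fin n) F) (w : F),
      Cfsg.IsGraphAutClassPSU γ ∧ orderOf γ = 2 ∧ PSUData hF ι γ B h w := by
  obtain ⟨s, hs2, hs⟩ : ∃ s : F₀ˣ, (s : F₀) * s = 1 ∧ Bᵀ = (s : F₀) • B := by
    rcases hB with e | e
    · exact ⟨1, by simp, by simp [e]⟩
    · exact ⟨-1, by simp, by simp [e]⟩
  obtain ⟨t, ht⟩ : ∃ t : Fˣ, t = Units.map ι.toMonoidHom s := ⟨_, rfl⟩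
  have htv : (t : F) = ι s := by rw [ht]; rfl
  have htfix : frobQ hF (t : F) = t := (hι _).2 ⟨_, htv.symm⟩
  have htt : (t : F) * t = 1 := by rw [htv, ← map_mul, hs2, map_one]
  obtain ⟨w, hw⟩ : t ∈ (unitTwist (frobQ hF)).range := by
    rw [← unitNorm_ker, MonoidHom.mem_ker]
    exact Units.ext (by rw [unitNorm_two _ (orderOf_frobQ hF), htfix, htt, Units.val_one])
  have hwt : (w : F) = t * frobQ hF w := by
    rw [← hw, coe_unitTwist, div_mul_cancel₀ _ ((map_ne_zero _).2 w.ne_zero)]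
  have hherm : frobQ hF (w : F) • Bᵀ.map ι = (w : F) • B.map ι := by
    rw [hs, mapι_smul, smul_smul, ← htv, mul_comm, ← hwt]
  have hMu : ((w : F) • B.map ι).det ≠ 0 := by
    rw [det_smul, show (B.map ι).det = ι B.det from (RingHom.map_det ι B).symm]
    exact mul_ne_zero (pow_ne_zero _ w.ne_zero) ((map_ne_zero ι).2 ((isUnit_iff_isUnit_det _).1 hu).ne_zero)
  obtain ⟨M, hMv⟩ : ∃ M : GL (Fin n) F, M.1 = (w : F) • B.map ι := ⟨GeneralLinearGroup.mkOfDetNeZero _ hMu, rfl⟩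
  obtain ⟨A, hA⟩ := exists_congr_one (frobQ hF) (orderOf_frobQ hF) M (by
    rw [hMv, mapτ_smul, mapι_fix hF hι, transpose_smul, ← transpose_map]
    exact hherm)
  obtain ⟨h, hh⟩ : ∃ h : GL (Fin n) F, h.1 = (A.1.map (frobQ hF))ᵀ := by
    refine ⟨GeneralLinearGroup.mkOfDetNeZero ((A.1.map (frobQ hF))ᵀ) ?_, rfl⟩
    rw [det_transpose]
    exact ((isUnit_iff_isUnit_det _).1 (GeneralLinearGroup.map (frobQ hF : F →+* F) A).isUnit).ne_zero
  have hMh : (h.1.map (frobQ hF))ᵀ * h.1 = (w : F) • B.map ι := by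
    rw [hh, ← transpose_map, transpose_transpose, mapτ_mapτ, ← hMv, hA]
  have hMh' : h.1ᵀ * h.1.map (frobQ hF) = frobQ hF (w : F) • B.map ι := by
    have h1 := congrArg (fun N : Matrix (Fin n) (Fin n) F => N.map (frobQ hF)) hMh
    simp only [mapτ_mul, ← transpose_map, mapτ_mapτ, mapτ_smul, mapι_fix hF hι] at h1
    exact h1
  obtain ⟨e, he⟩ := exists_norm_eq hF hι t.ne_zero htfix
  obtain ⟨g, hg⟩ : ∃ g : GL (Fin n) F, g.1 = (e : F) • (h.1 * (h⁻¹).1.map (frobQ hF)) :=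
    ⟨GeneralLinearGroup.scalar (Fin n) e * (h * GeneralLinearGroup.map (frobQ hF : F →+* F) h⁻¹), by
      rw [scalar_mul_val]; rfl⟩
  have hgGU : g ∈ Cfsg.GU n F q := by
    rw [mem_GU_iff_frobQ hF, hg, mapτ_smul, mapτ_mul, mapτ_mapτ, transpose_smul, transpose_mul,
      smul_mul_smul_comm]
    calc (frobQ hF (e : F) * e) • (((h⁻¹).1)ᵀ * (h.1.map (frobQ hF))ᵀ * (h.1 * (h⁻¹).1.map (frobQ hF)))
        = (frobQ hF (e : F) * e) • (((h⁻¹).1)ᵀ * ((h.1.map (frobQ hF))ᵀ * h.1) * (h⁻¹).1.map (frobQ hF)) := by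
          simp only [Matrix.mul_assoc]
      _ = ((h⁻¹).1)ᵀ * (h.1ᵀ * h.1.map (frobQ hF)) * (h⁻¹).1.map (frobQ hF) := by
          rw [hMh, hMh', mul_smul_comm, smul_mul, mul_smul_comm, smul_mul, smul_smul, mul_comm (frobQ hF (e : F)), he]
          congr 1
          linear_combination (hwt) * t + frobQ hF (w : F) * htt
      _ = 1 := by
          rw [← Matrix.mul_assoc, ← transpose_mul, Units.mul_inv, transpose_one, Matrix.one_mul, ← mapτ_mul,
            Units.mul_inv, mapτ_one]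
  refine ⟨psuSemiAut ⟨g, hgGU⟩ (frobQ hF), h, w, ⟨hn, psuInndiagHom ⟨g, hgGU⟩, psuSemiAut 1 (frobQ hF), frobQ hF,
    by rw [orderOf_frobQ]; exact even_two, (isInnerDiagonalAutPSU_iff _).2 ⟨_, rfl⟩, (isFieldAutPSUOf_iff _ _).2 rfl,
    psuSemiAut_eq_mul _ _⟩, ?_, w.ne_zero, hMh, hherm, e, ⟨g, hgGU⟩, hg, rfl⟩
  refine orderOf_eq_prime ?_ fun h1 => ?_
  · rw [sq, psuSemiAut_mul, psuSemiAut_eq_one_iff hF hn h32]
    refine ⟨RingEquiv.ext (frobQ_frobQ hF), e * Units.map (frobQ hF : F →+* F).toMonoidHom e, ?_⟩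
    show g.1 * g.1.map (frobQ hF) = ((e : F) * frobQ hF (e : F)) • 1
    rw [hg, mapτ_smul, mapτ_mul, mapτ_mapτ, smul_mul_smul_comm, ← Matrix.mul_assoc, Matrix.mul_assoc h.1,
      ← mapτ_mul, Units.inv_mul, mapτ_one, Matrix.mul_one, Units.mul_inv]
  · rw [psuSemiAut_eq_one_iff hF hn h32] at h1
    have := orderOf_frobQ hF
    rw [h1.1, show (RingEquiv.refl F) = 1 from rfl, orderOf_one] at this
    omega

section Cent

variable [NeZero n] (hn : 3 ≤ n) (h32 : ¬ (n = 3 ∧ q = 2)) {γ : MulAut (Cfsg.PSU n F q)}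
variable {B : Matrix (Fin n) (Fin n) F₀} {h : GL (Fin n) F} {w : F}

include hι hn h32 in
theorem centralizer_iso (hu : IsUnit B) (hd : PSUData hF ι γ B h w) :
    Nonempty (↥(Cfsg.inndiagPSU n F q ⊓ Subgroup.centralizer {γ}) ≃* Cfsg.projQuot (formSim B)) := by
  have hw := hd.1
  have hex : ∀ x : formSim B, ∃ (k : Cfsg.GU n F q) (u : Fˣ),
      k.1.1 = (u : F) • (h.1 * x.1.1.map ι * (h⁻¹).1) ∧
      psuInndiagHom k ∈ Cfsg.inndiagPSU n F q ⊓ Subgroup.centralizer {γ} := by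
    rintro ⟨x, c, hc⟩
    obtain ⟨u, hu'⟩ := exists_norm_eq hF hι (c := (ι c)⁻¹) (inv_ne_zero ((map_ne_zero ι).2 c.ne_zero))
      (by rw [map_inv₀, (hι _).2 ⟨_, rfl⟩])
    obtain ⟨k, hk, hk'⟩ := exists_conj_of hF hι hd hd (u := u) hc (by
      rw [hu', mul_right_comm, inv_mul_cancel₀ ((map_ne_zero ι).2 c.ne_zero), one_mul])
    refine ⟨k, u, hk, by rw [inndiagPSU_eq_range]; exact ⟨k, rfl⟩, Subgroup.mem_centralizer_singleton_iff.2 ?_⟩
    exact mul_inv_eq_iff_eq_mul.1 (hk' hn h32)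
  choose f u hf hm using hex
  have hkey : ∀ (x y : formSim B), psuInndiagHom (f x) * psuInndiagHom (f y) = psuInndiagHom (f (x * y)) := by
    intro x y
    rw [← map_mul, psuInndiagHom_eq_iff hF hn h32]
    refine ⟨u x * u y * (u (x * y))⁻¹, ?_⟩
    show (f x).1.1 * (f y).1.1 = _
    rw [hf, hf, hf, smul_mul_smul_comm, smul_smul, Units.val_mul, Units.val_mul, Units.inv_mul_cancel_right,
      Subgroup.coe_mul, Units.val_mul, Matrix.map_mul]
    congr 1
    simp only [Matrix.mul_assoc]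
    rw [← Matrix.mul_assoc (h⁻¹).1 h.1, Units.inv_mul, Matrix.one_mul]
  obtain ⟨Θ, hΘ⟩ : ∃ Θ : formSim B →* ↥(Cfsg.inndiagPSU n F q ⊓ Subgroup.centralizer {γ}),
      ∀ x, (Θ x).1 = psuInndiagHom (f x) :=
    ⟨MonoidHom.mk' (fun x => ⟨_, hm x⟩) fun x y => Subtype.ext (hkey x y).symm, fun x => rfl⟩
  have hker : Θ.ker = (Cfsg.Geo.scalars (Fin n) F₀).subgroupOf (formSim B) := by
    ext x
    rw [MonoidHom.mem_ker, Subgroup.mem_subgroupOf, Cfsg.Geo.mem_scalars_iff, Subtype.ext_iff, hΘ, Subgroup.coe_one,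
      psuInndiagHom_apply, psuSemiAut_eq_one_iff hF hn h32, and_iff_right rfl, hf]
    constructor
    · rintro ⟨a, ha⟩
      have h1 := congrArg (fun N => (h⁻¹).1 * N * h.1) ha
      simp only [mul_smul_comm, smul_mul, Matrix.mul_one, Units.inv_mul, ← Matrix.mul_assoc, Matrix.one_mul] at h1
      rw [Matrix.mul_assoc, Units.inv_mul, Matrix.mul_one] at h1
      obtain ⟨i₀⟩ : Nonempty (Fin n) := ⟨⟨0, by omega⟩⟩
      have h2 := congrFun (congrFun h1 i₀) i₀
      simp only [Matrix.smul_apply, Matrix.map_apply, Matrix.one_apply_eq, smul_eq_mul, mul_one] at h2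
      have hne : x.1.1 i₀ i₀ ≠ 0 := fun h0 => a.ne_zero (by rw [← h2, h0, map_zero, mul_zero])
      refine ⟨Units.mk0 _ hne, mapι_injective (ι := ι) (smul_right_injective _ (u x).ne_zero ?_)⟩
      simp only
      rw [h1, mapι_smul, smul_smul, Units.val_mk0, h2, Matrix.map_one _ (map_zero ι) (map_one ι)]
    · rintro ⟨a, ha⟩
      refine ⟨u x * Units.map ι.toMonoidHom a, ?_⟩
      rw [ha, mapι_smul, Matrix.map_one _ (map_zero ι) (map_one ι), mul_smul_comm, Matrix.mul_one, smul_mul,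
        Units.mul_inv, smul_smul]
      rfl
  have hsurj : Function.Surjective Θ := by
    rintro ⟨y, hy⟩
    obtain ⟨k, rfl⟩ : ∃ k, psuInndiagHom k = y := by
      have := hy.1; rwa [SetLike.mem_coe, inndiagPSU_eq_range] at this
    obtain ⟨v, P, c, hk, hP, -⟩ := exists_of_conj hF hι hn h32 hu hd hd (k := k)
      (mul_inv_eq_iff_eq_mul.2 (Subgroup.mem_centralizer_singleton_iff.1 hy.2))
    refine ⟨⟨P, c, hP⟩, Subtype.ext ((hΘ _).trans ((psuInndiagHom_eq_iff hF hn h32 _ _).2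
      ⟨u ⟨P, c, hP⟩ * v⁻¹, ?_⟩))⟩
    rw [hk, hf, smul_smul, Units.val_mul, Units.inv_mul_cancel_right]
  exact ⟨((QuotientGroup.quotientMulEquivOfEq hker.symm).trans
    (QuotientGroup.quotientKerEquivOfSurjective Θ hsurj)).symm⟩

include hι hn h32 in
/-- The splitting of a class through the determinants of similitudes. -/
theorem split_count (hu : IsUnit B) (hd : PSUData hF ι γ B h w) (T : Subgroup (normOne F q))
    (hT₁ : ∀ (v : normOne F q) (u : Fˣ) (x : GL (Fin n) F₀) (c : F₀ˣ), x.1ᵀ * B * x.1 = (c : F₀) • B →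
      (u : F) * frobQ hF u * ι c = 1 → (v.1 : F) = (u : F) ^ n * ι x.1.det → v ∈ T)
    (hT₂ : ∀ v ∈ T, ∃ (u : Fˣ) (x : GL (Fin n) F₀) (c : F₀ˣ), x.1ᵀ * B * x.1 = (c : F₀) • B ∧
      (u : F) * frobQ hF u * ι c = 1 ∧ (v.1 : F) = (u : F) ^ n * ι x.1.det) :
    Cfsg.splitClassCount (Cfsg.inndiagPSU n F q) (Cfsg.Inn (Cfsg.PSU n F q)) γ =
      Nat.gcd (Nat.gcd n (q + 1)) T.index := by
  have hw := hd.1
  obtain ⟨D, hD⟩ : ∃ D : Subgroup (Cfsg.GU n F q),
      D = (Subgroup.centralizer {γ}).comap psuInndiagHom := ⟨_, rfl⟩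
  have hDmap : Cfsg.inndiagPSU n F q ⊓ Subgroup.centralizer {γ} = D.map psuInndiagHom := by
    rw [hD, Subgroup.map_comap_eq, inndiagPSU_eq_range]
  have hdet : ∀ (k : Cfsg.GU n F q) (u : Fˣ) (P : GL (Fin n) F₀),
      k.1.1 = (u : F) • (h.1 * P.1.map ι * (h⁻¹).1) → k.1.1.det = (u : F) ^ n * ι P.1.det := fun k u P hk => by
    rw [hk, det_smul, det_units_conj, Fintype.card_fin]
    congr 1
    exact (RingHom.map_det ι P.1).symm
  rw [splitClassCountPSU_eq hF hn h32 γ D hDmap]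
  congr 2
  ext v
  constructor
  · rintro ⟨k, hk, rfl⟩
    have hk' : psuInndiagHom k ∈ Subgroup.centralizer {γ} := by rw [hD] at hk; exact hk
    obtain ⟨u, P, c, hkv, hP, hwc⟩ := exists_of_conj hF hι hn h32 hu hd hd (k := k)
      (mul_inv_eq_iff_eq_mul.2 (Subgroup.mem_centralizer_singleton_iff.1 hk'))
    refine hT₁ _ u P c hP (mul_right_cancel₀ hw ?_) (hdet k u P hkv)
    linear_combination hwc
  · intro hv
    obtain ⟨u, x, c, hx, hN, hvd⟩ := hT₂ v hv
    obtain ⟨k, hk, hk'⟩ := exists_conj_of hF hι hd hd (u := u) hx (by linear_combination w * hN)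
    refine ⟨k, ?_, Subtype.ext (Units.ext ((hdet k u x hk).trans hvd.symm))⟩
    rw [hD]
    exact Subgroup.mem_centralizer_singleton_iff.2 (mul_inv_eq_iff_eq_mul.1 (hk' hn h32))

end Cent

end CfsgLib.Classical.GraphForm
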