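import Cfsg.Agent.Lib.Classical.SLMinDegCount

/-!
# Tools for the induction on the minimal degree of `SL_n(q)`
-/

set_option autoImplicit false

namespace CfsgLib.Classical.SLMinDeg

open Module Matrix CfsgLib.MaxSub
open scoped MatrixGroups

theorem finrank_eq_sum_eigDim {G : Type*} [Group G] {X : Type*} [AddCommGroup X] [Fintype X]
    {V : Type*} [AddCommGroup V] [Module ℂ V] [FiniteDimensional ℂ V] (ρ : Representation ℂ G V)
    (r : AddChar X G) : finrank ℂ V = ∑ χ : AddChar X ℂ, eigDim ρ r χ := by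
  have h : (finrank ℂ V : ℂ) = ∑ χ : AddChar X ℂ, (eigDim ρ r χ : ℂ) := by
    rw [← LinearMap.trace_one (R := ℂ) (M := V), ← sum_proj ρ r, map_sum]
    exact Finset.sum_congr rfl fun χ _ => (isProj_proj ρ r χ).trace
  exact_mod_cast h

/-- The stabiliser of a vector. -/
def fixSub {G : Type*} [Group G] {V : Type*} [AddCommGroup V] [Module ℂ V]
    (ρ : Representation ℂ G V) (v : V) : Subgroup G where
  carrier := {g | ρ g v = v}
  mul_mem' := fun {a b} (ha : ρ a v = v) (hb : ρ b v = v) => by
    change ρ (a * b) v = v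
    rw [map_mul, Module.End.mul_apply, hb, ha]
  one_mem' := by simp
  inv_mem' := fun {a} (ha : ρ a v = v) => by
    change ρ a⁻¹ v = v
    nth_rw 1 [← ha]
    rw [← Module.End.mul_apply, ← map_mul, inv_mul_cancel, map_one, Module.End.one_apply]

theorem mem_fixSub {G : Type*} [Group G] {V : Type*} [AddCommGroup V] [Module ℂ V]
    {ρ : Representation ℂ G V} {v : V} {g : G} : g ∈ fixSub ρ v ↔ ρ g v = v := Iff.rfl

variable {F : Type*} [Field F]

theorem tt_add {n : ℕ} (i j : Fin n) (a b : F) : tt i j a * tt i j b = tt i j (a + b) := by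
  by_cases h : i = j
  · subst h; simp [tt]
  apply Subtype.ext
  change (tt i j a).1 * (tt i j b).1 = _
  rw [coe_tt' h, coe_tt' h, coe_tt' h, Matrix.transvection_mul_transvection_same i j h]

theorem vecMul_tt_zero {k : ℕ} (x : Fin (k + 1) → F) (i j : Fin (k + 1)) (hij : i ≠ j) (hj : j ≠ 0)
    (c : F) : (x ᵥ* (tt i j c).1) 0 = x 0 := by
  rw [coe_tt hij, vecMul_tvMat, Pi.add_apply, Pi.smul_apply, Pi.single_eq_of_ne hj.symm, smul_zero,
    add_zero]

variable {m : ℕ} {V : Type*} [AddCommGroup V] [Module ℂ V]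
  {ρ : Representation ℂ (SpecialLinearGroup (Fin (m + 1)) F) V}

/-- An element normalising the row group and fixing `χ` preserves the eigenspace of `χ`. -/
theorem eigen_preserved {χ : AddChar (Fin m → F) ℂ} {h : SpecialLinearGroup (Fin (m + 1)) F}
    (hh : ∀ x, ∃ x', row x * h = h * row x' ∧ χ x' = χ x) {v : V} (hv : v ∈ eigen ρ row χ) :
    ρ h v ∈ eigen ρ row χ := fun x => by
  obtain ⟨x', e1, e2⟩ := hh x
  rw [← Module.End.mul_apply, ← map_mul, e1, map_mul, Module.End.mul_apply, hv x', map_smul, e2]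

theorem eigen_one_emb {v : V} (hv : v ∈ eigen ρ row 1) (g : SpecialLinearGroup (Fin m) F) :
    ρ (emb g) v ∈ eigen ρ row 1 :=
  eigen_preserved (fun x => ⟨_, row_mul_emb x g, by simp⟩) hv

/-- Diagonal elements normalise the row group. -/
theorem row_mul_dG {d : Fin (m + 1) → F} (hd : ∏ i, d i = 1) (x : Fin m → F) :
    row x * dG d hd = dG d hd * row (fun l => x l * d l.succ / d 0) := by
  apply Subtype.ext
  change (row x).1 * Matrix.diagonal d = Matrix.diagonal d * (row _).1
  have h0 : d 0 ≠ 0 := fun e => one_ne_zero (α := F) <| by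
    rw [← hd]; exact Finset.prod_eq_zero (Finset.mem_univ 0) e
  ext a b
  refine Fin.cases ?_ (fun a' => ?_) a <;> refine Fin.cases ?_ (fun b' => ?_) b <;>
    simp [coe_row, tvMat, vecMulVec_apply, Matrix.mul_diagonal, Matrix.diagonal_mul,
      Matrix.one_apply, Fin.succ_inj, (Fin.succ_ne_zero _).symm]
  · field_simp
  · grind

/-- A vector is fixed by the twisted row group iff it is fixed by the last column group. -/
theorem mem_twist_iff {v : V} :
    v ∈ eigen (ρ.comp theta : Representation ℂ _ V) row 1 ↔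
      ∀ i c, i ≠ Fin.last m → ρ (tt i (Fin.last m) c) v = v := by
  rw [mem_eigen_one]
  constructor
  · intro h i c hi
    obtain ⟨j, hj⟩ := Fin.exists_succ_eq.2 (show i.rev ≠ 0 from fun e => hi (by
      rw [← Fin.rev_rev i, e, Fin.rev_zero]))
    have := h (Pi.single j (-c))
    change ρ (theta (row (Pi.single j (-c)))) v = v at this
    rwa [row_single, theta_tt, hj, Fin.rev_rev, Fin.rev_zero, neg_neg] at this
  · intro h x
    refine row_mem_of_single (fixSub (ρ.comp theta : Representation ℂ _ V) v) (fun j c => ?_) x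
    change ρ (theta (tt 0 j.succ c)) v = v
    rw [theta_tt, Fin.rev_zero]
    exact h _ _ fun e => Fin.succ_ne_zero j (Fin.rev_inj.1 (e.trans (Fin.rev_zero m).symm))

/-- A vector fixed by the upper unitriangular group. -/
def UFixed {n : ℕ} (ρ : Representation ℂ (SpecialLinearGroup (Fin n) F) V) (v : V) : Prop :=
  ∀ i j, i < j → ∀ c, ρ (tt i j c) v = v

/-- A vector fixed by the stabiliser of a vector. -/
def GensFixed {n : ℕ} [NeZero n] (ρ : Representation ℂ (SpecialLinearGroup (Fin n) F) V) (v : V) :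
    Prop :=
  ∀ i j, i ≠ j → j ≠ 0 → ∀ c, ρ (tt i j c) v = v

theorem GensFixed.uFixed {v : V} (h : GensFixed ρ v) : UFixed ρ v := fun i j hij c =>
  h i j hij.ne (fun e => by simp [e] at hij) c

/-- The exceptional degrees. -/
def Small (q m D : ℕ) : Prop :=
  (q = 2 ∧ m = 2 ∧ (D = 3 ∨ D = 4)) ∨ (q = 4 ∧ m = 2 ∧ (D = 15 ∨ D = 18)) ∨
    (q = 2 ∧ m = 3 ∧ (D = 7 ∨ D = 10)) ∨ (q = 3 ∧ m = 3 ∧ D = 26)

variable [Fintype F]

theorem card_tvs_eq (m : ℕ) : (tvs (F := F) (m + 1)).card =
    (bigT (Fintype.card F) m + 1) * (Fintype.card F ^ m - 1) := by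
  have hq : 2 ≤ Fintype.card F := Fintype.one_lt_card
  have e : Fintype.card F ^ (m + 1) - 1 =
      (bigT (Fintype.card F) m + 1) * (Fintype.card F - 1) := by
    have h1 : bigT (Fintype.card F) m * (Fintype.card F - 1) + Fintype.card F
        = Fintype.card F ^ (m + 1) := by
      generalize Fintype.card F = q at hq
      induction m with
      | zero => simp [bigT]
      | succ l ih =>
        have e : q ^ (l + 1 + 1) = q ^ (l + 1) * (q - 1) + q ^ (l + 1) := by
          rw [pow_succ _ (l + 1), ← mul_add_one, show q - 1 + 1 = q by omega]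
        rw [bigT_succ, add_mul, e]; omega
    rw [add_one_mul]; omega
  have h := card_tvs (F := F) m
  rw [e, mul_right_comm] at h
  exact Nat.eq_of_mul_eq_mul_right (by omega) h

variable [FiniteDimensional ℂ V]

/-- The degree is never one less than `q + ⋯ + qᵐ`. -/
theorem Good.ne_pred (hρ : Good ρ) (hm : 2 ≤ m) :
    finrank ℂ V + 1 ≠ bigT (Fintype.card F) m := by
  intro hD
  have hq : 2 ≤ Fintype.card F := Fintype.one_lt_card
  obtain ⟨h1, -⟩ := hρ.dim hm
  have hlt : Fintype.card F ^ m + 1 < bigT (Fintype.card F) m := by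
    obtain ⟨l, rfl⟩ := Nat.exists_eq_add_of_le hm
    rw [show 2 + l = l + 1 + 1 by omega, bigT_succ (Fintype.card F) (l + 1), bigT_succ _ l]
    have : 2 ≤ Fintype.card F ^ (l + 1) := hq.trans (Nat.le_self_pow (by omega) _)
    omega
  have hup := bigT_add_two_le hq m
  have hco : (finrank ℂ V).Coprime (Fintype.card F ^ m) := by
    refine Nat.Coprime.pow_right _ ?_
    have hdvd : Fintype.card F ∣ bigT (Fintype.card F) m :=
      Finset.dvd_sum fun i _ => dvd_pow_self _ (by omega)
    rw [← hD] at hdvd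
    exact Nat.Coprime.of_dvd_right hdvd (Nat.coprime_self_add_right.2 (Nat.coprime_one_right _))
  have hS : finrank ℂ V ∣ (tvs (F := F) (m + 1)).card := by
    refine hco.dvd_of_dvd_mul_right ?_
    have h := hρ.dvd hm
    have e : (eigDim ρ row 1 : ℤ) - 1 = (finrank ℂ V : ℤ) - (Fintype.card F : ℤ) ^ m := by
      rw [h1, Nat.cast_add, Nat.cast_sub (Nat.one_le_pow _ _ (by omega)), Nat.cast_pow,
        Nat.cast_one]
      ring
    rw [e, mul_sub] at h
    have h' := (dvd_sub_right (dvd_mul_left (finrank ℂ V : ℤ) _)).1 h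
    exact_mod_cast h'
  rw [card_tvs_eq, ← hD, show finrank ℂ V + 1 + 1 = finrank ℂ V + 2 by omega, add_mul] at hS
  have h2 := (Nat.dvd_add_right (Nat.dvd_mul_right _ _)).1 hS
  obtain ⟨c, hc⟩ := h2
  have hc1 : c < 2 := by
    by_contra hc2
    have : finrank ℂ V * 2 ≤ finrank ℂ V * c := Nat.mul_le_mul_left _ (by omega)
    omega
  interval_cases c <;> omega

end CfsgLib.Classical.SLMinDeg
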