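import Cfsg.Agent.Lib.Classical.UnitaryGen

/-!
# Elements of `SU_n(q)` attached to a totally isotropic basis and a dual one
-/

set_option autoImplicit false

namespace CfsgLib.Classical.UMinDeg

open Matrix

variable {F : Type*} [Field F]

/-- The conjugate transpose. -/
def ct (σ : F →+* F) {m n : Type*} (M : Matrix m n F) : Matrix n m F := (M.map σ)ᵀ

variable {σ : F →+* F} {n m : ℕ}

theorem ct_mul {a b c : Type*} [Fintype b] (M : Matrix a b F) (N : Matrix b c F) :
    ct σ (M * N) = ct σ N * ct σ M := by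
  rw [ct, Matrix.map_mul, Matrix.transpose_mul, ct, ct]

theorem ct_add {a b : Type*} (M N : Matrix a b F) : ct σ (M + N) = ct σ M + ct σ N := by
  ext i j; simp [ct]

theorem ct_sub {a b : Type*} (M N : Matrix a b F) : ct σ (M - N) = ct σ M - ct σ N := by
  ext i j; simp [ct]

theorem ct_neg {a b : Type*} (M : Matrix a b F) : ct σ (-M) = -ct σ M := by
  ext i j; simp [ct]

theorem ct_one {a : Type*} [DecidableEq a] : ct σ (1 : Matrix a a F) = 1 := by
  ext i j; simp [ct, Matrix.one_apply, eq_comm]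

theorem ct_zero {a b : Type*} : ct σ (0 : Matrix a b F) = 0 := by
  ext i j; simp [ct]

theorem ct_smul {a b : Type*} (c : F) (M : Matrix a b F) : ct σ (c • M) = σ c • ct σ M := by
  ext i j; simp [ct]

theorem ct_ct (hσ : ∀ x, σ (σ x) = x) {a b : Type*} (M : Matrix a b F) : ct σ (ct σ M) = M := by
  ext i j; simp [ct, hσ]

theorem ct_vecMulVec (hσ : ∀ x, σ (σ x) = x) {a b : Type*} (x : a → F) (y : b → F) :
    ct σ (vecMulVec x (fun i => σ (y i))) = vecMulVec y (fun i => σ (x i)) := by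
  ext i j; simp [ct, vecMulVec_apply, hσ, mul_comm]

theorem det_ct {a : Type*} [Fintype a] [DecidableEq a] (M : Matrix a a F) :
    (ct σ M).det = σ M.det := by
  rw [ct, Matrix.det_transpose, RingHom.map_det]; rfl

/-- An element of `SU` from a unitary matrix of determinant one. -/
def mkSU {q : ℕ} (hσq : ∀ x, σ x = x ^ q) (g : Matrix (Fin n) (Fin n) F) (hdet : g.det = 1)
    (h : ct σ g * g = 1) : Cfsg.SU n F q :=
  ⟨⟨g, hdet⟩, fun u v => by
    change Cfsg.hermForm n F q (g *ᵥ u) (g *ᵥ v) = Cfsg.hermForm n F q u v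
    have e : ∀ a b : Fin n → F, Cfsg.hermForm n F q a b = a ⬝ᵥ fun i => σ (b i) := fun a b => by
      simp [Cfsg.hermForm, dotProduct, hσq]
    have h' : gᵀ * g.map σ = 1 := by
      have := congrArg Matrix.transpose h
      rwa [ct, Matrix.transpose_mul, Matrix.transpose_transpose, Matrix.transpose_one] at this
    rw [e, e, show (fun i => σ ((g *ᵥ v) i)) = g.map σ *ᵥ fun i => σ (v i) from
      funext fun i => RingHom.map_mulVec σ g v i, Matrix.dotProduct_mulVec,
      Matrix.vecMul_mulVec, h', Matrix.vecMul_one]⟩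

theorem coe_mkSU {q : ℕ} (hσq : ∀ x, σ x = x ^ q) (g : Matrix (Fin n) (Fin n) F) (hdet : g.det = 1)
    (h : ct σ g * g = 1) :
    ((mkSU hσq g hdet h : Matrix.SpecialLinearGroup (Fin n) F) : Matrix (Fin n) (Fin n) F) = g := rfl

theorem su_ext {q : ℕ} {a b : Cfsg.SU n F q}
    (h : ((a : Matrix.SpecialLinearGroup (Fin n) F) : Matrix (Fin n) (Fin n) F) =
      ((b : Matrix.SpecialLinearGroup (Fin n) F) : Matrix (Fin n) (Fin n) F)) : a = b :=
  Subtype.ext (Subtype.ext h)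

/-- Two totally isotropic dual systems of `m` vectors. -/
structure Witt (σ : F →+* F) (n m : ℕ) where
  /-- the first system -/
  E : Matrix (Fin n) (Fin m) F
  /-- the second system -/
  G : Matrix (Fin n) (Fin m) F
  EE : ct σ E * E = 0
  GG : ct σ G * G = 0
  EG : ct σ E * G = 1
  GE : ct σ G * E = 1

/-- Exchange of the two systems. -/
def Witt.swap (W : Witt σ n m) : Witt σ n m := ⟨W.G, W.E, W.GG, W.EE, W.GE, W.EG⟩

variable (W : Witt σ n m)

theorem Witt.mul_EE {b : Type*} (X : Matrix (Fin m) b F) : ct σ W.E * (W.E * X) = 0 := by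
  rw [← Matrix.mul_assoc, W.EE, Matrix.zero_mul]

theorem Witt.mul_GG {b : Type*} (X : Matrix (Fin m) b F) : ct σ W.G * (W.G * X) = 0 := by
  rw [← Matrix.mul_assoc, W.GG, Matrix.zero_mul]

theorem Witt.mul_EG {b : Type*} (X : Matrix (Fin m) b F) : ct σ W.E * (W.G * X) = X := by
  rw [← Matrix.mul_assoc, W.EG, Matrix.one_mul]

theorem Witt.mul_GE {b : Type*} (X : Matrix (Fin m) b F) : ct σ W.G * (W.E * X) = X := by
  rw [← Matrix.mul_assoc, W.GE, Matrix.one_mul]

/-- The central element `1 + E M E*`. -/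
def zMat (M : Matrix (Fin m) (Fin m) F) : Matrix (Fin n) (Fin n) F := 1 + W.E * M * ct σ W.E

theorem zMat_mul (M N : Matrix (Fin m) (Fin m) F) : zMat W M * zMat W N = zMat W (M + N) := by
  simp only [zMat, Matrix.add_mul, Matrix.mul_add, Matrix.one_mul, Matrix.mul_one, Matrix.mul_assoc,
    W.mul_EE, Matrix.mul_zero, add_zero]
  abel

theorem det_zMat (M : Matrix (Fin m) (Fin m) F) : (zMat W M).det = 1 := by
  rw [zMat, Matrix.mul_assoc, Matrix.det_one_add_mul_comm, Matrix.mul_assoc, W.EE, Matrix.mul_zero,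
    add_zero, Matrix.det_one]

theorem ct_zMat_mul (hσ : ∀ x, σ (σ x) = x) {M : Matrix (Fin m) (Fin m) F} (hM : ct σ M = -M) :
    ct σ (zMat W M) * zMat W M = 1 := by
  have e : ct σ (zMat W M) = zMat W (-M) := by
    rw [zMat, ct_add, ct_one, ct_mul, ct_mul, ct_ct hσ, hM, zMat, Matrix.mul_assoc]
  rw [e, zMat_mul, neg_add_cancel, zMat, Matrix.mul_zero, Matrix.zero_mul, add_zero]

/-- The Levi element. -/
def levi (A B : Matrix (Fin m) (Fin m) F) : Matrix (Fin n) (Fin n) F :=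
  1 + W.E * (A - 1) * ct σ W.G + W.G * (B - 1) * ct σ W.E

theorem levi_mul (A B A' B' : Matrix (Fin m) (Fin m) F) :
    levi W A B * levi W A' B' = levi W (A * A') (B * B') := by
  simp only [levi, Matrix.add_mul, Matrix.mul_add, Matrix.one_mul, Matrix.mul_one, Matrix.mul_assoc,
    W.mul_EE, W.mul_GG, W.mul_EG, W.mul_GE, Matrix.mul_zero, Matrix.sub_mul, Matrix.mul_sub]
  abel

theorem levi_one : levi W 1 1 = 1 := by simp [levi]

theorem ct_levi (hσ : ∀ x, σ (σ x) = x) (A B : Matrix (Fin m) (Fin m) F) :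
    ct σ (levi W A B) = levi W (ct σ B) (ct σ A) := by
  rw [levi, ct_add, ct_add, ct_one, ct_mul, ct_mul, ct_mul, ct_mul, ct_ct hσ, ct_ct hσ, ct_sub,
    ct_sub, ct_one, levi, ← Matrix.mul_assoc, ← Matrix.mul_assoc]
  abel

theorem det_levi (A B : Matrix (Fin m) (Fin m) F) : (levi W A B).det = A.det * B.det := by
  have e : levi W A B = 1 + Matrix.fromCols W.E W.G *
      Matrix.fromRows ((A - 1) * ct σ W.G) ((B - 1) * ct σ W.E) := by
    rw [Matrix.fromCols_mul_fromRows, levi, Matrix.mul_assoc, Matrix.mul_assoc, add_assoc]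
  rw [e, Matrix.det_one_add_mul_comm, Matrix.fromRows_mul_fromCols, Matrix.mul_assoc,
    Matrix.mul_assoc, Matrix.mul_assoc, Matrix.mul_assoc, W.GE, W.GG, W.EE, W.EG, Matrix.mul_one,
    Matrix.mul_one, Matrix.mul_zero, Matrix.mul_zero, ← Matrix.fromBlocks_one,
    Matrix.fromBlocks_add, zero_add, add_sub_cancel, add_sub_cancel,
    Matrix.det_fromBlocks_zero₂₁]

theorem zMat_mul_levi {A B A' M : Matrix (Fin m) (Fin m) F} (hA : A * A' = 1) :
    zMat W M * levi W A B = levi W A B * zMat W (A' * M * B) := by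
  simp only [zMat, levi, Matrix.add_mul, Matrix.mul_add, Matrix.one_mul, Matrix.mul_one,
    Matrix.mul_assoc, W.mul_EE, W.mul_EG, W.mul_GE, Matrix.mul_zero, Matrix.sub_mul, Matrix.mul_sub]
  rw [← Matrix.mul_assoc A A', hA, Matrix.one_mul]
  abel

/-- A system `z` completing the pair. -/
structure Witt.Extra where
  /-- the extra vector -/
  z : Matrix (Fin n) (Fin 1) F
  zz : ct σ z * z = 1
  Ez : ct σ W.E * z = 0
  Gz : ct σ W.G * z = 0
  zE : ct σ z * W.E = 0
  zG : ct σ z * W.G = 0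

variable {W} (X : W.Extra)

/-- Scaling of the extra vector. -/
def scaleZ (c : F) : Matrix (Fin n) (Fin n) F :=
  1 + X.z * (c - 1) • (1 : Matrix (Fin 1) (Fin 1) F) * ct σ X.z

theorem det_scaleZ (c : F) : (scaleZ X c).det = c := by
  rw [scaleZ, Matrix.mul_assoc, Matrix.det_one_add_mul_comm, Matrix.mul_assoc, X.zz, Matrix.mul_one,
    Matrix.det_fin_one]
  simp

theorem scaleZ_mul (c d : F) : scaleZ X c * scaleZ X d = scaleZ X (c * d) := by
  have h : ∀ Y : Matrix (Fin 1) (Fin n) F, ct σ X.z * (X.z * Y) = Y := fun Y => by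
    rw [← Matrix.mul_assoc, X.zz, Matrix.one_mul]
  simp only [scaleZ, Matrix.add_mul, Matrix.mul_add, Matrix.one_mul, Matrix.mul_one, Matrix.mul_assoc,
    Matrix.smul_mul, Matrix.mul_smul, h, sub_smul, one_smul, Matrix.smul_mul, mul_smul,
    Matrix.sub_mul, Matrix.mul_sub]
  rw [smul_comm c d]
  abel

theorem ct_scaleZ (hσ : ∀ x, σ (σ x) = x) (c : F) : ct σ (scaleZ X c) = scaleZ X (σ c) := by
  rw [scaleZ, ct_add, ct_one, ct_mul, ct_mul, ct_ct hσ, ct_smul, ct_one, map_sub, map_one, scaleZ,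
    Matrix.mul_assoc]

theorem scaleZ_mul_levi (c : F) (A B : Matrix (Fin m) (Fin m) F) :
    scaleZ X c * levi W A B = levi W A B * scaleZ X c := by
  have h1 : ∀ Y : Matrix (Fin m) (Fin n) F, ct σ X.z * (W.E * Y) = 0 := fun Y => by
    rw [← Matrix.mul_assoc, X.zE, Matrix.zero_mul]
  have h2 : ∀ Y : Matrix (Fin m) (Fin n) F, ct σ X.z * (W.G * Y) = 0 := fun Y => by
    rw [← Matrix.mul_assoc, X.zG, Matrix.zero_mul]
  have h3 : ∀ Y : Matrix (Fin 1) (Fin n) F, ct σ W.E * (X.z * Y) = 0 := fun Y => by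
    rw [← Matrix.mul_assoc, X.Ez, Matrix.zero_mul]
  have h4 : ∀ Y : Matrix (Fin 1) (Fin n) F, ct σ W.G * (X.z * Y) = 0 := fun Y => by
    rw [← Matrix.mul_assoc, X.Gz, Matrix.zero_mul]
  simp only [scaleZ, levi, Matrix.add_mul, Matrix.mul_add, Matrix.one_mul, Matrix.mul_one,
    Matrix.mul_assoc, h1, h2, h3, h4, Matrix.mul_zero, add_zero]
  abel

theorem zMat_mul_scaleZ (c : F) (M : Matrix (Fin m) (Fin m) F) :
    zMat W M * scaleZ X c = scaleZ X c * zMat W M := by
  have h1 : ∀ Y : Matrix (Fin m) (Fin n) F, ct σ X.z * (W.E * Y) = 0 := fun Y => by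
    rw [← Matrix.mul_assoc, X.zE, Matrix.zero_mul]
  have h3 : ∀ Y : Matrix (Fin 1) (Fin n) F, ct σ W.E * (X.z * Y) = 0 := fun Y => by
    rw [← Matrix.mul_assoc, X.Ez, Matrix.zero_mul]
  simp only [scaleZ, zMat, Matrix.add_mul, Matrix.mul_add, Matrix.one_mul, Matrix.mul_one,
    Matrix.mul_assoc, h1, h3, Matrix.mul_zero, add_zero]
  abel

/-- The element `1 + E a z* - z a* E* + E S E*`. -/
def heis (a : Matrix (Fin m) (Fin 1) F) (S : Matrix (Fin m) (Fin m) F) :
    Matrix (Fin n) (Fin n) F :=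
  1 + W.E * a * ct σ X.z - X.z * ct σ a * ct σ W.E + W.E * S * ct σ W.E

theorem heis_mul (a b : Matrix (Fin m) (Fin 1) F) (S T : Matrix (Fin m) (Fin m) F) :
    heis X a S * heis X b T = heis X (a + b) (S + T - a * ct σ b) := by
  have h1 : ∀ Y : Matrix (Fin m) (Fin n) F, ct σ X.z * (W.E * Y) = 0 := fun Y => by
    rw [← Matrix.mul_assoc, X.zE, Matrix.zero_mul]
  have h3 : ∀ Y : Matrix (Fin 1) (Fin n) F, ct σ W.E * (X.z * Y) = 0 := fun Y => by
    rw [← Matrix.mul_assoc, X.Ez, Matrix.zero_mul]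
  have h5 : ∀ Y : Matrix (Fin 1) (Fin n) F, ct σ X.z * (X.z * Y) = Y := fun Y => by
    rw [← Matrix.mul_assoc, X.zz, Matrix.one_mul]
  simp only [heis, ct_add, Matrix.add_mul, Matrix.mul_add, Matrix.sub_mul, Matrix.mul_sub,
    Matrix.one_mul, Matrix.mul_one, Matrix.mul_assoc, h1, h3, h5, W.mul_EE, Matrix.mul_zero]
  abel

theorem det_heis (a : Matrix (Fin m) (Fin 1) F) (S : Matrix (Fin m) (Fin m) F) :
    (heis X a S).det = 1 := by
  have e : heis X a S = 1 + Matrix.fromCols W.E X.z *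
      Matrix.fromRows (a * ct σ X.z + S * ct σ W.E) (-(ct σ a * ct σ W.E)) := by
    rw [Matrix.fromCols_mul_fromRows, heis, Matrix.mul_add, Matrix.mul_neg, Matrix.mul_assoc,
      Matrix.mul_assoc, Matrix.mul_assoc]
    abel
  rw [e, Matrix.det_one_add_mul_comm, Matrix.fromRows_mul_fromCols, Matrix.add_mul, Matrix.add_mul,
    Matrix.neg_mul, Matrix.neg_mul, Matrix.mul_assoc, Matrix.mul_assoc, Matrix.mul_assoc,
    Matrix.mul_assoc, Matrix.mul_assoc, Matrix.mul_assoc, X.zE, X.zz, W.EE, X.Ez, Matrix.mul_zero,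
    Matrix.mul_zero, Matrix.mul_zero, Matrix.mul_zero, Matrix.mul_zero, Matrix.mul_one,
    ← Matrix.fromBlocks_one, Matrix.fromBlocks_add]
  simp

theorem ct_heis (hσ : ∀ x, σ (σ x) = x) (a : Matrix (Fin m) (Fin 1) F)
    (S : Matrix (Fin m) (Fin m) F) : ct σ (heis X a S) = heis X (-a) (ct σ S) := by
  rw [heis, ct_add, ct_sub, ct_add, ct_one, ct_mul, ct_mul, ct_mul, ct_mul, ct_mul, ct_mul,
    ct_ct hσ, ct_ct hσ, ct_ct hσ, heis, ct_neg, Matrix.mul_neg, Matrix.neg_mul, Matrix.mul_neg,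
    Matrix.neg_mul, ← Matrix.mul_assoc, ← Matrix.mul_assoc, ← Matrix.mul_assoc]
  abel

theorem heis_zero_zero : heis X 0 0 = 1 := by simp [heis, ct_zero]

theorem heis_zero (M : Matrix (Fin m) (Fin m) F) : heis X 0 M = zMat W M := by
  simp [heis, zMat, ct_zero]

end CfsgLib.Classical.UMinDeg
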