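import Cfsg.Agent.Lib.Classical.UMinDegOrbit
import Cfsg.Agent.Lib.Classical.UMinDegElts
import Cfsg.Agent.Lib.Classical.SLMinDegTools
import Cfsg.Agent.Lib.Classical.SemiUnitaryClasses

/-!
# Minimal degree of `SU_n(q)`
-/

set_option autoImplicit false

namespace CfsgLib.Classical.UMinDeg

open Module Matrix CfsgLib.Classical.SLMinDeg
open scoped commutatorElement

/-- A normal subgroup of a perfect group with simple central quotient that contains a non-central
element is everything. -/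
theorem eq_top_of_noncentral {G : Type*} [Group G] (hperf : commutator G = ⊤)
    (hsimp : IsSimpleGroup (G ⧸ Subgroup.center G)) (N : Subgroup G) [N.Normal] {g : G}
    (hg : g ∈ N) (hgc : g ∉ Subgroup.center G) : N = ⊤ := by
  set π := QuotientGroup.mk' (Subgroup.center G)
  have : (N.map π).Normal := Subgroup.Normal.map ‹_› π (QuotientGroup.mk'_surjective _)
  rcases hsimp.eq_bot_or_eq_top_of_normal _ this with e | e
  · exact absurd ((QuotientGroup.eq_one_iff _).1
      ((Subgroup.mem_bot).1 (e ▸ Subgroup.mem_map_of_mem π hg))) hgc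
  have hsup : N ⊔ Subgroup.center G = ⊤ := by
    rw [← QuotientGroup.ker_mk' (Subgroup.center G), ← Subgroup.comap_map_eq, e, Subgroup.comap_top]
  rw [eq_top_iff, ← hperf, commutator_def, Subgroup.commutator_le]
  intro a _ b _
  have ha : a ∈ N ⊔ Subgroup.center G := by rw [hsup]; exact Subgroup.mem_top a
  have hb : b ∈ N ⊔ Subgroup.center G := by rw [hsup]; exact Subgroup.mem_top b
  obtain ⟨a₁, ha₁, a₂, ha₂, rfl⟩ := Subgroup.mem_sup_of_normal_right.1 ha
  obtain ⟨b₁, hb₁, b₂, hb₂, rfl⟩ := Subgroup.mem_sup_of_normal_right.1 hb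
  have ha' : (↑(a₁ * a₂) : G ⧸ N) = ↑a₂ := by
    rw [QuotientGroup.mk_mul, (QuotientGroup.eq_one_iff a₁).2 ha₁, one_mul]
  have hb' : (↑(b₁ * b₂) : G ⧸ N) = ↑b₂ := by
    rw [QuotientGroup.mk_mul, (QuotientGroup.eq_one_iff b₁).2 hb₁, one_mul]
  have key : QuotientGroup.mk' N ⁅a₁ * a₂, b₁ * b₂⁆ = 1 := by
    rw [map_commutatorElement, QuotientGroup.mk'_apply, QuotientGroup.mk'_apply, ha', hb',
      commutatorElement_eq_one_iff_mul_comm, ← QuotientGroup.mk_mul, ← QuotientGroup.mk_mul,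
      Subgroup.mem_center_iff.1 hb₂ a₂]
  exact (QuotientGroup.eq_one_iff _).1 key

variable {F : Type*} [Field F] [Fintype F] {q n m : ℕ}

theorem commutator_su (hF : Fintype.card F = q ^ 2) (hn : 3 ≤ n) (h32 : ¬ (n = 3 ∧ q = 2)) :
    commutator (Cfsg.SU n F q) = ⊤ := by
  rw [eq_top_iff, ← CfsgLib.Classical.closure_transvections_eq_top hF hn h32, Subgroup.closure_le]
  rintro A ⟨v, c, hv, hA⟩
  rw [SetLike.mem_coe, commutator_eq_closure]
  exact Subgroup.subset_closure
    (CfsgLib.Classical.transvection_mem_commutatorSet hF hn h32 A hv hA)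

/-- The skew-Hermitian matrices. -/
def skew (σ : F →+* F) (m : ℕ) : AddSubgroup (Matrix (Fin m) (Fin m) F) where
  carrier := {M | ct σ M = -M}
  add_mem' := fun {a b} (ha : ct σ a = -a) (hb : ct σ b = -b) => by
    change ct σ (a + b) = -(a + b)
    rw [ct_add, ha, hb, neg_add]
  zero_mem' := by
    change ct σ (0 : Matrix (Fin m) (Fin m) F) = -0
    rw [ct_zero, neg_zero]
  neg_mem' := fun {a} (ha : ct σ a = -a) => by
    change ct σ (-a) = - -a
    rw [ct_neg, ha]

variable {σ : F →+* F}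

/-- `δ (c x y* + σ c y x*)`. -/
def crossSkew (hσ : ∀ x, σ (σ x) = x) (δ : F) (hδ : σ δ = -δ) (x y : Fin m → F) (c : F) :
    skew σ m :=
  ⟨δ • (c • vecMulVec x (fun i => σ (y i)) + σ c • vecMulVec y (fun i => σ (x i))), by
    change ct σ _ = -_
    rw [ct_smul, ct_add, ct_smul, ct_smul, hσ, ct_vecMulVec hσ, ct_vecMulVec hσ, hδ, neg_smul,
      add_comm]⟩

variable (hσ : ∀ x, σ (σ x) = x) (hσq : ∀ x, σ x = x ^ q) (W : Witt σ n m)

/-- The centre of the unipotent radical. -/
def zRad : AddChar (skew σ m) (Cfsg.SU n F q) where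
  toFun M := mkSU hσq (zMat W M.1) (det_zMat W M.1) (ct_zMat_mul W hσ M.2)
  map_zero_eq_one' := su_ext (by
    rw [coe_mkSU, zMat, ZeroMemClass.coe_zero, Matrix.mul_zero, Matrix.zero_mul, add_zero]
    rfl)
  map_add_eq_mul' M N := su_ext (zMat_mul W M.1 N.1).symm

omit [Fintype F] in
theorem coe_zRad (M : skew σ m) :
    (((zRad hσ hσq W M : Cfsg.SU n F q) : Matrix.SpecialLinearGroup (Fin n) F) :
      Matrix (Fin n) (Fin n) F) = zMat W M.1 := rfl

/-- The action of the Levi part on the centre. -/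
def actSkew (A : Matrix (Fin m) (Fin m) F) (M : skew σ m) : skew σ m :=
  ⟨A * M.1 * ct σ A, by
    change ct σ _ = -_
    rw [ct_mul, ct_mul, ct_ct hσ, show ct σ M.1 = -M.1 from M.2, Matrix.neg_mul, Matrix.mul_neg,
      Matrix.mul_assoc]⟩

omit [Fintype F] in
theorem actSkew_crossSkew (δ : F) (hδ : σ δ = -δ) (A : Matrix (Fin m) (Fin m) F)
    (x y : Fin m → F) (c : F) :
    actSkew hσ A (crossSkew hσ δ hδ x y c) = crossSkew hσ δ hδ (A *ᵥ x) (A *ᵥ y) c := by
  apply Subtype.ext
  have e : ∀ u v : Fin m → F, A * vecMulVec u (fun i => σ (v i)) * ct σ A =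
      vecMulVec (A *ᵥ u) (fun i => σ ((A *ᵥ v) i)) := fun u v => by
    rw [Matrix.mul_vecMulVec, Matrix.vecMulVec_mul, ct, Matrix.vecMul_transpose]
    congr 1
    funext i
    exact (RingHom.map_mulVec σ A v i).symm
  simp [actSkew, crossSkew, Matrix.mul_add, Matrix.add_mul, e]

omit [Fintype F] in
/-- The Levi element attached to `A`. -/
theorem exists_levi {A : Matrix (Fin m) (Fin m) F} (hA : A.det ≠ 0)
    (h : A.det = 1 ∨ Nonempty W.Extra) :
    ∃ g : Cfsg.SU n F q, ∀ M : skew σ m,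
      zRad hσ hσq W M * g = g * zRad hσ hσq W (actSkew hσ A M) := by
  have hu : IsUnit A.det := isUnit_iff_ne_zero.2 hA
  have h1 : A⁻¹ * A = 1 := Matrix.nonsing_inv_mul _ hu
  have h2 : A * A⁻¹ = 1 := Matrix.mul_nonsing_inv _ hu
  set L := levi W A⁻¹ (ct σ A) with hL
  have hct : ct σ L * L = 1 := by
    rw [hL, ct_levi W hσ, levi_mul, ct_ct hσ, h2, ← ct_mul, h2, ct_one, levi_one]
  have hdetL : L.det = σ A.det / A.det := by
    rw [hL, det_levi, det_ct, Matrix.det_nonsing_inv, Ring.inverse_eq_inv', div_eq_mul_inv, mul_comm]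
  rcases h with h | ⟨⟨X⟩⟩
  · refine ⟨mkSU hσq L (by rw [hdetL, h, map_one, div_one]) hct, fun M => su_ext ?_⟩
    change zMat W M.1 * L = L * zMat W (A * M.1 * ct σ A)
    rw [hL, zMat_mul_levi W h1]
  · set c := A.det / σ A.det with hc
    have hσA : σ A.det ≠ 0 := (map_ne_zero σ).2 hA
    have hcc : σ c * c = 1 := by
      rw [hc, map_div₀, hσ, div_mul_div_comm, mul_comm (σ A.det), div_self (mul_ne_zero hA hσA)]
    refine ⟨mkSU hσq (L * scaleZ X c) ?_ ?_, fun M => su_ext ?_⟩
    · rw [Matrix.det_mul, hdetL, det_scaleZ, hc]; field_simp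
    · rw [ct_mul, Matrix.mul_assoc, ← Matrix.mul_assoc (ct σ L), hct, Matrix.one_mul, ct_scaleZ X hσ,
        scaleZ_mul, hcc, scaleZ, sub_self, zero_smul, Matrix.mul_zero, Matrix.zero_mul, add_zero]
    · change zMat W M.1 * (L * scaleZ X c) = L * scaleZ X c * zMat W (A * M.1 * ct σ A)
      rw [← Matrix.mul_assoc, hL, zMat_mul_levi W h1, Matrix.mul_assoc, zMat_mul_scaleZ,
        ← Matrix.mul_assoc]

omit [Fintype F] in
theorem zRad_not_central (hδ' : ∃ δ : F, σ δ = -δ ∧ δ ≠ 0) {M : skew σ m} (hM : M ≠ 0) :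
    zRad hσ hσq W M ∉ Subgroup.center (Cfsg.SU n F q) := by
  obtain ⟨δ, hδ, hδ0⟩ := hδ'
  intro hc
  let N : skew σ m := ⟨δ • 1, by
    change ct σ _ = -_
    rw [ct_smul, ct_one, hδ, neg_smul]⟩
  have e := congrArg (fun g : Cfsg.SU n F q => ((g : Matrix.SpecialLinearGroup (Fin n) F) :
    Matrix (Fin n) (Fin n) F)) (Subgroup.mem_center_iff.1 hc (zRad hσ hσq W.swap N))
  change zMat W.swap N.1 * zMat W M.1 = zMat W M.1 * zMat W.swap N.1 at e
  simp only [zMat, Witt.swap, Matrix.add_mul, Matrix.mul_add, Matrix.one_mul, Matrix.mul_one] at e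
  have e' : W.G * N.1 * ct σ W.G * (W.E * M.1 * ct σ W.E) =
      W.E * M.1 * ct σ W.E * (W.G * N.1 * ct σ W.G) := by
    linear_combination (norm := abel) e
  have e2 := congrArg (fun Y => ct σ W.G * Y * W.E) e'
  simp only [Matrix.mul_assoc, W.mul_GG, W.mul_GE, W.mul_EG, W.GE, Matrix.mul_one,
    Matrix.mul_zero, Matrix.zero_mul] at e2
  apply hM
  apply Subtype.ext
  change 0 = M.1 * (δ • (1 : Matrix (Fin m) (Fin m) F)) at e2
  rw [Matrix.mul_smul, Matrix.mul_one] at e2
  exact (smul_eq_zero.1 e2.symm).resolve_left hδ0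

variable {V : Type*} [AddCommGroup V] [Module ℂ V] [FiniteDimensional ℂ V]

/-- The commutation relations force dimension at least `q`. -/
theorem q_le_of_relations {E : Type*} [AddCommGroup E] [Module ℂ E] [FiniteDimensional ℂ E]
    [Nontrivial E] (hF : Fintype.card F = q ^ 2) (U : F → (E ≃ₗ[ℂ] E)) (ω : AddChar F ℂ)
    (hω : ω.IsPrimitive) (t : F) (ht : t ≠ 0)
    (hU : ∀ c d v, U c (U d v) = ω (d * σ c * t) • U d (U c v)) (hσ : ∀ x, σ (σ x) = x) :
    q ≤ finrank ℂ E := by
  classical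
  let f : F → Module.End ℂ E := fun c => (U c).toLinearMap
  have hli : LinearIndependent ℂ f := by
    rw [Fintype.linearIndependent_iff]
    intro a ha c₀
    have h1 : ∀ e, ∑ c, (a c * ω (c * σ e * t)) • f c = 0 := fun e => by
      refine LinearMap.ext fun v => ?_
      obtain ⟨w, rfl⟩ := (U e).surjective v
      have h := congrArg (U e) (LinearMap.congr_fun ha w)
      simp only [LinearMap.sum_apply, LinearMap.smul_apply, map_sum, map_smul, LinearMap.zero_apply,
        map_zero, f, LinearEquiv.coe_coe] at h ⊢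
      rw [← h]
      refine Finset.sum_congr rfl fun c _ => ?_
      rw [hU e c w, smul_smul]
    have h2 : ∑ e, ω (-c₀ * σ e * t) • ∑ c, (a c * ω (c * σ e * t)) • f c = 0 := by simp [h1]
    simp only [Finset.smul_sum, smul_smul] at h2
    rw [Finset.sum_comm] at h2
    have h3 : ∀ c, ∑ e, (ω (-c₀ * σ e * t) * (a c * ω (c * σ e * t))) • f c =
        (if c = c₀ then (Fintype.card F : ℂ) * a c else 0) • f c := fun c => by
      rw [← Finset.sum_smul]
      congr 1
      have e1 : ∀ e, ω (-c₀ * σ e * t) * (a c * ω (c * σ e * t)) =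
          a c * ω (σ e * ((c - c₀) * t)) := fun e => by
        rw [mul_left_comm, ← AddChar.map_add_eq_mul]; ring_nf
      rw [Finset.sum_congr rfl fun e _ => e1 e, ← Finset.mul_sum]
      have e2 : ∑ e, ω (σ e * ((c - c₀) * t)) = ∑ e, ω (e * ((c - c₀) * t)) :=
        Equiv.sum_comp (Function.Involutive.toPerm _ hσ) (fun e => ω (e * ((c - c₀) * t)))
      rw [e2, AddChar.sum_mulShift _ hω]
      simp [mul_eq_zero, sub_eq_zero, ht, mul_comm]
    rw [Finset.sum_congr rfl fun c _ => h3 c] at h2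
    simp only [ite_smul, zero_smul, Finset.sum_ite_eq', Finset.mem_univ, if_true] at h2
    rcases smul_eq_zero.1 h2 with h | h
    · exact (mul_eq_zero.1 h).resolve_left (Nat.cast_ne_zero.2 Fintype.card_ne_zero)
    · obtain ⟨v, hv⟩ := exists_ne (0 : E)
      exact absurd ((U c₀).map_eq_zero_iff.1 (LinearMap.congr_fun h v)) hv
  have h := hli.fintype_card_le_finrank
  rw [hF, Module.finrank_linearMap, ← sq] at h
  exact le_of_pow_le_pow_left₀ two_ne_zero (Nat.zero_le _) h

/-- The main bound. -/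
theorem min_degree_su (hF : Fintype.card F = q ^ 2) (hn : 3 ≤ n) (h32 : ¬ (n = 3 ∧ q = 2))
    (hσq : ∀ x, σ x = x ^ q) (W : Witt σ n m) (hm : 2 ≤ m ∨ (1 ≤ m ∧ Nonempty W.Extra))
    (ρ : Representation ℂ (Cfsg.SU n F q) V) (hirr : ρ.IsIrreducible) (hdim : 2 ≤ finrank ℂ V) :
    q ^ (2 * m) - 1 ≤ (q + 1) * finrank ℂ V ∧
      (Nonempty W.Extra → q * (q ^ (2 * m) - 1) ≤ (q + 1) * finrank ℂ V) := by
  classical
  have hq0 : q ≠ 0 := fun h => by
    rw [h] at hF
    exact absurd hF (by simp)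
  have hσ : ∀ x, σ (σ x) = x := fun x => by
    rw [hσq, hσq, ← pow_mul, ← sq, ← hF, FiniteField.pow_card]
  obtain ⟨c₀, hc₀⟩ : ∃ c₀ : F, c₀ + σ c₀ ≠ 0 := by
    by_contra h
    push Not at h
    have h11 : (1 : F) + 1 = 0 := by simpa using h 1
    refine CfsgLib.Classical.qFrob_ne_id hF ?_
    ext x
    rw [CfsgLib.Classical.qFrob_apply, ← hσq, RingHom.id_apply]
    linear_combination h x - x * h11
  obtain ⟨δ, hδ, hδ0⟩ : ∃ δ : F, σ δ = -δ ∧ δ ≠ 0 := by
    by_contra h
    push Not at h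
    refine CfsgLib.Classical.qFrob_ne_id hF ?_
    ext x
    rw [CfsgLib.Classical.qFrob_apply, ← hσq, RingHom.id_apply]
    exact (sub_eq_zero.1 (h (x - σ x) (by rw [map_sub, hσ, neg_sub]))).symm
  have hfix : Nat.card {c : F // σ c = c} = q := by
    simpa [CfsgLib.Classical.qFrob_apply, ← hσq] using CfsgLib.Classical.SemiUnitaryClasses.natCard_fixed hF
  have hnorm : ∀ c, σ c = c → ∃ a, a * σ a = c := fun c hc => by
    obtain ⟨x, hx⟩ := (CfsgLib.Classical.isHermSpace_hermB hF 0).norm_surj c (by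
      rw [CfsgLib.Classical.qFrob_apply, ← hσq]; exact hc)
    exact ⟨x, by rw [CfsgLib.Classical.qFrob_apply, ← hσq, mul_comm] at hx; first | exact hx | (rw [mul_comm]; exact hx)⟩
  have htr : ∀ d : F, d ≠ 0 → ∃ e, e * d + σ (e * d) ≠ 0 := fun d hd =>
    ⟨c₀ / d, by rw [div_mul_cancel₀ _ hd]; exact hc₀⟩
  -- a primitive character invariant under `σ`
  obtain ⟨ψ, hψ, hψσ⟩ : ∃ ψ : AddChar F ℂ, ψ.IsPrimitive ∧ ∀ c, ψ (σ c) = ψ c := by
    obtain ⟨φ, hφ⟩ := AddChar.exists_apply_ne_zero.2 hc₀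
    let T : F →+ F := AddMonoidHom.id F + σ.toAddMonoidHom
    refine ⟨φ.compAddMonoidHom T, AddChar.IsPrimitive.of_ne_one fun e => hφ ?_, fun c => ?_⟩
    · simpa [T] using DFunLike.congr_fun e c₀
    · simp [T, hσ, add_comm]
  have huniq : ∀ a b : F, (∀ c, ψ (c * a) = ψ (c * b)) → a = b := fun a b h => by
    by_contra hne
    refine hψ (sub_ne_zero.2 hne) (DFunLike.ext _ _ fun c => ?_)
    have h1 : ψ (c * (a - b) + c * b) = ψ (c * b) := by rw [← mul_add, sub_add_cancel, h]
    rw [AddChar.map_add_eq_mul] at h1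
    rw [AddChar.mulShift_apply, mul_comm]
    simpa using mul_right_cancel₀ (AddChar.val_isUnit ψ _).ne_zero (h1.trans (one_mul _).symm)
  have hex1 : ∀ (χ : AddChar (skew σ m) ℂ) (f : F → skew σ m),
      (∀ a b, f (a + b) = f a + f b) → ∃ t, ∀ c, χ (f c) = ψ (c * t) := fun χ f hf => by
    let φ : AddChar F ℂ :=
      { toFun := fun c => χ (f c)
        map_zero_eq_one' := by
          have h0 : f 0 = 0 := by
            have := hf 0 0
            rw [add_zero] at this
            exact left_eq_add.1 this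
          rw [h0, AddChar.map_zero_eq_one]
        map_add_eq_mul' := fun a b => by rw [hf, AddChar.map_add_eq_mul] }
    have hinj : Function.Injective ψ.mulShift := fun a b e => huniq a b fun c => by
      have := DFunLike.congr_fun e c
      simpa [AddChar.mulShift_apply, mul_comm] using this
    obtain ⟨t, ht⟩ := ((Fintype.bijective_iff_injective_and_card _).2
      ⟨hinj, (AddChar.card_eq (α := F)).symm⟩).2 φ
    exact ⟨t, fun c => (DFunLike.congr_fun ht c).symm.trans (by
      rw [AddChar.mulShift_apply, mul_comm])⟩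
  let C := crossSkew (m := m) hσ δ hδ
  choose Bf hBf using fun (χ : AddChar (skew σ m) ℂ) (x y : Fin m → F) =>
    hex1 χ (C x y) (fun a b => Subtype.ext (by
      simp [C, crossSkew, add_smul, map_add, smul_add]; abel))
  have hherm : ∀ χ, IsHerm σ (Bf χ) := fun χ => by
    refine ⟨fun x x' y => huniq _ _ fun c => ?_, fun a x y => huniq _ _ fun c => ?_,
      fun x y => huniq _ _ fun c => ?_⟩
    · rw [← hBf, mul_add, AddChar.map_add_eq_mul, ← hBf, ← hBf, ← AddChar.map_add_eq_mul]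
      congr 1
      apply Subtype.ext
      simp [C, crossSkew, add_vecMulVec, Pi.add_def, smul_add]
      ext i j; simp [vecMulVec_apply]; ring
    · rw [← hBf, ← mul_assoc, ← hBf]
      congr 1
      apply Subtype.ext
      ext i j
      simp [C, crossSkew, vecMulVec_apply]; ring
    · rw [← hBf, ← hψσ (c * σ (Bf χ x y)), map_mul, hσ, ← hBf]
      congr 1
      apply Subtype.ext
      ext i j
      simp [C, crossSkew, vecMulVec_apply, hσ]; ring
  let r := zRad hσ hσq W
  have := Fintype.ofFinite (skew σ m)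
  set 𝒮 := Finset.univ.filter fun χ : AddChar (skew σ m) ℂ =>
    eigen ρ r χ ≠ ⊥ ∧ ∃ x y, Bf χ x y ≠ 0 with h𝒮
  set T := 𝒮.image Bf with hT
  have hmove : ∀ A : Matrix (Fin m) (Fin m) F, A.det ≠ 0 → (A.det = 1 ∨ Nonempty W.Extra) →
      ∀ B ∈ T, (fun x y => B (A *ᵥ x) (A *ᵥ y)) ∈ T := by
    intro A hA hA' B hB
    obtain ⟨χ, hχ, rfl⟩ := Finset.mem_image.1 hB
    obtain ⟨-, hne, x₁, y₁, hxy⟩ := Finset.mem_filter.1 hχ
    obtain ⟨g, hg⟩ := exists_levi hσ hσq W hA hA'
    let χ' : AddChar (skew σ m) ℂ :=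
      { toFun := fun M => χ (actSkew hσ A M)
        map_zero_eq_one' := by
          rw [show actSkew hσ A (0 : skew σ m) = 0 from Subtype.ext (by simp [actSkew]),
            AddChar.map_zero_eq_one]
        map_add_eq_mul' := fun M N => by
          rw [show actSkew hσ A (M + N) = actSkew hσ A M + actSkew hσ A N from
            Subtype.ext (by simp [actSkew, Matrix.mul_add, Matrix.add_mul]), AddChar.map_add_eq_mul] }
    have hval : ∀ x y, Bf χ' x y = Bf χ (A *ᵥ x) (A *ᵥ y) := fun x y => huniq _ _ fun c => by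
      rw [← hBf, ← hBf]
      show χ (actSkew hσ A (crossSkew hσ δ hδ x y c)) = χ (crossSkew hσ δ hδ (A *ᵥ x) (A *ᵥ y) c)
      rw [actSkew_crossSkew]
    refine Finset.mem_image.2 ⟨χ', Finset.mem_filter.2 ⟨Finset.mem_univ _, ?_, ?_⟩,
      funext fun x => funext fun y => hval x y⟩
    · obtain ⟨v, hv, hv0⟩ := (Submodule.ne_bot_iff _).1 hne
      refine fun e => hv0 ((ρ.apply_bijective g).1 ?_)
      have hmem : ρ g v ∈ eigen ρ r χ' := fun M => by
        rw [← Module.End.mul_apply, ← map_mul, hg, map_mul, Module.End.mul_apply, hv, map_smul]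
        rfl
      rw [e, Submodule.mem_bot] at hmem
      rw [hmem, map_zero]
    · have hu : IsUnit A := (Matrix.isUnit_iff_isUnit_det A).2 (isUnit_iff_ne_zero.2 hA)
      obtain ⟨x', rfl⟩ := (Matrix.mulVec_surjective_iff_isUnit.2 hu) x₁
      obtain ⟨y', rfl⟩ := (Matrix.mulVec_surjective_iff_isUnit.2 hu) y₁
      exact ⟨x', y', by rwa [hval]⟩
  have hTc : Closed σ T := by
    refine ⟨fun B hB => ?_, fun g hg B hB => ?_⟩
    · obtain ⟨χ, -, rfl⟩ := Finset.mem_image.1 hB; exact hherm χ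
    · have := hmove (LinearMap.toMatrix' g) (by rw [LinearMap.det_toMatrix', hg]; exact one_ne_zero)
        (.inl (by rw [LinearMap.det_toMatrix', hg])) B hB
      simpa [LinearMap.toMatrix'_mulVec] using this
  have hone : m = 1 → ∀ g : (Fin m → F) →ₗ[F] (Fin m → F), Function.Injective g →
      ∀ B ∈ T, (fun x y => B (g x) (g y)) ∈ T := fun h1 g hg B hB => by
    rcases hm with hm | ⟨-, hX⟩
    · omega
    have hu : IsUnit (LinearMap.toMatrix' g) := Matrix.mulVec_injective_iff_isUnit.1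
      (fun a b e => hg (by simpa [LinearMap.toMatrix'_mulVec] using e))
    have := hmove (LinearMap.toMatrix' g)
      (isUnit_iff_ne_zero.1 ((Matrix.isUnit_iff_isUnit_det _).1 hu)) (.inr hX) B hB
    simpa [LinearMap.toMatrix'_mulVec] using this
  have hm1 : 1 ≤ m := by rcases hm with h | h <;> omega
  have hne : ∃ B ∈ T, ∃ x y, B x y ≠ 0 := by
    by_contra hall
    push Not at hall
    let i : Fin m := ⟨0, hm1⟩
    set S := C (Pi.single i 1) (Pi.single i 1) c₀ with hS
    have hS0 : S ≠ 0 := fun e => by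
      have h := congrArg (fun M : skew σ m => M.1 i i) e
      simp [hS, C, crossSkew, vecMulVec_apply] at h
      exact mul_ne_zero hδ0 hc₀ (by rw [mul_add]; exact h)
    have hker : r S ∈ MonoidHom.ker ρ := by
      refine MonoidHom.mem_ker.2 (LinearMap.ext fun v => ?_)
      rw [Module.End.one_apply]
      conv_lhs => rw [eq_sum_proj ρ r v, map_sum]
      conv_rhs => rw [eq_sum_proj ρ r v]
      refine Finset.sum_congr rfl fun χ _ => ?_
      rw [proj_mem ρ r χ v S]
      by_cases hχ : eigen ρ r χ = ⊥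
      · have h0 : proj ρ r χ v = 0 := by simpa [hχ] using proj_mem ρ r χ v
        rw [h0, smul_zero]
      · rw [hS, hBf]
        by_cases hb : ∃ x y, Bf χ x y ≠ 0
        · obtain ⟨x, y, hxy⟩ := hb
          exact absurd (hall _ (Finset.mem_image_of_mem _
            (Finset.mem_filter.2 ⟨Finset.mem_univ _, hχ, x, y, hxy⟩)) x y) hxy
        · push Not at hb
          rw [hb, mul_zero, AddChar.map_zero_eq_one, one_smul]
    have htop := eq_top_of_noncentral (commutator_su hF hn h32)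
      (CfsgLib.Classical.isSimpleGroup_psu hF hn h32) (MonoidHom.ker ρ) hker
      (zRad_not_central hσ hσq W ⟨δ, hδ, hδ0⟩ hS0)
    have : Nontrivial V := nontrivial_of_finrank_pos (R := ℂ) (by omega)
    obtain ⟨v, hv⟩ := exists_ne (0 : V)
    let U : Subrepresentation ρ := ⟨ℂ ∙ v, fun g w hw => by
      have hg : g ∈ MonoidHom.ker ρ := htop ▸ Subgroup.mem_top g
      rw [MonoidHom.mem_ker.1 hg]; exact hw⟩
    rcases hirr.eq_bot_or_eq_top U with e | e
    · exact hv ((Submodule.span_singleton_eq_bot).1 (congrArg Subrepresentation.toSubmodule e))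
    · have h1 := finrank_span_singleton (K := ℂ) hv
      rw [show (ℂ ∙ v) = (⊤ : Submodule ℂ V) from congrArg Subrepresentation.toSubmodule e,
        finrank_top] at h1
      omega
  have horb := orbit_bound hnorm hfix hF m T hTc hone hne htr
  have hsum : ∀ b, (∀ χ ∈ 𝒮, b ≤ eigDim ρ r χ) → b * T.card ≤ finrank ℂ V := fun b hb => by
    calc b * T.card ≤ b * 𝒮.card := Nat.mul_le_mul_left _ Finset.card_image_le
      _ = 𝒮.card • b := by rw [smul_eq_mul, mul_comm]
      _ ≤ ∑ χ ∈ 𝒮, eigDim ρ r χ := Finset.card_nsmul_le_sum _ _ _ hb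
      _ ≤ ∑ χ, eigDim ρ r χ := Finset.sum_le_univ_sum_of_nonneg (fun _ => Nat.zero_le _)
      _ = finrank ℂ V := (finrank_eq_sum_eigDim ρ r).symm
  refine ⟨horb.trans (Nat.mul_le_mul_left _ ?_), fun ⟨X⟩ => ?_⟩
  · simpa using hsum 1 fun χ hχ => Nat.one_le_iff_ne_zero.2 fun e =>
      (Finset.mem_filter.1 hχ).2.1 (Submodule.finrank_eq_zero.1 e)
  refine (Nat.mul_le_mul_left q horb).trans ?_
  rw [mul_left_comm]
  refine Nat.mul_le_mul_left _ (hsum q fun χ hχ => ?_)
  obtain ⟨-, hne', x₁, y₁, hxy⟩ := Finset.mem_filter.1 hχ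
  obtain ⟨x₀, hx₀⟩ : ∃ x₀, Bf χ x₀ x₀ ≠ 0 := by
    by_contra hall
    push Not at hall
    have hd := hherm χ
    obtain ⟨e, he⟩ := htr _ hxy
    refine he ?_
    have h1 := hall (e • x₁ + y₁)
    rw [hd.add_left, hd.add_right, hd.add_right, hall, hall, zero_add, add_zero,
      hd.smul_left, hd.smul_right, hd.symm x₁ y₁] at h1
    rw [map_mul]; exact h1
  set P := vecMulVec x₀ (fun i => σ (x₀ i)) with hP
  set e₁ := c₀ / (c₀ + σ c₀) with he₁
  have he : e₁ + σ e₁ = 1 := by
    rw [he₁, map_div₀, map_add, hσ, add_comm (σ c₀), ← add_div, div_self hc₀]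
  let a : F → Matrix (Fin m) (Fin 1) F := fun c => c • Matrix.of fun i _ => x₀ i
  have haa : ∀ c d, a c * ct σ (a d) = (c * σ d) • P := fun c d => by
    ext i j
    simp [a, hP, ct, Matrix.mul_apply, vecMulVec_apply]; ring
  let S : F → Matrix (Fin m) (Fin m) F := fun c => (-(c * σ c) * e₁) • P
  have hSP : ∀ c, ct σ (S c) + S c + a c * ct σ (a c) = 0 := fun c => by
    have hPc : ct σ P = P := by rw [hP, ct_vecMulVec hσ]
    simp only [S, ct_smul, hPc, haa, ← add_smul]
    have : σ (-(c * σ c) * e₁) + -(c * σ c) * e₁ + c * σ c = 0 := by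
      rw [map_mul, map_neg, map_mul, hσ]; linear_combination -(c * σ c) * he
    rw [this, zero_smul]
  let u : F → Cfsg.SU n F q := fun c => mkSU hσq (heis X (a c) (S c)) (det_heis X _ _) (by
    rw [ct_heis X hσ, heis_mul, neg_add_cancel,
      show ct σ (S c) + S c - -a c * ct σ (a c) = 0 by
        rw [Matrix.neg_mul, sub_neg_eq_add, hSP], heis_zero_zero])
  have hcomm : ∀ c M, r M * u c = u c * r M := fun c M => su_ext (by
    change zMat W M.1 * heis X (a c) (S c) = heis X (a c) (S c) * zMat W M.1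
    rw [← heis_zero X, heis_mul, heis_mul, zero_add, add_zero, Matrix.zero_mul, ct_zero,
      Matrix.mul_zero, sub_zero, sub_zero, add_comm])
  have hrel : ∀ c d, u c * u d = r (C x₀ x₀ (d * σ c / δ)) * (u d * u c) := fun c d => su_ext (by
    change heis X (a c) (S c) * heis X (a d) (S d) =
      zMat W (C x₀ x₀ (d * σ c / δ)).1 * (heis X (a d) (S d) * heis X (a c) (S c))
    rw [← heis_zero X, heis_mul, heis_mul, heis_mul, haa, haa, zero_add, add_comm (a d)]
    congr 1
    simp only [C, crossSkew, ← hP, Matrix.zero_mul, sub_zero, ← add_smul, smul_smul]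
    have : δ * (d * σ c / δ + σ (d * σ c / δ)) = d * σ c - c * σ d := by
      rw [map_div₀, map_mul, hσ, hδ]; field_simp; ring
    rw [this, sub_smul]
    abel)
  have hinv : ∀ c, ∀ v ∈ eigen ρ r χ, ρ (u c) v ∈ eigen ρ r χ := fun c v hv M => by
    rw [← Module.End.mul_apply, ← map_mul, hcomm, map_mul, Module.End.mul_apply, hv, map_smul]
  have : Nontrivial (eigen ρ r χ) := Submodule.nontrivial_iff_ne_bot.2 hne'
  have hbij : ∀ c, Function.Bijective ((ρ (u c)).restrict (hinv c)) := fun c => by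
    have hinj : Function.Injective ((ρ (u c)).restrict (hinv c)) := fun v w e =>
      Subtype.ext ((ρ.apply_bijective (u c)).1 (congrArg Subtype.val e))
    exact ⟨hinj, LinearMap.injective_iff_surjective.1 hinj⟩
  refine q_le_of_relations (σ := σ) hF (fun c => LinearEquiv.ofBijective _ (hbij c)) ψ hψ
    (Bf χ x₀ x₀ / δ) (div_ne_zero hx₀ hδ0) (fun c d v => Subtype.ext ?_) hσ
  change ρ (u c) (ρ (u d) (v : V)) = _ • ρ (u d) (ρ (u c) (v : V))
  rw [← Module.End.mul_apply, ← map_mul, hrel, map_mul, Module.End.mul_apply, map_mul,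
    Module.End.mul_apply, hinv d _ (hinv c _ v.2), hBf]
  congr 2
  ring

end CfsgLib.Classical.UMinDeg
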