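import Mathlib
import Cfsg.Agent.Lib.KnownB.UnipClasses

/-!
Unipotent matrices are classified by the kernels of the powers of `A - 1`; classes of elements of order `p`
in `GL_n`.
-/

set_option autoImplicit false

namespace CfsgLib.Classical.UnipJordan

open Polynomial CfsgLib.KnownB.GLBlocks CfsgLib.KnownB.GLClass CfsgLib.KnownB.UnipClasses

variable {F : Type*} [Field F] [Fintype F] {n : ℕ}

local notation "Mn" => Matrix (Fin n) (Fin n) F

omit [Fintype F] in
theorem aeval_toLin (A : Mn) (j : ℕ) (v : Fin n → F) :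
    aeval (Matrix.toLin' A) ((X - C (1 : F)) ^ j) v = ((A - 1) ^ j).mulVec v := by
  rw [map_pow, map_sub, aeval_X, aeval_C, map_one,
    show Matrix.toLin' A - 1 = Matrix.toLinAlgEquiv' (A - 1) by rw [map_sub, map_one]; rfl, ← map_pow]
  rfl

/-- The kernel of `(A - 1) ^ j`. -/
theorem card_ker_pow {A : Mn} (hA : IsNilpotent (A - 1)) (j : ℕ) :
    Nat.card {v : Fin n → F // ((A - 1) ^ j).mulVec v = 0} =
      Fintype.card F ^ ((partOf hA).parts.map fun e => min j e).sum := by
  classical
  have h := (decomp A).card_ker (monic_X_sub_C (1 : F)) (irreducible_X_sub_C 1) (j := j)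
  rw [natDegree_X_sub_C, mul_one] at h
  rw [show ((partOf hA).parts.map fun e => min j e).sum = torsExp (decomp A).blocks (X - C 1) j from ?_, ← h]
  · exact Nat.card_congr (Equiv.subtypeEquivRight fun v => by rw [aeval_toLin])
  · rw [torsExp, show (partOf hA).parts = (decomp A).blocks.map Prod.snd from rfl, Multiset.map_map]
    exact congrArg Multiset.sum (Multiset.map_congr rfl fun b hb => by simp [blocks_fst hA b hb])

/-- Unipotent matrices with kernels of equal size are similar. -/
theorem exists_conj_of_card_ker {A B : Mn} (hA : IsNilpotent (A - 1)) (hB : IsNilpotent (B - 1))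
    (h : ∀ j, Nat.card {v : Fin n → F // ((A - 1) ^ j).mulVec v = 0} =
      Nat.card {v : Fin n → F // ((B - 1) ^ j).mulVec v = 0}) :
    ∃ T : GL (Fin n) F, (T : Mn) * A = B * T := by
  classical
  refine exists_conj_of_partOf hA hB (Nat.Partition.ext ?_)
  refine congrArg (Multiset.map Prod.snd) ((decomp A).blocks_eq_of_card (decomp B) fun p hp hpi j => ?_)
  by_cases hp1 : p = X - C 1
  · subst hp1
    refine Eq.trans ?_ ((h j).trans ?_)
    · exact Nat.card_congr (Equiv.subtypeEquivRight fun v => by rw [aeval_toLin])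
    · exact Nat.card_congr (Equiv.subtypeEquivRight fun v => by rw [aeval_toLin])
  · have h0 : ∀ {M : Mn}, IsNilpotent (M - 1) → torsExp (decomp M).blocks p j = 0 := fun {M} hM => by
      rw [torsExp, Multiset.sum_eq_zero]
      intro x hx
      obtain ⟨b, hb, rfl⟩ := Multiset.mem_map.1 hx
      rw [if_neg]
      rw [blocks_fst hM b hb]
      exact fun e => hp1 e.symm
    rw [(decomp A).card_ker hp hpi, (decomp B).card_ker hp hpi, h0 hA, h0 hB]

omit [Fintype F] in
theorem sum_min_eq {s : Multiset ℕ} {j : ℕ} :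
    (s.map fun e => min j e).sum = s.sum ↔ ∀ a ∈ s, a ≤ j := by
  induction s using Multiset.induction_on with
  | empty => simp
  | cons a s ih =>
    have hle : (s.map fun e => min j e).sum ≤ s.sum := by
      conv_rhs => rw [← Multiset.map_id s]
      exact Multiset.sum_map_le_sum_map _ _ fun x _ => min_le_right _ _
    rw [Multiset.map_cons, Multiset.sum_cons, Multiset.sum_cons, Multiset.forall_mem_cons, ← ih]
    constructor
    · intro h
      have := min_le_right j a
      refine ⟨?_, by omega⟩
      by_contra hlt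
      rw [min_eq_left (le_of_lt (not_le.1 hlt))] at h
      omega
    · rintro ⟨h1, h2⟩
      rw [min_eq_right h1, h2]

/-- `(A - 1) ^ j = 0` iff all blocks have size at most `j`. -/
theorem pow_eq_zero_iff {A : Mn} (hA : IsNilpotent (A - 1)) (j : ℕ) :
    (A - 1) ^ j = 0 ↔ ∀ a ∈ (partOf hA).parts, a ≤ j := by
  rw [← sum_min_eq, (partOf hA).parts_sum]
  have h := card_ker_pow hA j
  constructor
  · intro h0
    rw [h0] at h
    simp only [Matrix.zero_mulVec] at h
    rw [Nat.card_congr (Equiv.subtypeUnivEquiv fun _ => trivial), Nat.card_pi, Finset.prod_const, Finset.card_univ,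
      Fintype.card_fin, Nat.card_eq_fintype_card] at h
    exact (Nat.pow_right_injective Fintype.one_lt_card h).symm
  · intro hs
    rw [hs] at h
    classical
    have hall : {v : Fin n → F | ((A - 1) ^ j).mulVec v = 0} = Set.univ := by
      refine Set.eq_univ_of_forall fun v => ?_
      by_contra hv
      have hlt : Nat.card {v : Fin n → F // ((A - 1) ^ j).mulVec v = 0} < Nat.card (Fin n → F) := by
        rw [Nat.card_eq_fintype_card, Nat.card_eq_fintype_card]
        exact Fintype.card_subtype_lt hv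
      rw [h, Nat.card_pi, Finset.prod_const, Finset.card_univ, Fintype.card_fin, Nat.card_eq_fintype_card] at hlt
      exact lt_irrefl _ hlt
    refine Matrix.toLin'.injective (LinearMap.ext fun v => ?_)
    rw [Matrix.toLin'_apply, map_zero]
    exact Set.eq_univ_iff_forall.1 hall v

theorem partOf_congr {A B : Mn} (hA : IsNilpotent (A - 1)) (hB : IsNilpotent (B - 1)) (T : GL (Fin n) F)
    (hT : (T : Mn) * A = B * T) : partOf hA = partOf hB := by
  refine Nat.Partition.ext ?_
  show Multiset.map Prod.snd _ = Multiset.map Prod.snd _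
  rw [blocks_eq_of_dataOf (dataOf_conj T hT)]

/-- The partition into ones. -/
def ones (n : ℕ) : Nat.Partition n where
  parts := Multiset.replicate n 1
  parts_pos := fun h => by rw [Multiset.eq_of_mem_replicate h]; exact one_pos
  parts_sum := by simp

variable (p : ℕ) [Fact p.Prime] [CharP F p]

omit [Fintype F] in
theorem pow_prime_eq (M : Mn) : (1 + M) ^ p = 1 + M ^ p := by
  rcases isEmpty_or_nonempty (Fin n) with h | h
  · exact Subsingleton.elim _ _
  · rw [add_pow_char_of_commute p (Commute.one_left M), one_pow]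

omit [Fintype F] in
/-- The elements of order `p` are the unipotent ones with `(g - 1) ^ p = 0`. -/
theorem orderOf_eq_iff (g : GL (Fin n) F) : orderOf g = p ↔ g ≠ 1 ∧ ((g : Mn) - 1) ^ p = 0 := by
  have key : g ^ p = 1 ↔ ((g : Mn) - 1) ^ p = 0 := by
    have h := pow_prime_eq p ((g : Mn) - 1)
    rw [add_sub_cancel, ← Units.val_pow_eq_pow_val] at h
    rw [← Units.val_eq_one (a := g ^ p), h, add_eq_left]
  constructor
  · intro h
    refine ⟨fun h1 => ?_, key.1 (h ▸ pow_orderOf_eq_one g)⟩
    rw [h1, orderOf_one] at h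
    exact (Fact.out : p.Prime).ne_one h.symm
  · rintro ⟨h1, h2⟩
    exact orderOf_eq_prime (key.2 h2) h1

/-- Classes of elements of order `p` in `GL_n`. -/
theorem natCard_classes_order_p :
    Nat.card {C : ConjClasses (GL (Fin n) F) // ∃ g : GL (Fin n) F, ConjClasses.mk g = C ∧ orderOf g = p} =
      (Finset.univ.filter (fun μ : Nat.Partition n => ∀ a ∈ μ.parts, a ≤ p)).card - 1 := by
  classical
  have hp1 : 1 ≤ p := (Fact.out : p.Prime).one_lt.le
  have hones : Finset.univ.filter (fun μ : Nat.Partition n => ∀ a ∈ μ.parts, a ≤ 1) = {ones n} := by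
    refine Finset.ext fun μ => ?_
    rw [Finset.mem_filter, Finset.mem_singleton]
    constructor
    · rintro ⟨-, h⟩
      have hrep : μ.parts = Multiset.replicate μ.parts.card 1 :=
        Multiset.eq_replicate_card.2 fun a ha => le_antisymm (h a ha) (μ.parts_pos ha)
      refine Nat.Partition.ext ?_
      have hs := μ.parts_sum
      rw [hrep, Multiset.sum_replicate, smul_eq_mul, mul_one] at hs
      rw [hrep, hs]; rfl
    · rintro rfl
      exact ⟨Finset.mem_univ _, fun a ha => (Multiset.eq_of_mem_replicate ha).le⟩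
  have hsub : ones n ∈ Finset.univ.filter (fun μ : Nat.Partition n => ∀ a ∈ μ.parts, a ≤ p) :=
    Finset.mem_filter.2 ⟨Finset.mem_univ _, fun a ha => (Multiset.eq_of_mem_replicate ha).le.trans hp1⟩
  rw [← Finset.card_erase_of_mem hsub, ← Nat.card_eq_finsetCard]
  let X := {C : ConjClasses (GL (Fin n) F) // ∃ g : GL (Fin n) F, ConjClasses.mk g = C ∧ orderOf g = p}
  have hrep : ∀ C : X, IsNilpotent ((C.2.choose : Mn) - 1) := fun C =>
    ⟨p, ((orderOf_eq_iff p _).1 C.2.choose_spec.2).2⟩
  refine Nat.card_congr (Equiv.ofBijective (fun C : X => ⟨partOf (hrep C), ?_⟩)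
    ⟨fun C D h => ?_, fun lam => ?_⟩)
  · obtain ⟨h1, h2⟩ := (orderOf_eq_iff p _).1 C.2.choose_spec.2
    refine Finset.mem_erase.2 ⟨fun he => h1 ?_, Finset.mem_filter.2
      ⟨Finset.mem_univ _, (pow_eq_zero_iff (hrep C) p).1 h2⟩⟩
    have h3 := (pow_eq_zero_iff (hrep C) 1).2 (by
      rw [he]; exact fun a ha => (Multiset.eq_of_mem_replicate ha).le)
    rw [pow_one, sub_eq_zero] at h3
    exact Units.ext h3
  · obtain ⟨T, hT⟩ := exists_conj_of_partOf (hrep C) (hrep D) (congrArg Subtype.val h)
    apply Subtype.ext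
    rw [← C.2.choose_spec.1, ← D.2.choose_spec.1, ConjClasses.mk_eq_mk_iff_isConj]
    exact isConj_iff.2 ⟨T, by rw [mul_inv_eq_iff_eq_mul]; exact Units.ext hT⟩
  · obtain ⟨lam, hlam⟩ := lam
    obtain ⟨A, hA, rfl⟩ := exists_partOf (F := F) lam
    obtain ⟨h1, h2⟩ := Finset.mem_erase.1 hlam
    have hu : IsUnit A := by
      have := hA.isUnit_one_add
      rwa [add_sub_cancel] at this
    have hord : orderOf hu.unit = p := (orderOf_eq_iff p _).2
      ⟨fun he => h1 (by
        have hA1 : (A - 1) ^ 1 = 0 := by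
          rw [pow_one, sub_eq_zero]; exact congrArg Units.val he
        have h3 : partOf hA ∈ Finset.univ.filter (fun μ : Nat.Partition n => ∀ a ∈ μ.parts, a ≤ 1) :=
          Finset.mem_filter.2 ⟨Finset.mem_univ _, (pow_eq_zero_iff hA 1).1 hA1⟩
        rw [hones, Finset.mem_singleton] at h3
        exact h3),
      (pow_eq_zero_iff hA p).2 (Finset.mem_filter.1 h2).2⟩
    refine ⟨⟨ConjClasses.mk hu.unit, hu.unit, rfl, hord⟩, Subtype.ext ?_⟩
    set C : X := ⟨ConjClasses.mk hu.unit, hu.unit, rfl, hord⟩
    obtain ⟨T, hT⟩ := isConj_iff.1 (ConjClasses.mk_eq_mk_iff_isConj.1 C.2.choose_spec.1)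
    exact partOf_congr (hrep C) hA T (congrArg Units.val (mul_inv_eq_iff_eq_mul.1 hT))

end CfsgLib.Classical.UnipJordan
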