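import Mathlib
import Cfsg.Agent.Lib.Classical.UnipJordan
import Cfsg.Agent.Lib.Classical.SemiUnitary

/-!
Every unipotent class of `GL_n(q²)` meets `GU_n(q)`.
-/

set_option autoImplicit false

namespace CfsgLib.Classical.UnipUnitary

open Matrix CfsgLib.Classical

variable {K : Type*} [Field K] [Fintype K] {q n : ℕ} (hK : Fintype.card K = q ^ 2)

local notation "Mn" => Matrix (Fin n) (Fin n) K

theorem natCard_ker_eq (M : Mn) :
    Nat.card {v : Fin n → K // M *ᵥ v = 0} = Fintype.card K ^ (n - M.rank) := by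
  have h1 := M.mulVecLin.finrank_range_add_finrank_ker
  rw [Module.finrank_fin_fun] at h1
  rw [show M.rank = Module.finrank K (LinearMap.range M.mulVecLin) from rfl,
    show n - Module.finrank K (LinearMap.range M.mulVecLin) = Module.finrank K (LinearMap.ker M.mulVecLin) by omega,
    ← Nat.card_eq_fintype_card, ← Module.natCard_eq_pow_finrank (K := K) (V := LinearMap.ker M.mulVecLin)]
  exact Nat.card_congr (Equiv.subtypeEquivRight fun v => by simp)

/-- The kernel of `X.map (qFrob)` has the size of the kernel of `X`. -/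
theorem natCard_ker_map (M : Mn) :
    Nat.card {v : Fin n → K // M.map (qFrob hK) *ᵥ v = 0} = Nat.card {v : Fin n → K // M *ᵥ v = 0} := by
  have hm : ∀ (X : Mn) (v : Fin n → K), X.map (qFrob hK) *ᵥ (fun i => qFrob hK (v i)) =
      fun i => qFrob hK ((X *ᵥ v) i) := fun X v => by
    ext i; simp [mulVec, dotProduct, map_sum]
  refine Nat.card_congr
    { toFun := fun v => ⟨fun i => qFrob hK (v.1 i), ?_⟩
      invFun := fun v => ⟨fun i => qFrob hK (v.1 i), ?_⟩
      left_inv := fun v => Subtype.ext (funext fun i => qFrob_qFrob hK _)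
      right_inv := fun v => Subtype.ext (funext fun i => qFrob_qFrob hK _) }
  · have h := hm (M.map (qFrob hK)) v.1
    rw [SemiUnitary.map_map, v.2] at h
    exact h.trans (funext fun i => map_zero _)
  · rw [hm, v.2]
    exact funext fun i => map_zero _

include hK in
/-- A unipotent matrix is similar to a unitary one. -/
theorem exists_unitary_of_unipotent (A : GL (Fin n) K) (hA : IsNilpotent ((A : Mn) - 1)) :
    ∃ B : ↥(Cfsg.GU n K q), IsConj A (B : GL (Fin n) K) := by
  obtain ⟨C, hC⟩ : ∃ C : Mn, C = ((A : Mn).map (qFrob hK))ᵀ := ⟨_, rfl⟩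
  obtain ⟨D, hD⟩ : ∃ D : Mn, D = (((A⁻¹ : GL (Fin n) K) : Mn).map (qFrob hK))ᵀ := ⟨_, rfl⟩
  have hCD : C * D = 1 := by
    rw [hC, hD, ← transpose_mul, ← Matrix.map_mul, A.inv_mul, Matrix.map_one _ (map_zero _) (map_one _),
      transpose_one]
  have hDC : D * C = 1 := _root_.mul_eq_one_comm.1 hCD
  obtain ⟨N, hN⟩ : ∃ N : Mn, N = (A : Mn) - 1 := ⟨_, rfl⟩
  have hC1 : C - 1 = (N.map (qFrob hK))ᵀ := by
    rw [hC, hN, Matrix.map_sub _ (map_sub _), Matrix.map_one _ (map_zero _) (map_one _), transpose_sub, transpose_one]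
  have hpow : ∀ j, (C - 1) ^ j = ((N ^ j).map (qFrob hK))ᵀ := fun j => by
    rw [hC1, ← transpose_pow, Matrix.map_pow]
  have hD1 : D - 1 = (-D) * (C - 1) := by rw [neg_mul, mul_sub, hDC, mul_one, neg_sub]
  have hDpow : ∀ j, (D - 1) ^ j = (-D) ^ j * (C - 1) ^ j := fun j => by
    rw [hD1, Commute.mul_pow]
    exact ((Commute.sub_right (hDC.trans hCD.symm) (Commute.one_right _)).neg_left)
  have hDn : IsNilpotent (D - 1) := by
    obtain ⟨m, hm⟩ := hA
    refine ⟨m, ?_⟩
    rw [hDpow, hpow, hN, hm, Matrix.map_zero _ (map_zero _), transpose_zero, mul_zero]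
  obtain ⟨T, hT⟩ := UnipJordan.exists_conj_of_card_ker hA hDn fun j => by
    have hu : IsUnit ((-D) ^ j) := (IsUnit.neg ⟨⟨D, C, hDC, hCD⟩, rfl⟩).pow j
    have hk : Nat.card {v : Fin n → K // (D - 1) ^ j *ᵥ v = 0} = Nat.card {v : Fin n → K // (C - 1) ^ j *ᵥ v = 0} := by
      refine Nat.card_congr (Equiv.subtypeEquivRight fun v => ?_)
      rw [hDpow, ← mulVec_mulVec]
      constructor
      · intro h; exact Matrix.mulVec_injective_of_isUnit hu (h.trans (mulVec_zero _).symm)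
      · intro h; rw [h, mulVec_zero]
    rw [hk, ← hN, natCard_ker_eq ((C - 1) ^ j), hpow, rank_transpose, ← natCard_ker_eq, natCard_ker_map]
  refine (SemiUnitary.similar_unitary_iff hK A).2 ⟨T, ?_⟩
  show (T : Mn) * (A : Mn) = _ * (T : Mn)
  rw [hT]
  congr 1
  rw [show ((A : Mn).map fun x : K => x ^ q) = (A : Mn).map (qFrob hK) by ext i j; simp [qFrob_apply], ← hC]
  exact (inv_eq_right_inv hCD).symm

variable (p : ℕ) [Fact p.Prime] [CharP K p]

include hK in
/-- Classes of elements of order `p` in `GU_n(q)` correspond to those in `GL_n(q²)`. -/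
theorem natCard_classes_order_p :
    Nat.card {C : ConjClasses ↥(Cfsg.GU n K q) // ∃ g : ↥(Cfsg.GU n K q), ConjClasses.mk g = C ∧ orderOf g = p} =
      Nat.card {C : ConjClasses (GL (Fin n) K) // ∃ g : GL (Fin n) K, ConjClasses.mk g = C ∧ orderOf g = p} := by
  refine Nat.card_congr (Equiv.ofBijective
    (fun C => ⟨ConjClasses.map (Cfsg.GU n K q).subtype C.1, ?_⟩) ⟨?_, ?_⟩)
  · obtain ⟨g, hg, hgo⟩ := C.2
    exact ⟨g, by rw [← hg]; rfl, by rw [Subgroup.orderOf_coe, hgo]⟩
  · rintro ⟨_, g, rfl, hg⟩ ⟨_, h, rfl, hh⟩ he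
    refine Subtype.ext (ConjClasses.mk_eq_mk_iff_isConj.2 ((SemiUnitary.isConj_iff_gl hK g h).2 ?_))
    exact ConjClasses.mk_eq_mk_iff_isConj.1 (congrArg Subtype.val he)
  · rintro ⟨_, g, rfl, hg⟩
    obtain ⟨B, hB⟩ := exists_unitary_of_unipotent hK g ⟨p, ((UnipJordan.orderOf_eq_iff p g).1 hg).2⟩
    obtain ⟨y, hy⟩ := isConj_iff.1 hB
    refine ⟨⟨ConjClasses.mk B, B, rfl, ?_⟩, Subtype.ext (ConjClasses.mk_eq_mk_iff_isConj.2 hB.symm)⟩
    rw [← Subgroup.orderOf_coe, ← hy, show y * g * y⁻¹ = MulAut.conj y g from rfl, MulEquiv.orderOf_eq, hg]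

end CfsgLib.Classical.UnipUnitary
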