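import Mathlib
import Cfsg.Agent.Lib.Classical.FormStab

/-!
Order of the isometry group of a non-degenerate alternating form over a finite field.
-/

set_option autoImplicit false

namespace CfsgLib.Classical

open CfsgLib.Geom

variable {F V : Type*} [Field F] [Fintype F] [AddCommGroup V] [Module F V] [FiniteDimensional F V]

/-- Fibre of a non-zero functional. -/
theorem card_functional_fibre (φ : V →ₗ[F] F) (hφ : φ ≠ 0) (c : F) :
    Nat.card {v : V // φ v = c} = Fintype.card F ^ (Module.finrank F V - 1) := by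
  obtain ⟨v₁, hv₁⟩ : ∃ v, φ v ≠ 0 := by
    by_contra h; push Not at h; exact hφ (LinearMap.ext h)
  obtain ⟨v₀, hv₀⟩ : ∃ v, φ v = c := ⟨(c / φ v₁) • v₁, by simp [hv₁]⟩
  have e : {v : V // φ v = c} ≃ LinearMap.ker φ :=
    { toFun := fun v => ⟨v.1 - v₀, by simp [LinearMap.mem_ker, v.2, hv₀]⟩
      invFun := fun k => ⟨k.1 + v₀, by rw [map_add, LinearMap.mem_ker.1 k.2, hv₀, zero_add]⟩
      left_inv := fun v => Subtype.ext (sub_add_cancel _ _)
      right_inv := fun k => Subtype.ext (add_sub_cancel_right _ _) }
  rw [Nat.card_congr e, Module.natCard_eq_pow_finrank (K := F), Nat.card_eq_fintype_card]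
  congr 1
  have h := φ.finrank_range_add_finrank_ker
  rw [LinearMap.range_eq_top.2 (φ.surjective hφ), finrank_top, Module.finrank_self] at h
  omega

/-- Number of hyperbolic pairs. -/
theorem card_alt_pairs (B : V →ₗ[F] V →ₗ[F] F) (hB : ∀ x, (∀ y, B x y = 0) → x = 0) :
    Nat.card {p : V × V // B p.1 p.2 = 1} =
      (Fintype.card F ^ Module.finrank F V - 1) * Fintype.card F ^ (Module.finrank F V - 1) := by
  classical
  have : Finite V := Module.finite_of_finite F
  haveI := Fintype.ofFinite V
  have e : {p : V × V // B p.1 p.2 = 1} ≃ Σ v : V, {w : V // B v w = 1} :=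
    { toFun := fun p => ⟨p.1.1, p.1.2, p.2⟩
      invFun := fun s => ⟨(s.1, s.2.1), s.2.2⟩
      left_inv := fun _ => rfl
      right_inv := fun _ => rfl }
  rw [Nat.card_congr e, Nat.card_sigma, Fintype.sum_eq_add_sum_compl (0 : V)]
  rw [Finset.sum_congr rfl (fun v hv => card_functional_fibre (B v) (fun h =>
    Finset.mem_compl.1 hv (Finset.mem_singleton.2 (hB v fun y => by rw [h]; rfl))) 1)]
  simp [Finset.card_compl, Module.card_eq_pow_finrank (K := F) (V := V)]

theorem card_formIsoms_alt_aux (n : ℕ) : ∀ {V : Type*} [AddCommGroup V] [Module F V]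
    [FiniteDimensional F V] (B : V →ₗ[F] V →ₗ[F] F), (∀ v, B v v = 0) →
    (∀ x, (∀ y, B x y = 0) → x = 0) → Module.finrank F V = n →
    ∃ m, n = 2 * m ∧ Nat.card (formIsoms B) =
      Fintype.card F ^ (m ^ 2) * ∏ i ∈ Finset.range m, (Fintype.card F ^ (2 * (i + 1)) - 1) := by
  induction n using Nat.strong_induction_on with
  | _ n ih =>
    intro V _ _ _ B hA hB hn
    by_cases h0 : n = 0
    · refine ⟨0, by omega, ?_⟩
      have : Subsingleton V := Module.finrank_zero_iff.1 (hn.trans h0)
      have : Subsingleton (V ≃ₗ[F] V) := ⟨fun a b => LinearEquiv.ext fun x => Subsingleton.elim _ _⟩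
      simp [Nat.card_eq_one_iff_unique.2 ⟨(inferInstance : Subsingleton (formIsoms B)), ⟨1⟩⟩]
    have : Nontrivial V := Module.nontrivial_of_finrank_pos (R := F) (by omega)
    obtain ⟨e, he⟩ := exists_ne (0 : V)
    obtain ⟨f, -, hef⟩ := exists_perp_pair B hB ⊥ (x₀ := e) (by simpa using he)
    let W := Submodule.span F ({e, f} : Set V)
    let W' : Submodule F V := LinearMap.ker (B e) ⊓ LinearMap.ker (B f)
    have hfe : B f e = -1 := by rw [alt_swap B hA e f, hef]
    have hW' : ∀ y, y ∈ W' ↔ ∀ w ∈ W, B w y = 0 := by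
      intro y
      refine ⟨fun hy w hw => ?_, fun h => ⟨LinearMap.mem_ker.2 (h e (Submodule.subset_span (by simp))),
        LinearMap.mem_ker.2 (h f (Submodule.subset_span (by simp)))⟩⟩
      obtain ⟨a, b, rfl⟩ := Submodule.mem_span_pair.1 hw
      simp [LinearMap.mem_ker.1 hy.1, LinearMap.mem_ker.1 hy.2]
    have hc : IsCompl W W' := by
      refine IsCompl.of_eq (eq_bot_iff.2 ?_) (eq_top_iff.2 ?_)
      · rintro x ⟨hx, hx1, hx2⟩
        obtain ⟨a, b, rfl⟩ := Submodule.mem_span_pair.1 hx
        rw [SetLike.mem_coe, LinearMap.mem_ker] at hx1 hx2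
        simp [hA, hef, hfe] at hx1 hx2
        simp [hx1, hx2]
      · intro v _
        refine Submodule.mem_sup.2 ⟨(-(B f v)) • e + (B e v) • f,
          add_mem (Submodule.smul_mem _ _ (Submodule.subset_span (by simp)))
            (Submodule.smul_mem _ _ (Submodule.subset_span (by simp))),
          v - ((-(B f v)) • e + (B e v) • f), ⟨?_, ?_⟩, by abel⟩
        · simp [hA, hef]
        · simp [hA, hfe]
    have hdimW : Module.finrank F W = 2 := by
      have hli : LinearIndependent F ![e, f] := by
        rw [LinearIndependent.pair_iff]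
        intro s t h
        have h1 := congrArg (B e) h
        have h2 := congrArg (B f) h
        simp [hA, hef, hfe] at h1 h2
        exact ⟨h2, h1⟩
      have := finrank_span_eq_card hli
      rwa [Matrix.range_cons, Matrix.range_cons, Matrix.range_empty, Set.union_empty,
        Set.singleton_union, Fintype.card_fin] at this
    have hdim : Module.finrank F W' + 2 = n := by
      rw [← hn, ← hdimW, add_comm, Submodule.finrank_add_eq_of_isCompl hc]
    obtain ⟨m, hm, hcard⟩ := ih (Module.finrank F W') (by omega) (restrictSesq B W')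
      (fun v => by simp [hA]) (fun x hx => Subtype.ext (hB x fun y => by
        obtain ⟨w, hw, z, hz, rfl⟩ := Submodule.mem_sup.1
          (show y ∈ W ⊔ W' by rw [hc.sup_eq_top]; trivial)
        have h1 : B (x : V) w = 0 := by rw [alt_swap B hA w x, (hW' x).1 x.2 w hw, neg_zero]
        have h2 := hx ⟨z, hz⟩
        simp only [restrictSesq_apply] at h2
        rw [map_add, h1, h2, add_zero])) rfl
    refine ⟨m + 1, by omega, ?_⟩
    rw [card_eq_orbit_mul_fixing_pair (formIsoms B) e f,
      card_fixingIn_formIsoms B hc hW' (fun y hy w hw => by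
        rw [alt_swap B hA w y, (hW' y).1 hy w hw, neg_zero]), hcard]
    have horb : Nat.card {p : V × V // ∃ g ∈ formIsoms B, g e = p.1 ∧ g f = p.2} =
        Nat.card {p : V × V // B p.1 p.2 = 1} := by
      refine Nat.card_congr (Equiv.subtypeEquivRight fun p =>
        ⟨fun ⟨g, hg, h1, h2⟩ => by rw [← h1, ← h2, hg, hef], fun hp => ?_⟩)
      obtain ⟨v, w⟩ := p
      have hwv : B w v = -1 := by rw [alt_swap B hA v w, hp]
      let φ : W →ₗ[F] V :=
        ((-(B f)).smulRight v + (B e).smulRight w).comp W.subtype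
      have hφ : ∀ (x : W) (a b : F), a • e + b • f = (x : V) → φ x = a • v + b • w := by
        intro x a b h
        simp [φ, ← h, hA, hef, hfe]
      obtain ⟨g, -, hg, hgW⟩ := witt_alternating B hA hB W φ (by
          rw [← LinearMap.ker_eq_bot, Submodule.eq_bot_iff]
          intro x hx
          obtain ⟨a, b, hab⟩ := Submodule.mem_span_pair.1 x.2
          rw [LinearMap.mem_ker, hφ x a b hab] at hx
          have h1 := congrArg (B v) hx
          have h2 := congrArg (B w) hx
          simp [hA, hp, hwv] at h1 h2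
          exact Subtype.ext (by rw [← hab, h1, h2]; simp))
        (fun x x' => by
          obtain ⟨a, b, hab⟩ := Submodule.mem_span_pair.1 x.2
          obtain ⟨a', b', hab'⟩ := Submodule.mem_span_pair.1 x'.2
          rw [hφ x a b hab, hφ x' a' b' hab', ← hab, ← hab']
          simp [hA, hp, hwv, hef, hfe])
      refine ⟨g, hg, ?_, ?_⟩
      · have := hgW ⟨e, Submodule.subset_span (by simp)⟩
        rw [hφ ⟨e, _⟩ 1 0 (by simp)] at this
        simpa using this
      · have := hgW ⟨f, Submodule.subset_span (by simp)⟩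
        rw [hφ ⟨f, _⟩ 0 1 (by simp)] at this
        simpa using this
    rw [horb, card_alt_pairs B hB, hn, Finset.prod_range_succ, show n = 2 * (m + 1) by omega,
      show 2 * (m + 1) - 1 = 2 * m + 1 by omega]
    ring

/-- Order of the isometry group of a non-degenerate alternating form on a space of dimension `2m`. -/
theorem card_formIsoms_alt (B : V →ₗ[F] V →ₗ[F] F) (hA : ∀ v, B v v = 0)
    (hB : ∀ x, (∀ y, B x y = 0) → x = 0) (m : ℕ) (hm : Module.finrank F V = 2 * m) :
    Nat.card (formIsoms B) =
      Fintype.card F ^ (m ^ 2) * ∏ i ∈ Finset.range m, (Fintype.card F ^ (2 * (i + 1)) - 1) := by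
  obtain ⟨m', h1, h2⟩ := card_formIsoms_alt_aux _ B hA hB hm
  obtain rfl : m' = m := by omega
  exact h2

end CfsgLib.Classical
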