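import Mathlib
import Cfsg.Agent.Lib.Classical.SLGen

/-!
The action of `SL_4` on alternating 4×4 matrices: the Pfaffian and its complementary matrix.
-/

set_option autoImplicit false

namespace CfsgLib.Classical

open Matrix

variable {F : Type*} [Field F]

/-- An alternating matrix, written as `U - Uᵀ`. -/
def IsAltMat {ι : Type*} (A : Matrix ι ι F) : Prop := ∃ U : Matrix ι ι F, A = U - Uᵀ

theorem IsAltMat.diag {ι : Type*} {A : Matrix ι ι F} (h : IsAltMat A) (i : ι) : A i i = 0 := by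
  obtain ⟨U, rfl⟩ := h
  simp

theorem IsAltMat.swap {ι : Type*} {A : Matrix ι ι F} (h : IsAltMat A) (i j : ι) : A j i = -A i j := by
  obtain ⟨U, rfl⟩ := h
  simp

theorem IsAltMat.conj {ι : Type*} [Fintype ι] {A : Matrix ι ι F} (h : IsAltMat A) (g : Matrix ι ι F) :
    IsAltMat (g * A * gᵀ) := by
  obtain ⟨U, rfl⟩ := h
  refine ⟨g * U * gᵀ, ?_⟩
  rw [Matrix.mul_sub, Matrix.sub_mul, Matrix.transpose_mul, Matrix.transpose_mul, Matrix.transpose_transpose,
    Matrix.mul_assoc g Uᵀ gᵀ]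

/-- The Pfaffian of a 4×4 alternating matrix. -/
def pf4 (A : Matrix (Fin 4) (Fin 4) F) : F := A 0 1 * A 2 3 - A 0 2 * A 1 3 + A 0 3 * A 1 2

/-- The complementary matrix of a 4×4 alternating matrix: `A * star4 A = pf4 A`. -/
def star4 (A : Matrix (Fin 4) (Fin 4) F) : Matrix (Fin 4) (Fin 4) F :=
  !![0, -A 2 3, A 1 3, -A 1 2; A 2 3, 0, -A 0 3, A 0 2; -A 1 3, A 0 3, 0, -A 0 1;
     A 1 2, -A 0 2, A 0 1, 0]

theorem isAltMat_star4 (A : Matrix (Fin 4) (Fin 4) F) : IsAltMat (star4 A) := by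
  refine ⟨!![0, -A 2 3, A 1 3, -A 1 2; 0, 0, -A 0 3, A 0 2; 0, 0, 0, -A 0 1; 0, 0, 0, 0], ?_⟩
  ext i j
  fin_cases i <;> fin_cases j <;> simp [star4]

theorem star4_star4 {A : Matrix (Fin 4) (Fin 4) F} (hA : IsAltMat A) : star4 (star4 A) = A := by
  ext i j
  fin_cases i <;> fin_cases j <;> simp [star4, hA.diag, hA.swap 0 1, hA.swap 0 2, hA.swap 0 3,
    hA.swap 1 2, hA.swap 1 3, hA.swap 2 3]

theorem conj_transvection_apply {ι : Type*} [Fintype ι] [DecidableEq ι] {i j : ι} (hij : i ≠ j) (c : F)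
    (A : Matrix ι ι F) :
    ((Matrix.SpecialLinearGroup.transvection hij c : Matrix.SpecialLinearGroup ι F) : Matrix ι ι F) * A *
        ((Matrix.SpecialLinearGroup.transvection hij c : Matrix.SpecialLinearGroup ι F) : Matrix ι ι F)ᵀ =
      Matrix.of (fun k l => A k l + (if k = i then c * A j l else 0) + (if l = i then c * A k j else 0) +
        (if k = i ∧ l = i then c * c * A j j else 0)) := by
  rw [Matrix.SpecialLinearGroup.transvection_coe]
  ext a b
  simp only [Matrix.add_mul, Matrix.mul_add, Matrix.one_mul, Matrix.mul_one, Matrix.transpose_add,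
    Matrix.transpose_one, Matrix.transpose_single, Matrix.add_apply, Matrix.of_apply]
  have e1 : ∀ (M : Matrix ι ι F) (a b : ι), (Matrix.single i j c * M) a b =
      if a = i then c * M j b else 0 := by
    intro M a b
    split_ifs with h
    · subst h; simp
    · simp [h]
  have e2 : ∀ (M : Matrix ι ι F) (a b : ι), (M * Matrix.single j i c) a b =
      if b = i then c * M a j else 0 := by
    intro M a b
    split_ifs with h
    · subst h; simp [mul_comm]
    · simp [h]
  rw [e1, e2, e2, e1]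
  split_ifs <;> first | ring1 | (exfalso; simp_all; done)

theorem conj_inv_cancel (g : Matrix.SpecialLinearGroup (Fin 4) F) (A : Matrix (Fin 4) (Fin 4) F) :
    (g : Matrix (Fin 4) (Fin 4) F) * (((g⁻¹ : Matrix.SpecialLinearGroup (Fin 4) F) : Matrix (Fin 4) (Fin 4) F) *
      A * ((g⁻¹ : Matrix.SpecialLinearGroup (Fin 4) F) : Matrix (Fin 4) (Fin 4) F)ᵀ) *
      (g : Matrix (Fin 4) (Fin 4) F)ᵀ = A := by
  have e : (g : Matrix (Fin 4) (Fin 4) F) *
      ((g⁻¹ : Matrix.SpecialLinearGroup (Fin 4) F) : Matrix (Fin 4) (Fin 4) F) = 1 := by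
    rw [← Matrix.SpecialLinearGroup.coe_mul, mul_inv_cancel, Matrix.SpecialLinearGroup.coe_one]
  rw [← Matrix.mul_assoc, ← Matrix.mul_assoc, e, Matrix.one_mul, Matrix.mul_assoc,
    ← Matrix.transpose_mul, e, Matrix.transpose_one, Matrix.mul_one]

theorem pf4_conj (g : Matrix.SpecialLinearGroup (Fin 4) F) {A : Matrix (Fin 4) (Fin 4) F}
    (hA : IsAltMat A) :
    pf4 ((g : Matrix (Fin 4) (Fin 4) F) * A * (g : Matrix (Fin 4) (Fin 4) F)ᵀ) = pf4 A := by
  let H : Subgroup (Matrix.SpecialLinearGroup (Fin 4) F) :=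
    { carrier := {g | ∀ A, IsAltMat A →
        pf4 ((g : Matrix (Fin 4) (Fin 4) F) * A * (g : Matrix (Fin 4) (Fin 4) F)ᵀ) = pf4 A}
      one_mem' := fun A _ => by simp
      mul_mem' := fun {g h} hg hh A hA => by
        rw [Matrix.SpecialLinearGroup.coe_mul, Matrix.transpose_mul]
        have := hg _ (hA.conj (h : Matrix (Fin 4) (Fin 4) F))
        rw [hh A hA] at this
        simp only [Matrix.mul_assoc] at this ⊢
        exact this
      inv_mem' := fun {g} hg A hA => by
        have := hg _ (hA.conj ((g⁻¹ : Matrix.SpecialLinearGroup (Fin 4) F) : Matrix (Fin 4) (Fin 4) F))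
        rw [conj_inv_cancel g A] at this
        exact this.symm }
  have htop : H = ⊤ := sl_transvection_induction H fun i j hij c A hA => by
    rw [conj_transvection_apply]
    fin_cases i <;> fin_cases j <;> first | exact absurd rfl hij |
      (simp [pf4, hA.diag, hA.swap 0 1, hA.swap 0 2, hA.swap 0 3, hA.swap 1 2, hA.swap 1 3, hA.swap 2 3] <;>
        ring1)
  exact (htop ▸ Subgroup.mem_top g : g ∈ H) A hA

set_option maxHeartbeats 1600000 in
theorem star4_conj (g : Matrix.SpecialLinearGroup (Fin 4) F) {A : Matrix (Fin 4) (Fin 4) F}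
    (hA : IsAltMat A) :
    star4 ((g : Matrix (Fin 4) (Fin 4) F) * A * (g : Matrix (Fin 4) (Fin 4) F)ᵀ) =
      ((g⁻¹ : Matrix.SpecialLinearGroup (Fin 4) F) : Matrix (Fin 4) (Fin 4) F)ᵀ * star4 A *
        ((g⁻¹ : Matrix.SpecialLinearGroup (Fin 4) F) : Matrix (Fin 4) (Fin 4) F) := by
  let H : Subgroup (Matrix.SpecialLinearGroup (Fin 4) F) :=
    { carrier := {g | ∀ A, IsAltMat A →
        (g : Matrix (Fin 4) (Fin 4) F)ᵀ *
          star4 ((g : Matrix (Fin 4) (Fin 4) F) * A * (g : Matrix (Fin 4) (Fin 4) F)ᵀ) *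
            (g : Matrix (Fin 4) (Fin 4) F) = star4 A}
      one_mem' := fun A _ => by simp
      mul_mem' := fun {g h} hg hh A hA => by
        have h1 := hg _ (hA.conj (h : Matrix (Fin 4) (Fin 4) F))
        conv_rhs => rw [← hh A hA, ← h1]
        simp only [Matrix.SpecialLinearGroup.coe_mul, Matrix.transpose_mul, Matrix.mul_assoc]
      inv_mem' := fun {g} hg A hA => by
        have e : (g : Matrix (Fin 4) (Fin 4) F) *
            ((g⁻¹ : Matrix.SpecialLinearGroup (Fin 4) F) : Matrix (Fin 4) (Fin 4) F) = 1 := by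
          rw [← Matrix.SpecialLinearGroup.coe_mul, mul_inv_cancel, Matrix.SpecialLinearGroup.coe_one]
        obtain ⟨B, hB⟩ : ∃ B, B = ((g⁻¹ : Matrix.SpecialLinearGroup (Fin 4) F) : Matrix (Fin 4) (Fin 4) F) *
            A * ((g⁻¹ : Matrix.SpecialLinearGroup (Fin 4) F) : Matrix (Fin 4) (Fin 4) F)ᵀ := ⟨_, rfl⟩
        have h1 := hg B (hB ▸ hA.conj _)
        have hA' : (g : Matrix (Fin 4) (Fin 4) F) * B * (g : Matrix (Fin 4) (Fin 4) F)ᵀ = A := by
          rw [hB]; exact conj_inv_cancel g A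
        rw [hA'] at h1
        show ((g⁻¹ : Matrix.SpecialLinearGroup (Fin 4) F) : Matrix (Fin 4) (Fin 4) F)ᵀ *
          star4 (((g⁻¹ : Matrix.SpecialLinearGroup (Fin 4) F) : Matrix (Fin 4) (Fin 4) F) * A *
            ((g⁻¹ : Matrix.SpecialLinearGroup (Fin 4) F) : Matrix (Fin 4) (Fin 4) F)ᵀ) *
            ((g⁻¹ : Matrix.SpecialLinearGroup (Fin 4) F) : Matrix (Fin 4) (Fin 4) F) = star4 A
        rw [← hB, ← h1]
        calc _ = (((g : Matrix (Fin 4) (Fin 4) F) *
            ((g⁻¹ : Matrix.SpecialLinearGroup (Fin 4) F) : Matrix (Fin 4) (Fin 4) F)))ᵀ * star4 A *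
              ((g : Matrix (Fin 4) (Fin 4) F) *
                ((g⁻¹ : Matrix.SpecialLinearGroup (Fin 4) F) : Matrix (Fin 4) (Fin 4) F)) := by
              simp only [Matrix.transpose_mul, Matrix.mul_assoc]
          _ = star4 A := by simp only [e, Matrix.one_mul, Matrix.transpose_one, Matrix.mul_one] }
  have htop : H = ⊤ := sl_transvection_induction H fun i j hij c A hA => by
    have hd := hA.diag
    rw [conj_transvection_apply, Matrix.SpecialLinearGroup.transvection_coe]
    fin_cases i <;> fin_cases j <;> first | exact absurd rfl hij |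
      (ext a b
       fin_cases a <;> fin_cases b <;>
        simp [star4, Matrix.mul_apply, Fin.sum_univ_four, Matrix.add_apply, Matrix.one_apply,
          Matrix.single_apply, hd, hA.swap 0 1, hA.swap 0 2, hA.swap 0 3, hA.swap 1 2, hA.swap 1 3,
          hA.swap 2 3] <;> ring1)
  have h := (htop ▸ Subgroup.mem_top g : g ∈ H) A hA
  have e : (g : Matrix (Fin 4) (Fin 4) F) *
      ((g⁻¹ : Matrix.SpecialLinearGroup (Fin 4) F) : Matrix (Fin 4) (Fin 4) F) = 1 := by
    rw [← Matrix.SpecialLinearGroup.coe_mul, mul_inv_cancel, Matrix.SpecialLinearGroup.coe_one]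
  conv_rhs => rw [← h]
  calc _ = (((g : Matrix (Fin 4) (Fin 4) F) *
      ((g⁻¹ : Matrix.SpecialLinearGroup (Fin 4) F) : Matrix (Fin 4) (Fin 4) F)))ᵀ *
        star4 ((g : Matrix (Fin 4) (Fin 4) F) * A * (g : Matrix (Fin 4) (Fin 4) F)ᵀ) *
          ((g : Matrix (Fin 4) (Fin 4) F) *
            ((g⁻¹ : Matrix.SpecialLinearGroup (Fin 4) F) : Matrix (Fin 4) (Fin 4) F)) := by
        simp only [e, Matrix.one_mul, Matrix.transpose_one, Matrix.mul_one]
    _ = _ := by simp only [Matrix.transpose_mul, Matrix.mul_assoc]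

/-- A matrix fixing every elementary alternating matrix by congruence is a scalar of square one. -/
theorem scalar_of_conj_single {ι : Type*} [Fintype ι] [DecidableEq ι] (hι : 3 ≤ Fintype.card ι)
    (g : Matrix.SpecialLinearGroup ι F)
    (hg : ∀ A : Matrix ι ι F, IsAltMat A →
      (g : Matrix ι ι F) * A * (g : Matrix ι ι F)ᵀ = A) :
    ∃ r : F, r * r = 1 ∧ (g : Matrix ι ι F) = r • (1 : Matrix ι ι F) := by
  have e : ((g⁻¹ : Matrix.SpecialLinearGroup ι F) : Matrix ι ι F) * (g : Matrix ι ι F) = 1 := by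
    rw [← Matrix.SpecialLinearGroup.coe_mul, inv_mul_cancel, Matrix.SpecialLinearGroup.coe_one]
  have other : ∀ a b : ι, ∃ c, c ≠ a ∧ c ≠ b := fun a b => by
    obtain ⟨c, -, hc⟩ := Finset.exists_mem_notMem_of_card_lt_card
      (s := ({a, b} : Finset ι)) (t := Finset.univ) (by
        rw [Finset.card_univ]; exact lt_of_le_of_lt Finset.card_le_two (by omega))
    simp only [Finset.mem_insert, Finset.mem_singleton, not_or] at hc
    exact ⟨c, hc.1, hc.2⟩
  have hpair : ∀ i j : ι, IsAltMat (Matrix.single i j (1 : F) - Matrix.single j i 1) := fun i j =>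
    ⟨Matrix.single i j 1, by rw [Matrix.transpose_single]⟩
  have hswap : ∀ i j : ι, (g : Matrix ι ι F) * (Matrix.single i j (1 : F) - Matrix.single j i 1) =
      (Matrix.single i j (1 : F) - Matrix.single j i 1) *
        ((g⁻¹ : Matrix.SpecialLinearGroup ι F) : Matrix ι ι F)ᵀ := fun i j => by
    conv_rhs => rw [← hg _ (hpair i j)]
    rw [Matrix.mul_assoc _ (g : Matrix ι ι F)ᵀ, ← Matrix.transpose_mul, e, Matrix.transpose_one,
      Matrix.mul_one]
  have hoff : ∀ k i : ι, k ≠ i → (g : Matrix ι ι F) k i = 0 := by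
    intro k i hki
    obtain ⟨j, hjk, hji⟩ := other k i
    have h := congrFun (congrFun (hswap i j) k) j
    simp [Matrix.mul_sub, Matrix.sub_mul, hki, Ne.symm hjk, hji, Ne.symm hji] at h
    exact h
  have hmul : ∀ i j : ι, i ≠ j → (g : Matrix ι ι F) i i * (g : Matrix ι ι F) j j = 1 := by
    intro i j hij
    have hd : (g : Matrix ι ι F) = Matrix.diagonal fun k => (g : Matrix ι ι F) k k := by
      ext a b
      rcases eq_or_ne a b with rfl | h
      · simp
      · simp [h, hoff a b h]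
    have h := congrFun (congrFun (hg _ (hpair i j)) i) j
    rw [hd, Matrix.diagonal_transpose, Matrix.mul_diagonal, Matrix.diagonal_mul] at h
    simpa [hij, hij.symm] using h
  obtain ⟨i₀⟩ : Nonempty ι := Fintype.card_pos_iff.1 (by omega)
  have hall : ∀ i, (g : Matrix ι ι F) i i = (g : Matrix ι ι F) i₀ i₀ := by
    intro i
    rcases eq_or_ne i i₀ with rfl | hi
    · rfl
    obtain ⟨c, hc1, hc2⟩ := other i i₀
    have h1 := hmul i c hc1.symm
    have h2 := hmul i₀ c hc2.symm
    have hc0 : (g : Matrix ι ι F) c c ≠ 0 := fun h0 => by rw [h0, mul_zero] at h1; exact zero_ne_one h1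
    exact mul_right_cancel₀ hc0 (h1.trans h2.symm)
  obtain ⟨j, hj, -⟩ := other i₀ i₀
  refine ⟨(g : Matrix ι ι F) i₀ i₀, ?_, ?_⟩
  · conv_lhs => arg 2; rw [← hall j]
    exact hmul i₀ j hj.symm
  · ext a b
    rcases eq_or_ne a b with rfl | h
    · simp [hall a]
    · simp [h, hoff a b h]

end CfsgLib.Classical
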