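import Mathlib
import Cfsg.Agent.Lib.Classical.ExcIso
import Cfsg.Agent.Lib.Classical.WedgeSquare
import Cfsg.Agent.Lib.Classical.SLOrder

/-!
`PΩ⁺_6(q) ≅ PSL_4(q)`.
-/

set_option autoImplicit false

namespace CfsgLib.Classical

open Matrix CfsgLib.Geom
open scoped commutatorElement

variable {F : Type*} [Field F]

/-- Alternating 4×4 matrices as vectors for `x₀y₀ + x₁y₁ + x₂y₂`. -/
def altMat : (Fin 3 ⊕ Fin 3 → F) →ₗ[F] Matrix (Fin 4) (Fin 4) F where
  toFun v := !![0, v (.inl 0), v (.inl 1), v (.inl 2); -v (.inl 0), 0, v (.inr 2), -v (.inr 1);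
    -v (.inl 1), -v (.inr 2), 0, v (.inr 0); -v (.inl 2), v (.inr 1), -v (.inr 0), 0]
  map_add' v w := by
    ext i j
    fin_cases i <;> fin_cases j <;> simp <;> ring
  map_smul' c v := by
    ext i j
    fin_cases i <;> fin_cases j <;> simp

/-- Coordinates of an alternating 4×4 matrix. -/
def altCoord : Matrix (Fin 4) (Fin 4) F →ₗ[F] (Fin 3 ⊕ Fin 3 → F) where
  toFun M := Sum.elim ![M 0 1, M 0 2, M 0 3] ![M 2 3, -M 1 3, M 1 2]
  map_add' M N := by
    ext (i | i) <;> fin_cases i <;> simp <;> ring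
  map_smul' c M := by
    ext (i | i) <;> fin_cases i <;> simp

theorem altCoord_mat (v : Fin 3 ⊕ Fin 3 → F) : altCoord (altMat v) = v := by
  ext (i | i) <;> fin_cases i <;> simp [altMat, altCoord]

theorem altMat_coord {M : Matrix (Fin 4) (Fin 4) F} (h : IsAltMat M) : altMat (altCoord M) = M := by
  ext i j
  fin_cases i <;> fin_cases j <;> simp [altMat, altCoord, h.diag, h.swap 0 1, h.swap 0 2, h.swap 0 3,
    h.swap 1 2, h.swap 1 3, h.swap 2 3]

theorem isAltMat_altMat (v : Fin 3 ⊕ Fin 3 → F) : IsAltMat (altMat v) := by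
  refine ⟨!![0, v (.inl 0), v (.inl 1), v (.inl 2); 0, 0, v (.inr 2), -v (.inr 1);
    0, 0, 0, v (.inr 0); 0, 0, 0, 0], ?_⟩
  ext i j
  fin_cases i <;> fin_cases j <;> simp [altMat]

theorem qfPlus_three_eq (v : Fin 3 ⊕ Fin 3 → F) : qfPlus 3 F v = pf4 (altMat v) := by
  simp [qfPlus_apply, Cfsg.quadFormPlus, altMat, pf4, Fin.sum_univ_three]

/-- `SL_4` on alternating matrices. -/
noncomputable def slFour : Matrix.SpecialLinearGroup (Fin 4) F →* quadIsoms (qfPlus 3 F) :=
  quadHom (qfPlus 3 F)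
    (fun g => altCoord ∘ₗ LinearMap.mulLeft F (g : Matrix (Fin 4) (Fin 4) F) ∘ₗ
      LinearMap.mulRight F (g : Matrix (Fin 4) (Fin 4) F)ᵀ ∘ₗ altMat)
    (fun v => by simp [altCoord_mat])
    (fun g h v => by
      simp only [LinearMap.comp_apply, LinearMap.mulLeft_apply, LinearMap.mulRight_apply,
        ← Matrix.mul_assoc]
      rw [altMat_coord ((isAltMat_altMat v).conj _), Matrix.SpecialLinearGroup.coe_mul, Matrix.transpose_mul]
      simp only [Matrix.mul_assoc])
    (fun g v => by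
      simp only [LinearMap.comp_apply, LinearMap.mulLeft_apply, LinearMap.mulRight_apply,
        ← Matrix.mul_assoc, qfPlus_three_eq]
      rw [altMat_coord ((isAltMat_altMat v).conj _), pf4_conj g (isAltMat_altMat v)])

theorem slFour_apply (g : Matrix.SpecialLinearGroup (Fin 4) F) (v : Fin 3 ⊕ Fin 3 → F) :
    altMat ((slFour g).1 v) =
      (g : Matrix (Fin 4) (Fin 4) F) * altMat v * (g : Matrix (Fin 4) (Fin 4) F)ᵀ := by
  rw [slFour, quadHom_apply]
  simp only [LinearMap.comp_apply, LinearMap.mulLeft_apply, LinearMap.mulRight_apply, ← Matrix.mul_assoc]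
  exact altMat_coord ((isAltMat_altMat v).conj _)

theorem slFour_ker (g : Matrix.SpecialLinearGroup (Fin 4) F) (hg : slFour g = 1) :
    ∃ r : F, r * r = 1 ∧ (g : Matrix (Fin 4) (Fin 4) F) = r • (1 : Matrix (Fin 4) (Fin 4) F) :=
  scalar_of_conj_single (by simp) g fun A hA => by
    have h := slFour_apply g (altCoord A)
    rw [hg, altMat_coord hA] at h
    simpa [altMat_coord hA] using h.symm

variable [Fintype F]

theorem card_le_of_scalar {H ι : Type*} [Group H] [Fintype ι] [DecidableEq ι] [Nonempty ι]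
    (N : Subgroup H) (m : H → Matrix ι ι F) (hm : Function.Injective m)
    (h : ∀ x ∈ N, ∃ r : F, r * r = 1 ∧ m x = r • (1 : Matrix ι ι F)) :
    Nat.card N ≤ 2 ∧ ((2 : F) = 0 → Nat.card N ≤ 1) := by
  classical
  obtain ⟨i⟩ := ‹Nonempty ι›
  let f : N → {r : F // r * r = 1} := fun x => ⟨m x.1 i i, by
    obtain ⟨r, hr, he⟩ := h x.1 x.2
    simp [he, hr]⟩
  have hf : Function.Injective f := fun x y e => Subtype.ext (hm (by
    obtain ⟨r, -, hx⟩ := h x.1 x.2
    obtain ⟨s, -, hy⟩ := h y.1 y.2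
    have : r = s := by simpa [f, hx, hy] using congrArg Subtype.val e
    rw [hx, hy, this]))
  refine ⟨?_, fun h2 => ?_⟩
  · refine le_trans (Nat.card_le_card_of_injective f hf) ?_
    refine le_trans (Nat.card_le_card_of_injective (fun r => if r.1 = 1 then (0 : Fin 2) else 1)
      fun r s e => Subtype.ext ?_) (by simp)
    rcases mul_self_eq_one_iff.1 r.2 with hr | hr <;> rcases mul_self_eq_one_iff.1 s.2 with hs | hs <;>
      simp only [hr, hs] at e ⊢ <;> split_ifs at e <;> simp_all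
  · refine le_trans (Nat.card_le_card_of_injective f hf) (le_of_eq ?_)
    refine Nat.card_eq_one_iff_unique.2 ⟨⟨fun r s => Subtype.ext ?_⟩, ⟨⟨1, one_mul 1⟩⟩⟩
    have h1 : (-1 : F) = 1 := by linear_combination -h2
    rcases mul_self_eq_one_iff.1 r.2 with hr | hr <;> rcases mul_self_eq_one_iff.1 s.2 with hs | hs <;>
      simp [hr, hs, h1]

theorem card_sl_four : Nat.card (Matrix.SpecialLinearGroup (Fin 4) F) =
    Fintype.card F ^ 6 * ((Fintype.card F ^ 4 - 1) * (Fintype.card F ^ 3 - 1) * (Fintype.card F ^ 2 - 1)) := by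
  have hq : 1 < Fintype.card F := Fintype.one_lt_card
  refine Nat.eq_of_mul_eq_mul_left (show 0 < Fintype.card F - 1 by omega) ?_
  rw [card_sl_mul (by norm_num), Fin.prod_univ_four]
  have e : ∀ i : ℕ, i ≤ 4 → Fintype.card F ^ 4 - Fintype.card F ^ i =
      Fintype.card F ^ i * (Fintype.card F ^ (4 - i) - 1) := fun i hi => by
    rw [Nat.mul_sub, mul_one, ← pow_add, Nat.add_sub_cancel' hi]
  simp only [Fin.val_zero, Fin.val_one, Fin.val_two, show ((3 : Fin 4) : ℕ) = 3 from rfl, pow_zero]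
  rw [e 1 (by norm_num), e 2 (by norm_num), e 3 (by norm_num)]
  simp only [show 4 - 1 = 3 from rfl, show 4 - 2 = 2 from rfl, show 4 - 3 = 1 from rfl, pow_one]
  ring

theorem pOmega_plus_six :
    Nonempty (Cfsg.POmega F (Cfsg.quadFormPlus 3 F) ≃* Matrix.ProjectiveSpecialLinearGroup (Fin 4) F) := by
  rw [← qfPlus_coe]
  have hQ := qfPlus_sep (F := F) 3
  have hker : (slFour (F := F)).ker ≤ Subgroup.center (Matrix.SpecialLinearGroup (Fin 4) F) := fun g hg => by
    obtain ⟨r, -, hr⟩ := slFour_ker g hg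
    exact Subgroup.mem_center_iff.2 fun x => Subtype.ext (by
      simp [Matrix.SpecialLinearGroup.coe_mul, hr])
  obtain ⟨hc2, hc1⟩ := card_le_of_scalar (slFour (F := F)).ker
    (fun g => (g : Matrix (Fin 4) (Fin 4) F)) Subtype.val_injective (fun g hg => slFour_ker g hg)
  have hle : (slFour (F := F)).range ≤ commutator _ :=
    commutator_eq_range_le _ (commutator_sl_eq_top (by simp))
  have hO : Nat.card (quadIsoms (qfPlus 3 F)) = 2 * Nat.card (Matrix.SpecialLinearGroup (Fin 4) F) := by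
    rw [card_qfPlus_isoms 2, card_sl_four, Finset.prod_range_succ, Finset.prod_range_one]
    ring
  by_cases h2 : (2 : F) = 0
  · refine pOmega_equiv_of_hom _ slFour hker mem_center_sl_of_commutator hle (c := 1) (hc1 h2) ?_
    rw [hO, omega_index_even _ hQ (Or.inr (by simp)) h2 (by simp)]
    omega
  · refine pOmega_equiv_of_hom _ slFour hker mem_center_sl_of_commutator hle (c := 2) hc2 ?_
    rw [hO, omega_index_odd _ hQ h2 (by simp)]
    omega

end CfsgLib.Classical
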