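import Mathlib
import Cfsg.Agent.S0245
import Cfsg.Agent.Lib.Classical.ExcIsoSix
import Cfsg.Agent.Lib.Classical.SpSimple

/-!
`PΩ_5(q) ≅ PSp_4(q)` for odd `q`.
-/

set_option autoImplicit false

namespace CfsgLib.Classical

open Matrix CfsgLib.Geom
open QuadraticMap (polar)
open scoped commutatorElement

variable {F : Type*} [Field F] [Fintype F]

omit [Fintype F] in
/-- `Sp_4` inside `SL_4`. -/
noncomputable def spToSL : Matrix.symplecticGroup (Fin 2) F →* Matrix.SpecialLinearGroup (Fin 4) F where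
  toFun A := ⟨Matrix.reindex (finSumFinEquiv (m := 2) (n := 2)) (finSumFinEquiv (m := 2) (n := 2))
    (A : Matrix (Fin 2 ⊕ Fin 2) (Fin 2 ⊕ Fin 2) F), by
      rw [Matrix.det_reindex_self]; exact SymplecticGroup.det_eq_one A.2⟩
  map_one' := Subtype.ext (by simp)
  map_mul' A B := Subtype.ext (by
    show Matrix.reindex _ _ (A.1 * B.1) = Matrix.reindex _ _ A.1 * Matrix.reindex _ _ B.1
    simp [Matrix.reindex_apply, Matrix.submatrix_mul_equiv])

omit [Fintype F] in
theorem spToSL_injective : Function.Injective (spToSL (F := F)) := fun A B h =>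
  Subtype.ext ((Matrix.reindex _ _).injective (congrArg (fun g : Matrix.SpecialLinearGroup (Fin 4) F =>
    (g : Matrix (Fin 4) (Fin 4) F)) h))

omit [Fintype F] in
/-- The vector of the symplectic form. -/
def spVec : Fin 3 ⊕ Fin 3 → F := Sum.elim ![0, -1, 0] ![0, 1, 0]

omit [Fintype F] in
theorem altMat_spVec : altMat (spVec (F := F)) =
    Matrix.reindex (finSumFinEquiv (m := 2) (n := 2)) (finSumFinEquiv (m := 2) (n := 2))
      (Matrix.J (Fin 2) F) := by
  ext i j
  fin_cases i <;> fin_cases j <;>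
    simp [altMat, spVec, Matrix.J, finSumFinEquiv, Fin.addCases, Matrix.one_apply]

omit [Fintype F] in
theorem slFour_spVec (A : Matrix.symplecticGroup (Fin 2) F) :
    (slFour (spToSL A)).1 spVec = spVec := by
  have h : altMat ((slFour (spToSL A)).1 spVec) = altMat spVec := by
    rw [slFour_apply, altMat_spVec]
    show Matrix.reindex _ _ (A : Matrix (Fin 2 ⊕ Fin 2) (Fin 2 ⊕ Fin 2) F) * Matrix.reindex _ _ (Matrix.J (Fin 2) F) *
      (Matrix.reindex _ _ (A : Matrix (Fin 2 ⊕ Fin 2) (Fin 2 ⊕ Fin 2) F))ᵀ = _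
    rw [Matrix.transpose_reindex, Matrix.reindex_apply, Matrix.reindex_apply, Matrix.reindex_apply,
      Matrix.submatrix_mul_equiv, Matrix.submatrix_mul_equiv, SymplecticGroup.mem_iff.1 A.2]
  have h' := congrArg altCoord h
  rwa [altCoord_mat, altCoord_mat] at h'

omit [Fintype F] in
/-- The orthogonal complement of the symplectic vector. -/
def fiveIncl : (Unit ⊕ (Fin 2 ⊕ Fin 2) → F) →ₗ[F] (Fin 3 ⊕ Fin 3 → F) where
  toFun v := Sum.elim ![v (.inr (.inl 0)), v (.inl ()), v (.inr (.inl 1))]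
    ![v (.inr (.inr 0)), v (.inl ()), v (.inr (.inr 1))]
  map_add' v w := by
    ext (i | i) <;> fin_cases i <;> simp
  map_smul' c v := by
    ext (i | i) <;> fin_cases i <;> simp

omit [Fintype F] in
/-- A retraction onto the orthogonal complement of the symplectic vector. -/
def fiveProj : (Fin 3 ⊕ Fin 3 → F) →ₗ[F] (Unit ⊕ (Fin 2 ⊕ Fin 2) → F) where
  toFun v := Sum.elim (fun _ => v (.inl 1)) (Sum.elim ![v (.inl 0), v (.inl 2)] ![v (.inr 0), v (.inr 2)])
  map_add' v w := by
    ext (u | i | i)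
    · simp
    · fin_cases i <;> simp
    · fin_cases i <;> simp
  map_smul' c v := by
    ext (u | i | i)
    · simp
    · fin_cases i <;> simp
    · fin_cases i <;> simp

omit [Fintype F] in
theorem fiveProj_incl (v : Unit ⊕ (Fin 2 ⊕ Fin 2) → F) : fiveProj (fiveIncl v) = v := by
  ext (u | i | i)
  · simp [fiveProj, fiveIncl]
  · fin_cases i <;> simp [fiveProj, fiveIncl]
  · fin_cases i <;> simp [fiveProj, fiveIncl]

omit [Fintype F] in
theorem fiveIncl_proj {v : Fin 3 ⊕ Fin 3 → F} (h : v (.inl 1) = v (.inr 1)) :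
    fiveIncl (fiveProj v) = v := by
  ext (i | i) <;> fin_cases i <;> simp [fiveProj, fiveIncl, h]

omit [Fintype F] in
theorem qfPlus_fiveIncl (v : Unit ⊕ (Fin 2 ⊕ Fin 2) → F) :
    qfPlus 3 F (fiveIncl v) = qfOdd 2 F v := by
  simp [qfPlus_apply, qfOdd_apply, Cfsg.quadFormPlus, Cfsg.quadFormOdd, fiveIncl, Fin.sum_univ_three,
    Fin.sum_univ_two]
  ring

omit [Fintype F] in
theorem slFour_fiveIncl (A : Matrix.symplecticGroup (Fin 2) F) (v : Unit ⊕ (Fin 2 ⊕ Fin 2) → F) :
    fiveIncl (fiveProj ((slFour (spToSL A)).1 (fiveIncl v))) = (slFour (spToSL A)).1 (fiveIncl v) := by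
  refine fiveIncl_proj ?_
  have hpol : ∀ w : Fin 3 ⊕ Fin 3 → F, polar (qfPlus 3 F) spVec w = w (.inl 1) - w (.inr 1) := fun w => by
    simp [polar_qfPlus, spVec, Fin.sum_univ_three]
    ring
  have h := polar_quadIsom (slFour (spToSL A)).2 spVec (fiveIncl v)
  rw [slFour_spVec, hpol, hpol] at h
  rw [show fiveIncl v (.inl 1) - fiveIncl v (.inr 1) = 0 by simp [fiveIncl]] at h
  linear_combination h

/-- `Sp_4` on the orthogonal complement of the symplectic vector. -/
noncomputable def spFive : Matrix.symplecticGroup (Fin 2) F →* quadIsoms (qfOdd 2 F) :=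
  quadHom (qfOdd 2 F)
    (fun A => fiveProj ∘ₗ (slFour (spToSL A)).1.toLinearMap ∘ₗ fiveIncl)
    (fun v => by simp [fiveProj_incl])
    (fun A B v => by
      simp only [LinearMap.comp_apply, LinearEquiv.coe_coe, map_mul, Subgroup.coe_mul,
        LinearEquiv.mul_apply, slFour_fiveIncl])
    (fun A v => by
      simp only [LinearMap.comp_apply, LinearEquiv.coe_coe]
      rw [← qfPlus_fiveIncl, slFour_fiveIncl, mem_quadIsoms.1 (slFour (spToSL A)).2, qfPlus_fiveIncl])

theorem pOmega_five (hodd : Odd (Fintype.card F)) :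
    Nonempty (Cfsg.POmega F (Cfsg.quadFormOdd 2 F) ≃* Cfsg.PSp 2 F) := by
  have h2 := two_ne_zero_of_odd (F := F) hodd
  rw [← qfOdd_coe]
  have hkey : ∀ A ∈ (spFive (F := F)).ker, slFour (spToSL A) = 1 := by
    intro A hA
    refine Subtype.ext (LinearEquiv.ext fun v => ?_)
    obtain ⟨t, ht⟩ : ∃ t, t = (v (.inr 1) - v (.inl 1)) / 2 := ⟨_, rfl⟩
    obtain ⟨w, hw⟩ : ∃ w, w = v - t • spVec := ⟨_, rfl⟩
    have hw1 : w (.inl 1) = w (.inr 1) := by
      simp [hw, spVec, ht]; field_simp; ring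
    have hfix : (slFour (spToSL A)).1 w = w := by
      have h := congrArg (fun k : quadIsoms (qfOdd 2 F) => fiveIncl (k.1 (fiveProj w))) (MonoidHom.mem_ker.1 hA)
      simp only [spFive, quadHom_apply, LinearMap.comp_apply, LinearEquiv.coe_coe, slFour_fiveIncl,
        fiveIncl_proj hw1, Subgroup.coe_one, LinearEquiv.coe_one, id_eq] at h
      have h2' := slFour_fiveIncl A (fiveProj w)
      rw [fiveIncl_proj hw1] at h2'
      exact h2'.symm.trans h
    show (slFour (spToSL A)).1 v = v
    rw [show v = w + t • spVec by rw [hw, sub_add_cancel], map_add, map_smul, hfix, slFour_spVec]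
  have hker : (spFive (F := F)).ker ≤ Subgroup.center (Matrix.symplecticGroup (Fin 2) F) := fun A hA => by
    obtain ⟨r, -, hr⟩ := slFour_ker _ (hkey A hA)
    refine Subgroup.mem_center_iff.2 fun B => spToSL_injective ?_
    rw [map_mul, map_mul]
    exact Subtype.ext (by simp [Matrix.SpecialLinearGroup.coe_mul, hr])
  obtain ⟨hc2, -⟩ := card_le_of_scalar (spFive (F := F)).ker
    (fun A => (spToSL A : Matrix (Fin 4) (Fin 4) F)) (Subtype.val_injective.comp spToSL_injective)
    (fun A hA => slFour_ker _ (hkey A hA))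
  have hperf : commutator (Matrix.symplecticGroup (Fin 2) F) = ⊤ :=
    commutator_symplecticGroup 2 (Or.inr (Or.inl ⟨rfl, by
      have := Fintype.one_lt_card (α := F)
      rw [Nat.odd_iff] at hodd
      omega⟩))
  have hsp : Nat.card (Matrix.symplecticGroup (Fin 2) F) =
      Fintype.card F ^ 4 * ((Fintype.card F ^ 2 - 1) * (Fintype.card F ^ 4 - 1)) := by
    rw [Cfsg.Agent.S0245.result rfl 2, Finset.prod_range_succ, Finset.prod_range_one]
    norm_num
  refine pOmega_equiv_of_hom _ spFive hker (mem_center_of_perfect hperf)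
    (commutator_eq_range_le _ hperf) (c := 2) hc2 ?_
  rw [omega_index_odd _ (qfOdd_sep h2 2) h2 (by simp), card_qfOdd_isoms h2, hsp, Finset.prod_range_succ,
    Finset.prod_range_one]
  exact le_of_eq (by ring)

end CfsgLib.Classical
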