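import Mathlib
import Cfsg.Agent.Lib.Classical.ExcIsoSix
import Cfsg.Agent.Lib.Classical.ExcIsoMinusFour
import Cfsg.Agent.Lib.Classical.UnitaryGen
import Cfsg.Agent.Lib.Classical.SUCenter

/-!
`PΩ⁻_6(q) ≅ PSU_4(q)` through the real points of the alternating square of the unitary module.
-/

set_option autoImplicit false

namespace CfsgLib.Classical

open Matrix CfsgLib.Geom
open scoped commutatorElement

section Real

variable {F K : Type*} [Field F] [Field K] [Algebra F K] (σ : K →+* K)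

/-- The matrices `A` with `σ A = star4 A`. -/
def IsRealAlt (A : Matrix (Fin 4) (Fin 4) K) : Prop := IsAltMat A ∧ A.map σ = star4 A

/-- The alternating matrix with real points, from its first row. -/
def realMat (s : K × K × K) : Matrix (Fin 4) (Fin 4) K :=
  !![0, s.1, s.2.1, s.2.2; -s.1, 0, -σ s.2.2, σ s.2.1; -s.2.1, σ s.2.2, 0, -σ s.1;
     -s.2.2, -σ s.2.1, σ s.1, 0]

variable {σ}

theorem isRealAlt_realMat (hinv : ∀ k, σ (σ k) = k) (s : K × K × K) : IsRealAlt σ (realMat σ s) := by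
  refine ⟨⟨!![0, s.1, s.2.1, s.2.2; 0, 0, -σ s.2.2, σ s.2.1; 0, 0, 0, -σ s.1; 0, 0, 0, 0], ?_⟩, ?_⟩
  · ext i j
    fin_cases i <;> fin_cases j <;> simp [realMat]
  · ext i j
    fin_cases i <;> fin_cases j <;> simp [realMat, star4, hinv]

theorem realMat_of_isRealAlt (hinv : ∀ k, σ (σ k) = k) {A : Matrix (Fin 4) (Fin 4) K}
    (h : IsRealAlt σ A) : realMat σ (A 0 1, A 0 2, A 0 3) = A := by
  obtain ⟨hA, hσ⟩ := h
  have e1 : σ (A 0 1) = -A 2 3 := by simpa [star4] using congrFun (congrFun hσ 0) 1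
  have e2 : σ (A 0 2) = A 1 3 := by simpa [star4] using congrFun (congrFun hσ 0) 2
  have e3 : σ (A 0 3) = -A 1 2 := by simpa [star4] using congrFun (congrFun hσ 0) 3
  ext i j
  fin_cases i <;> fin_cases j <;>
    simp [realMat, e1, e2, e3, hA.diag, hA.swap 0 1, hA.swap 0 2, hA.swap 0 3, hA.swap 1 2, hA.swap 1 3,
      hA.swap 2 3]

theorem realMat_add (s t : K × K × K) : realMat σ (s + t) = realMat σ s + realMat σ t := by
  ext i j
  fin_cases i <;> fin_cases j <;> simp [realMat] <;> ring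

theorem realMat_smul (hfix : ∀ t : F, σ (algebraMap F K t) = algebraMap F K t) (k : F) (s : K × K × K) :
    realMat σ (k • s) = k • realMat σ s := by
  ext i j
  fin_cases i <;> fin_cases j <;> simp [realMat, Algebra.smul_def, hfix]

theorem pf4_realMat (s : K × K × K) :
    pf4 (realMat σ s) = -(s.1 * σ s.1 + s.2.1 * σ s.2.1 + s.2.2 * σ s.2.2) := by
  simp [pf4, realMat]
  ring

end Real

/-- The split form on two copies of the quadratic extension. -/
theorem minus_six_identity {K : Type*} [Field K] {θ θ' c c' e e' l l' : K} (hne : θ - θ' ≠ 0)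
    (hc : c * (e - 1) * (θ - θ') = 1) (hc' : c' * (e' - 1) * (θ - θ') = -1) (he : e' * e = 1)
    (hl : l' * l = -1) (x0 x1 y0 y1 : K) :
    x0 * y0 + x1 * y1 =
      (x0 + θ * x1 + e * (c * (θ * y0 - y1))) * (x0 + θ' * x1 + e' * (c' * (θ' * y0 - y1))) +
        l * (x0 + θ * x1 + c * (θ * y0 - y1)) * (l' * (x0 + θ' * x1 + c' * (θ' * y0 - y1))) := by
  refine mul_right_cancel₀ hne ?_
  linear_combination
    (-((x0 + θ * x1) + c * (θ * y0 - y1)) * ((x0 + θ' * x1) + c' * (θ' * y0 - y1)) * (θ - θ')) * hl -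
    (c * (θ * y0 - y1) * c' * (θ' * y0 - y1) * (θ - θ')) * he -
    ((x0 + θ * x1) * (θ' * y0 - y1)) * hc' - ((x0 + θ' * x1) * (θ * y0 - y1)) * hc

/-- A linear parametrisation of the real alternating matrices. -/
theorem exists_real_param {F K : Type*} [Field F] [Fintype F] [Field K] [Fintype K] [Algebra F K] {q : ℕ}
    (hF : Fintype.card F = q) (hK : Fintype.card K = q ^ 2) (a b : F)
    (hab : ∀ z₁ z₂ : F, z₁ ^ 2 + a * z₁ * z₂ + b * z₂ ^ 2 = 0 → z₁ = 0 ∧ z₂ = 0) (θ : K)
    (hfix : ∀ t, qFrob hK (algebraMap F K t) = algebraMap F K t)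
    (htr : θ + qFrob hK θ = algebraMap F K a) (hnorm : θ * qFrob hK θ = algebraMap F K b)
    (hne : qFrob hK θ ≠ θ) :
    ∃ X : ((Fin 2 ⊕ Fin 2) ⊕ Fin 2 → F) →ₗ[F] Matrix (Fin 4) (Fin 4) K,
      Function.Injective X ∧ (∀ v, IsRealAlt (qFrob hK) (X v)) ∧
      (∀ A, IsRealAlt (qFrob hK) A → ∃ v, X v = A) ∧
      ∀ v, algebraMap F K (qfMinus 2 F a b v) = -pf4 (X v) := by
  obtain ⟨e, he1, he⟩ := (isHermSpace_hermB hK 1).exists_norm_one
  obtain ⟨l, hl⟩ := (isHermSpace_hermB hK 1).norm_surj (-1) (by simp)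
  have hD0 : θ - qFrob hK θ ≠ 0 := sub_ne_zero.2 (Ne.symm hne)
  have he10 : e - 1 ≠ 0 := sub_ne_zero.2 he1
  obtain ⟨c, hc⟩ : ∃ c, c = ((e - 1) * (θ - qFrob hK θ))⁻¹ := ⟨_, rfl⟩
  have hc1 : c * (e - 1) * (θ - qFrob hK θ) = 1 := by
    rw [hc, mul_assoc, inv_mul_cancel₀ (mul_ne_zero he10 hD0)]
  have hc2 : qFrob hK c * (qFrob hK e - 1) * (θ - qFrob hK θ) = -1 := by
    have h2 := congrArg (qFrob hK) hc1
    simp only [map_mul, map_sub, map_one, qFrob_qFrob] at h2
    linear_combination -h2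
  let tri : ((Fin 2 ⊕ Fin 2) ⊕ Fin 2 → F) → K × K × K := fun v =>
    (algebraMap F K (v (.inl (.inl 0))) + θ * algebraMap F K (v (.inl (.inl 1))) +
        e * (c * (θ * algebraMap F K (v (.inl (.inr 0))) - algebraMap F K (v (.inl (.inr 1))))),
      l * (algebraMap F K (v (.inl (.inl 0))) + θ * algebraMap F K (v (.inl (.inl 1))) +
        c * (θ * algebraMap F K (v (.inl (.inr 0))) - algebraMap F K (v (.inl (.inr 1))))),
      algebraMap F K (v (.inr 0)) + θ * algebraMap F K (v (.inr 1)))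
  have tadd : ∀ v w, tri (v + w) = tri v + tri w := fun v w => by
    simp only [tri, Pi.add_apply, map_add, Prod.mk_add_mk, Prod.mk.injEq]
    exact ⟨by ring, by ring, by ring⟩
  have tsmul : ∀ (k : F) v, tri (k • v) = k • tri v := fun k v => by
    refine Prod.ext ?_ (Prod.ext ?_ ?_) <;> simp [tri, Algebra.smul_def] <;> ring
  let X : ((Fin 2 ⊕ Fin 2) ⊕ Fin 2 → F) →ₗ[F] Matrix (Fin 4) (Fin 4) K :=
    { toFun := fun v => realMat (qFrob hK) (tri v)
      map_add' := fun v w => by rw [tadd, realMat_add]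
      map_smul' := fun k v => by rw [tsmul, realMat_smul hfix]; rfl }
  have hXapp : ∀ v, X v = realMat (qFrob hK) (tri v) := fun v => rfl
  have hpf : ∀ v, algebraMap F K (qfMinus 2 F a b v) = -pf4 (X v) := by
    intro v
    have h := minus_six_identity hD0 hc1 hc2 he hl (algebraMap F K (v (.inl (.inl 0))))
      (algebraMap F K (v (.inl (.inl 1)))) (algebraMap F K (v (.inl (.inr 0))))
      (algebraMap F K (v (.inl (.inr 1))))
    rw [hXapp, pf4_realMat, neg_neg]
    simp only [tri, qfMinus_apply, Cfsg.quadFormMinus, Fin.sum_univ_two, map_add, map_sub, map_mul,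
      map_pow, hfix]
    rw [← htr, ← hnorm]
    linear_combination h
  have hQ := qfMinus_sep (F := F) 2 hab
  have hXinj : Function.Injective X := by
    refine (injective_iff_map_eq_zero X).2 fun v hv => hQ v fun y => ?_
    have h1 : qfMinus 2 F a b (v + y) = qfMinus 2 F a b y := by
      apply (algebraMap F K).injective
      rw [hpf, hpf, map_add, hv, zero_add]
    have h0 : qfMinus 2 F a b v = 0 := by
      apply (algebraMap F K).injective
      rw [hpf, hv, map_zero]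
      simp [pf4]
    simp [QuadraticMap.polar, h1, h0]
  refine ⟨X, hXinj, fun v => isRealAlt_realMat (qFrob_qFrob hK) _, fun A hA => ?_, hpf⟩
  have hbij : Function.Bijective tri := by
    refine (Fintype.bijective_iff_injective_and_card _).2 ⟨fun v w h => hXinj ?_, ?_⟩
    · rw [hXapp, hXapp, h]
    · simp [hF, hK]; ring
  obtain ⟨v, hv⟩ := hbij.2 (A 0 1, A 0 2, A 0 3)
  exact ⟨v, by rw [hXapp, hv, realMat_of_isRealAlt (qFrob_qFrob hK) hA]⟩

/-- The real and imaginary parts span the alternating matrices. -/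
theorem isRealAlt_combination {K : Type*} [Field K] {σ : K →+* K} (hinv : ∀ k, σ (σ k) = k)
    {A : Matrix (Fin 4) (Fin 4) K} (hA : IsAltMat A) (m : K) :
    IsRealAlt σ (m • A + σ m • (star4 A).map σ) := by
  refine ⟨?_, ?_⟩
  · obtain ⟨U, hU⟩ := hA
    obtain ⟨W, hW⟩ := isAltMat_star4 A
    refine ⟨m • U + σ m • W.map σ, ?_⟩
    rw [hW]
    ext i j
    simp [hU]
    ring
  · ext i j
    fin_cases i <;> fin_cases j <;>
      simp [star4, hinv, hA.diag, hA.swap 0 1, hA.swap 0 2, hA.swap 0 3, hA.swap 1 2, hA.swap 1 3,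
        hA.swap 2 3] <;> ring

set_option maxHeartbeats 800000 in
theorem pOmega_minus_six {F K : Type*} [Field F] [Fintype F] [Field K] [Fintype K] {q : ℕ}
    (hF : Fintype.card F = q) (hK : Fintype.card K = q ^ 2) (a b : F)
    (hab : ∀ z₁ z₂ : F, z₁ ^ 2 + a * z₁ * z₂ + b * z₂ ^ 2 = 0 → z₁ = 0 ∧ z₂ = 0) :
    Nonempty (Cfsg.POmega F (Cfsg.quadFormMinus 2 F a b) ≃* Cfsg.PSU 4 K q) := by
  obtain ⟨ι, θ, hfix, hfixed, htr, hnorm, hne⟩ := exists_quadratic_ext hF hK a b hab
  let _ : Algebra F K := ι.toAlgebra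
  obtain ⟨X, hXinj, hXreal, hsurj, hpf⟩ := exists_real_param hF hK a b hab θ hfix htr hnorm hne
  have hQ := qfMinus_sep (F := F) 2 hab
  obtain ⟨π, hπ⟩ := X.exists_leftInverse_of_injective (LinearMap.ker_eq_bot.2 hXinj)
  have hπX : ∀ v, π (X v) = v := fun v => LinearMap.congr_fun hπ v
  have hXπ : ∀ A, IsRealAlt (qFrob hK) A → X (π A) = A := by
    intro A hA
    obtain ⟨v, hv⟩ := hsurj A hA
    rw [← hv, hπX]
  have hσg : ∀ s : Cfsg.SU 4 K q, (s.1 : Matrix (Fin 4) (Fin 4) K).map (qFrob hK) =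
      ((s.1⁻¹ : Matrix.SpecialLinearGroup (Fin 4) K) : Matrix (Fin 4) (Fin 4) K)ᵀ := by
    intro s
    have h1 : (s.1 : Matrix (Fin 4) (Fin 4) K) *
        ((s.1⁻¹ : Matrix.SpecialLinearGroup (Fin 4) K) : Matrix (Fin 4) (Fin 4) K) = 1 := by
      rw [← Matrix.SpecialLinearGroup.coe_mul, mul_inv_cancel, Matrix.SpecialLinearGroup.coe_one]
    calc (s.1 : Matrix (Fin 4) (Fin 4) K).map (qFrob hK)
        = ((s.1 : Matrix (Fin 4) (Fin 4) K) *
            ((s.1⁻¹ : Matrix.SpecialLinearGroup (Fin 4) K) : Matrix (Fin 4) (Fin 4) K))ᵀ *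
            (s.1 : Matrix (Fin 4) (Fin 4) K).map (qFrob hK) := by
          rw [h1, Matrix.transpose_one, Matrix.one_mul]
      _ = _ := by
          rw [Matrix.transpose_mul, Matrix.mul_assoc, (mem_su_iff hK s.1).1 s.2, Matrix.mul_one]
  have hreal : ∀ (s : Cfsg.SU 4 K q) (A : Matrix (Fin 4) (Fin 4) K), IsRealAlt (qFrob hK) A →
      IsRealAlt (qFrob hK) ((s.1 : Matrix (Fin 4) (Fin 4) K) * A * (s.1 : Matrix (Fin 4) (Fin 4) K)ᵀ) := by
    intro s A hA
    refine ⟨hA.1.conj _, ?_⟩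
    rw [star4_conj s.1 hA.1, Matrix.map_mul, Matrix.map_mul, hA.2, Matrix.transpose_map, hσg,
      Matrix.transpose_transpose]
  let ρ : Cfsg.SU 4 K q →* quadIsoms (qfMinus 2 F a b) := quadHom (qfMinus 2 F a b)
    (fun s => π ∘ₗ LinearMap.mulLeft F (s.1 : Matrix (Fin 4) (Fin 4) K) ∘ₗ
      LinearMap.mulRight F (s.1 : Matrix (Fin 4) (Fin 4) K)ᵀ ∘ₗ X)
    (fun v => by simp [hπX])
    (fun s t v => by
      simp only [LinearMap.comp_apply, LinearMap.mulLeft_apply, LinearMap.mulRight_apply,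
        ← Matrix.mul_assoc]
      rw [hXπ _ (hreal t _ (hXreal _)), Subgroup.coe_mul,
        Matrix.SpecialLinearGroup.coe_mul, Matrix.transpose_mul]
      simp only [Matrix.mul_assoc])
    (fun s v => by
      apply (algebraMap F K).injective
      simp only [LinearMap.comp_apply, LinearMap.mulLeft_apply, LinearMap.mulRight_apply,
        ← Matrix.mul_assoc]
      rw [hpf, hpf, hXπ _ (hreal s _ (hXreal _)),
        pf4_conj s.1 (hXreal _).1])
  rw [← qfMinus_coe]
  have hscal : ∀ s ∈ ρ.ker, ∃ r : K, r * r = 1 ∧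
      (s.1 : Matrix (Fin 4) (Fin 4) K) = r • (1 : Matrix (Fin 4) (Fin 4) K) := by
    intro s hs
    have hfixA : ∀ A, IsRealAlt (qFrob hK) A →
        (s.1 : Matrix (Fin 4) (Fin 4) K) * A * (s.1 : Matrix (Fin 4) (Fin 4) K)ᵀ = A := by
      intro A hA
      have h := congrArg (fun k : quadIsoms (qfMinus 2 F a b) => X (k.1 (π A))) (MonoidHom.mem_ker.1 hs)
      simp only [ρ, quadHom_apply, LinearMap.comp_apply, LinearMap.mulLeft_apply, LinearMap.mulRight_apply,
        ← Matrix.mul_assoc, hXπ A hA, Subgroup.coe_one, LinearEquiv.coe_one, id_eq] at h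
      rwa [hXπ _ (hreal s A hA)] at h
    refine scalar_of_conj_single (by simp) s.1 fun A hA => ?_
    obtain ⟨R, hR⟩ : ∃ R : K → Matrix (Fin 4) (Fin 4) K,
        R = fun m => m • A + qFrob hK m • (star4 A).map (qFrob hK) := ⟨_, rfl⟩
    have hRreal : ∀ m, IsRealAlt (qFrob hK) (R m) := fun m =>
      hR ▸ isRealAlt_combination (qFrob_qFrob hK) hA m
    have hcomb : A = (θ - qFrob hK θ)⁻¹ • (R θ - qFrob hK θ • R 1) := by
      rw [hR]
      simp only [map_one, one_smul, smul_add]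
      rw [add_sub_add_right_eq_sub, ← sub_smul, inv_smul_smul₀ (sub_ne_zero.2 (Ne.symm hne))]
    conv_rhs => rw [hcomb]
    conv_lhs => rw [hcomb]
    simp only [Matrix.mul_smul, Matrix.smul_mul, Matrix.mul_sub, Matrix.sub_mul, hfixA _ (hRreal θ),
      hfixA _ (hRreal 1)]
  have hker : ρ.ker ≤ Subgroup.center (Cfsg.SU 4 K q) := fun s hs => by
    obtain ⟨r, -, hr⟩ := hscal s hs
    exact Subgroup.mem_center_iff.2 fun t => Subtype.ext (Subtype.ext (by
      simp [Matrix.SpecialLinearGroup.coe_mul, hr]))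
  obtain ⟨hc2, hck⟩ := card_le_of_scalar ρ.ker (fun s => (s.1 : Matrix (Fin 4) (Fin 4) K))
    (Subtype.val_injective.comp Subtype.val_injective) hscal
  have hperf : commutator (Cfsg.SU 4 K q) = ⊤ := by
    have h32 : ¬ ((4 : ℕ) = 3 ∧ q = 2) := fun h => absurd h.1 (by norm_num)
    have h := commutator_utGroup (isHermSpace_hermB hK 4) (by simp) (herm_h32 hK (by norm_num) h32)
    let E := suEquiv hK (by norm_num : 3 ≤ 4) h32
    rw [commutator_def, ← Subgroup.map_top_of_surjective E.symm.toMonoidHom E.symm.surjective,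
      ← Subgroup.map_commutator, ← commutator_def, h]
  have hH : Nat.card (Cfsg.SU 4 K q) = q ^ 6 * ((q ^ 2 - 1) * (q ^ 3 + 1) * (q ^ 4 - 1)) := by
    refine Nat.eq_of_mul_eq_mul_left (show 0 < q + 1 by omega) ?_
    rw [card_su_mul hK (by norm_num), card_gu hK]
    simp only [Finset.prod_range_succ, Finset.range_zero, Finset.prod_empty, one_mul]
    norm_num [Nat.even_iff]
    ring
  have hO : Nat.card (quadIsoms (qfMinus 2 F a b)) = 2 * Nat.card (Cfsg.SU 4 K q) := by
    rw [card_qfMinus_isoms hab 2, hH, hF, Finset.prod_range_succ, Finset.prod_range_one]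
    ring
  have hle : ρ.range ≤ commutator _ := commutator_eq_range_le ρ hperf
  by_cases h2 : (2 : F) = 0
  · have h2K : (2 : K) = 0 := by
      rw [← map_ofNat (algebraMap F K) 2, h2, map_zero]
    refine pOmega_equiv_of_hom _ ρ hker (mem_center_of_perfect hperf) hle (c := 1) (hck h2K) ?_
    rw [hO, omega_index_even _ hQ (Or.inr (by simp)) h2 (by simp)]
    omega
  · refine pOmega_equiv_of_hom _ ρ hker (mem_center_of_perfect hperf) hle (c := 2) hc2 ?_
    rw [hO, omega_index_odd _ hQ h2 (by simp)]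
    omega

end CfsgLib.Classical
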