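import Mathlib

/-!
`PGL_2(F)` is sharply 3-transitive on the projective line.
-/

set_option autoImplicit false

namespace CfsgLib.Classical

open scoped LinearAlgebra.Projectivization
open Matrix Projectivization
open scoped MatrixGroups

variable {F : Type*} [Field F]

theorem stdVec_zero_ne : (![1, 0] : Fin 2 → F) ≠ 0 := fun h => one_ne_zero (congrFun h 0)
theorem stdVec_one_ne : (![0, 1] : Fin 2 → F) ≠ 0 := fun h => one_ne_zero (congrFun h 1)
theorem stdVec_sum_ne : (![1, 1] : Fin 2 → F) ≠ 0 := fun h => one_ne_zero (congrFun h 0)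

/-- Every triple of distinct points is the image of the standard one. -/
theorem exists_gl_smul_std (a b c : ℙ F (Fin 2 → F)) (hab : a ≠ b) (hac : a ≠ c) (hbc : b ≠ c) :
    ∃ g : GL (Fin 2) F, (ProjGenLinGroup.mk g) • mk F (![1, 0] : Fin 2 → F) stdVec_zero_ne = a ∧
      (ProjGenLinGroup.mk g) • mk F (![0, 1] : Fin 2 → F) stdVec_one_ne = b ∧
      (ProjGenLinGroup.mk g) • mk F (![1, 1] : Fin 2 → F) stdVec_sum_ne = c := by
  induction a using Projectivization.ind with | _ u hu =>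
  induction b using Projectivization.ind with | _ v hv =>
  induction c using Projectivization.ind with | _ w hw =>
  have hD : u 0 * v 1 - u 1 * v 0 ≠ 0 := by
    intro h
    apply hab
    rw [mk_eq_mk_iff']
    by_cases h0 : v 0 = 0
    · have h1 : v 1 ≠ 0 := fun h1 => hv (funext fun i => by fin_cases i <;> simp [h0, h1])
      have hu0 : u 0 = 0 := by simpa [h0, h1] using h
      refine ⟨u 1 / v 1, funext fun i => ?_⟩
      fin_cases i <;> simp [h0, hu0, h1]
    · refine ⟨u 0 / v 0, funext fun i => ?_⟩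
      fin_cases i
      · simp [h0]
      · simp only [Pi.smul_apply, smul_eq_mul, Fin.mk_one]
        field_simp
        linear_combination h
  obtain ⟨α, hα⟩ : ∃ α, α = (w 0 * v 1 - w 1 * v 0) / (u 0 * v 1 - u 1 * v 0) := ⟨_, rfl⟩
  obtain ⟨β, hβ⟩ : ∃ β, β = (u 0 * w 1 - u 1 * w 0) / (u 0 * v 1 - u 1 * v 0) := ⟨_, rfl⟩
  have e0 : α * u 0 + β * v 0 = w 0 := by
    rw [hα, hβ, div_mul_eq_mul_div, div_mul_eq_mul_div, ← add_div, div_eq_iff hD]; ring
  have e1 : α * u 1 + β * v 1 = w 1 := by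
    rw [hα, hβ, div_mul_eq_mul_div, div_mul_eq_mul_div, ← add_div, div_eq_iff hD]; ring
  have hα0 : α ≠ 0 := by
    intro h
    apply hbc
    rw [eq_comm, mk_eq_mk_iff']
    refine ⟨β, funext fun i => ?_⟩
    fin_cases i <;> simp [← e0, ← e1, h]
  have hβ0 : β ≠ 0 := by
    intro h
    apply hac
    rw [eq_comm, mk_eq_mk_iff']
    refine ⟨α, funext fun i => ?_⟩
    fin_cases i <;> simp [← e0, ← e1, h]
  let g : GL (Fin 2) F := GeneralLinearGroup.mk'' !![α * u 0, β * v 0; α * u 1, β * v 1] (by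
    rw [isUnit_iff_ne_zero, det_fin_two_of]
    have : α * u 0 * (β * v 1) - β * v 0 * (α * u 1) = α * β * (u 0 * v 1 - u 1 * v 0) := by ring
    rw [this]; exact mul_ne_zero (mul_ne_zero hα0 hβ0) hD)
  refine ⟨g, ?_, ?_, ?_⟩
  · rw [PGL.mk_smul_mk, mk_eq_mk_iff']
    refine ⟨α, funext fun i => ?_⟩
    fin_cases i <;> simp [g, Units.smul_def, smul_eq_mulVec]
  · rw [PGL.mk_smul_mk, mk_eq_mk_iff']
    refine ⟨β, funext fun i => ?_⟩
    fin_cases i <;> simp [g, Units.smul_def, smul_eq_mulVec]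
  · rw [PGL.mk_smul_mk, mk_eq_mk_iff']
    refine ⟨1, funext fun i => ?_⟩
    fin_cases i <;> simp [g, Units.smul_def, smul_eq_mulVec, ← e0, ← e1]

theorem pgl_two_fix_std {g : PGL(2, F)} (h0 : g • mk F (![1, 0] : Fin 2 → F) stdVec_zero_ne = mk F (![1, 0] : Fin 2 → F) stdVec_zero_ne)
    (h1 : g • mk F (![0, 1] : Fin 2 → F) stdVec_one_ne = mk F (![0, 1] : Fin 2 → F) stdVec_one_ne)
    (h2 : g • mk F (![1, 1] : Fin 2 → F) stdVec_sum_ne = mk F (![1, 1] : Fin 2 → F) stdVec_sum_ne) : g = 1 := by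
  obtain ⟨A, rfl⟩ := ProjGenLinGroup.mk_surjective g
  rw [PGL.mk_smul_mk, mk_eq_mk_iff'] at h0 h1 h2
  obtain ⟨a, ha⟩ := h0
  obtain ⟨b, hb⟩ := h1
  obtain ⟨c, hc⟩ := h2
  have a0 := congrFun ha 0; have a1 := congrFun ha 1
  have b0 := congrFun hb 0; have b1 := congrFun hb 1
  have c0 := congrFun hc 0; have c1 := congrFun hc 1
  simp [Units.smul_def, smul_eq_mulVec, mulVec, dotProduct] at a0 a1 b0 b1 c0 c1
  rw [ProjGenLinGroup.mk_eq_one, GeneralLinearGroup.center_eq_range_scalar]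
  have hne : (A : Matrix (Fin 2) (Fin 2) F) 0 0 ≠ 0 := by
    intro h
    have hd := A.det.ne_zero
    rw [GeneralLinearGroup.val_det_apply, det_fin_two] at hd
    exact hd (by rw [h, ← a1]; ring)
  refine ⟨Units.mk0 _ hne, Units.ext (Matrix.ext fun i j => ?_)⟩
  simp only [← a1, ← b0, add_zero, zero_add] at c0 c1
  fin_cases i <;> fin_cases j <;> simp [← a1, ← b0]
  linear_combination c1 - c0

theorem pgl_two_isMultiplyPretransitive :
    MulAction.IsMultiplyPretransitive PGL(2, F) (ℙ F (Fin 2 → F)) 3 := by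
  rw [MulAction.isMultiplyPretransitive_iff]
  intro x y
  have hne : ∀ (z : Fin 3 ↪ ℙ F (Fin 2 → F)) {i j : Fin 3}, i ≠ j → z i ≠ z j :=
    fun z _ _ h e => h (z.injective e)
  obtain ⟨g, g0, g1, g2⟩ := exists_gl_smul_std (x 0) (x 1) (x 2) (hne x (by decide))
    (hne x (by decide)) (hne x (by decide))
  obtain ⟨h, h0, h1, h2⟩ := exists_gl_smul_std (y 0) (y 1) (y 2) (hne y (by decide))
    (hne y (by decide)) (hne y (by decide))
  refine ⟨ProjGenLinGroup.mk h * (ProjGenLinGroup.mk g)⁻¹, Function.Embedding.ext fun i => ?_⟩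
  rw [Function.Embedding.smul_apply, mul_smul]
  fin_cases i
  · change _ • _ • x 0 = y 0
    rw [← g0, inv_smul_smul, h0]
  · change _ • _ • x 1 = y 1
    rw [← g1, inv_smul_smul, h1]
  · change _ • _ • x 2 = y 2
    rw [← g2, inv_smul_smul, h2]

theorem pgl_two_eq_one_of_fix (g : PGL(2, F)) (a b c : ℙ F (Fin 2 → F)) (hab : a ≠ b)
    (hac : a ≠ c) (hbc : b ≠ c) (ha : g • a = a) (hb : g • b = b) (hc : g • c = c) : g = 1 := by
  obtain ⟨h, h0, h1, h2⟩ := exists_gl_smul_std a b c hab hac hbc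
  obtain ⟨k, hk⟩ : ∃ k, k = (ProjGenLinGroup.mk h)⁻¹ * g * ProjGenLinGroup.mk h := ⟨_, rfl⟩
  have key : k = 1 := by
    refine pgl_two_fix_std ?_ ?_ ?_
    · rw [hk, mul_smul, mul_smul, h0, ha, ← h0, inv_smul_smul]
    · rw [hk, mul_smul, mul_smul, h1, hb, ← h1, inv_smul_smul]
    · rw [hk, mul_smul, mul_smul, h2, hc, ← h2, inv_smul_smul]
  rw [hk, mul_eq_one_iff_eq_inv] at key
  simpa using key

theorem mk_toGL_smul (s : Matrix.SpecialLinearGroup (Fin 2) F) (p : ℙ F (Fin 2 → F)) :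
    ProjGenLinGroup.mk (Matrix.SpecialLinearGroup.toGL s) • p = s • p := by
  induction p using Projectivization.ind with | _ v hv =>
  rw [PGL.mk_smul_mk, smul_mk]
  rfl

theorem sl_two_three_pretransitive_iff :
    MulAction.IsMultiplyPretransitive (Matrix.SpecialLinearGroup (Fin 2) F) (ℙ F (Fin 2 → F)) 3 ↔
      ∀ r : F, ∃ a : F, a ^ 2 = r := by
  constructor
  · intro h r
    by_cases hr : r = 0
    · exact ⟨0, by simp [hr]⟩
    rw [MulAction.isMultiplyPretransitive_iff] at h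
    have hr' : (![1, r] : Fin 2 → F) ≠ 0 := fun h => one_ne_zero (congrFun h 0)
    have ne1 : mk F (![1, 0] : Fin 2 → F) stdVec_zero_ne ≠ mk F (![0, 1] : Fin 2 → F) stdVec_one_ne := by
      rw [Ne, mk_eq_mk_iff']; rintro ⟨a, ha⟩; simpa using congrFun ha 0
    have ne2 : ∀ (t : F) (ht : (![1, t] : Fin 2 → F) ≠ 0), t ≠ 0 →
        mk F (![1, 0] : Fin 2 → F) stdVec_zero_ne ≠ mk F ![1, t] ht ∧ mk F (![0, 1] : Fin 2 → F) stdVec_one_ne ≠ mk F ![1, t] ht := by
      intro t ht t0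
      constructor <;> rw [Ne, mk_eq_mk_iff'] <;> rintro ⟨a, ha⟩
      · have := congrFun ha 0; have := congrFun ha 1; simp_all
      · have := congrFun ha 0; have := congrFun ha 1; simp_all
    let f : ∀ (t : F) (ht : (![1, t] : Fin 2 → F) ≠ 0), t ≠ 0 → (Fin 3 ↪ ℙ F (Fin 2 → F)) :=
      fun t ht t0 => ⟨![mk F (![1, 0] : Fin 2 → F) stdVec_zero_ne, mk F (![0, 1] : Fin 2 → F) stdVec_one_ne, mk F ![1, t] ht], by
        intro i j hij
        fin_cases i <;> fin_cases j <;> simp at hij ⊢ <;>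
          first
            | exact absurd hij ne1 | exact absurd hij.symm ne1
            | exact absurd hij (ne2 t ht t0).1 | exact absurd hij.symm (ne2 t ht t0).1
            | exact absurd hij (ne2 t ht t0).2 | exact absurd hij.symm (ne2 t ht t0).2⟩
    obtain ⟨g, hg⟩ := h (f 1 stdVec_sum_ne one_ne_zero) (f r hr' hr)
    have e0 : g • mk F (![1, 0] : Fin 2 → F) stdVec_zero_ne = mk F (![1, 0] : Fin 2 → F) stdVec_zero_ne := congr($hg 0)
    have e1 : g • mk F (![0, 1] : Fin 2 → F) stdVec_one_ne = mk F (![0, 1] : Fin 2 → F) stdVec_one_ne := congr($hg 1)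
    have e2 : g • mk F (![1, 1] : Fin 2 → F) stdVec_sum_ne = mk F ![1, r] hr' := congr($hg 2)
    rw [smul_mk, mk_eq_mk_iff'] at e0 e1 e2
    obtain ⟨a, ha⟩ := e0; obtain ⟨b, hb⟩ := e1; obtain ⟨c, hc⟩ := e2
    have a1 := congrFun ha 1; have b0 := congrFun hb 0
    have c0 := congrFun hc 0; have c1 := congrFun hc 1
    have hd := g.2
    rw [det_fin_two] at hd
    simp [Matrix.SpecialLinearGroup.smul_def, smul_eq_mulVec, mulVec, dotProduct] at a1 b0 c0 c1
    rw [← a1, ← b0] at hd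
    refine ⟨g.1 1 1, ?_⟩
    simp only [← a1, ← b0, add_zero, zero_add] at c0 c1
    linear_combination r * hd + g.1 1 1 * r * c0 - g.1 1 1 * c1
  · intro h
    rw [MulAction.isMultiplyPretransitive_iff]
    intro x y
    obtain ⟨p, hp⟩ := MulAction.isMultiplyPretransitive_iff.1 pgl_two_isMultiplyPretransitive x y
    obtain ⟨s, rfl⟩ := Matrix.ProjectiveSpecialLinearGroup.toPGL_surj_of_roots (n := Fin 2) (R := F)
      (fun r => by
        obtain ⟨a, ha⟩ := h r
        have ha0 : a ≠ 0 := by rintro rfl; simpa using ha.symm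
        exact ⟨Units.mk0 a ha0, Units.ext (by simpa using ha)⟩) p
    obtain ⟨s, rfl⟩ := QuotientGroup.mk_surjective s
    refine ⟨s, Function.Embedding.ext fun i => ?_⟩
    rw [← hp, Function.Embedding.smul_apply, Function.Embedding.smul_apply,
      Matrix.ProjectiveSpecialLinearGroup.toPGL_mk, mk_toGL_smul]

end CfsgLib.Classical
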