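import Cfsg.Agent.Lib.Classical.ExcIsoSix
import Cfsg.Agent.Lib.Classical.AltOrder
import Cfsg.Agent.Lib.Geom.Symp

/-!
# Permutation modules over `GF(2)`: `Sp₄(2) ≅ S₆` and `PSL₄(2) ≅ A₈`

`S_{2k}` acts on the even subsets modulo the full set.
-/

namespace CfsgLib.Classical

open Equiv CfsgLib.Geom

/-- Indicator matrix of a family of subsets. -/
def setMat {n : ℕ} {ι : Type*} (S : ι → Finset (Fin n)) : Matrix (Fin n) ι (ZMod 2) :=
  fun j i => if j ∈ S i then 1 else 0

section General

variable {n : ℕ} {ι : Type} [Fintype ι] (S D : ι → Finset (Fin n))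

/-- The action of a permutation on a subquotient of the permutation module, in coordinates:
lift with the subsets `S`, permute, project with the dual subsets `D`. -/
def permAct (σ : Perm (Fin n)) : (ι → ZMod 2) →ₗ[ZMod 2] (ι → ZMod 2) :=
  Matrix.mulVecLin (setMat D).transpose ∘ₗ
    LinearMap.funLeft (ZMod 2) (ZMod 2) ⇑(σ⁻¹) ∘ₗ Matrix.mulVecLin (setMat S)

/-- The hypotheses making `permAct` an action. -/
def IsPermBasis : Prop :=
  (∀ v : ι → ZMod 2, (setMat D).transpose.mulVec ((setMat S).mulVec v) = v) ∧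
  (∀ v : ι → ZMod 2, ∑ j, (setMat S).mulVec v j = 0) ∧
  (∀ w : Fin n → ZMod 2, ∑ j, w j = 0 → ∃ t : ZMod 2,
    ∀ j, (setMat S).mulVec ((setMat D).transpose.mulVec w) j = w j + t) ∧
  (∀ i, (setMat D).transpose.mulVec (fun _ => 1) i = 0)

variable {S D}

theorem permAct_apply (σ : Perm (Fin n)) (v : ι → ZMod 2) :
    permAct S D σ v = (setMat D).transpose.mulVec (fun j => (setMat S).mulVec v (σ⁻¹ j)) :=
  rfl

theorem permAct_one (h : IsPermBasis S D) (v : ι → ZMod 2) : permAct S D 1 v = v := by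
  rw [permAct_apply]
  simpa using h.1 v

theorem permAct_mul (h : IsPermBasis S D) (g k : Perm (Fin n)) (v : ι → ZMod 2) :
    permAct S D (g * k) v = permAct S D g (permAct S D k v) := by
  obtain ⟨-, h2, h3, h4⟩ := h
  have hs : ∑ j, (setMat S).mulVec v (k⁻¹ j) = 0 := by
    rw [Equiv.sum_comp k⁻¹ (fun j => (setMat S).mulVec v j), h2]
  obtain ⟨t, ht⟩ := h3 _ hs
  rw [permAct_apply g, permAct_apply k]
  simp only [ht]
  have e : (fun j => (setMat S).mulVec v (k⁻¹ (g⁻¹ j)) + t) =
      (fun j => (setMat S).mulVec v ((g * k)⁻¹ j)) + t • (fun _ => (1 : ZMod 2)) := by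
    funext j
    simp [mul_inv_rev, Perm.mul_apply]
  rw [e, Matrix.mulVec_add, Matrix.mulVec_smul, funext h4, permAct_apply]
  exact (add_eq_left.2 (smul_zero t)).symm

end General

/-! ### `Sp₄(2) ≅ S₆` -/

/-- Even subsets forming a symplectic basis. -/
def sixSet : Fin 2 ⊕ Fin 2 → Finset (Fin 6) :=
  Sum.elim ![{0, 1}, {3, 4}] ![{1, 2}, {4, 5}]

/-- The dual family. -/
def sixDual : Fin 2 ⊕ Fin 2 → Finset (Fin 6) := fun i => sixSet i.swap

theorem six_basis : IsPermBasis sixSet sixDual := by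
  unfold IsPermBasis
  decide +kernel

theorem six_form : ∀ w w' : Fin 6 → ZMod 2, ∑ j, w j = 0 → ∑ j, w' j = 0 →
    Cfsg.sympForm 2 (ZMod 2) ((setMat sixDual).transpose.mulVec w)
      ((setMat sixDual).transpose.mulVec w') = ∑ j, w j * w' j := by
  intro w w' hw hw'
  simp only [sympForm_eq_sum, Fin.sum_univ_two]
  simp only [Matrix.mulVec, dotProduct, Matrix.transpose_apply, setMat, sixDual, sixSet, Fin.sum_univ_six]
    at hw hw' ⊢
  simp
  grind

theorem six_act_form (σ : Perm (Fin 6)) (u v : Fin 2 ⊕ Fin 2 → ZMod 2) :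
    Cfsg.sympForm 2 (ZMod 2) (permAct sixSet sixDual σ u) (permAct sixSet sixDual σ v) =
      Cfsg.sympForm 2 (ZMod 2) u v := by
  have hu := six_basis.2.1 u
  have hv := six_basis.2.1 v
  rw [permAct_apply, permAct_apply, six_form _ _ ((Equiv.sum_comp σ⁻¹ _).trans hu)
    ((Equiv.sum_comp σ⁻¹ _).trans hv),
    Equiv.sum_comp σ⁻¹ (fun j => (setMat sixSet).mulVec u j * (setMat sixSet).mulVec v j),
    ← six_form _ _ hu hv, six_basis.1, six_basis.1]

/-- `S₆ → Sp₄(2)`. -/
noncomputable def sixHom : Perm (Fin 6) →* Matrix.symplecticGroup (Fin 2) (ZMod 2) where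
  toFun σ := ⟨LinearMap.toMatrix' (permAct sixSet sixDual σ), (mem_symplecticGroup_iff_form _).2 fun u v => by
    rw [LinearMap.toMatrix'_mulVec, LinearMap.toMatrix'_mulVec]; exact six_act_form σ u v⟩
  map_one' := Subtype.ext (by
    show LinearMap.toMatrix' (permAct sixSet sixDual 1) = 1
    rw [show permAct sixSet sixDual 1 = LinearMap.id from LinearMap.ext (permAct_one six_basis)]
    exact LinearMap.toMatrix'_id)
  map_mul' g h := Subtype.ext (by
    show LinearMap.toMatrix' (permAct sixSet sixDual (g * h)) =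
      LinearMap.toMatrix' (permAct sixSet sixDual g) * LinearMap.toMatrix' (permAct sixSet sixDual h)
    rw [← LinearMap.toMatrix'_comp]
    exact congrArg _ (LinearMap.ext (permAct_mul six_basis g h)))

set_option maxHeartbeats 1000000 in
theorem six_faithful : ∀ σ : Perm (Fin 6),
    (∀ i, permAct sixSet sixDual σ (Pi.single i 1) = Pi.single i 1) → σ = 1 := by
  decide +kernel

theorem sp_four_two_equiv :
    Nonempty (Matrix.symplecticGroup (Fin 2) (ZMod 2) ≃* Perm (Fin 6)) := by
  have hinj : Function.Injective sixHom := (injective_iff_map_eq_one sixHom).2 fun σ hσ =>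
    six_faithful σ fun i => by
      have h1 : LinearMap.toMatrix' (permAct sixSet sixDual σ) = 1 := congrArg Subtype.val hσ
      rw [LinearMap.toMatrix'.injective (h1.trans LinearMap.toMatrix'_id.symm)]
      rfl
  have hcard : Nat.card (Perm (Fin 6)) = Nat.card (Matrix.symplecticGroup (Fin 2) (ZMod 2)) := by
    rw [← Nat.card_congr (spEquiv 2 (ZMod 2)).toEquiv,
      card_formIsoms_alt (sympBilin 2 (ZMod 2)) sympBilin_self sympBilin_sep 2
        (by simp), Nat.card_perm, Nat.card_fin, ZMod.card]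
    rfl
  exact ⟨(MulEquiv.ofBijective sixHom ((Nat.bijective_iff_injective_and_card _).2 ⟨hinj, hcard⟩)).symm⟩

/-- Symplectic groups over isomorphic fields. -/
def spMap {l : Type*} [Fintype l] [DecidableEq l] {F K : Type*} [Field F] [Field K] (e : F ≃+* K) :
    Matrix.symplecticGroup l F →* Matrix.symplecticGroup l K where
  toFun A := ⟨(A : Matrix (l ⊕ l) (l ⊕ l) F).map e, by
    rw [SymplecticGroup.mem_iff]
    have hJ : (Matrix.J l F).map e = Matrix.J l K := by
      simp [Matrix.J, Matrix.fromBlocks_map, Matrix.map_neg]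
    rw [← hJ, ← Matrix.transpose_map, ← Matrix.map_mul, ← Matrix.map_mul, SymplecticGroup.mem_iff.1 A.2]⟩
  map_one' := Subtype.ext (by simp)
  map_mul' A B := Subtype.ext (Matrix.map_mul (f := (e : F →+* K)))

/-- `spMap` as an equivalence. -/
def spCongr {l : Type*} [Fintype l] [DecidableEq l] {F K : Type*} [Field F] [Field K] (e : F ≃+* K) :
    Matrix.symplecticGroup l F ≃* Matrix.symplecticGroup l K :=
  { spMap e with
    invFun := spMap e.symm
    left_inv := fun A => Subtype.ext (by ext i j; exact e.symm_apply_apply _)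
    right_inv := fun A => Subtype.ext (by ext i j; exact e.apply_symm_apply _) }

/-! ### `PSL₄(2) ≅ A₈` -/

/-- Even subsets forming a hyperbolic basis. -/
def eightSet : Fin 3 ⊕ Fin 3 → Finset (Fin 8) :=
  Sum.elim ![{0, 1, 2, 3}, {0, 1, 5, 6}, {0, 2, 6, 7}] ![{0, 1, 2, 4}, {0, 1, 5, 7}, {0, 3, 4, 5}]

/-- The dual family. -/
def eightDual : Fin 3 ⊕ Fin 3 → Finset (Fin 8) := fun i => eightSet i.swap

theorem eight_basis : IsPermBasis eightSet eightDual := by
  unfold IsPermBasis
  decide +kernel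

/-- Half the weight, as a sum over pairs. -/
def pairSum (w : Fin 8 → ZMod 2) : ZMod 2 :=
  ∑ s ∈ (Finset.univ : Finset (Fin 8)).powersetCard 2, ∏ j ∈ s, w j

theorem pairSum_comp (σ : Perm (Fin 8)) (w : Fin 8 → ZMod 2) :
    pairSum (fun j => w (σ j)) = pairSum w := by
  rw [pairSum, pairSum]
  conv_rhs => rw [← Finset.map_univ_equiv σ, Finset.powersetCard_map, Finset.sum_map]
  exact Finset.sum_congr rfl fun s _ => (Finset.prod_map s σ.toEmbedding w).symm

theorem eight_quad : ∀ w : Fin 8 → ZMod 2, ∑ j, w j = 0 →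
    Cfsg.quadFormPlus 3 (ZMod 2) ((setMat eightDual).transpose.mulVec w) = pairSum w := by
  unfold pairSum Cfsg.quadFormPlus
  decide +kernel

theorem eight_act_quad (σ : Perm (Fin 8)) (v : Fin 3 ⊕ Fin 3 → ZMod 2) :
    qfPlus 3 (ZMod 2) (permAct eightSet eightDual σ v) = qfPlus 3 (ZMod 2) v := by
  have hv := eight_basis.2.1 v
  rw [qfPlus_apply, qfPlus_apply, permAct_apply, eight_quad _ ((Equiv.sum_comp σ⁻¹ _).trans hv),
    pairSum_comp, ← eight_quad _ hv, eight_basis.1]

/-- `S₈ → O⁺₆(2)`. -/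
noncomputable def eightHom : Perm (Fin 8) →* quadIsoms (qfPlus 3 (ZMod 2)) :=
  quadHom (qfPlus 3 (ZMod 2)) (permAct eightSet eightDual) (permAct_one eight_basis)
    (permAct_mul eight_basis) eight_act_quad

theorem eightHom_injective : Function.Injective eightHom := by
  rw [← MonoidHom.ker_eq_bot_iff]
  by_contra hne
  have : Nontrivial eightHom.ker := (Subgroup.nontrivial_iff_ne_bot _).2 hne
  have hA := Equiv.Perm.alternatingGroup_le_of_normal (α := Fin 8) (by simp) (N := eightHom.ker) this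
  have hc : (swap (0 : Fin 8) 4 * swap 4 5 : Perm (Fin 8)) ∈ eightHom.ker :=
    hA (Equiv.Perm.mem_alternatingGroup.2 (by decide +kernel))
  have h1 := congrArg (fun e => e.1 (Pi.single (Sum.inl 0) (1 : ZMod 2))) (MonoidHom.mem_ker.1 hc)
  simp only [eightHom, quadHom_apply] at h1
  have h2 : permAct eightSet eightDual (swap (0 : Fin 8) 4 * swap 4 5) (Pi.single (Sum.inl 0) 1) ≠
      Pi.single (Sum.inl 0) 1 := by decide +kernel
  exact h2 h1

theorem pOmega_plus_six_two_equiv :
    Nonempty (Cfsg.POmega (ZMod 2) (Cfsg.quadFormPlus 3 (ZMod 2)) ≃* alternatingGroup (Fin 8)) := by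
  have hf : Finite ((Fin 3 ⊕ Fin 3 → ZMod 2) ≃ₗ[ZMod 2] (Fin 3 ⊕ Fin 3 → ZMod 2)) :=
    Finite.of_injective (fun e => (e : (Fin 3 ⊕ Fin 3 → ZMod 2) → (Fin 3 ⊕ Fin 3 → ZMod 2)))
      DFunLike.coe_injective
  have hfin : Finite (quadIsoms (qfPlus 3 (ZMod 2))) := Subtype.finite
  have hcard : Nat.card (Perm (Fin 8)) = Nat.card (quadIsoms (qfPlus 3 (ZMod 2))) := by
    rw [card_qfPlus_isoms 2, Nat.card_perm, Nat.card_fin, ZMod.card]
    rfl
  let e : Perm (Fin 8) ≃* quadIsoms (qfPlus 3 (ZMod 2)) :=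
    MulEquiv.ofBijective eightHom ((Nat.bijective_iff_injective_and_card _).2 ⟨eightHom_injective, hcard⟩)
  have hmap : (alternatingGroup (Fin 8)).map e.toMonoidHom = commutator (quadIsoms (qfPlus 3 (ZMod 2))) := by
    rw [← alternatingGroup.commutator_perm_eq (α := Fin 8) (by simp), commutator_def, Subgroup.map_commutator,
      Subgroup.map_top_of_surjective e.toMonoidHom e.surjective, ← commutator_def]
  have f : alternatingGroup (Fin 8) ≃* ↥(Cfsg.Omega (ZMod 2) (⇑(qfPlus 3 (ZMod 2)))) :=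
    ((e.subgroupMap _).trans (MulEquiv.subgroupCongr hmap)).trans (omegaEquiv _)
  have hs : IsSimpleGroup (alternatingGroup (Fin 8)) := alternatingGroup.isSimpleGroup (by simp)
  have hbot : Subgroup.center (alternatingGroup (Fin 8)) = ⊥ := by
    refine (inferInstance : (Subgroup.center (alternatingGroup (Fin 8))).Normal).eq_bot_or_eq_top.resolve_right
      fun h => ?_
    have h1 : ¬ ∀ a b : alternatingGroup (Fin 8), a * b = b * a := fun h' => by
      have := h' ⟨swap 0 1 * swap 1 2, Equiv.Perm.mem_alternatingGroup.2 (by decide +kernel)⟩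
        ⟨swap 2 3 * swap 3 4, Equiv.Perm.mem_alternatingGroup.2 (by decide +kernel)⟩
      revert this; decide +kernel
    exact h1 fun a b => Subgroup.mem_center_iff.1 (h ▸ Subgroup.mem_top b) a
  rw [← qfPlus_coe]
  exact ⟨((centerQuotCongr f).symm.trans (QuotientGroup.quotientMulEquivOfEq hbot)).trans
    QuotientGroup.quotientBot⟩

/-- Special linear groups over isomorphic fields. -/
def slCongr {l : Type*} [Fintype l] [DecidableEq l] {F K : Type*} [Field F] [Field K] (e : F ≃+* K) :
    Matrix.SpecialLinearGroup l F ≃* Matrix.SpecialLinearGroup l K :=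
  { Matrix.SpecialLinearGroup.map (e : F →+* K) with
    invFun := Matrix.SpecialLinearGroup.map (e.symm : K →+* F)
    left_inv := fun A => Subtype.ext (by ext i j; exact e.symm_apply_apply _)
    right_inv := fun A => Subtype.ext (by ext i j; exact e.apply_symm_apply _) }

end CfsgLib.Classical
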