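import Mathlib
import Cfsg.Agent.Lib.Classical.SLTwoSylow
import Cfsg.Agent.Lib.Classical.Conic

/-!
The split and non-split tori of `SL_2(q)`.
-/

set_option autoImplicit false

namespace CfsgLib.Classical

open Matrix
open scoped MatrixGroups

variable {F : Type*} [Field F]

/-- The split torus of `SL_2`. -/
def splitTorus (F : Type*) [Field F] : Fˣ →* SL(2, F) where
  toFun u := ⟨!![(u : F), 0; 0, (↑u⁻¹ : F)], by simp [det_fin_two_of]⟩
  map_one' := Subtype.ext (by simp [Matrix.one_fin_two])
  map_mul' u v := Subtype.ext (by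
    change _ = !![(u : F), 0; 0, (↑u⁻¹ : F)] * !![(v : F), 0; 0, (↑v⁻¹ : F)]
    ext i j
    fin_cases i <;> fin_cases j <;> simp [Matrix.mul_apply, Fin.sum_univ_two, mul_comm])

theorem splitTorus_injective : Function.Injective (splitTorus F) := fun u v h => by
  have := congrArg (fun A : SL(2, F) => (A : Matrix (Fin 2) (Fin 2) F) 0 0) h
  exact Units.ext (show (!![(u : F), 0; 0, (↑u⁻¹ : F)] : Matrix (Fin 2) (Fin 2) F) 0 0 =
    (!![(v : F), 0; 0, (↑v⁻¹ : F)] : Matrix (Fin 2) (Fin 2) F) 0 0 from this)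

theorem isCyclic_splitTorus [Finite F] : IsCyclic (splitTorus F).range :=
  isCyclic_of_surjective (splitTorus F).rangeRestrict (splitTorus F).rangeRestrict_surjective

theorem card_splitTorus [Fintype F] : Nat.card (splitTorus F).range = Fintype.card F - 1 := by
  rw [← Nat.card_congr (MonoidHom.ofInjective splitTorus_injective).toEquiv, Nat.card_units,
    Nat.card_eq_fintype_card]

/-- The non-split torus attached to a binary form `x² + a x y + b y²`. -/
def nsTorus (a b : F) : Subgroup SL(2, F) where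
  carrier := {g | ∃ x y : F, (g : Matrix (Fin 2) (Fin 2) F) = !![x, -b * y; y, x + a * y]}
  mul_mem' := by
    rintro g h ⟨x, y, hg⟩ ⟨x', y', hh⟩
    refine ⟨x * x' - b * y * y', y * x' + x * y' + a * y * y', ?_⟩
    rw [Matrix.SpecialLinearGroup.coe_mul, hg, hh]
    ext i j
    fin_cases i <;> fin_cases j <;> simp [Matrix.mul_apply, Fin.sum_univ_two] <;> ring
  one_mem' := ⟨1, 0, by simp [Matrix.one_fin_two]⟩
  inv_mem' := by
    rintro g ⟨x, y, hg⟩
    refine ⟨x + a * y, -y, ?_⟩
    rw [Matrix.SpecialLinearGroup.coe_inv, hg, adjugate_fin_two_of]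
    ext i j
    fin_cases i <;> fin_cases j <;> simp

theorem nsTorus_det {a b : F} {g : SL(2, F)} {x y : F}
    (h : (g : Matrix (Fin 2) (Fin 2) F) = !![x, -b * y; y, x + a * y]) :
    x ^ 2 + a * x * y + b * y ^ 2 = 1 := by
  have := g.2
  rw [h, det_fin_two_of] at this
  linear_combination this

theorem card_nsTorus [Fintype F] {a b : F}
    (hab : ∀ z₁ z₂ : F, z₁ ^ 2 + a * z₁ * z₂ + b * z₂ ^ 2 = 0 → z₁ = 0 ∧ z₂ = 0) :
    Nat.card (nsTorus a b) = Fintype.card F + 1 := by
  rw [← card_conic hab]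
  refine Nat.card_congr
    { toFun := fun g => ⟨((g.1 : Matrix (Fin 2) (Fin 2) F) 0 0, (g.1 : Matrix (Fin 2) (Fin 2) F) 1 0), by
        obtain ⟨x, y, h⟩ := g.2
        simpa [h] using nsTorus_det h⟩
      invFun := fun p => ⟨⟨!![p.1.1, -b * p.1.2; p.1.2, p.1.1 + a * p.1.2], by
          rw [det_fin_two_of]; linear_combination p.2⟩, _, _, rfl⟩
      left_inv := fun g => by
        obtain ⟨x, y, h⟩ := g.2
        refine Subtype.ext (Subtype.ext ?_)
        simp [h]
      right_inv := fun p => Subtype.ext (Prod.ext (by simp) (by simp)) }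

theorem isCyclic_nsTorus [Fintype F] {a b : F}
    (hab : ∀ z₁ z₂ : F, z₁ ^ 2 + a * z₁ * z₂ + b * z₂ ^ 2 = 0 → z₁ = 0 ∧ z₂ = 0) :
    IsCyclic (nsTorus a b) := by
  obtain ⟨μ, hμ⟩ := IsAlgClosed.exists_root
    (Polynomial.X ^ 2 - Polynomial.C (algebraMap F (AlgebraicClosure F) a) * Polynomial.X +
      Polynomial.C (algebraMap F (AlgebraicClosure F) b))
    (ne_of_eq_of_ne (b := 2) (by compute_degree!) (by decide))
  have hμ' : μ ^ 2 - algebraMap F (AlgebraicClosure F) a * μ + algebraMap F (AlgebraicClosure F) b = 0 := by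
    simpa using hμ
  let φ : nsTorus a b →* AlgebraicClosure F :=
    { toFun := fun g => algebraMap F _ ((g.1 : Matrix (Fin 2) (Fin 2) F) 0 0) +
        algebraMap F _ ((g.1 : Matrix (Fin 2) (Fin 2) F) 1 0) * μ
      map_one' := by simp
      map_mul' := fun g h => by
        obtain ⟨x, y, hg⟩ := g.2
        obtain ⟨x', y', hh⟩ := h.2
        simp [hg, hh, Matrix.mul_apply, Fin.sum_univ_two]
        linear_combination (-(algebraMap F (AlgebraicClosure F) y * algebraMap F (AlgebraicClosure F) y')) * hμ' }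
  refine isCyclic_of_subgroup_isDomain φ ?_
  intro g h hgh
  obtain ⟨x, y, hg⟩ := g.2
  obtain ⟨x', y', hh⟩ := h.2
  simp [φ, hg, hh] at hgh
  have hy : y = y' := by
    by_contra hne
    have hμF : μ = algebraMap F _ ((x' - x) / (y - y')) := by
      have hsub : (algebraMap F (AlgebraicClosure F) y - algebraMap F _ y') ≠ 0 :=
        sub_ne_zero.2 fun h => hne ((algebraMap F (AlgebraicClosure F)).injective h)
      rw [map_div₀, map_sub, map_sub, eq_div_iff hsub]
      linear_combination hgh
    rw [hμF, ← map_pow, ← map_mul, ← map_sub, ← map_add,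
      map_eq_zero_iff _ (algebraMap F (AlgebraicClosure F)).injective] at hμ'
    exact one_ne_zero (hab (-((x' - x) / (y - y'))) 1 (by linear_combination hμ')).2
  subst hy
  have hx : x = x' := (algebraMap F (AlgebraicClosure F)).injective (add_right_cancel hgh)
  subst hx
  exact Subtype.ext (Subtype.ext (hg.trans hh.symm))

theorem exists_anisotropic_binary [Fintype F] :
    ∃ a b : F, ∀ z₁ z₂ : F, z₁ ^ 2 + a * z₁ * z₂ + b * z₂ ^ 2 = 0 → z₁ = 0 ∧ z₂ = 0 := by
  have hns : ¬ Function.Surjective (fun s : F => s ^ 2 + s) := fun h => by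
    have := (Finite.injective_iff_surjective.2 h) (a₁ := (0 : F)) (a₂ := -1) (by simp)
    simp at this
  simp only [Function.Surjective, not_forall, not_exists] at hns
  obtain ⟨c, hc⟩ := hns
  refine ⟨1, -c, fun z₁ z₂ h => ?_⟩
  by_cases h2 : z₂ = 0
  · exact ⟨by simpa [h2] using h, h2⟩
  · exfalso
    refine hc (z₁ / z₂) ?_
    field_simp
    linear_combination h

end CfsgLib.Classical
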