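import Mathlib
import Cfsg.Agent.Lib.Classical.SLTwoTori
import Cfsg.Agent.Lib.Invol.TwoGroups

/-!
The Sylow 2-subgroups of `SL_2(q)`, `q` odd, are generalised quaternion.
-/

set_option autoImplicit false

namespace CfsgLib.Classical

open Matrix
open scoped MatrixGroups

variable {F : Type*} [Field F] [Fintype F]

theorem sylow_two_of_inverting {G : Type*} [Group G] [Finite G] {n k : ℕ} (hn : 2 ^ k = n)
    {r w : G} (hr : orderOf r = 2 * n) (hw : w * w = r ^ n) (hwr : w * r * w⁻¹ = r⁻¹)
    (hnot : w ∉ Subgroup.zpowers r) (hcard : (Nat.card G).factorization 2 = k + 2) (P : Sylow 2 G) :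
    Nonempty ((P : Subgroup G) ≃* QuaternionGroup n) := by
  have : NeZero n := ⟨by rw [← hn]; positivity⟩
  obtain ⟨e⟩ := CfsgLib.Invol.exists_mulEquiv_quaternion hr hw hwr hnot
  have hK : Nat.card (Subgroup.closure ({r, w} : Set G)) = 2 ^ (Nat.card G).factorization 2 := by
    rw [Nat.card_congr e.toEquiv, Nat.card_eq_fintype_card, QuaternionGroup.card, hcard, ← hn,
      pow_add]
    ring
  have e2 := Sylow.equiv P (Sylow.ofCard (Subgroup.closure ({r, w} : Set G)) hK)
  exact ⟨(e2.trans (MulEquiv.subgroupCongr (Sylow.coe_ofCard _ _))).trans e⟩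

theorem exists_two_element {G : Type*} [Group G] [Finite G] [IsCyclic G] {k : ℕ}
    (h : (Nat.card G).factorization 2 = k + 1) :
    ∃ (r : G), orderOf r = 2 * 2 ^ k := by
  obtain ⟨g, hg⟩ := IsCyclic.exists_generator (α := G)
  obtain ⟨d, hd⟩ := Nat.ordProj_dvd (Nat.card G) 2
  refine ⟨g ^ d, ?_⟩
  have hord : orderOf g = Nat.card G := orderOf_eq_card_of_forall_mem_zpowers hg
  have hpos : 0 < Nat.card G := Nat.card_pos
  have hd0 : d ≠ 0 := by rintro rfl; omega
  rw [orderOf_pow' g hd0, hord]
  conv_lhs => rw [hd]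
  rw [Nat.gcd_eq_right (dvd_mul_left d _), Nat.mul_div_cancel _ (Nat.pos_of_ne_zero hd0), h, pow_succ']

theorem factorization_card_sl_two (h : Odd (Fintype.card F)) :
    (Nat.card SL(2, F)).factorization 2 =
      (Fintype.card F - 1).factorization 2 + (Fintype.card F + 1).factorization 2 := by
  have hq : 1 < Fintype.card F := Fintype.one_lt_card
  rw [card_sl_two_eq, show Fintype.card F ^ 2 - 1 = (Fintype.card F + 1) * (Fintype.card F - 1) by
      simpa [sq] using Nat.sq_sub_sq (Fintype.card F) 1,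
    Nat.factorization_mul (by omega) (mul_ne_zero (by omega) (by omega)),
    Nat.factorization_mul (by omega) (by omega), Finsupp.add_apply, Finsupp.add_apply,
    Nat.factorization_eq_zero_of_not_dvd (n := Fintype.card F) (p := 2)
      (fun hd => Nat.not_even_iff_odd.2 h (even_iff_two_dvd.2 hd))]
  omega

theorem factorization_two_of_mod_four {n : ℕ} (h : n % 4 = 2) : n.factorization 2 = 1 := by
  obtain ⟨d, hd⟩ : ∃ d, n = 2 * d := ⟨n / 2, by omega⟩
  rw [hd, Nat.factorization_mul (by norm_num) (by omega), Finsupp.add_apply,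
    Nat.prime_two.factorization_self, Nat.factorization_eq_zero_of_not_dvd (n := d) (by omega)]

theorem two_le_factorization_of_mod_four {n : ℕ} (h : n % 4 = 0) (h0 : n ≠ 0) :
    2 ≤ n.factorization 2 :=
  (Nat.prime_two.pow_dvd_iff_le_factorization h0).1 (by norm_num; omega)

theorem neg_one_eq_pow {n : ℕ} {r : SL(2, F)} (hF : Odd (Fintype.card F)) (hr : orderOf r = 2 * n)
    (hn : 0 < n) : ((r ^ n : SL(2, F)) : Matrix (Fin 2) (Fin 2) F) = -1 := by
  have h1 : r ^ n ≠ 1 := fun h => by
    have := Nat.le_of_dvd hn (orderOf_dvd_of_pow_eq_one h)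
    omega
  have h2 : r ^ n * r ^ n = 1 := by rw [← pow_add, ← two_mul, ← hr, pow_orderOf_eq_one]
  have two0 : (2 : F) ≠ 0 := by
    intro h
    have : CharP F 2 := CharTwo.of_one_ne_zero_of_two_eq_zero one_ne_zero h
    obtain ⟨k, -, hk⟩ := FiniteField.card F 2
    rw [hk] at hF
    exact Nat.not_even_iff_odd.2 hF (Nat.even_pow.2 ⟨even_two, k.ne_zero⟩)
  obtain ⟨g, hg⟩ : ∃ g, g = r ^ n := ⟨_, rfl⟩
  rw [← hg] at h1 h2 ⊢
  have hinv : g⁻¹ = g := inv_eq_of_mul_eq_one_left h2
  have e := congrArg (fun x : SL(2, F) => (x : Matrix (Fin 2) (Fin 2) F)) hinv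
  simp only [Matrix.SpecialLinearGroup.coe_inv, Matrix.adjugate_fin_two] at e
  have e00 : g.1 1 1 = g.1 0 0 := by simpa using congr($e 0 0)
  have e01 : -g.1 0 1 = g.1 0 1 := by simpa using congr($e 0 1)
  have e10 : -g.1 1 0 = g.1 1 0 := by simpa using congr($e 1 0)
  have z01 : g.1 0 1 = 0 := (mul_eq_zero.1 (show (2 : F) * g.1 0 1 = 0 by linear_combination -e01)).resolve_left two0
  have z10 : g.1 1 0 = 0 := (mul_eq_zero.1 (show (2 : F) * g.1 1 0 = 0 by linear_combination -e10)).resolve_left two0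
  have hd := g.2
  rw [Matrix.det_fin_two, z01, z10, e00] at hd
  rcases mul_self_eq_one_iff.1 (by linear_combination hd : g.1 0 0 * g.1 0 0 = 1) with ha | ha
  · refine absurd (Subtype.ext ?_) h1
    rw [Matrix.eta_fin_two g.1, z01, z10, e00, ha]
    exact Matrix.one_fin_two.symm
  · rw [Matrix.eta_fin_two g.1, z01, z10, e00, ha, Matrix.one_fin_two]
    simp

omit [Fintype F] in
theorem splitTorus_coe (u : Fˣ) :
    ((splitTorus F u : SL(2, F)) : Matrix (Fin 2) (Fin 2) F) = !![(u : F), 0; 0, (↑u⁻¹ : F)] :=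
  rfl

theorem sylow_two_sl_two (hF : Odd (Fintype.card F)) :
    ∃ k : ℕ, 1 ≤ k ∧ (Nat.card SL(2, F)).factorization 2 = k + 2 ∧
      ∀ P : Sylow 2 SL(2, F), Nonempty ((P : Subgroup SL(2, F)) ≃* QuaternionGroup (2 ^ k)) := by
  have hq : 1 < Fintype.card F := Fintype.one_lt_card
  have hfac := factorization_card_sl_two hF
  rcases (show Fintype.card F % 4 = 1 ∨ Fintype.card F % 4 = 3 by
    rw [Nat.odd_iff] at hF; omega) with h1 | h3
  · obtain ⟨k, hk⟩ : ∃ k, (Fintype.card F - 1).factorization 2 = k + 2 :=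
      ⟨_, (Nat.sub_add_cancel (two_le_factorization_of_mod_four (by omega) (by omega))).symm⟩
    have : IsCyclic (splitTorus F).range := isCyclic_splitTorus
    obtain ⟨⟨r, u, hu⟩, hr⟩ := exists_two_element (G := (splitTorus F).range) (k := k + 1)
      (by rw [card_splitTorus]; exact hk)
    rw [← Subgroup.orderOf_coe] at hr
    let w : SL(2, F) := ⟨!![0, 1; -1, 0], by simp [det_fin_two_of]⟩
    refine ⟨k + 1, by omega, by rw [hfac, hk, factorization_two_of_mod_four (n := Fintype.card F + 1) (by omega)],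
      fun P => sylow_two_of_inverting (w := w) rfl hr ?_ ?_ ?_ ?_ P⟩
    · refine Subtype.ext ?_
      rw [neg_one_eq_pow hF hr (by positivity)]
      change (!![0, 1; -1, 0] : Matrix (Fin 2) (Fin 2) F) * !![0, 1; -1, 0] = -1
      rw [Matrix.one_fin_two]
      simp
    · show w * r * w⁻¹ = r⁻¹
      subst hu
      rw [mul_inv_eq_iff_eq_mul]
      refine Subtype.ext ?_
      simp only [Matrix.SpecialLinearGroup.coe_mul, Matrix.SpecialLinearGroup.coe_inv, splitTorus_coe, adjugate_fin_two_of]
      ext i j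
      fin_cases i <;> fin_cases j <;> simp [w, Matrix.mul_apply, Fin.sum_univ_two]
    · intro hmem
      obtain ⟨v, hv⟩ : w ∈ (splitTorus F).range :=
        (Subgroup.zpowers_le.2 (show r ∈ (splitTorus F).range from ⟨u, hu⟩)) hmem
      have := congrArg (fun A : SL(2, F) => (A : Matrix (Fin 2) (Fin 2) F) 0 1) hv
      simp [w, splitTorus_coe] at this
    · rw [hfac, hk, factorization_two_of_mod_four (n := Fintype.card F + 1) (by omega)]
  · obtain ⟨k, hk⟩ : ∃ k, (Fintype.card F + 1).factorization 2 = k + 2 :=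
      ⟨_, (Nat.sub_add_cancel (two_le_factorization_of_mod_four (by omega) (by omega))).symm⟩
    have hab : ∀ z₁ z₂ : F, z₁ ^ 2 + (0 : F) * z₁ * z₂ + 1 * z₂ ^ 2 = 0 → z₁ = 0 ∧ z₂ = 0 := by
      intro z₁ z₂ h
      by_cases h2 : z₂ = 0
      · exact ⟨by simpa [h2] using h, h2⟩
      · have hsq : IsSquare (-1 : F) := ⟨z₁ / z₂, by field_simp; linear_combination -h⟩
        exact absurd h3 (FiniteField.isSquare_neg_one_iff.1 hsq)
    have : IsCyclic (nsTorus (0 : F) 1) := isCyclic_nsTorus hab
    obtain ⟨⟨r, hr0⟩, hr⟩ := exists_two_element (G := nsTorus (0 : F) 1) (k := k + 1)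
      (by rw [card_nsTorus hab]; exact hk)
    obtain ⟨x, y, hxy⟩ := hr0
    rw [← Subgroup.orderOf_coe] at hr
    obtain ⟨u, v, huv⟩ : ∃ u v : F, u ^ 2 + v ^ 2 = -1 := by
      obtain ⟨f, hp, hf⟩ := FiniteField.card F (ringChar F)
      have : Fact (ringChar F).Prime := ⟨hp⟩
      obtain ⟨u, v, h⟩ := CharP.sq_add_sq F (ringChar F) (-1)
      exact ⟨(u : F), (v : F), by exact_mod_cast h⟩
    let w : SL(2, F) := ⟨!![u, v; v, -u], by rw [det_fin_two_of]; linear_combination -huv⟩
    refine ⟨k + 1, by omega, by rw [hfac, hk, factorization_two_of_mod_four (n := Fintype.card F - 1) (by omega)]; ring,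
      fun P => sylow_two_of_inverting (w := w) rfl hr ?_ ?_ ?_ ?_ P⟩
    · refine Subtype.ext ?_
      rw [neg_one_eq_pow hF hr (by positivity)]
      change (!![u, v; v, -u] : Matrix (Fin 2) (Fin 2) F) * !![u, v; v, -u] = -1
      rw [Matrix.one_fin_two]
      ext i j
      fin_cases i <;> fin_cases j <;> simp [Matrix.mul_apply, Fin.sum_univ_two] <;>
        first | linear_combination huv | linear_combination -huv | ring
    · show w * r * w⁻¹ = r⁻¹
      rw [mul_inv_eq_iff_eq_mul]
      refine Subtype.ext ?_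
      simp only [Matrix.SpecialLinearGroup.coe_mul, Matrix.SpecialLinearGroup.coe_inv, hxy,
        adjugate_fin_two_of]
      ext i j
      fin_cases i <;> fin_cases j <;> simp [w, Matrix.mul_apply, Fin.sum_univ_two] <;> ring
    · intro hmem
      obtain ⟨x', y', h'⟩ : w ∈ nsTorus (0 : F) 1 :=
        (Subgroup.zpowers_le.2 (show r ∈ nsTorus (0 : F) 1 from ⟨x, y, hxy⟩)) hmem
      have e00 := congrFun (congrFun h' 0) 0
      have e11 := congrFun (congrFun h' 1) 1
      have e01 := congrFun (congrFun h' 0) 1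
      have e10 := congrFun (congrFun h' 1) 0
      simp [w] at e00 e11 e01 e10
      have two0 : (2 : F) ≠ 0 := fun h20 => by
        have : CharP F 2 := CharTwo.of_one_ne_zero_of_two_eq_zero one_ne_zero h20
        obtain ⟨k, -, hk⟩ := FiniteField.card F 2
        rw [hk] at hF
        exact Nat.not_even_iff_odd.2 hF (Nat.even_pow.2 ⟨even_two, k.ne_zero⟩)
      have hu0 : u = 0 := mul_left_cancel₀ two0 (by linear_combination e00 - e11)
      have hv0 : v = 0 := mul_left_cancel₀ two0 (by linear_combination e01 + e10)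
      rw [hu0, hv0] at huv
      simp at huv
    · rw [hfac, hk, factorization_two_of_mod_four (n := Fintype.card F - 1) (by omega)]; ring

theorem sylow_two_psl_two_klein (hq : Fintype.card F % 8 = 3 ∨ Fintype.card F % 8 = 5)
    (P : Sylow 2 (Matrix.ProjectiveSpecialLinearGroup (Fin 2) F)) :
    IsKleinFour (P : Subgroup (Matrix.ProjectiveSpecialLinearGroup (Fin 2) F)) := by
  have hF : Odd (Fintype.card F) := Nat.odd_iff.2 (by omega)
  obtain ⟨k, hk1, hk, hQ⟩ := sylow_two_sl_two hF
  have hk3 : k = 1 := by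
    have e := factorization_card_sl_two hF
    rw [hk] at e
    have key : ∀ n, n % 8 = 4 → n.factorization 2 = 2 := by
      intro n hn
      obtain ⟨d, hd⟩ : ∃ d, n = 2 * d := ⟨n / 2, by omega⟩
      rw [hd, Nat.factorization_mul (by norm_num) (by omega), Finsupp.add_apply,
        Nat.prime_two.factorization_self, factorization_two_of_mod_four (n := d) (by omega)]
    rcases hq with h | h
    · rw [factorization_two_of_mod_four (n := Fintype.card F - 1) (by omega), key _ (by omega)] at e; omega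
    · rw [factorization_two_of_mod_four (n := Fintype.card F + 1) (by omega), key _ (by omega)] at e; omega
  subst hk3
  let π := QuotientGroup.mk' (Subgroup.center SL(2, F))
  obtain ⟨S, -⟩ : ∃ S : Sylow 2 SL(2, F), True := ⟨default, trivial⟩
  have hπ : Function.Surjective π := QuotientGroup.mk'_surjective _
  have hexp : ∀ x : (P : Subgroup (Matrix.ProjectiveSpecialLinearGroup (Fin 2) F)), x * x = 1 := by
    intro x
    let e0 := Sylow.equiv P (S.mapSurjective hπ)
    obtain ⟨y, hy⟩ : ∃ y, y = e0 x := ⟨_, rfl⟩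
    suffices y * y = 1 by
      apply e0.injective
      rw [map_mul, ← hy, this, map_one]
    obtain ⟨z, hz⟩ := y
    rw [Sylow.coe_mapSurjective] at hz
    obtain ⟨s, hs, rfl⟩ := hz
    refine Subtype.ext ?_
    show π s * π s = 1
    rw [← map_mul, QuotientGroup.mk'_apply, QuotientGroup.eq_one_iff]
    obtain ⟨e⟩ := hQ S
    have h4' : ∀ z : QuaternionGroup (2 ^ 1), z ^ 4 = 1 := by decide
    have h4 : (s * s) * (s * s) = 1 := by
      have := e.injective (a₁ := (⟨s, hs⟩ : (S : Subgroup SL(2, F))) ^ 4) (a₂ := 1)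
        (by rw [map_pow, h4', map_one])
      have := congrArg Subtype.val this
      simpa [pow_succ, mul_assoc] using this
    by_cases h1 : s * s = 1
    · rw [h1]; exact one_mem _
    · have hneg : ((s * s : SL(2, F)) : Matrix (Fin 2) (Fin 2) F) = -1 := by
        have h := neg_one_eq_pow (r := s * s) hF (n := 1)
          (by rw [mul_one]; exact orderOf_eq_prime (by rwa [sq]) h1) one_pos
        rwa [pow_one] at h
      rw [Matrix.SpecialLinearGroup.mem_center_iff]
      exact ⟨-1, by simp, by rw [hneg, Matrix.scalar_apply, ← Matrix.diagonal_one, Matrix.diagonal_neg]⟩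
  have hcardP : Nat.card (P : Subgroup (Matrix.ProjectiveSpecialLinearGroup (Fin 2) F)) = 4 := by
    rw [P.card_eq_multiplicity]
    have hc := card_center_sl_mul_card_psl (ι := Fin 2) (F := F)
    rw [card_center_sl, Fintype.card_fin,
      Nat.gcd_eq_left (show 2 ∣ Fintype.card F - 1 by omega)] at hc
    have : _ = Nat.factorization _ 2 := congrArg (fun n => n.factorization 2) hc
    beta_reduce at this
    rw [Nat.factorization_mul two_ne_zero Nat.card_pos.ne', Finsupp.add_apply,
      Nat.prime_two.factorization_self, hk] at this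
    rw [show (Nat.card (Matrix.ProjectiveSpecialLinearGroup (Fin 2) F)).factorization 2 = 2 by omega]
    rfl
  constructor
  · exact hcardP
  · refine (Nat.dvd_prime Nat.prime_two).1 (Monoid.exponent_dvd_of_forall_pow_eq_one fun x => by
      rw [sq, hexp x]) |>.resolve_left fun h => ?_
    rw [Monoid.exp_eq_one_iff] at h
    have := Nat.card_eq_one_iff_unique.2 ⟨h, ⟨1⟩⟩
    omega

end CfsgLib.Classical
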