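import Mathlib
import Cfsg.Agent.Lib.Classical.StdQuad

set_option autoImplicit false
set_option linter.unusedSectionVars false

/-!
The split octonion algebra in Zorn's model, on the space of the split quadratic form of dimension eight,
whose norm is that form.
-/

namespace CfsgLib.Classical.Triality

open QuadraticMap (polar)

variable {F : Type*} [Field F]

/-- The space of the form. -/
abbrev O8 (F : Type*) : Type _ := Fin 4 ⊕ Fin 4 → F

/-- The product: `inl 0`, `inr 0` are the diagonal, `inl i` and `-inr i` the two vectors. -/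
def mul8 (x y : O8 F) : O8 F :=
  Sum.elim
    ![x (.inl 0) * y (.inl 0) - x (.inl 1) * y (.inr 1) - x (.inl 2) * y (.inr 2) - x (.inl 3) * y (.inr 3),
      x (.inl 0) * y (.inl 1) + y (.inr 0) * x (.inl 1) - (x (.inr 2) * y (.inr 3) - x (.inr 3) * y (.inr 2)),
      x (.inl 0) * y (.inl 2) + y (.inr 0) * x (.inl 2) - (x (.inr 3) * y (.inr 1) - x (.inr 1) * y (.inr 3)),
      x (.inl 0) * y (.inl 3) + y (.inr 0) * x (.inl 3) - (x (.inr 1) * y (.inr 2) - x (.inr 2) * y (.inr 1))]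
    ![x (.inr 0) * y (.inr 0) - x (.inr 1) * y (.inl 1) - x (.inr 2) * y (.inl 2) - x (.inr 3) * y (.inl 3),
      y (.inl 0) * x (.inr 1) + x (.inr 0) * y (.inr 1) - (x (.inl 2) * y (.inl 3) - x (.inl 3) * y (.inl 2)),
      y (.inl 0) * x (.inr 2) + x (.inr 0) * y (.inr 2) - (x (.inl 3) * y (.inl 1) - x (.inl 1) * y (.inl 3)),
      y (.inl 0) * x (.inr 3) + x (.inr 0) * y (.inr 3) - (x (.inl 1) * y (.inl 2) - x (.inl 2) * y (.inl 1))]

@[inherit_doc] local infixl:70 " ⋆ " => mul8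

/-- The unit. -/
def one8 (F : Type*) [Field F] : O8 F := Sum.elim ![1, 0, 0, 0] ![1, 0, 0, 0]

/-- Conjugation. -/
def cnj8 (x : O8 F) : O8 F :=
  Sum.elim ![x (.inr 0), -x (.inl 1), -x (.inl 2), -x (.inl 3)]
    ![x (.inl 0), -x (.inr 1), -x (.inr 2), -x (.inr 3)]

/-- Coordinatewise extensionality. -/
theorem ext8 {x y : O8 F} (h0 : x (.inl 0) = y (.inl 0)) (h1 : x (.inl 1) = y (.inl 1))
    (h2 : x (.inl 2) = y (.inl 2)) (h3 : x (.inl 3) = y (.inl 3)) (k0 : x (.inr 0) = y (.inr 0))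
    (k1 : x (.inr 1) = y (.inr 1)) (k2 : x (.inr 2) = y (.inr 2)) (k3 : x (.inr 3) = y (.inr 3)) :
    x = y := by
  funext i
  rcases i with i | i <;> fin_cases i <;> assumption

theorem norm8 (x : O8 F) : qfPlus 4 F x =
    x (.inl 0) * x (.inr 0) + x (.inl 1) * x (.inr 1) + x (.inl 2) * x (.inr 2) + x (.inl 3) * x (.inr 3) := by
  simp [qfPlus_apply, Cfsg.quadFormPlus, Fin.sum_univ_four]

theorem polar8 (x y : O8 F) : polar (qfPlus 4 F) x y =
    x (.inl 0) * y (.inr 0) + x (.inr 0) * y (.inl 0) + (x (.inl 1) * y (.inr 1) + x (.inr 1) * y (.inl 1)) +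
      (x (.inl 2) * y (.inr 2) + x (.inr 2) * y (.inl 2)) +
      (x (.inl 3) * y (.inr 3) + x (.inr 3) * y (.inl 3)) := by
  simp only [QuadraticMap.polar, norm8, Pi.add_apply]
  ring

theorem norm8_mul (x y : O8 F) : qfPlus 4 F (x ⋆ y) = qfPlus 4 F x * qfPlus 4 F y := by
  simp [norm8, mul8]; ring

theorem norm8_cnj (x : O8 F) : qfPlus 4 F (cnj8 x) = qfPlus 4 F x := by
  simp [norm8, cnj8]; ring

theorem norm8_one : qfPlus 4 F (one8 F) = 1 := by simp [norm8, one8]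

theorem one_mul8 (x : O8 F) : one8 F ⋆ x = x := by
  apply ext8 <;> simp [mul8, one8]

theorem mul_one8 (x : O8 F) : x ⋆ one8 F = x := by
  apply ext8 <;> simp [mul8, one8]

theorem cnj_cnj8 (x : O8 F) : cnj8 (cnj8 x) = x := by
  apply ext8 <;> simp [cnj8]

theorem cnj_one8 : cnj8 (one8 F) = one8 F := by
  apply ext8 <;> simp [cnj8, one8]

theorem cnj_mul8 (x y : O8 F) : cnj8 (x ⋆ y) = cnj8 y ⋆ cnj8 x := by
  apply ext8 <;> simp [mul8, cnj8] <;> ring

theorem cnj_mul_mul8 (x y : O8 F) : cnj8 x ⋆ (x ⋆ y) = qfPlus 4 F x • y := by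
  apply ext8 <;> simp [mul8, cnj8, norm8] <;> ring

theorem mul_cnj_mul8 (x y : O8 F) : x ⋆ (cnj8 x ⋆ y) = qfPlus 4 F x • y := by
  rw [← norm8_cnj x, ← cnj_mul_mul8 (cnj8 x), cnj_cnj8]

theorem mul_mul_cnj8 (x y : O8 F) : y ⋆ x ⋆ cnj8 x = qfPlus 4 F x • y := by
  apply ext8 <;> simp [mul8, cnj8, norm8] <;> ring

theorem mul_cnj_mul_right8 (x y : O8 F) : y ⋆ cnj8 x ⋆ x = qfPlus 4 F x • y := by
  rw [← norm8_cnj x, ← mul_mul_cnj8 (cnj8 x), cnj_cnj8]

/-- The third Moufang identity. -/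
theorem moufang8 (a x y : O8 F) : a ⋆ (x ⋆ y) ⋆ a = (a ⋆ x) ⋆ (y ⋆ a) := by
  apply ext8 <;> simp [mul8] <;> ring

/-- The bimultiplication is a multiple of a product of two reflections. -/
theorem bimul8 (a x : O8 F) :
    a ⋆ x ⋆ a = polar (qfPlus 4 F) a (cnj8 x) • a - qfPlus 4 F a • cnj8 x := by
  apply ext8 <;> simp [mul8, cnj8, norm8, polar8] <;> ring

theorem cnj8_eq (x : O8 F) : cnj8 x = polar (qfPlus 4 F) (one8 F) x • one8 F - x := by
  apply ext8 <;> simp [cnj8, polar8, one8]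

theorem mul8_add_left (x x' y : O8 F) : (x + x') ⋆ y = x ⋆ y + x' ⋆ y := by
  apply ext8 <;> simp [mul8] <;> ring

theorem mul8_add_right (x y y' : O8 F) : x ⋆ (y + y') = x ⋆ y + x ⋆ y' := by
  apply ext8 <;> simp [mul8] <;> ring

theorem mul8_smul_left (c : F) (x y : O8 F) : (c • x) ⋆ y = c • (x ⋆ y) := by
  apply ext8 <;> simp [mul8] <;> ring

theorem mul8_smul_right (c : F) (x y : O8 F) : x ⋆ (c • y) = c • (x ⋆ y) := by
  apply ext8 <;> simp [mul8] <;> ring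

theorem mul8_sub_left (x x' y : O8 F) : (x - x') ⋆ y = x ⋆ y - x' ⋆ y := by
  apply ext8 <;> simp [mul8] <;> ring

theorem cnj8_smul (c : F) (x : O8 F) : cnj8 (c • x) = c • cnj8 x := by
  apply ext8 <;> simp [cnj8]

theorem cnj8_add (x y : O8 F) : cnj8 (x + y) = cnj8 x + cnj8 y := by
  apply ext8 <;> simp [cnj8] <;> ring

theorem mul8_map {F' : Type*} [Field F'] (σ : F →+* F') (x y : O8 F) :
    (fun i => σ ((x ⋆ y) i)) = mul8 (fun i => σ (x i)) (fun i => σ (y i)) := by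
  apply ext8 <;> simp [mul8]

/-- The nucleus consists of the scalars. -/
theorem nucleus8 {u : O8 F} (h : ∀ x z : O8 F, x ⋆ u ⋆ z = x ⋆ (u ⋆ z)) :
    u = u (.inl 0) • one8 F := by
  have key : ∀ (i j k : Fin 4 ⊕ Fin 4), (Pi.single i (1 : F) ⋆ u ⋆ Pi.single j (1 : F)) k =
      (Pi.single i (1 : F) ⋆ (u ⋆ Pi.single j (1 : F))) k := fun i j k => congrFun (h _ _) k
  have a1 := key (.inl 1) (.inl 2) (.inr 3)
  have a2 := key (.inl 1) (.inl 2) (.inl 2)
  have a3 := key (.inl 2) (.inl 3) (.inl 3)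
  have a4 := key (.inl 3) (.inl 1) (.inl 1)
  have b2 := key (.inr 1) (.inr 2) (.inr 2)
  have b3 := key (.inr 2) (.inr 3) (.inr 3)
  have b4 := key (.inr 3) (.inr 1) (.inr 1)
  simp [mul8, Pi.single_apply] at a1 a2 a3 a4 b2 b3 b4
  apply ext8 <;> simp_all [one8]

end CfsgLib.Classical.Triality
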