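import Cfsg.Agent.Lib.Classical.PSLTwoDihedral

/-!
# The dihedral maximal subgroups and the least index in `PSL₂(q)`
-/

set_option autoImplicit false

namespace CfsgLib.Classical

open Matrix
open scoped MatrixGroups

variable {F : Type*} [Field F] [Fintype F]

theorem card_ne_six : Fintype.card F ≠ 6 := fun h => by
  have hpp := FiniteField.isPrimePow_card F
  rw [h, isPrimePow_iff_unique_prime_dvd] at hpp
  obtain ⟨p, -, huniq⟩ := hpp
  have h2 := huniq 2 ⟨Nat.prime_two, by norm_num⟩
  have h3 := huniq 3 ⟨Nat.prime_three, by norm_num⟩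
  omega

theorem card_psl_two_bound (h5 : 5 ≤ Fintype.card F) :
    10 * (Fintype.card F + 1) ≤ Nat.card (ProjectiveSpecialLinearGroup (Fin 2) F) := by
  have h := card_psl_two_ge (F := F)
  have hd : Nat.gcd 2 (Fintype.card F - 1) ≤ 2 := Nat.le_of_dvd two_pos (Nat.gcd_dvd_left _ _)
  have h1 : 20 * (Fintype.card F + 1) ≤ Fintype.card F * (Fintype.card F ^ 2 - 1) := by
    obtain ⟨k, hk⟩ : ∃ k, Fintype.card F = k + 5 := ⟨_, (Nat.sub_add_cancel h5).symm⟩
    rw [hk, show (k + 5) ^ 2 - 1 = (k + 4) * (k + 6) from Nat.sub_eq_of_eq_add (by ring)]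
    have h20 := Nat.mul_le_mul (show 20 ≤ (k + 5) * (k + 4) by nlinarith) (le_refl (k + 6))
    linarith
  rw [h] at h1
  nlinarith

theorem card_psl_two_four (h : Fintype.card F = 4 ∨ Fintype.card F = 5) :
    Nat.card (ProjectiveSpecialLinearGroup (Fin 2) F) = 60 := by
  rcases h with h | h <;> exact card_psl_two_eq h 60 (by norm_num)

/-- The normaliser of the non-split torus is maximal. -/
theorem exists_coatom_dihedral_nonsplit {q : ℕ} (hF : Fintype.card F = q) (h2 : q ≠ 2) (h7 : q ≠ 7)
    (h9 : q ≠ 9) :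
    ∃ H : Subgroup (ProjectiveSpecialLinearGroup (Fin 2) F),
      IsCoatom H ∧ Nonempty (H ≃* DihedralGroup ((q + 1) / Nat.gcd 2 (q - 1))) := by
  subst hF
  obtain ⟨r, s, hr, hsr, he, hcard, hfix⟩ := exists_dihedral_nonsplit (F := F)
  refine ⟨_, ?_, he⟩
  have hq1 : 1 < Fintype.card F := Fintype.one_lt_card
  set q := Fintype.card F with hq
  set d := Nat.gcd 2 (q - 1) with hd
  have hdd : d ∣ q + 1 := by
    have h := dvd_add (Nat.gcd_dvd_right 2 (q - 1)) (Nat.gcd_dvd_left 2 (q - 1))
    rwa [show q - 1 + 2 = q + 1 by omega] at h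
  have hdn : d * ((q + 1) / d) = q + 1 := Nat.mul_div_cancel' hdd
  have hd2 : d ≤ 2 := Nat.le_of_dvd two_pos (Nat.gcd_dvd_left _ _)
  by_cases h3 : q = 3
  · have hd' : d = 2 := by rw [hd, h3]; rfl
    have hG : Nat.card (ProjectiveSpecialLinearGroup (Fin 2) F) = 12 := card_psl_two_eq h3 12 (by norm_num)
    rw [hd', h3] at hcard
    refine ⟨fun h => ?_, fun M hM => ?_⟩
    · rw [h, Subgroup.card_top, hG] at hcard
      omega
    · refine Subgroup.eq_top_of_card_eq M ?_
      have h1 := Subgroup.card_subgroup_dvd_card M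
      have h4 := Subgroup.card_dvd_of_le hM.le
      have hlt : 4 < Nat.card M := by
        refine lt_of_not_ge fun h => hM.ne (Subgroup.eq_of_le_of_card_ge hM.le (h.trans (le_of_eq ?_)))
        rw [hcard]
      rw [hG] at h1 ⊢
      rw [hcard] at h4
      obtain ⟨k, hk⟩ := h4
      have := Nat.le_of_dvd (by omega) h1
      interval_cases Nat.card M <;> omega
  have hn : 3 ≤ (q + 1) / d := by
    rw [Nat.le_div_iff_mul_le (Nat.gcd_pos_of_pos_left _ two_pos)]
    by_cases h4 : q = 4
    · rw [h4]; norm_num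
    omega
  refine isCoatom_dihedral hn hr hsr hcard ?_ (fun P hP => absurd hP (hfix hn P)) ?_ ?_ ?_
  · have hle : (q + 1) / d ≤ q + 1 := Nat.div_le_self _ _
    by_cases h4 : q = 4
    · rw [card_psl_two_four (Or.inl h4)]; omega
    have := card_psl_two_bound (F := F) (by omega)
    omega
  · intro k hk hdvd
    rcases hk with hk | hk
    · exact hk
    · exfalso
      have h1 : d * ((q + 1) / d) ∣ 2 * (d * ((q - 1) / d)) := by
        rw [← mul_assoc, mul_comm 2 d, mul_assoc]
        exact Nat.mul_dvd_mul_left d (hdvd.trans (Nat.mul_dvd_mul_left 2 hk))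
      rw [hdn, Nat.mul_div_cancel' (Nat.gcd_dvd_right _ _)] at h1
      have h4 : q + 1 ∣ 4 := by
        have h := Nat.dvd_sub (dvd_mul_left (q + 1) 2) h1
        rwa [show 2 * (q + 1) - 2 * (q - 1) = 4 by omega] at h
      have := Nat.le_of_dvd (by norm_num) h4
      omega
  · intro h5
    have hle : q ≤ 9 := by nlinarith
    interval_cases hQ : q <;> first
      | omega
      | exact ⟨by rw [hd]; norm_num, card_psl_two_four (by omega)⟩
      | (exfalso; revert h5; rw [hd]; norm_num)
  · intro u m hu hm hum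
    have hu2 : u ^ 2 ≤ q := le_of_le_of_eq (Nat.pow_le_pow_right (by omega) hm) hum
    refine lt_of_mul_lt_mul_left (a := d) ?_ (Nat.zero_le _)
    rw [hdn]
    have h1 : d * (u + 1) ≤ 2 * (u + 1) := Nat.mul_le_mul_right _ hd2
    have h2' : 3 * u ≤ u ^ 2 := by rw [sq]; exact Nat.mul_le_mul_right u hu
    omega

/-- The normaliser of the split torus is maximal. -/
theorem exists_coatom_dihedral_split {q : ℕ} (hF : Fintype.card F = q)
    (hne : q ≠ 2 ∧ q ≠ 3 ∧ q ≠ 5 ∧ q ≠ 7 ∧ q ≠ 9 ∧ q ≠ 11) :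
    ∃ H : Subgroup (ProjectiveSpecialLinearGroup (Fin 2) F),
      IsCoatom H ∧ Nonempty (H ≃* DihedralGroup ((q - 1) / Nat.gcd 2 (q - 1))) := by
  subst hF
  obtain ⟨n2, n3, n5, n7, n9, n11⟩ := hne
  have hq1 : 1 < Fintype.card F := Fintype.one_lt_card
  have n6 := card_ne_six (F := F)
  obtain ⟨r, s, hr, hsr, he, hcard, hfix⟩ := exists_dihedral_split (F := F) (by omega)
  refine ⟨_, ?_, he⟩
  set q := Fintype.card F with hq
  set d := Nat.gcd 2 (q - 1) with hd
  have hdn : d * ((q - 1) / d) = q - 1 := Nat.mul_div_cancel' (Nat.gcd_dvd_right _ _)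
  have hd2 : d ≤ 2 := Nat.le_of_dvd two_pos (Nat.gcd_dvd_left _ _)
  have hn : 3 ≤ (q - 1) / d := by
    rw [Nat.le_div_iff_mul_le (Nat.gcd_pos_of_pos_left _ two_pos)]
    by_cases h4 : q = 4
    · rw [h4]; norm_num
    omega
  refine isCoatom_dihedral hn hr hsr hcard ?_ (hfix hn) ?_ ?_ ?_
  · have hle : (q - 1) / d ≤ q - 1 := Nat.div_le_self _ _
    by_cases h4 : q = 4
    · rw [card_psl_two_four (Or.inl h4)]; omega
    have := card_psl_two_bound (F := F) (by omega)
    omega
  · intro k hk hdvd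
    rcases hk with hk | hk
    · exfalso
      have hdd : d ∣ q + 1 := by
        have h := dvd_add (Nat.gcd_dvd_right 2 (q - 1)) (Nat.gcd_dvd_left 2 (q - 1))
        rwa [show q - 1 + 2 = q + 1 by omega] at h
      have h1 : d * ((q - 1) / d) ∣ 2 * (d * ((q + 1) / d)) := by
        rw [← mul_assoc, mul_comm 2 d, mul_assoc]
        exact Nat.mul_dvd_mul_left d (hdvd.trans (Nat.mul_dvd_mul_left 2 hk))
      rw [hdn, Nat.mul_div_cancel' hdd] at h1
      have h4 : q - 1 ∣ 4 := by
        have h := Nat.dvd_sub h1 (dvd_mul_left (q - 1) 2)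
        rwa [show 2 * (q + 1) - 2 * (q - 1) = 4 by omega] at h
      have hle := Nat.le_of_dvd (by norm_num) h4
      have hq4 : q = 4 := by omega
      rw [hq4] at h4
      norm_num at h4
    · exact hk
  · intro h5
    have hle : q ≤ 11 := by
      have : q - 1 ≤ 2 * 5 := hdn ▸ Nat.mul_le_mul hd2 h5
      omega
    interval_cases hQ : q <;> first
      | omega
      | exact ⟨by rw [hd]; norm_num, card_psl_two_four (by omega)⟩
      | (exfalso; revert h5; rw [hd]; norm_num)
  · intro u m hu hm hum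
    refine lt_of_mul_lt_mul_left (a := d) ?_ (Nat.zero_le _)
    rw [hdn]
    have h1 : d * (u + 1) ≤ 2 * (u + 1) := Nat.mul_le_mul_right _ hd2
    by_cases hu3 : u = 3
    · subst hu3
      have hm3 : 3 ≤ m := by
        rcases Nat.lt_or_ge m 3 with h | h
        · obtain rfl : m = 2 := by omega
          omega
        · exact h
      have : 3 ^ 3 ≤ q := le_of_le_of_eq (Nat.pow_le_pow_right (by omega) hm3) hum
      omega
    have hu2 : u ^ 2 ≤ q := le_of_le_of_eq (Nat.pow_le_pow_right (by omega) hm) hum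
    have h2' : 4 * u ≤ u ^ 2 := by rw [sq]; exact Nat.mul_le_mul_right u (by omega)
    omega

/-- The point stabiliser. -/
def pointStab (P : Geom.Moebius.Line F) : Subgroup (ProjectiveSpecialLinearGroup (Fin 2) F) :=
  (MulAction.stabilizer (ProjGenLinGroup (Fin 2) F) P).comap ProjectiveSpecialLinearGroup.toPGL

theorem index_pointStab (P : Geom.Moebius.Line F) : (pointStab P).index = Fintype.card F + 1 := by
  let act : MulAction (ProjectiveSpecialLinearGroup (Fin 2) F) (Geom.Moebius.Line F) :=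
    MulAction.compHom _ ProjectiveSpecialLinearGroup.toPGL
  have htrans : ∀ Q : Geom.Moebius.Line F, ∃ g : ProjectiveSpecialLinearGroup (Fin 2) F, g • P = Q := fun Q => by
    obtain ⟨g, hg⟩ := Geom.Moebius.exists_psl_to P
    obtain ⟨h, hh⟩ := Geom.Moebius.exists_psl_to Q
    refine ⟨h * g⁻¹, ?_⟩
    show ProjectiveSpecialLinearGroup.toPGL (h * g⁻¹) • P = Q
    rw [map_mul, map_inv, mul_smul, ← hg, inv_smul_smul, hh]
  have hst : pointStab P = MulAction.stabilizer (ProjectiveSpecialLinearGroup (Fin 2) F) P := by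
    ext g; rfl
  rw [hst, MulAction.index_stabilizer]
  have hu : MulAction.orbit (ProjectiveSpecialLinearGroup (Fin 2) F) P = Set.univ :=
    Set.eq_univ_of_forall fun Q => htrans Q
  rw [hu, Set.ncard_univ, card_line]

/-- Apart from small `q`, the least index of a proper subgroup is `q + 1`. -/
theorem index_ge_of_ne_top (hne : Fintype.card F ≠ 2 ∧ Fintype.card F ≠ 3 ∧ Fintype.card F ≠ 5 ∧
      Fintype.card F ≠ 7 ∧ Fintype.card F ≠ 9 ∧ Fintype.card F ≠ 11)
    (H : Subgroup (ProjectiveSpecialLinearGroup (Fin 2) F)) (hH : H ≠ ⊤) :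
    Fintype.card F + 1 ≤ H.index := by
  obtain ⟨n2, n3, n5, n7, n9, n11⟩ := hne
  have n6 := card_ne_six (F := F)
  have hq1 : 1 < Fintype.card F := Fintype.one_lt_card
  have hG := card_psl_two_ge (F := F)
  set q := Fintype.card F with hq
  set d := Nat.gcd 2 (q - 1) with hd
  have hd2 : d ≤ 2 := Nat.le_of_dvd two_pos (Nat.gcd_dvd_left _ _)
  have hd0 : 0 < d := Nat.gcd_pos_of_pos_left _ two_pos
  have hdvdG := Subgroup.card_subgroup_dvd_card H
  have hlt : Nat.card H < Nat.card (ProjectiveSpecialLinearGroup (Fin 2) F) :=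
    lt_of_not_ge fun h => hH (Subgroup.eq_top_of_le_card H h)
  have hmul := H.index_mul_card
  have hsq : q * (q ^ 2 - 1) = (q + 1) * (q * (q - 1)) := by
    rw [show q ^ 2 - 1 = (q + 1) * (q - 1) from by rw [← Nat.sq_sub_sq, one_pow]]; ring
  suffices hkey : d * Nat.card H ≤ q * (q - 1) by
    have hpos : 0 < q * (q - 1) := Nat.mul_pos (by omega) (by omega)
    refine Nat.le_of_mul_le_mul_right (?_ : (q + 1) * (q * (q - 1)) ≤ H.index * (q * (q - 1))) hpos
    calc (q + 1) * (q * (q - 1)) = d * (H.index * Nat.card H) := by rw [hmul, ← hG, hsq]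
      _ = H.index * (d * Nat.card H) := by ring
      _ ≤ H.index * (q * (q - 1)) := Nat.mul_le_mul_left _ hkey
  have htorus : ∀ k, Geom.Moebius.TorusDvd F k → d * k ≤ q + 1 := fun k hk => by
    have hdd : d ∣ q + 1 := by
      have h := dvd_add (Nat.gcd_dvd_right 2 (q - 1)) (Nat.gcd_dvd_left 2 (q - 1))
      rwa [show q - 1 + 2 = q + 1 by omega] at h
    rcases hk with hk | hk
    · have := Nat.mul_dvd_mul_left d hk
      rw [Nat.mul_div_cancel' hdd] at this
      exact Nat.le_of_dvd (by omega) this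
    · have := Nat.mul_dvd_mul_left d hk
      rw [Nat.mul_div_cancel' (Nat.gcd_dvd_right _ _)] at this
      exact (Nat.le_of_dvd (by omega) this).trans (by omega)
  have hbase : 3 * q ≤ q * (q - 1) := (Nat.mul_comm 3 q).le.trans (Nat.mul_le_mul_left q (by omega))
  have hsmall : ∀ k : ℕ, k ∣ Nat.card (ProjectiveSpecialLinearGroup (Fin 2) F) →
      k < Nat.card (ProjectiveSpecialLinearGroup (Fin 2) F) → k ≤ 60 → (k = 12 ∨ k = 24 ∨ k = 60) →
      d * k ≤ q * (q - 1) := fun k hk hk' _ hcases => by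
    rcases Nat.lt_or_ge q 13 with h | h
    · have hev : q = 4 ∨ q = 8 ∨ q = 10 ∨ q = 12 := by omega
      rcases hev with e | e | e | e
      · rw [card_psl_two_four (Or.inl e)] at hk hk'
        rw [hd, e]; rcases hcases with rfl | rfl | rfl <;> norm_num at *
      · have hG8 : Nat.card (ProjectiveSpecialLinearGroup (Fin 2) F) = 504 := card_psl_two_eq e 504 (by norm_num)
        rw [hG8] at hk
        rw [hd, e]; rcases hcases with rfl | rfl | rfl <;> norm_num at *
      · rw [hd, e]; rcases hcases with rfl | rfl | rfl <;> norm_num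
      · rw [hd, e]; rcases hcases with rfl | rfl | rfl <;> norm_num
    · have : 13 * 12 ≤ q * (q - 1) := Nat.mul_le_mul h (by omega)
      have : d * k ≤ 2 * k := Nat.mul_le_mul_right k hd2
      omega
  cases Geom.Moebius.dickson H with
  | cyclic k hk hc hcard => rw [hcard]; have := htorus k hk; omega
  | borel P h =>
    have hle : H ≤ pointStab P := fun x hx => h x hx
    have h1 := Nat.le_of_dvd Nat.card_pos (Subgroup.card_dvd_of_le hle)
    have h2 := (pointStab P).index_mul_card
    rw [index_pointStab] at h2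
    have h3 : d * Nat.card (pointStab P) = q * (q - 1) := by
      refine Nat.eq_of_mul_eq_mul_left (show 0 < q + 1 by omega) ?_
      rw [← hsq, hG, ← h2]; ring
    exact (Nat.mul_le_mul_left d h1).trans h3.le
  | dihedral k hk htd hc hcard =>
    rw [hcard, Nat.mul_left_comm]; have := htorus k htd; omega
  | tetrahedral h hcard => exact hsmall _ hdvdG hlt (by omega) (by omega)
  | octahedral h hcard => exact hsmall _ hdvdG hlt (by omega) (by omega)
  | icosahedral h hcard => exact hsmall _ hdvdG hlt (by omega) (by omega)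
  | subfieldPGL K u hu hK h hcard =>
    obtain ⟨m, hm1, hm⟩ := Geom.Moebius.subfield_card_pow K hK
    rcases Nat.lt_or_ge m 2 with hm2 | hm2
    · obtain rfl : m = 1 := by omega
      rw [pow_one] at hm
      have h1 : Nat.card H = q * (q ^ 2 - 1) := by rw [hcard, hsq, show u = q from hm]
      have : Nat.card (ProjectiveSpecialLinearGroup (Fin 2) F) ≤ d * Nat.card (ProjectiveSpecialLinearGroup (Fin 2) F) :=
        Nat.le_mul_of_pos_left _ hd0
      omega
    · have hu2 : u ^ 2 ≤ q := le_of_le_of_eq (Nat.pow_le_pow_right (by omega) hm2) hm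
      calc d * Nat.card H ≤ 2 * ((u + 1) * (u * (u - 1))) := by rw [hcard]; exact Nat.mul_le_mul_right _ hd2
        _ ≤ u ^ 2 * (u ^ 2 - 1) := by
          obtain ⟨j, rfl⟩ : ∃ j, u = j + 3 := ⟨_, (Nat.sub_add_cancel hu).symm⟩
          rw [show (j + 3) ^ 2 - 1 = (j + 4) * (j + 2) from Nat.sub_eq_of_eq_add (by ring),
            show j + 3 - 1 = j + 2 from rfl]
          have h23 := Nat.mul_le_mul_right ((j + 4) * ((j + 3) * (j + 2))) (show 2 ≤ j + 3 by omega)
          nlinarith [h23]
        _ ≤ q * (q - 1) := Nat.mul_le_mul hu2 (by omega)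
  | subfieldPSL K u hu hK h hcard =>
    obtain ⟨m, hm1, hm⟩ := Geom.Moebius.subfield_card_pow K hK
    rcases Nat.lt_or_ge m 2 with hm2 | hm2
    · obtain rfl : m = 1 := by omega
      rw [pow_one] at hm
      obtain ⟨e⟩ := h
      let _ : Fintype K := Fintype.ofFinite K
      have hG' := card_psl_two_ge (F := K)
      rw [← Nat.card_eq_fintype_card, hK, hm, ← Nat.card_congr e.toEquiv] at hG'
      have : Nat.card (ProjectiveSpecialLinearGroup (Fin 2) F) = Nat.card H :=
        Nat.eq_of_mul_eq_mul_left hd0 (hG.symm.trans hG')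
      omega
    · have hu2 : u ^ 2 ≤ q := le_of_le_of_eq (Nat.pow_le_pow_right (by omega) hm2) hm
      calc d * Nat.card H ≤ 2 * Nat.card H := Nat.mul_le_mul_right _ hd2
        _ = (u + 1) * (u * (u - 1)) := hcard
        _ ≤ u ^ 2 * (u ^ 2 - 1) := by
          obtain ⟨j, rfl⟩ : ∃ j, u = j + 3 := ⟨_, (Nat.sub_add_cancel hu).symm⟩
          rw [show (j + 3) ^ 2 - 1 = (j + 4) * (j + 2) from Nat.sub_eq_of_eq_add (by ring),
            show j + 3 - 1 = j + 2 from rfl]
          have h23 := Nat.mul_le_mul_right ((j + 4) * ((j + 3) * (j + 2))) (show 2 ≤ j + 3 by omega)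
          nlinarith [h23]
        _ ≤ q * (q - 1) := Nat.mul_le_mul hu2 (by omega)

end CfsgLib.Classical
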