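import Mathlib
import Cfsg.Agent.Lib.Classical.OrthSimple
import Cfsg.Agent.Lib.Geom.WittQuad

/-!
Automorphisms of `PΩ`, part 1: frames, root elements of totally singular lines, semisimilarities.
-/

set_option autoImplicit false

namespace CfsgLib.Classical

open CfsgLib.Geom
open QuadraticMap (polar)

variable {F V : Type*} [Field F] [AddCommGroup V] [Module F V]
variable (Q : QuadraticForm F V)

/-- The commutator subgroup of the isometry group. -/
abbrev OmG : Type _ := ↥(commutator (quadIsoms Q))

/-- Its central quotient. -/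
abbrev POmG : Type _ := OmG Q ⧸ Subgroup.center (OmG Q)

variable {Q}

theorem omG_ext {g h : OmG Q} (e : ∀ v, g.1.1 v = h.1.1 v) : g = h :=
  Subtype.ext (quadIsoms_ext Q e)

/-- The quotient map. -/
def toP : OmG Q →* POmG Q := QuotientGroup.mk' _

theorem toP_surjective : Function.Surjective (toP (Q := Q)) := QuotientGroup.mk'_surjective _

variable (Q)

/-- A frame: `m` hyperbolic pairs with anisotropic orthogonal complement. -/
structure OFrame (m : ℕ) where
  sep : ∀ x, (∀ y, polar Q x y = 0) → x = 0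
  hm : 3 ≤ m
  e : Fin m → V
  f : Fin m → V
  he : ∀ i, Q (e i) = 0
  hf : ∀ i, Q (f i) = 0
  hee : ∀ i j, polar Q (e i) (e j) = 0
  hff : ∀ i j, polar Q (f i) (f j) = 0
  hef : ∀ i j, polar Q (e i) (f j) = if i = j then 1 else 0
  aniso : ∀ w, (∀ i, polar Q (e i) w = 0) → (∀ i, polar Q (f i) w = 0) → Q w = 0 → w = 0

variable {Q} {m : ℕ}

namespace OFrame

variable (K : OFrame Q m)

/-- The vectors of the frame. -/
def vec : Fin m ⊕ Fin m → V := Sum.elim K.e K.f

theorem hfe (i j : Fin m) : polar Q (K.f i) (K.e j) = if i = j then 1 else 0 := by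
  rw [QuadraticMap.polar_comm, K.hef]
  simp [eq_comm]

theorem linearIndependent_vec : LinearIndependent F K.vec := by
  rw [Fintype.linearIndependent_iff]
  intro g hg
  have key : ∀ x, polar Q x (∑ i, g i • K.vec i) = ∑ i, g i * polar Q x (K.vec i) := fun x => by
    rw [show polar Q x (∑ i, g i • K.vec i) = QuadraticMap.polarBilin Q x (∑ i, g i • K.vec i) from rfl,
      map_sum]
    simp [map_smul]
  rintro (i | i)
  · have := key (K.f i)
    rw [hg] at this
    simpa [OFrame.vec, Fintype.sum_sum_type, K.hfe, K.hff] using this.symm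
  · have := key (K.e i)
    rw [hg] at this
    simpa [OFrame.vec, Fintype.sum_sum_type, K.hef, K.hee] using this.symm

theorem five_le [FiniteDimensional F V] (K : OFrame Q m) : 5 ≤ Module.finrank F V := by
  have := K.linearIndependent_vec.fintype_card_le_finrank
  have := K.hm
  simp at *
  omega

/-- The image of a frame under an isometry. -/
def move (g : quadIsoms Q) : OFrame Q m where
  sep := K.sep
  hm := K.hm
  e i := g.1 (K.e i)
  f i := g.1 (K.f i)
  he i := by rw [mem_quadIsoms.1 g.2, K.he]
  hf i := by rw [mem_quadIsoms.1 g.2, K.hf]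
  hee i j := by rw [polar_quadIsom g.2, K.hee]
  hff i j := by rw [polar_quadIsom g.2, K.hff]
  hef i j := by rw [polar_quadIsom g.2, K.hef]
  aniso w h1 h2 h3 := by
    obtain ⟨v, rfl⟩ := g.1.surjective w
    rw [K.aniso v (fun i => by rw [← h1 i, polar_quadIsom g.2])
      (fun i => by rw [← h2 i, polar_quadIsom g.2]) (by rwa [mem_quadIsoms.1 g.2] at h3), map_zero]

/-- The frame with `e` and `f` exchanged. -/
def flip : OFrame Q m where
  sep := K.sep
  hm := K.hm
  e := K.f
  f := K.e
  he := K.hf
  hf := K.he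
  hee := K.hff
  hff := K.hee
  hef := K.hfe
  aniso w h1 h2 h3 := K.aniso w h2 h1 h3

/-- The component of a vector orthogonal to the frame. -/
def wproj (v : V) : V := v - ∑ i, polar Q (K.f i) v • K.e i - ∑ i, polar Q (K.e i) v • K.f i

theorem decomp (v : V) :
    v = ∑ i, polar Q (K.f i) v • K.e i + ∑ i, polar Q (K.e i) v • K.f i + K.wproj v := by
  simp only [wproj]; abel

theorem polar_sum_right (x : V) (a : Fin m → F) (u : Fin m → V) :
    polar Q x (∑ i, a i • u i) = ∑ i, a i * polar Q x (u i) := by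
  rw [show polar Q x (∑ i, a i • u i) = QuadraticMap.polarBilin Q x (∑ i, a i • u i) from rfl, map_sum]
  simp [map_smul]

theorem polar_e_wproj (j : Fin m) (v : V) : polar Q (K.e j) (K.wproj v) = 0 := by
  simp [wproj, QuadraticMap.polar_sub_right, polar_sum_right, K.hee, K.hef]

theorem polar_f_wproj (j : Fin m) (v : V) : polar Q (K.f j) (K.wproj v) = 0 := by
  simp [wproj, QuadraticMap.polar_sub_right, polar_sum_right, K.hff, K.hfe]

theorem quad_sum_e (a : Fin m → F) : Q (∑ i, a i • K.e i) = 0 := by
  rw [QuadraticMap.map_sum (Q : QuadraticMap F V F)]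
  simp only [quad_smul, K.he, mul_zero, Finset.sum_const_zero, zero_add]
  refine Finset.sum_eq_zero fun ij _ => ?_
  induction ij using Sym2.ind with
  | _ i j => simp [QuadraticMap.polar_smul_left, QuadraticMap.polar_smul_right, K.hee]

theorem quad_decomp (v : V) :
    Q v = ∑ i, polar Q (K.f i) v * polar Q (K.e i) v + Q (K.wproj v) := by
  conv_lhs => rw [K.decomp v]
  rw [QuadraticMap.map_add (Q : QuadraticMap F V F), QuadraticMap.map_add (Q : QuadraticMap F V F),
    K.quad_sum_e, show Q (∑ i, polar Q (K.e i) v • K.f i) = 0 from K.flip.quad_sum_e _, zero_add,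
    zero_add]
  have h1 : polar Q (∑ i, polar Q (K.f i) v • K.e i) (∑ i, polar Q (K.e i) v • K.f i) =
      ∑ i, polar Q (K.f i) v * polar Q (K.e i) v := by
    rw [polar_sum_right]
    refine Finset.sum_congr rfl fun i _ => ?_
    rw [QuadraticMap.polar_comm _ _ (K.f i), polar_sum_right, mul_comm]
    simp [K.hfe]
  have h2 : polar Q (∑ i, polar Q (K.f i) v • K.e i + ∑ i, polar Q (K.e i) v • K.f i) (K.wproj v) = 0 := by
    rw [QuadraticMap.polar_comm, QuadraticMap.polar_add_right, polar_sum_right, polar_sum_right]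
    simp [QuadraticMap.polar_comm _ (K.wproj v), K.polar_e_wproj, K.polar_f_wproj]
  rw [h1, h2]
  ring

end OFrame

/-- An isometry with prescribed values on an independent family. -/
theorem witt_family [FiniteDimensional F V] (hQ : ∀ x, (∀ y, polar Q x y = 0) → x = 0)
    {ι : Type*} (u u' : ι → V) (hu : LinearIndependent F u) (hu' : LinearIndependent F u')
    (hq : ∀ i, Q (u' i) = Q (u i)) (hb : ∀ i j, polar Q (u' i) (u' j) = polar Q (u i) (u j)) :
    ∃ g : quadIsoms Q, ∀ i, g.1 (u i) = u' i := by
  let b := Module.Basis.span hu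
  let φ : Submodule.span F (Set.range u) →ₗ[F] V := b.constr F u'
  have hφb : ∀ i, φ (b i) = u' i := fun i => b.constr_basis F u' i
  have hbv : ∀ i, ((b i : Submodule.span F (Set.range u)) : V) = u i := fun i =>
    congrArg Subtype.val (Module.Basis.span_apply hu i)
  have hpol : ∀ x y, polar Q (φ x) (φ y) = polar Q (x : V) y := by
    intro x y
    exact LinearMap.congr_fun₂ (show (QuadraticMap.polarBilin Q).compl₁₂ φ φ =
      (QuadraticMap.polarBilin Q).compl₁₂ (Submodule.span F (Set.range u)).subtype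
        (Submodule.span F (Set.range u)).subtype from
      LinearMap.ext_basis b b fun i j => by
        simp only [LinearMap.compl₁₂_apply, Submodule.subtype_apply, hφb, hbv,
          QuadraticMap.polarBilin_apply_apply, hb]) x y
  have hQφ : ∀ x, Q (φ x) = Q (x : V) := by
    intro x
    have hx : x ∈ Submodule.span F (Set.range b) := b.span_eq ▸ Submodule.mem_top
    induction hx using Submodule.span_induction with
    | mem x hx => obtain ⟨i, rfl⟩ := hx; rw [hφb, hbv, hq]
    | zero => simp
    | add x y _ _ ihx ihy =>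
      rw [map_add, Submodule.coe_add, QuadraticMap.map_add (Q : QuadraticMap F V F),
        QuadraticMap.map_add (Q : QuadraticMap F V F), ihx, ihy, hpol]
    | smul a x _ ih => rw [map_smul, Submodule.coe_smul, quad_smul, quad_smul, ih]
  have hinj : Function.Injective φ := by
    rw [← LinearMap.ker_eq_bot, eq_bot_iff]
    intro x hx
    have h : Finsupp.linearCombination F u' (b.repr x) = 0 := by
      rw [LinearMap.mem_ker, Module.Basis.constr_apply] at hx
      exact hx
    rw [Submodule.mem_bot, ← b.repr.map_eq_zero_iff]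
    exact linearIndependent_iff.1 hu' _ h
  obtain ⟨g, hg, hgx⟩ := witt_quadratic Q hQ _ φ hinj hQφ
  exact ⟨⟨g, hg⟩, fun i => by rw [← hbv i, hgx, hφb]⟩

/-- A singular vector with an independent singular vector orthogonal to it. -/
def TSPair (Q : QuadraticForm F V) (x w : V) : Prop :=
  Q x = 0 ∧ Q w = 0 ∧ polar Q x w = 0 ∧ LinearIndependent F ![x, w]

theorem TSPair.ne_left {x w : V} (h : TSPair Q x w) : x ≠ 0 := by
  simpa using h.2.2.2.ne_zero (0 : Fin 2)

/-- A totally singular line. -/
def IsTL (Q : QuadraticForm F V) (L : Submodule F V) : Prop :=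
  ∃ x w, TSPair Q x w ∧ L = Submodule.span F {x, w}

theorem TSPair.swap {x w : V} (h : TSPair Q x w) : TSPair Q w x :=
  ⟨h.2.1, h.1, by rw [QuadraticMap.polar_comm]; exact h.2.2.1,
    LinearIndependent.pair_symm_iff.1 h.2.2.2⟩

theorem TSPair.isTL {x w : V} (h : TSPair Q x w) : IsTL Q (Submodule.span F {x, w}) :=
  ⟨x, w, h, rfl⟩

theorem TSPair.move {x w : V} (h : TSPair Q x w) (g : quadIsoms Q) : TSPair Q (g.1 x) (g.1 w) := by
  refine ⟨by rw [mem_quadIsoms.1 g.2, h.1], by rw [mem_quadIsoms.1 g.2, h.2.1],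
    by rw [polar_quadIsom g.2, h.2.2.1], ?_⟩
  have := h.2.2.2.map' g.1.toLinearMap g.1.ker
  have e : (g.1.toLinearMap : V → V) ∘ ![x, w] = ![g.1 x, g.1 w] := by
    funext i; fin_cases i <;> rfl
  rwa [e] at this

theorem IsTL.finrank {L : Submodule F V} (h : IsTL Q L) : Module.finrank F L = 2 := by
  obtain ⟨x, w, h, rfl⟩ := h
  have := finrank_span_eq_card h.2.2.2
  rwa [Matrix.range_cons_cons_empty, Fintype.card_fin] at this

theorem IsTL.singular {L : Submodule F V} (h : IsTL Q L) {v : V} (hv : v ∈ L) : Q v = 0 := by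
  obtain ⟨x, w, h, rfl⟩ := h
  obtain ⟨a, b, rfl⟩ := Submodule.mem_span_pair.1 hv
  simp [QuadraticMap.map_add (Q : QuadraticMap F V F), quad_smul, QuadraticMap.polar_smul_left,
    QuadraticMap.polar_smul_right, h.1, h.2.1, h.2.2.1]

theorem IsTL.perp {L : Submodule F V} (h : IsTL Q L) {u v : V} (hu : u ∈ L) (hv : v ∈ L) :
    polar Q u v = 0 := by
  have h1 := h.singular (add_mem hu hv)
  rwa [QuadraticMap.map_add (Q : QuadraticMap F V F), h.singular hu, h.singular hv, zero_add,
    zero_add] at h1

theorem IsTL.finiteDimensional {L : Submodule F V} (h : IsTL Q L) : FiniteDimensional F L :=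
  Module.finite_of_finrank_pos (by rw [h.finrank]; norm_num)

theorem IsTL.eq_of_le {L M : Submodule F V} (hL : IsTL Q L) (hM : IsTL Q M) (h : L ≤ M) : L = M := by
  have := hM.finiteDimensional
  exact Submodule.eq_of_le_of_finrank_le h (by rw [hL.finrank, hM.finrank])

theorem IsTL.eq_span_of_mem {L : Submodule F V} (hL : IsTL Q L) {x w : V} (hx : x ∈ L) (hw : w ∈ L)
    (hi : LinearIndependent F ![x, w]) : L = Submodule.span F {x, w} := by
  refine ((IsTL.eq_of_le ?_ hL (Submodule.span_le.2 ?_))).symm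
  · exact ⟨x, w, ⟨hL.singular hx, hL.singular hw, hL.perp hx hw, hi⟩, rfl⟩
  · intro v hv
    rcases hv with rfl | hv
    · exact hx
    · rw [Set.mem_singleton_iff.1 hv]; exact hw

theorem IsTL.exists_pair {L : Submodule F V} (hL : IsTL Q L) {x : V} (hx : x ∈ L) (hx0 : x ≠ 0) :
    ∃ w, TSPair Q x w ∧ L = Submodule.span F {x, w} := by
  obtain ⟨a, b, hab, hLe⟩ := hL
  have hL' : IsTL Q L := ⟨a, b, hab, hLe⟩
  have ha : a ∈ L := hLe ▸ Submodule.subset_span (by simp)
  have hb : b ∈ L := hLe ▸ Submodule.subset_span (by simp)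
  have : LinearIndependent F ![x, a] ∨ LinearIndependent F ![x, b] := by
    rw [LinearIndependent.pair_iff' hx0, LinearIndependent.pair_iff' hx0]
    by_contra h
    push Not at h
    obtain ⟨⟨s, hs⟩, t, ht⟩ := h
    have hi := hab.2.2.2
    by_cases hs0 : s = 0
    · exact hi.ne_zero (i := 0) (by simp [← hs, hs0])
    · refine (LinearIndependent.pair_iff' ?_).1 hi (t / s) ?_
      · exact hi.ne_zero 0
      · rw [← hs, ← ht, smul_smul, div_mul_cancel₀ _ hs0]
  rcases this with h | h
  · exact ⟨a, ⟨hL'.singular hx, hL'.singular ha, hL'.perp hx ha, h⟩, hL'.eq_span_of_mem hx ha h⟩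
  · exact ⟨b, ⟨hL'.singular hx, hL'.singular hb, hL'.perp hx hb, h⟩, hL'.eq_span_of_mem hx hb h⟩

theorem siegel_apply_ts {x w : V} (hx : Q x = 0) (hw : Q w = 0) (hxw : polar Q x w = 0) (z : V) :
    (siegel Q x w).1 z = z + polar Q x z • w - polar Q w z • x := by
  rw [siegel_apply Q hx hxw, hw, zero_mul, add_zero]

theorem siegel_span {x w : V} (h : TSPair Q x w) (a b c d : F) :
    siegel Q (a • x + b • w) (c • x + d • w) = siegel Q x ((a * d - b * c) • w) := by
  have h' : IsTL Q (Submodule.span F {x, w}) := h.isTL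
  have h1 : a • x + b • w ∈ Submodule.span F {x, w} := Submodule.mem_span_pair.2 ⟨a, b, rfl⟩
  have h2 : c • x + d • w ∈ Submodule.span F {x, w} := Submodule.mem_span_pair.2 ⟨c, d, rfl⟩
  have h3 : (a * d - b * c) • w ∈ Submodule.span F {x, w} :=
    Submodule.mem_span_pair.2 ⟨0, _, by rw [zero_smul, zero_add]⟩
  refine quadIsoms_ext Q fun z => ?_
  rw [siegel_apply_ts (h'.singular h1) (h'.singular h2) (h'.perp h1 h2),
    siegel_apply_ts h.1 (h'.singular h3) (by rw [QuadraticMap.polar_smul_right, h.2.2.1, smul_zero])]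
  simp only [QuadraticMap.polar_add_left, QuadraticMap.polar_smul_left, smul_eq_mul]
  module

theorem siegel_swap {x w : V} (h : TSPair Q x w) : siegel Q w x = siegel Q x (-w) := by
  simpa using siegel_span h 0 1 1 0

theorem siegel_injective [FiniteDimensional F V] (hQ : ∀ x, (∀ y, polar Q x y = 0) → x = 0) {x : V}
    (hx0 : x ≠ 0) (hx : Q x = 0) {w w' : V} (hw : polar Q x w = 0) (hw' : polar Q x w' = 0)
    (h : siegel Q x w = siegel Q x w') : ∃ a : F, w - w' = a • x := by
  obtain ⟨z, hz⟩ := exists_partner Q hQ hx0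
  have h1 : polar Q x (w - w') = 0 := by rw [QuadraticMap.polar_sub_right, hw, hw', sub_zero]
  have hs : siegel Q x (w - w') = 1 := by
    rw [sub_eq_add_neg, siegel_add Q hx hw (by rw [QuadraticMap.polar_neg_right, hw', neg_zero]), h,
      ← siegel_neg Q hx hw', mul_inv_cancel]
  have h2 : (siegel Q x (w - w')).1 z = z := by rw [hs]; rfl
  rw [siegel_apply Q hx h1, hz, one_smul, add_sub_assoc, add_eq_left, sub_eq_zero] at h2
  exact ⟨_, h2⟩

variable (Q)

/-- The semisimilarities. -/
structure SemiSim where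
  map : V ≃+ V
  σ : F ≃+* F
  c : Fˣ
  map_smul : ∀ (a : F) (v : V), map (a • v) = σ a • map v
  map_quad : ∀ v, Q (map v) = c * σ (Q v)

variable {Q}

namespace SemiSim

variable (S T : SemiSim Q)

theorem map_polar (u v : V) : polar Q (S.map u) (S.map v) = S.c * S.σ (polar Q u v) := by
  simp only [polar, ← map_add S.map, S.map_quad, map_sub]
  ring

theorem symm_smul (a : F) (v : V) : S.map.symm (a • v) = S.σ.symm a • S.map.symm v := by
  apply S.map.injective
  rw [S.map_smul, AddEquiv.apply_symm_apply, RingEquiv.apply_symm_apply, AddEquiv.apply_symm_apply]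

/-- Composition. -/
def trans : SemiSim Q where
  map := S.map.trans T.map
  σ := S.σ.trans T.σ
  c := T.c * Units.map (T.σ : F →+* F).toMonoidHom S.c
  map_smul a v := by simp [S.map_smul, T.map_smul]
  map_quad v := by simp [S.map_quad, T.map_quad, mul_assoc]

/-- The inverse. -/
def symm : SemiSim Q where
  map := S.map.symm
  σ := S.σ.symm
  c := Units.map (S.σ.symm : F →+* F).toMonoidHom S.c⁻¹
  map_smul := S.symm_smul
  map_quad v := by
    conv_rhs => rw [← S.map.apply_symm_apply v, S.map_quad]
    simp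

/-- An isometry as a semisimilarity. -/
def ofIsom (g : quadIsoms Q) : SemiSim Q where
  map := g.1.toAddEquiv
  σ := RingEquiv.refl F
  c := 1
  map_smul a v := g.1.map_smul a v
  map_quad v := by simpa using mem_quadIsoms.1 g.2 v

/-- Conjugation of one linear map. -/
def conjLin (g : V ≃ₗ[F] V) : V ≃ₗ[F] V :=
  { (S.map.symm.trans g.toAddEquiv).trans S.map with
    map_smul' := fun a v => by
      simp [S.symm_smul, S.map_smul] }

@[simp]
theorem conjLin_apply (g : V ≃ₗ[F] V) (v : V) : S.conjLin g v = S.map (g (S.map.symm v)) := rfl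

theorem conjLin_mem {g : V ≃ₗ[F] V} (hg : g ∈ quadIsoms Q) : S.conjLin g ∈ quadIsoms Q := by
  refine mem_quadIsoms.2 fun v => ?_
  rw [conjLin_apply, S.map_quad, mem_quadIsoms.1 hg, ← S.map_quad, AddEquiv.apply_symm_apply]

/-- Conjugation, on the isometry group. -/
def conj : MulAut (quadIsoms Q) where
  toFun g := ⟨S.conjLin g.1, S.conjLin_mem g.2⟩
  invFun g := ⟨S.symm.conjLin g.1, S.symm.conjLin_mem g.2⟩
  left_inv g := quadIsoms_ext Q fun v => by simp [symm]
  right_inv g := quadIsoms_ext Q fun v => by simp [symm]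
  map_mul' g h := quadIsoms_ext Q fun v => by simp

theorem conj_apply (g : quadIsoms Q) (v : V) : (S.conj g).1 v = S.map (g.1 (S.map.symm v)) := rfl

/-- Conjugation, on the commutator subgroup. -/
def conjOm : MulAut (OmG Q) :=
  (S.conj.subgroupMap (commutator (quadIsoms Q))).trans (MulEquiv.subgroupCongr (by
    show (commutator (quadIsoms Q)).map S.conj.toMonoidHom = commutator _
    rw [commutator_def, Subgroup.map_commutator,
      Subgroup.map_top_of_surjective S.conj.toMonoidHom S.conj.surjective]))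

theorem conjOm_coe (g : OmG Q) : (S.conjOm g).1 = S.conj g.1 := rfl

/-- The automorphism of the central quotient induced by a semisimilarity. -/
noncomputable def aut : MulAut (POmG Q) :=
  QuotientGroup.congr _ _ S.conjOm (by
    ext x
    obtain ⟨y, rfl⟩ := S.conjOm.surjective x
    simp only [Subgroup.mem_map, Subgroup.mem_center_iff]
    constructor
    · rintro ⟨y', hy, e⟩ g
      obtain ⟨g, rfl⟩ := S.conjOm.surjective g
      rw [← e]
      exact (map_mul S.conjOm g y').symm.trans ((congrArg S.conjOm (hy g)).trans (map_mul S.conjOm y' g))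
    · intro hy
      exact ⟨y, fun g => S.conjOm.injective (by rw [map_mul, map_mul]; exact hy _), rfl⟩)

theorem aut_toP (g : OmG Q) : S.aut (toP g) = toP (S.conjOm g) := rfl

theorem aut_trans : (S.trans T).aut = T.aut * S.aut := by
  refine MulEquiv.ext fun x => ?_
  obtain ⟨g, rfl⟩ := toP_surjective x
  show _ = T.aut (S.aut (toP g))
  rw [aut_toP, aut_toP, aut_toP]
  exact congrArg toP (omG_ext fun v => rfl)

theorem aut_symm : S.symm.aut = S.aut⁻¹ := by
  refine eq_inv_of_mul_eq_one_left (MulEquiv.ext fun x => ?_)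
  obtain ⟨g, rfl⟩ := toP_surjective x
  show S.symm.aut (S.aut (toP g)) = toP g
  rw [aut_toP, aut_toP]
  exact congrArg toP (omG_ext fun v => by simp [conjOm_coe, conj_apply, symm])

theorem conj_siegel {x w : V} (hx : Q x = 0) (hw : polar Q x w = 0) :
    S.conj (siegel Q x w) = siegel Q (S.map x) (((S.c⁻¹ : Fˣ) : F) • S.map w) := by
  have hx' : Q (S.map x) = 0 := by rw [S.map_quad, hx, map_zero, mul_zero]
  have hw' : polar Q (S.map x) (((S.c⁻¹ : Fˣ) : F) • S.map w) = 0 := by
    rw [QuadraticMap.polar_smul_right, S.map_polar, hw, map_zero, mul_zero, smul_zero]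
  refine quadIsoms_ext Q fun z => ?_
  obtain ⟨z, rfl⟩ := S.map.surjective z
  rw [conj_apply, AddEquiv.symm_apply_apply, siegel_apply Q hx hw, siegel_apply Q hx' hw']
  simp only [map_sub, map_add, S.map_smul, QuadraticMap.polar_smul_left, quad_smul, S.map_polar,
    S.map_quad, map_mul, smul_eq_mul, smul_smul]
  have hc : ((S.c⁻¹ : Fˣ) : F) * (S.c : F) = 1 := Units.inv_mul S.c
  congr 2
  · congr 1
    linear_combination -(S.σ (polar Q x z)) * hc
  · linear_combination -((S.σ (polar Q w z)) +
      (((S.c⁻¹ : Fˣ) : F) * S.c + 1) * S.σ (Q w) * S.σ (polar Q x z)) * hc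

end SemiSim

end CfsgLib.Classical
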