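import Mathlib
import Cfsg.Agent.Lib.Classical.OrthAutBasic

/-!
Automorphisms of `PΩ`, part 2: the root groups of totally singular lines are the centres of the Sylow
`p`-subgroups, hence permuted by every automorphism.
-/

set_option autoImplicit false
set_option linter.unusedSectionVars false

namespace CfsgLib.Classical

open CfsgLib.Geom
open QuadraticMap (polar)

variable {F V : Type*} [Field F] [Finite F] [AddCommGroup V] [Module F V] [FiniteDimensional F V]
variable {Q : QuadraticForm F V} {m : ℕ}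

/-- The root elements of a line. -/
def lineRoots (Q : QuadraticForm F V) (L : Submodule F V) : Set (OmG Q) :=
  {g | ∃ x ∈ L, ∃ w ∈ L, g.1 = siegel Q x w}

/-- `β` carries the root group of `L` to that of `L'`. -/
def SendsL (β : MulAut (POmG Q)) (L L' : Submodule F V) : Prop :=
  IsTL Q L ∧ IsTL Q L' ∧ ⇑β '' (⇑(toP (Q := Q)) '' lineRoots Q L) = ⇑(toP (Q := Q)) '' lineRoots Q L'

theorem omega_pow_apply {g : OmG Q} {a : F} (h : ∀ v, g.1.1 v = a • v) (n : ℕ) (v : V) :
    (g ^ n).1.1 v = a ^ n • v := by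
  induction n generalizing v with
  | zero => simp
  | succ n ih => rw [pow_succ, omega_mul_apply, h, ih, smul_smul, pow_succ']; ring_nf

theorem eq_one_of_pow_eq_one_of_char {p : ℕ} [Fact p.Prime] [CharP F p] {a : F} {k : ℕ}
    (h : a ^ p ^ k = 1) : a = 1 := by
  have h1 : (a - 1) ^ p ^ k = 0 := by rw [sub_pow_char_pow, h, one_pow, sub_self]
  exact sub_eq_zero.1 (pow_eq_zero_iff (pow_ne_zero k (Fact.out : p.Prime).ne_zero) |>.1 h1)

namespace OFrame

variable (K : OFrame Q m)

/-- A Siegel transformation as an element of `Ω`. -/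
noncomputable def root (K : OFrame Q m) (x w : V) : OmG Q :=
  ⟨siegel Q x w, by rw [commutator_eq_siegelGroup Q K.sep K.five_le]; exact siegel_mem Q x w⟩

@[simp]
theorem root_coe (x w : V) : (K.root x w).1 = siegel Q x w := rfl

theorem mem_center_iff (K : OFrame Q m) (g : OmG Q) :
    g ∈ Subgroup.center (OmG Q) ↔ ∃ a : F, ∀ v, g.1.1 v = a • v :=
  mem_center_commutator_iff Q K.sep K.five_le g

theorem toP_eq_iff {g h : OmG Q} : toP g = toP h ↔ g⁻¹ * h ∈ Subgroup.center (OmG Q) :=
  QuotientGroup.eq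

include K in
theorem eq_one_of_central_pow {p : ℕ} [Fact p.Prime] [CharP F p] {z : OmG Q}
    (hz : z ∈ Subgroup.center (OmG Q)) {k : ℕ} (h : z ^ p ^ k = 1) : z = 1 := by
  obtain ⟨a, ha⟩ := (K.mem_center_iff z).1 hz
  obtain ⟨x, hx0, hx⟩ := exists_singular Q K.sep K.five_le
  have h1 := omega_pow_apply ha (p ^ k) x
  rw [h] at h1
  have h2 : a ^ p ^ k = 1 := smul_left_injective F hx0 (h1.symm.trans (one_smul F x).symm)
  refine omG_ext fun v => ?_
  rw [ha, eq_one_of_pow_eq_one_of_char h2, one_smul]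
  rfl

include K in
/-- Commutation of `p`-elements lifts from the central quotient. -/
theorem commute_of_toP {p : ℕ} [Fact p.Prime] [CharP F p] {g h : OmG Q} {k : ℕ} (hg : g ^ p ^ k = 1)
    (e : Commute (toP g) (toP h)) : Commute g h := by
  have hz : g⁻¹ * (h * g * h⁻¹) ∈ Subgroup.center (OmG Q) := by
    rw [← toP_eq_iff, map_mul, map_mul, map_inv]
    rw [← e.eq, mul_inv_cancel_right]
  obtain ⟨z, hzd⟩ : ∃ z, z = g⁻¹ * (h * g * h⁻¹) := ⟨_, rfl⟩
  rw [← hzd] at hz
  have h1 : z ^ p ^ k = 1 := by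
    have hc : Commute g z := Subgroup.mem_center_iff.1 hz g
    have := hc.mul_pow (p ^ k)
    rw [hg, one_mul, hzd, mul_inv_cancel_left, conj_pow, hg, mul_one, mul_inv_cancel] at this
    rw [hzd]
    exact this.symm
  have h2 := K.eq_one_of_central_pow hz h1
  rw [h2, eq_comm, inv_mul_eq_one, eq_mul_inv_iff_mul_eq] at hzd
  exact hzd

theorem root_pow_char {p : ℕ} [CharP F p] (x w : V) : K.root x w ^ p = 1 := by
  refine Subtype.ext ?_
  rw [Subgroup.coe_pow, root_coe, Subgroup.coe_one]
  by_cases h : Q x = 0 ∧ polar Q x w = 0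
  · have key : ∀ n : ℕ, siegel Q x w ^ n = siegel Q x ((n : F) • w) := fun n => by
      induction n with
      | zero => simp [siegel_zero]
      | succ n ih =>
        rw [pow_succ, ih, Nat.cast_succ, add_smul, one_smul, siegel_add Q h.1
          (by rw [QuadraticMap.polar_smul_right, h.2, smul_zero]) h.2]
    rw [key, CharP.cast_eq_zero, zero_smul, siegel_zero]
  · rw [siegel_of_not Q h, one_pow]

theorem root_mem_lineRoots {L : Submodule F V} {x w : V} (hx : x ∈ L) (hw : w ∈ L) :
    K.root x w ∈ lineRoots Q L := ⟨x, hx, w, hw, rfl⟩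

include K in
theorem lineRoots_eq {x w : V} (h : TSPair Q x w) :
    lineRoots Q (Submodule.span F {x, w}) = Set.range fun t : F => K.root x (t • w) := by
  ext g
  constructor
  · rintro ⟨x', hx', w', hw', hg⟩
    obtain ⟨a, b, rfl⟩ := Submodule.mem_span_pair.1 hx'
    obtain ⟨c, d, rfl⟩ := Submodule.mem_span_pair.1 hw'
    exact ⟨a * d - b * c, Subtype.ext (by rw [root_coe, hg, siegel_span h])⟩
  · rintro ⟨t, rfl⟩
    exact K.root_mem_lineRoots (Submodule.subset_span (by simp))
      (Submodule.mem_span_pair.2 ⟨0, t, by rw [zero_smul, zero_add]⟩)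

include K in
theorem pow_eq_one_of_lineRoots {p : ℕ} [CharP F p] {L : Submodule F V} {g : OmG Q}
    (hg : g ∈ lineRoots Q L) : g ^ p = 1 := by
  obtain ⟨x, -, w, -, h⟩ := hg
  rw [show g = K.root x w from Subtype.ext h]
  exact K.root_pow_char x w

omit [Finite F] in
theorem mem_span_of_siegel_eq (hQ : ∀ x, (∀ y, polar Q x y = 0) → x = 0) {x w y u : V}
    (h : TSPair Q x w) (h' : TSPair Q y u) (e : siegel Q x w = siegel Q y u) :
    x ∈ Submodule.span F {y, u} ∧ w ∈ Submodule.span F {y, u} := by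
  have key : ∀ z, polar Q x z • w - polar Q w z • x ∈ Submodule.span F {y, u} := fun z => by
    have h1 : (siegel Q x w).1 z = (siegel Q y u).1 z := by rw [e]
    rw [siegel_apply_ts h.1 h.2.1 h.2.2.1, siegel_apply_ts h'.1 h'.2.1 h'.2.2.1, add_sub_assoc,
      add_sub_assoc, add_right_inj] at h1
    rw [h1]
    exact Submodule.sub_mem _ (Submodule.smul_mem _ _ (Submodule.subset_span (by simp)))
      (Submodule.smul_mem _ _ (Submodule.subset_span (by simp)))
  obtain ⟨z, hz1, hz2⟩ := exists_dual_pair Q hQ h.2.2.2 1 0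
  obtain ⟨z', hz1', hz2'⟩ := exists_dual_pair Q hQ h.2.2.2 0 (-1)
  constructor
  · simpa [hz1', hz2'] using key z'
  · simpa [hz1, hz2] using key z

omit [Finite F] in
theorem span_eq_of_siegel_eq (hQ : ∀ x, (∀ y, polar Q x y = 0) → x = 0) {x w y u : V}
    (h : TSPair Q x w) (h' : TSPair Q y u) (e : siegel Q x w = siegel Q y u) :
    Submodule.span F {x, w} = Submodule.span F {y, u} := by
  obtain ⟨h1, h2⟩ := mem_span_of_siegel_eq hQ h h' e
  exact (h'.isTL.eq_span_of_mem h1 h2 h.2.2.2).symm

theorem root_ne_one {x w : V} (h : TSPair Q x w) {t : F} (ht : t ≠ 0) : K.root x (t • w) ≠ 1 := by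
  intro e
  have h1 : siegel Q x (t • w) = siegel Q x 0 := by
    rw [siegel_zero, ← K.root_coe, e, Subgroup.coe_one]
  obtain ⟨a, ha⟩ := siegel_injective K.sep h.ne_left h.1
    (by rw [QuadraticMap.polar_smul_right, h.2.2.1, smul_zero]) (QuadraticMap.polar_zero_right _ _) h1
  rw [sub_zero] at ha
  exact ht ((LinearIndependent.pair_iff.1 h.2.2.2 (-a) t (by rw [ha, neg_smul, neg_add_cancel])).2)

include K in
theorem exists_pair_of_lineRoots {L : Submodule F V} (hL : IsTL Q L) {g : OmG Q}
    (hg : g ∈ lineRoots Q L) (h1 : g ≠ 1) :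
    ∃ x w, TSPair Q x w ∧ L = Submodule.span F {x, w} ∧ g.1 = siegel Q x w := by
  obtain ⟨a, b, hab, rfl⟩ := hL
  rw [K.lineRoots_eq hab] at hg
  obtain ⟨t, rfl⟩ := hg
  have ht : t ≠ 0 := fun h => h1 (Subtype.ext (by rw [root_coe, h, zero_smul, siegel_zero]; rfl))
  have hi : LinearIndependent F ![a, t • b] := by
    refine LinearIndependent.pair_iff.2 fun r s h => ?_
    rw [smul_smul] at h
    obtain ⟨h2, h3⟩ := LinearIndependent.pair_iff.1 hab.2.2.2 r (s * t) h
    exact ⟨h2, (mul_eq_zero.1 h3).resolve_right ht⟩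
  have htl : IsTL Q (Submodule.span F {a, b}) := hab.isTL
  have ha : a ∈ Submodule.span F {a, b} := Submodule.subset_span (by simp)
  have hb : t • b ∈ Submodule.span F {a, b} := Submodule.smul_mem _ _ (Submodule.subset_span (by simp))
  exact ⟨a, t • b, ⟨hab.1, htl.singular hb, htl.perp ha hb, hi⟩, htl.eq_span_of_mem ha hb hi, rfl⟩

include K in
theorem eq_of_lineRoots {L M : Submodule F V} (hL : IsTL Q L) (hM : IsTL Q M) {g : OmG Q}
    (hg : g ∈ lineRoots Q L) (hg' : g ∈ lineRoots Q M) (h1 : g ≠ 1) : L = M := by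
  obtain ⟨x, w, hxw, rfl, e⟩ := K.exists_pair_of_lineRoots hL hg h1
  obtain ⟨y, u, hyu, rfl, e'⟩ := K.exists_pair_of_lineRoots hM hg' h1
  exact span_eq_of_siegel_eq K.sep hxw hyu (e.symm.trans e')

include K in
theorem exists_lineRoot {L : Submodule F V} (hL : IsTL Q L) : ∃ g ∈ lineRoots Q L, g ≠ 1 := by
  obtain ⟨x, w, h, rfl⟩ := hL
  exact ⟨K.root x ((1 : F) • w), by rw [K.lineRoots_eq h]; exact ⟨1, rfl⟩, K.root_ne_one h one_ne_zero⟩

include K in
/-- The root elements inject into the central quotient. -/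
theorem toP_lineRoots_inj {p : ℕ} [Fact p.Prime] [CharP F p] {g h : OmG Q} (hg : g ^ p = 1)
    (hh : h ^ p = 1) (hc : Commute g h) (e : toP g = toP h) : g = h := by
  rw [toP_eq_iff] at e
  have h1 : (g⁻¹ * h) ^ p ^ 1 = 1 := by
    rw [pow_one, hc.inv_left.mul_pow, inv_pow, hg, hh, inv_one, one_mul]
  exact inv_mul_eq_one.1 (K.eq_one_of_central_pow e h1)

theorem zero_ne_one_fin : (⟨0, by have := K.hm; omega⟩ : Fin m) ≠ ⟨1, by have := K.hm; omega⟩ := by
  simp [Fin.ext_iff]

/-- An element commuting with the two unipotent groups lies in the root group of the line. -/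
theorem mem_lineRoots_of_central {p : ℕ} [Fact p.Prime] [CharP F p] {i j l : Fin m} (hij : i ≠ j)
    (hil : i ≠ l) (hjl : j ≠ l) {z : OmG Q} {k : ℕ} (hz : z ^ p ^ k = 1)
    (h1 : ∀ w, polar Q (K.e i) w = 0 → Commute z.1 (siegel Q (K.e i) w))
    (h2 : ∀ v, polar Q (K.e i) v = 0 → polar Q (K.e j) v = 0 → Commute z.1 (siegel Q (K.e j) v)) :
    z ∈ lineRoots Q (Submodule.span F {K.e i, K.e j}) := by
  have ts : ∀ {a b : Fin m}, a ≠ b → TSPair Q (K.e a) (K.e b) := fun {a b} hab =>
    ⟨K.he a, K.he b, K.hee a b, by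
      have := K.linearIndependent_vec.comp ![Sum.inl a, Sum.inl b]
        (by intro x y; fin_cases x <;> fin_cases y <;> simp [hab, Ne.symm hab])
      convert this using 1
      funext x; fin_cases x <;> rfl⟩
  have he0 : K.e i ≠ 0 := (ts hij).ne_left
  have conj1 : ∀ w, polar Q (K.e i) w = 0 →
      siegel Q (z.1.1 (K.e i)) (z.1.1 w) = siegel Q (K.e i) w := fun w hw => by
    rw [← siegel_conj, (h1 w hw).eq, mul_inv_cancel_right]
  -- `z` fixes `e i`
  have hze : z.1.1 (K.e i) = K.e i := by
    have hm1 := (mem_span_of_siegel_eq K.sep ((ts hij).move z.1) (ts hij) (conj1 _ (K.hee i j))).1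
    have hm2 := (mem_span_of_siegel_eq K.sep ((ts hil).move z.1) (ts hil) (conj1 _ (K.hee i l))).1
    obtain ⟨a, b, hab⟩ := Submodule.mem_span_pair.1 hm1
    obtain ⟨c, d, hcd⟩ := Submodule.mem_span_pair.1 hm2
    have hb : b = 0 := by
      have h := congrArg (polar Q (K.f j)) (hab.trans hcd.symm)
      simpa [QuadraticMap.polar_add_right, QuadraticMap.polar_smul_right, K.hfe, Ne.symm hij, hjl]
        using h
    rw [hb, zero_smul, add_zero] at hab
    have hpw : ∀ n : ℕ, (z ^ n).1.1 (K.e i) = a ^ n • K.e i := fun n => by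
      induction n with
      | zero => simp
      | succ n ih => rw [pow_succ, omega_mul_apply, ← hab, map_smul, ih, smul_smul, pow_succ']
    have h3 := hpw (p ^ k)
    rw [hz] at h3
    have h4 : a ^ p ^ k = 1 := smul_left_injective F he0 (h3.symm.trans (one_smul F _).symm)
    rw [← hab, eq_one_of_pow_eq_one_of_char h4, one_smul]
  -- so it is a Siegel transformation at `e i`
  obtain ⟨u, hud⟩ : ∃ u, u = z.1.1 (K.f i) - K.f i := ⟨_, rfl⟩
  have hef : polar Q (K.e i) (K.f i) = 1 := by simp [K.hef]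
  have hzf : polar Q (K.e i) (z.1.1 (K.f i)) = 1 := by
    conv_lhs => rw [← hze]
    rw [polar_quadIsom z.1.2, hef]
  have hu : polar Q (K.e i) u = 0 := by rw [hud, QuadraticMap.polar_sub_right, hzf, hef, sub_self]
  have hsf : (siegel Q (K.e i) u).1 (K.f i) = z.1.1 (K.f i) := by
    rw [hud]
    exact siegel_move Q (K.he i) hef hzf (mem_quadIsoms.1 z.1.2 _).symm
  have hse : (siegel Q (K.e i) u).1 (K.e i) = K.e i := by
    rw [siegel_apply Q (K.he i) hu, polar_self_of_singular Q (K.he i), QuadraticMap.polar_comm _ u, hu]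
    simp
  have hperp : ∀ w, polar Q (K.e i) w = 0 → z.1.1 w = (siegel Q (K.e i) u).1 w := fun w hw => by
    obtain ⟨a, ha⟩ := siegel_injective K.sep he0 (K.he i) (w := z.1.1 w) (w' := w)
      (by conv_lhs => rw [← hze]
          rw [polar_quadIsom z.1.2, hw]) hw
      (by have := conj1 w hw; rwa [hze] at this)
    rw [sub_eq_iff_eq_add] at ha
    have h3 := polar_quadIsom z.1.2 (K.f i) w
    rw [ha, show z.1.1 (K.f i) = K.f i + u by rw [hud]; abel] at h3
    simp only [QuadraticMap.polar_add_right, QuadraticMap.polar_add_left,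
      QuadraticMap.polar_smul_right, QuadraticMap.polar_comm _ (K.f i) (K.e i), hef,
      QuadraticMap.polar_comm _ u (K.e i), hu, smul_eq_mul] at h3
    rw [ha, siegel_apply Q (K.he i) hu, hw, zero_smul, mul_zero, add_zero, add_zero, sub_eq_add_neg,
      ← neg_smul, add_comm, show a = -polar Q u w by linear_combination h3]
  have hzs : z.1 = siegel Q (K.e i) u := by
    refine quadIsoms_ext Q fun v => ?_
    have h : v = (v - polar Q (K.e i) v • K.f i) + polar Q (K.e i) v • K.f i := by abel
    rw [h, map_add, map_add, map_smul, map_smul, hsf, hperp _ (by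
      rw [QuadraticMap.polar_sub_right, QuadraticMap.polar_smul_right, hef, smul_eq_mul, mul_one,
        sub_self])]
  -- and `u` lies on the line
  have conj2 : ∀ v, polar Q (K.e i) v = 0 → polar Q (K.e j) v = 0 →
      siegel Q (K.e j - polar Q u (K.e j) • K.e i) (v - polar Q u v • K.e i) = siegel Q (K.e j) v := by
    intro v hv hv'
    have h := h2 v hv hv'
    rw [hzs] at h
    have e : ∀ w, polar Q (K.e i) w = 0 →
        (siegel Q (K.e i) u).1 w = w - polar Q u w • K.e i := fun w hw => by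
      rw [siegel_apply Q (K.he i) hu, hw, zero_smul, mul_zero, add_zero, add_zero]
    rw [← e _ (K.hee i j), ← e _ hv, ← siegel_conj, h.eq, mul_inv_cancel_right]
  have hts' : TSPair Q (K.e j - polar Q u (K.e j) • K.e i) (K.e l - polar Q u (K.e l) • K.e i) := by
    refine ⟨?_, ?_, ?_, LinearIndependent.pair_iff.2 fun s t h => ?_⟩
    · rw [sub_eq_add_neg, ← neg_smul, quad_map_add_smul, K.he, K.he, K.hee]; simp
    · rw [sub_eq_add_neg, ← neg_smul, quad_map_add_smul, K.he, K.he, K.hee]; simp
    · simp [QuadraticMap.polar_sub_left, QuadraticMap.polar_sub_right, QuadraticMap.polar_smul_left,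
        QuadraticMap.polar_smul_right, K.hee]
    · have a := congrArg (polar Q (K.f j)) h
      have b := congrArg (polar Q (K.f l)) h
      simp [QuadraticMap.polar_add_right, QuadraticMap.polar_smul_right, QuadraticMap.polar_sub_right,
        K.hfe, hjl, Ne.symm hjl, Ne.symm hij, Ne.symm hil] at a b
      exact ⟨a, b⟩
  obtain ⟨m1, m2⟩ := mem_span_of_siegel_eq K.sep hts' (ts hjl) (conj2 _ (K.hee i l) (K.hee j l))
  have huj : polar Q u (K.e j) = 0 := by
    obtain ⟨a, b, hab⟩ := Submodule.mem_span_pair.1 m1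
    have h := congrArg (polar Q (K.f i)) hab
    simpa [QuadraticMap.polar_add_right, QuadraticMap.polar_smul_right, QuadraticMap.polar_sub_right,
      K.hfe, hij, hil] using h.symm
  have huv : ∀ v, polar Q (K.e i) v = 0 → polar Q (K.e j) v = 0 → polar Q u v = 0 := by
    intro v hv hv'
    have h := conj2 v hv hv'
    rw [huj, zero_smul, sub_zero] at h
    obtain ⟨a, ha⟩ := siegel_injective K.sep (ts hij).swap.ne_left (K.he j)
      (by rw [QuadraticMap.polar_sub_right, hv', QuadraticMap.polar_smul_right, K.hee, smul_zero,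
        sub_zero]) hv' h
    have h' := congrArg (polar Q (K.f i)) ha
    simpa [QuadraticMap.polar_sub_right, QuadraticMap.polar_smul_right, K.hfe, hij] using h'
  have hline : u = polar Q (K.f i) u • K.e i + polar Q (K.f j) u • K.e j := by
    rw [← sub_eq_zero]
    refine K.sep _ fun y => ?_
    have h := huv (y - polar Q (K.e i) y • K.f i - polar Q (K.e j) y • K.f j)
      (by simp [QuadraticMap.polar_sub_right, QuadraticMap.polar_smul_right, K.hef, hij])
      (by simp [QuadraticMap.polar_sub_right, QuadraticMap.polar_smul_right, K.hef, Ne.symm hij])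
    simp only [QuadraticMap.polar_sub_right, QuadraticMap.polar_smul_right, smul_eq_mul] at h
    simp only [QuadraticMap.polar_sub_left, QuadraticMap.polar_add_left, QuadraticMap.polar_smul_left,
      smul_eq_mul, QuadraticMap.polar_comm _ (K.f i) u, QuadraticMap.polar_comm _ (K.f j) u]
    linear_combination h
  exact ⟨K.e i, Submodule.subset_span (by simp), u, Submodule.mem_span_pair.2 ⟨_, _, hline.symm⟩, hzs⟩

end OFrame

end CfsgLib.Classical
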