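import Mathlib
import Cfsg.Agent.Lib.Classical.OrthAutSylow

/-!
Automorphisms of `PΩ`, part 3: the permutation of the totally singular lines.
-/

set_option autoImplicit false
set_option linter.unusedSectionVars false

namespace CfsgLib.Classical

open CfsgLib.Geom
open QuadraticMap (polar)

variable {F V : Type*} [Field F] [Finite F] [AddCommGroup V] [Module F V] [FiniteDimensional F V]
variable {Q : QuadraticForm F V} {m : ℕ}

theorem finite_linearEquiv : Finite (V ≃ₗ[F] V) := by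
  have : Finite V := Module.finite_of_finite F
  exact Finite.of_injective (fun g => (g : V → V)) DFunLike.coe_injective

theorem lineRoots_conj (g : quadIsoms Q) (L : Submodule F V) (h : OmG Q) (hh : h.1 = g) :
    (fun x => h * x * h⁻¹) '' lineRoots Q L = lineRoots Q (L.map g.1.toLinearMap) := by
  ext z
  constructor
  · rintro ⟨x, ⟨a, ha, b, hb, e⟩, rfl⟩
    refine ⟨g.1 a, Submodule.mem_map_of_mem ha, g.1 b, Submodule.mem_map_of_mem hb, ?_⟩
    rw [← siegel_conj, ← hh, ← e]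
    rfl
  · rintro ⟨a', ha', b', hb', e⟩
    obtain ⟨a, ha, rfl⟩ := Submodule.mem_map.1 ha'
    obtain ⟨b, hb, rfl⟩ := Submodule.mem_map.1 hb'
    refine ⟨h⁻¹ * z * h, ⟨a, ha, b, hb, ?_⟩, by group⟩
    show h.1⁻¹ * z.1 * h.1 = _
    rw [e, hh]
    show g⁻¹ * siegel Q (g.1 a) (g.1 b) * g = _
    rw [← siegel_conj]
    group

theorem IsTL.map {L : Submodule F V} (h : IsTL Q L) (g : quadIsoms Q) :
    IsTL Q (L.map g.1.toLinearMap) := by
  obtain ⟨x, w, hxw, rfl⟩ := h
  exact ⟨g.1 x, g.1 w, hxw.move g, by rw [Submodule.map_span, Set.image_pair]; rfl⟩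

namespace OFrame

variable (K : OFrame Q m)

/-- The root group of a singular vector, inside `Ω`. -/
def radGroup {x : V} (hx : Q x = 0) (S : Submodule F V) (hS : ∀ v ∈ S, polar Q x v = 0) :
    Subgroup (OmG Q) where
  carrier := {g | ∃ w ∈ S, g.1 = siegel Q x w}
  one_mem' := ⟨0, S.zero_mem, (siegel_zero Q x).symm⟩
  mul_mem' := by
    rintro a b ⟨w, hw, ha⟩ ⟨w', hw', hb⟩
    exact ⟨w + w', S.add_mem hw hw', by
      rw [Subgroup.coe_mul, ha, hb, siegel_add Q hx (hS w hw) (hS w' hw')]⟩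
  inv_mem' := by
    rintro a ⟨w, hw, ha⟩
    exact ⟨-w, S.neg_mem hw, by rw [Subgroup.coe_inv, ha, siegel_neg Q hx (hS w hw)]⟩

theorem exists_sylow_centre {p : ℕ} [Fact p.Prime] [CharP F p] {i j l : Fin m} (hij : i ≠ j)
    (hil : i ≠ l) (hjl : j ≠ l) : ∃ P : Sylow p (OmG Q),
    {g : OmG Q | g ∈ P ∧ ∀ h ∈ P, Commute g h} = lineRoots Q (Submodule.span F {K.e i, K.e j}) := by
  let Si : Submodule F V := LinearMap.ker (QuadraticMap.polarBilin Q (K.e i))
  let Sj : Submodule F V := Si ⊓ LinearMap.ker (QuadraticMap.polarBilin Q (K.e j))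
  have hSi : ∀ v, v ∈ Si ↔ polar Q (K.e i) v = 0 := fun v => Iff.rfl
  have hSj : ∀ v, v ∈ Sj ↔ polar Q (K.e i) v = 0 ∧ polar Q (K.e j) v = 0 := fun v => Iff.rfl
  let R := radGroup (K.he i) Si fun v hv => (hSi v).1 hv
  let A := radGroup (K.he j) Sj fun v hv => ((hSj v).1 hv).2
  have hpow : ∀ {x : V} (w : V) {g : OmG Q}, g.1 = siegel Q x w → g ^ p ^ 1 = 1 := fun w g hg => by
    rw [pow_one, show g = K.root _ w from Subtype.ext hg]
    exact K.root_pow_char _ w
  have hR : IsPGroup p R := fun ⟨g, w, _, hg⟩ => ⟨1, Subtype.ext (by simpa using hpow w hg)⟩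
  have hA : IsPGroup p A := fun ⟨g, w, _, hg⟩ => ⟨1, Subtype.ext (by simpa using hpow w hg)⟩
  have hfix : ∀ v ∈ Sj, (siegel Q (K.e j) v).1 (K.e i) = K.e i := fun v hv => by
    obtain ⟨h1, h2⟩ := (hSj v).1 hv
    rw [siegel_apply Q (K.he j) h2, K.hee, QuadraticMap.polar_comm _ v, h1]
    simp
  have hnorm : A ≤ Subgroup.normalizer (R : Set (OmG Q)) := by
    have key : ∀ a ∈ A, ∀ r ∈ R, a * r * a⁻¹ ∈ R := by
      rintro a ⟨v, hv, ha⟩ r ⟨w, hw, hr⟩
      refine ⟨(siegel Q (K.e j) v).1 w, (hSi _).2 ?_, ?_⟩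
      · conv_lhs => rw [← hfix v hv]
        rw [polar_quadIsom (siegel Q (K.e j) v).2]
        exact (hSi w).1 hw
      · conv_rhs => rw [← hfix v hv]
        rw [← siegel_conj, ← ha, ← hr]
        rfl
    intro a ha
    rw [Subgroup.mem_normalizer_iff]
    intro r
    refine ⟨key a ha r, fun h => ?_⟩
    have := key a⁻¹ (inv_mem ha) _ h
    simpa [mul_assoc] using this
  have hpair : TSPair Q (K.e i) (K.e j) := ⟨K.he i, K.he j, K.hee i j, by
    have := K.linearIndependent_vec.comp ![Sum.inl i, Sum.inl j]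
      (by intro x y; fin_cases x <;> fin_cases y <;> simp [hij, Ne.symm hij])
    convert this using 1
    funext x; fin_cases x <;> rfl⟩
  obtain ⟨P, hP⟩ := (IsPGroup.to_sup_of_normal_left' hR hA hnorm).exists_le_sylow
  have hRP : ∀ w, polar Q (K.e i) w = 0 → K.root (K.e i) w ∈ P := fun w hw =>
    hP (le_sup_left (a := R) ⟨w, hw, rfl⟩)
  have hAP : ∀ v, polar Q (K.e i) v = 0 → polar Q (K.e j) v = 0 → K.root (K.e j) v ∈ P :=
    fun v hv hv' => hP (le_sup_right (b := A) ⟨v, ⟨hv, hv'⟩, rfl⟩)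
  have hsub : {g : OmG Q | g ∈ P ∧ ∀ h ∈ P, Commute g h} ⊆
      lineRoots Q (Submodule.span F {K.e i, K.e j}) := by
    rintro g ⟨hg, hc⟩
    obtain ⟨k, hk⟩ := P.isPGroup' ⟨g, hg⟩
    exact K.mem_lineRoots_of_central hij hil hjl (k := k) (by simpa using congrArg Subtype.val hk)
      (fun w hw => congrArg Subtype.val (hc _ (hRP w hw)).eq)
      (fun v hv hv' => congrArg Subtype.val (hc _ (hAP v hv hv')).eq)
  have hLP : ∀ g ∈ lineRoots Q (Submodule.span F {K.e i, K.e j}), g ∈ P := by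
    intro g hg
    rw [K.lineRoots_eq hpair] at hg
    obtain ⟨t, rfl⟩ := hg
    exact hRP _ (by rw [QuadraticMap.polar_smul_right, K.hee, smul_zero])
  refine ⟨P, Set.Subset.antisymm hsub fun g hg => ⟨hLP g hg, ?_⟩⟩
  -- a non-trivial central element fixes the line with determinant one
  have : Nontrivial (P : Subgroup (OmG Q)) := by
    refine ⟨⟨⟨K.root (K.e i) ((1 : F) • K.e j), hLP _ ?_⟩, 1, fun h => ?_⟩⟩
    · rw [K.lineRoots_eq hpair]; exact ⟨1, rfl⟩
    · exact K.root_ne_one hpair one_ne_zero (congrArg Subtype.val h)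
  have := finite_linearEquiv (F := F) (V := V)
  have := P.isPGroup'.center_nontrivial
  obtain ⟨z, hz1⟩ := exists_ne (1 : Subgroup.center (P : Subgroup (OmG Q)))
  have hzc : ∀ h ∈ P, Commute z.1.1 h := fun h hh =>
    (congrArg Subtype.val (Subgroup.mem_center_iff.1 z.2 ⟨h, hh⟩)).symm
  have hzL := hsub ⟨z.1.2, hzc⟩
  rw [K.lineRoots_eq hpair] at hzL
  obtain ⟨t, ht⟩ := hzL
  have ht0 : t ≠ 0 := fun h => hz1 (Subtype.ext (Subtype.ext (by
    rw [← ht]
    exact Subtype.ext (by rw [root_coe, h, zero_smul, siegel_zero]; rfl))))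
  rw [K.lineRoots_eq hpair] at hg
  obtain ⟨s, rfl⟩ := hg
  intro h hh
  have h1 : siegel Q (h.1.1 (K.e i)) (h.1.1 (t • K.e j)) = siegel Q (K.e i) (t • K.e j) := by
    have := congrArg Subtype.val (hzc h hh).eq
    rw [← ht] at this
    simp only [Subgroup.coe_mul, root_coe] at this
    rw [← siegel_conj, ← this, mul_inv_cancel_right]
  have hp' : TSPair Q (K.e i) (t • K.e j) :=
    ⟨K.he i, by rw [quad_smul, K.he, mul_zero], by rw [QuadraticMap.polar_smul_right, K.hee, smul_zero],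
      (LinearIndependent.pair_iff' hpair.ne_left).2 fun a ha => by
        refine (LinearIndependent.pair_iff' hpair.ne_left).1 hpair.2.2.2 (t⁻¹ * a) ?_
        rw [mul_smul, ha, inv_smul_smul₀ ht0]⟩
  obtain ⟨m1, m2⟩ := mem_span_of_siegel_eq K.sep (hp'.move h.1) hp' h1
  obtain ⟨a, b, hab⟩ := Submodule.mem_span_pair.1 m1
  obtain ⟨c, d, hcd⟩ := Submodule.mem_span_pair.1 m2
  have hdet : a * d - b * c = 1 := by
    rw [← hab, ← hcd, siegel_span hp'] at h1
    obtain ⟨r, hr⟩ := siegel_injective K.sep hp'.ne_left hp'.1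
      (by rw [QuadraticMap.polar_smul_right, hp'.2.2.1, smul_zero]) hp'.2.2.1 h1
    have := (LinearIndependent.pair_iff.1 hp'.2.2.2 (-r) (a * d - b * c - 1)
      (by rw [sub_smul _ (1 : F), one_smul, hr, neg_smul, neg_add_cancel])).2
    linear_combination this
  refine Commute.symm (mul_inv_eq_iff_eq_mul.1 (Subtype.ext ?_))
  show h.1 * siegel Q (K.e i) (s • K.e j) * h.1⁻¹ = siegel Q (K.e i) (s • K.e j)
  rw [show s • K.e j = (s / t) • t • K.e j by rw [smul_smul, div_mul_cancel₀ _ ht0], siegel_conj,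
    map_smul, ← hab, ← hcd, smul_add, smul_smul (s / t) c, smul_smul (s / t) d, siegel_span hp']
  congr 1
  rw [show a * (s / t * d) - b * (s / t * c) = s / t * (a * d - b * c) by ring, hdet, mul_one]

/-- Every automorphism permutes the root groups of the lines. -/
theorem exists_sendsL_aux {p : ℕ} [Fact p.Prime] [CharP F p] (β : MulAut (POmG Q)) {i j l : Fin m}
    (hij : i ≠ j) (hil : i ≠ l) (hjl : j ≠ l) :
    ∃ L', SendsL β (Submodule.span F {K.e i, K.e j}) L' := by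
  obtain ⟨P, hP⟩ := K.exists_sylow_centre (p := p) hij hil hjl
  obtain ⟨L, hLd⟩ : ∃ L, L = Submodule.span F {K.e i, K.e j} := ⟨_, rfl⟩
  rw [← hLd] at hP ⊢
  have hL : IsTL Q L := hLd ▸ ⟨K.e i, K.e j, ⟨K.he i, K.he j, K.hee i j, by
    have := K.linearIndependent_vec.comp ![Sum.inl i, Sum.inl j]
      (by intro x y; fin_cases x <;> fin_cases y <;> simp [hij, Ne.symm hij])
    convert this using 1
    funext x; fin_cases x <;> rfl⟩, rfl⟩
  have hfin := finite_linearEquiv (F := F) (V := V)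
  let P1 : Sylow p (POmG Q) := P.mapSurjective toP_surjective
  have hP1 : ∀ x, x ∈ P1 ↔ ∃ g ∈ P, toP g = x := fun x => Iff.rfl
  have hC1 : {x : POmG Q | x ∈ P1 ∧ ∀ y ∈ P1, Commute x y} = ⇑(toP (Q := Q)) '' lineRoots Q L := by
    ext x
    constructor
    · rintro ⟨hx, hc⟩
      obtain ⟨g, hg, rfl⟩ := (hP1 x).1 hx
      refine ⟨g, ?_, rfl⟩
      rw [← hP]
      refine ⟨hg, fun h hh => ?_⟩
      obtain ⟨k, hk⟩ := P.isPGroup' ⟨g, hg⟩
      exact K.commute_of_toP (k := k) (by simpa using congrArg Subtype.val hk)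
        (hc _ ((hP1 _).2 ⟨h, hh, rfl⟩))
    · rintro ⟨g, hg, rfl⟩
      rw [← hP] at hg
      refine ⟨(hP1 _).2 ⟨g, hg.1, rfl⟩, fun y hy => ?_⟩
      obtain ⟨h, hh, rfl⟩ := (hP1 y).1 hy
      exact (hg.2 h hh).map toP
  let P2 : Sylow p (POmG Q) := P1.mapSurjective (f := β.toMonoidHom) β.surjective
  obtain ⟨x, hx⟩ := MulAction.exists_smul_eq (POmG Q) P1 P2
  obtain ⟨g, rfl⟩ := toP_surjective x
  refine ⟨L.map g.1.1.toLinearMap, hL, hL.map g.1, ?_⟩
  rw [← lineRoots_conj g.1 L g rfl, ← hC1]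
  have hP2 : ∀ y, y ∈ P1 ↔ β y ∈ P2 := fun y => ⟨fun hy => ⟨y, hy, rfl⟩, by
    rintro ⟨z, hz, hzy⟩
    rwa [← β.injective (show β z = β y from hzy)]⟩
  have hP2' : ∀ y, y ∈ P2 ↔ ∃ z ∈ P1, toP g * z * (toP g)⁻¹ = y := fun y => by
    rw [← hx]
    exact Iff.rfl
  ext y
  constructor
  · rintro ⟨z, ⟨hz, hc⟩, rfl⟩
    obtain ⟨w, hw, e⟩ := (hP2' _).1 ((hP2 z).1 hz)
    have hwc : w ∈ {x : POmG Q | x ∈ P1 ∧ ∀ y ∈ P1, Commute x y} := by
      refine ⟨hw, fun v hv => ?_⟩
      obtain ⟨u, hu⟩ := β.surjective (toP g * v * (toP g)⁻¹)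
      have h1 : u ∈ P1 := (hP2 u).2 (by rw [hu]; exact (hP2' _).2 ⟨v, hv, rfl⟩)
      have h2 := (hc u h1).map β
      rw [hu, ← e] at h2
      simpa using h2
    rw [hC1] at hwc
    obtain ⟨r, hr, rfl⟩ := hwc
    exact ⟨g * r * g⁻¹, ⟨r, hr, rfl⟩, by rw [← e, map_mul, map_mul, map_inv]⟩
  · rintro ⟨-, ⟨r, hr, rfl⟩, rfl⟩
    have hr' : toP r ∈ {x : POmG Q | x ∈ P1 ∧ ∀ y ∈ P1, Commute x y} := hC1 ▸ ⟨r, hr, rfl⟩
    obtain ⟨z, hz⟩ := β.surjective (toP g * toP r * (toP g)⁻¹)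
    refine ⟨z, ⟨(hP2 z).2 (by rw [hz]; exact (hP2' _).2 ⟨_, hr'.1, rfl⟩), fun v hv => ?_⟩,
      by rw [hz, map_mul, map_mul, map_inv]⟩
    obtain ⟨w, hw, e⟩ := (hP2' _).1 ((hP2 v).1 hv)
    refine Commute.of_map (f := β) β.injective ?_
    rw [hz, ← e]
    simpa using hr'.2 w hw

include K in
/-- Every automorphism permutes the root groups of the lines. -/
theorem exists_sendsL (β : MulAut (POmG Q)) {L : Submodule F V} (hL : IsTL Q L) :
    ∃ L', SendsL β L L' := by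
  obtain ⟨p, hp⟩ := CharP.exists F
  have : Fact p.Prime := ⟨(CharP.char_is_prime_or_zero F p).resolve_right (CharP.char_ne_zero_of_finite F p)⟩
  obtain ⟨x, w, hxw, rfl⟩ := hL
  have hm := K.hm
  let i : Fin m := ⟨0, by omega⟩
  let j : Fin m := ⟨1, by omega⟩
  let l : Fin m := ⟨2, by omega⟩
  have hij : i ≠ j := by simp [i, j, Fin.ext_iff]
  obtain ⟨g, hg⟩ := witt_family K.sep ![K.e i, K.e j] ![x, w]
    (by
      have := K.linearIndependent_vec.comp ![Sum.inl i, Sum.inl j]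
        (by intro a b; fin_cases a <;> fin_cases b <;> simp [hij, Ne.symm hij])
      convert this using 1
      funext a; fin_cases a <;> rfl)
    hxw.2.2.2
    (by intro a; fin_cases a <;> simp [K.he, hxw.1, hxw.2.1])
    (by
      intro a b
      fin_cases a <;> fin_cases b <;>
        simp [K.hee, hxw.2.2.1, hxw.swap.2.2.1, polar_self_of_singular Q hxw.1,
          polar_self_of_singular Q hxw.2.1])
  have := (K.move g).exists_sendsL_aux (p := p) β hij (l := l) (by simp [i, l, Fin.ext_iff])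
    (by simp [j, l, Fin.ext_iff])
  rwa [show (K.move g).e i = x from hg 0, show (K.move g).e j = w from hg 1] at this

end OFrame

end CfsgLib.Classical
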