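import Mathlib
import Cfsg.Agent.Lib.Classical.OrthAutLineMap

/-!
Automorphisms of `PΩ`, part 4: incidence of totally singular lines read off from the root groups.
-/

set_option autoImplicit false
set_option linter.unusedSectionVars false

namespace CfsgLib.Classical

open CfsgLib.Geom
open QuadraticMap (polar)

variable {F V : Type*} [Field F] [Finite F] [AddCommGroup V] [Module F V] [FiniteDimensional F V]
variable {Q : QuadraticForm F V} {m : ℕ}

/-- Two subspaces are orthogonal. -/
def PerpL (Q : QuadraticForm F V) (L M : Submodule F V) : Prop := ∀ u ∈ L, ∀ v ∈ M, polar Q u v = 0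

/-- Distinct, with a common point. -/
def MeetL (L M : Submodule F V) : Prop := L ≠ M ∧ ∃ x, x ≠ 0 ∧ x ∈ L ∧ x ∈ M

/-- Meeting and orthogonal: the two lines span a totally singular plane. -/
def Coplanar (Q : QuadraticForm F V) (L M : Submodule F V) : Prop := MeetL L M ∧ PerpL Q L M

/-- The root groups commute. -/
def CommL (Q : QuadraticForm F V) (L M : Submodule F V) : Prop :=
  ∀ g ∈ lineRoots Q L, ∀ h ∈ lineRoots Q M, Commute g h

/-- The root groups commute and contain non-trivial elements whose product is again a root element. -/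
def RootRel (Q : QuadraticForm F V) (L M : Submodule F V) : Prop :=
  L ≠ M ∧ CommL Q L M ∧ ∃ g ∈ lineRoots Q L, ∃ h ∈ lineRoots Q M, g ≠ 1 ∧ h ≠ 1 ∧
    ∃ N, IsTL Q N ∧ g * h ∈ lineRoots Q N

theorem perpL_span {x w y v : V} (h1 : polar Q x y = 0) (h2 : polar Q x v = 0) (h3 : polar Q w y = 0)
    (h4 : polar Q w v = 0) : PerpL Q (Submodule.span F {x, w}) (Submodule.span F {y, v}) := by
  intro a ha b hb
  obtain ⟨s, t, rfl⟩ := Submodule.mem_span_pair.1 ha
  obtain ⟨s', t', rfl⟩ := Submodule.mem_span_pair.1 hb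
  simp [QuadraticMap.polar_add_left, QuadraticMap.polar_add_right, QuadraticMap.polar_smul_left,
    QuadraticMap.polar_smul_right, h1, h2, h3, h4]

theorem PerpL.symm {L M : Submodule F V} (h : PerpL Q L M) : PerpL Q M L := fun u hu v hv => by
  rw [QuadraticMap.polar_comm]; exact h v hv u hu

theorem MeetL.symm {L M : Submodule F V} (h : MeetL L M) : MeetL M L :=
  ⟨h.1.symm, h.2.choose, h.2.choose_spec.1, h.2.choose_spec.2.2, h.2.choose_spec.2.1⟩

theorem mem_left_span (x w : V) : x ∈ Submodule.span F {x, w} := Submodule.subset_span (by simp)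

theorem mem_right_span (x w : V) : w ∈ Submodule.span F {x, w} := Submodule.subset_span (by simp)

theorem exists_char_prime : ∃ p : ℕ, p.Prime ∧ CharP F p := by
  obtain ⟨p, hp⟩ := CharP.exists F
  exact ⟨p, (CharP.char_is_prime_or_zero F p).resolve_right (CharP.char_ne_zero_of_finite F p), hp⟩

namespace OFrame

variable (K : OFrame Q m)

include K in
theorem exists_dual_family {n : ℕ} {v : Fin n → V} (h : LinearIndependent F v) (a : Fin n → F) :
    ∃ z, ∀ i, polar Q (v i) z = a i := by
  obtain ⟨φ, hφ⟩ := LinearMap.exists_extend ((Module.Basis.span h).constr F a)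
  have hnd : LinearMap.BilinForm.Nondegenerate (QuadraticMap.polarBilin Q) :=
    ⟨fun u hu => K.sep u hu, fun u hu => K.sep u fun y => by rw [QuadraticMap.polar_comm]; exact hu y⟩
  obtain ⟨z, hz⟩ := (LinearMap.BilinForm.toDual _ hnd).surjective φ
  refine ⟨z, fun i => ?_⟩
  have h0 := LinearMap.congr_fun hφ (Module.Basis.span h i)
  rw [LinearMap.comp_apply, Module.Basis.constr_basis, Submodule.subtype_apply,
    congrArg Subtype.val (Module.Basis.span_apply h i)] at h0
  rw [QuadraticMap.polar_comm, ← h0, ← hz]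
  rfl

theorem linearIndependent_four {L M : Submodule F V} {x w y v : V} (hxw : TSPair Q x w)
    (hyv : TSPair Q y v) (hL : L = Submodule.span F {x, w}) (hM : M = Submodule.span F {y, v})
    (hd : ¬ ∃ z, z ≠ 0 ∧ z ∈ L ∧ z ∈ M) : LinearIndependent F ![x, w, y, v] := by
  rw [Fintype.linearIndependent_iff]
  intro c hc
  simp [Fin.sum_univ_four] at hc
  have h1 : c 0 • x + c 1 • w ∈ L := by rw [hL]; exact Submodule.mem_span_pair.2 ⟨_, _, rfl⟩
  have h2 : c 0 • x + c 1 • w ∈ M := by
    rw [hM]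
    exact Submodule.mem_span_pair.2 ⟨-c 2, -c 3, by linear_combination (norm := module) -hc⟩
  have h3 : c 0 • x + c 1 • w = 0 := by
    by_contra h
    exact hd ⟨_, h, h1, h2⟩
  obtain ⟨h01, h11⟩ := LinearIndependent.pair_iff.1 hxw.2.2.2 _ _ h3
  rw [h3, zero_add] at hc
  obtain ⟨h21, h31⟩ := LinearIndependent.pair_iff.1 hyv.2.2.2 _ _ hc
  intro i; fin_cases i <;> simp [h01, h11, h21, h31]

include K in
theorem commL_iff {L M : Submodule F V} (hL : IsTL Q L) (hM : IsTL Q M) (hne : L ≠ M) :
    CommL Q L M ↔ MeetL L M ∨ PerpL Q L M := by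
  constructor
  · intro hc
    by_cases hd : ∃ z, z ≠ 0 ∧ z ∈ L ∧ z ∈ M
    · exact Or.inl ⟨hne, hd⟩
    right
    obtain ⟨g, hg, hg1⟩ := K.exists_lineRoot hL
    obtain ⟨h, hh, hh1⟩ := K.exists_lineRoot hM
    obtain ⟨x, w, hxw, hLe, eg⟩ := K.exists_pair_of_lineRoots hL hg hg1
    obtain ⟨y, v, hyv, hMe, eh⟩ := K.exists_pair_of_lineRoots hM hh hh1
    have hconj : siegel Q (g.1.1 y) (g.1.1 v) = siegel Q y v := by
      have := congrArg Subtype.val (hc g hg h hh).eq
      simp only [Subgroup.coe_mul, eh] at this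
      rw [← siegel_conj, this, mul_inv_cancel_right]
    obtain ⟨m1, m2⟩ := mem_span_of_siegel_eq K.sep (hyv.move g.1) hyv hconj
    have key : ∀ z ∈ M, g.1.1 z ∈ M → polar Q x z = 0 ∧ polar Q w z = 0 := by
      intro z hz hgz
      have h1 : polar Q x z • w - polar Q w z • x ∈ M := by
        have := Submodule.sub_mem _ hgz hz
        rw [eg, siegel_apply_ts hxw.1 hxw.2.1 hxw.2.2.1] at this
        convert this using 1
        abel
      have h2 : polar Q x z • w - polar Q w z • x ∈ L := by
        rw [hLe]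
        exact Submodule.sub_mem _ (Submodule.smul_mem _ _ (mem_right_span x w))
          (Submodule.smul_mem _ _ (mem_left_span x w))
      have h3 : (-polar Q w z) • x + polar Q x z • w = 0 := by
        by_contra h
        exact hd ⟨_, h, by rwa [neg_smul, neg_add_eq_sub], by rwa [neg_smul, neg_add_eq_sub]⟩
      obtain ⟨a, b⟩ := LinearIndependent.pair_iff.1 hxw.2.2.2 _ _ h3
      exact ⟨b, neg_eq_zero.1 a⟩
    rw [← hMe] at m1 m2
    obtain ⟨hy1, hy2⟩ := key y (hMe ▸ mem_left_span y v) m1
    obtain ⟨hv1, hv2⟩ := key v (hMe ▸ mem_right_span y v) m2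
    rw [hLe, hMe]
    exact perpL_span hy1 hv1 hy2 hv2
  · rintro (⟨-, x, hx0, hxL, hxM⟩ | hp) g hg h hh
    · obtain ⟨w, hw, rfl⟩ := hL.exists_pair hxL hx0
      obtain ⟨v, hv, rfl⟩ := hM.exists_pair hxM hx0
      rw [K.lineRoots_eq hw] at hg
      rw [K.lineRoots_eq hv] at hh
      obtain ⟨s, rfl⟩ := hg
      obtain ⟨t, rfl⟩ := hh
      have h1 : polar Q x (s • w) = 0 := by rw [QuadraticMap.polar_smul_right, hw.2.2.1, smul_zero]
      have h2 : polar Q x (t • v) = 0 := by rw [QuadraticMap.polar_smul_right, hv.2.2.1, smul_zero]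
      refine Subtype.ext ?_
      show siegel Q x (s • w) * siegel Q x (t • v) = siegel Q x (t • v) * siegel Q x (s • w)
      rw [← siegel_add Q hw.1 h1 h2, ← siegel_add Q hw.1 h2 h1, add_comm]
    · obtain ⟨x, hx, w, hw, eg⟩ := hg
      obtain ⟨y, hy, v, hv, eh⟩ := hh
      have hfix : ∀ z ∈ M, g.1.1 z = z := fun z hz => by
        rw [eg, siegel_apply_ts (hL.singular hx) (hL.singular hw) (hL.perp hx hw), hp x hx z hz,
          hp w hw z hz]
        simp
      refine Subtype.ext (mul_inv_eq_iff_eq_mul.1 ?_)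
      show g.1 * h.1 * g.1⁻¹ = h.1
      rw [eh, siegel_conj, hfix y hy, hfix v hv]

include K in
theorem rootRel_iff {L M : Submodule F V} (hL : IsTL Q L) (hM : IsTL Q M) :
    RootRel Q L M ↔ Coplanar Q L M := by
  constructor
  · rintro ⟨hne, hc, g, hg, h, hh, hg1, hh1, N, hN, hgh⟩
    have hgh1 : g * h ≠ 1 := fun e => hne (K.eq_of_lineRoots hL hM hg (by
      obtain ⟨a, ha, b, hb, eb⟩ := hh
      refine ⟨a, ha, -b, M.neg_mem hb, ?_⟩
      rw [eq_inv_of_mul_eq_one_left e, Subgroup.coe_inv, eb, siegel_neg Q (hM.singular ha) (hM.perp ha hb)])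
      hg1)
    obtain ⟨a, b, hab, hNe, egh⟩ := K.exists_pair_of_lineRoots hN hgh hgh1
    have hval : ∀ z, (g * h).1.1 z - z ∈ N := fun z => by
      rw [egh, siegel_apply_ts hab.1 hab.2.1 hab.2.2.1, hNe]
      rw [show z + polar Q a z • b - polar Q b z • a - z = polar Q a z • b - polar Q b z • a by abel]
      exact Submodule.sub_mem _ (Submodule.smul_mem _ _ (mem_right_span a b))
        (Submodule.smul_mem _ _ (mem_left_span a b))
    by_cases hd : ∃ z, z ≠ 0 ∧ z ∈ L ∧ z ∈ M
    · obtain ⟨x, hx0, hxL, hxM⟩ := hd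
      obtain ⟨w, hw, hLe⟩ := hL.exists_pair hxL hx0
      obtain ⟨v, hv, hMe⟩ := hM.exists_pair hxM hx0
      rw [hLe, K.lineRoots_eq hw] at hg
      rw [hMe, K.lineRoots_eq hv] at hh
      obtain ⟨s, rfl⟩ := hg
      obtain ⟨t, rfl⟩ := hh
      have hs : s ≠ 0 := fun h0 => hg1 (Subtype.ext (by rw [root_coe, h0, zero_smul, siegel_zero]; rfl))
      have ht : t ≠ 0 := fun h0 => hh1 (Subtype.ext (by rw [root_coe, h0, zero_smul, siegel_zero]; rfl))
      refine ⟨⟨hne, x, hx0, hxL, hxM⟩, ?_⟩
      obtain ⟨z, hz⟩ := exists_partner Q K.sep hx0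
      have h1 : polar Q x (s • w) = 0 := by rw [QuadraticMap.polar_smul_right, hw.2.2.1, smul_zero]
      have h2 : polar Q x (t • v) = 0 := by rw [QuadraticMap.polar_smul_right, hv.2.2.1, smul_zero]
      have h12 : polar Q x (s • w + t • v) = 0 := by rw [QuadraticMap.polar_add_right, h1, h2, add_zero]
      have hmem := hN.singular (hval z)
      rw [Subgroup.coe_mul, root_coe, root_coe, ← siegel_add Q hw.1 h1 h2, siegel_apply Q hw.1 h12, hz,
        one_smul, add_sub_assoc, add_sub_cancel_left, sub_eq_add_neg, ← neg_smul, quad_map_add_smul,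
        hw.1, QuadraticMap.polar_comm _ (s • w + t • v) x, h12,
        QuadraticMap.map_add (Q : QuadraticMap F V F), quad_smul, quad_smul, hw.2.1, hv.2.1,
        QuadraticMap.polar_smul_left, QuadraticMap.polar_smul_right] at hmem
      simp [hs, ht] at hmem
      rw [hLe, hMe]
      exact perpL_span (polar_self_of_singular Q hw.1) hv.2.2.1
        (by rw [QuadraticMap.polar_comm]; exact hw.2.2.1) hmem
    · exfalso
      obtain ⟨x, w, hxw, hLe, eg⟩ := K.exists_pair_of_lineRoots hL hg hg1
      obtain ⟨y, v, hyv, hMe, eh⟩ := K.exists_pair_of_lineRoots hM hh hh1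
      have hp : PerpL Q L M := ((K.commL_iff hL hM hne).1 hc).resolve_left fun h => hd h.2
      have hi := linearIndependent_four hxw hyv hLe hMe hd
      have hxy : ∀ z, (g * h).1.1 z - z =
          polar Q x z • w - polar Q w z • x + (polar Q y z • v - polar Q v z • y) := fun z => by
        have hxL : x ∈ L := hLe ▸ mem_left_span x w
        have hwL : w ∈ L := hLe ▸ mem_right_span x w
        have hyM : y ∈ M := hMe ▸ mem_left_span y v
        have hvM : v ∈ M := hMe ▸ mem_right_span y v
        rw [omega_mul_apply, eg, eh, siegel_apply_ts hyv.1 hyv.2.1 hyv.2.2.1,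
          siegel_apply_ts hxw.1 hxw.2.1 hxw.2.2.1]
        simp only [QuadraticMap.polar_add_right, QuadraticMap.polar_sub_right,
          QuadraticMap.polar_smul_right, hp x hxL y hyM, hp x hxL v hvM, hp w hwL y hyM, hp w hwL v hvM,
          smul_zero, add_zero, sub_zero]
        abel
      obtain ⟨z1, hz1⟩ := K.exists_dual_family hi ![1, 0, 0, 0]
      obtain ⟨z2, hz2⟩ := K.exists_dual_family hi ![0, -1, 0, 0]
      obtain ⟨z3, hz3⟩ := K.exists_dual_family hi ![0, 0, 0, -1]
      have hw' : w ∈ N := by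
        have := hval z1
        rw [hxy] at this
        have a0 := hz1 0; have a1 := hz1 1; have a2 := hz1 2; have a3 := hz1 3
        simp at a0 a1 a2 a3
        simpa [a0, a1, a2, a3] using this
      have hx' : x ∈ N := by
        have := hval z2
        rw [hxy] at this
        have a0 := hz2 0; have a1 := hz2 1; have a2 := hz2 2; have a3 := hz2 3
        simp at a0 a1 a2 a3
        simpa [a0, a1, a2, a3] using this
      have hy' : y ∈ N := by
        have := hval z3
        rw [hxy] at this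
        have a0 := hz3 0; have a1 := hz3 1; have a2 := hz3 2; have a3 := hz3 3
        simp at a0 a1 a2 a3
        simpa [a0, a1, a2, a3] using this
      rw [hN.eq_span_of_mem hx' hw' hxw.2.2.2, ← hLe] at hy'
      exact hd ⟨y, hyv.ne_left, hy', hMe ▸ mem_left_span y v⟩
  · rintro ⟨hm', hp⟩
    obtain ⟨hne, x, hx0, hxL, hxM⟩ := id hm'
    refine ⟨hne, (K.commL_iff hL hM hne).2 (Or.inl hm'), ?_⟩
    obtain ⟨w, hw, rfl⟩ := hL.exists_pair hxL hx0
    obtain ⟨v, hv, rfl⟩ := hM.exists_pair hxM hx0
    have hwv : polar Q w v = 0 := hp w (mem_right_span x w) v (mem_right_span x v)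
    have hi : LinearIndependent F ![x, w + v] := by
      rw [LinearIndependent.pair_iff' hx0]
      intro a ha
      refine hne ((hL.eq_span_of_mem hxL ?_ hv.2.2.2))
      exact Submodule.mem_span_pair.2 ⟨a, -1, by rw [ha]; module⟩
    have h' : TSPair Q x (w + v) :=
      ⟨hw.1, by rw [QuadraticMap.map_add (Q : QuadraticMap F V F), hw.2.1, hv.2.1, hwv]; simp,
        by rw [QuadraticMap.polar_add_right, hw.2.2.1, hv.2.2.1, add_zero], hi⟩
    refine ⟨K.root x ((1 : F) • w), by rw [K.lineRoots_eq hw]; exact ⟨1, rfl⟩,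
      K.root x ((1 : F) • v), by rw [K.lineRoots_eq hv]; exact ⟨1, rfl⟩,
      K.root_ne_one hw one_ne_zero, K.root_ne_one hv one_ne_zero, _, h'.isTL, ?_⟩
    rw [K.lineRoots_eq h']
    refine ⟨1, Subtype.ext ?_⟩
    simp only [Subgroup.coe_mul, root_coe, one_smul]
    exact siegel_add Q hw.1 hw.2.2.1 hv.2.2.1

end OFrame

end CfsgLib.Classical
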