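import Mathlib
import Cfsg.Agent.Lib.Classical.OrthAutIncidence

/-!
Automorphisms of `PΩ`, part 5: meeting of totally singular lines is preserved.
-/

set_option autoImplicit false
set_option linter.unusedSectionVars false

namespace CfsgLib.Classical

open CfsgLib.Geom
open QuadraticMap (polar)

variable {F V : Type*} [Field F] [Finite F] [AddCommGroup V] [Module F V] [FiniteDimensional F V]
variable {Q : QuadraticForm F V} {m : ℕ}

/-- Meeting and not orthogonal. -/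
def NPMeet (Q : QuadraticForm F V) (L M : Submodule F V) : Prop := MeetL L M ∧ ¬ PerpL Q L M

/-- The star condition on two lines. -/
def Starred (Q : QuadraticForm F V) (L M : Submodule F V) : Prop :=
  ∃ r : Submodule F V, IsTL Q r ∧ RootRel Q L r ∧ RootRel Q M r ∧ ∃ n : Fin 3 → Submodule F V,
    (∀ a, IsTL Q (n a) ∧ RootRel Q L (n a) ∧ RootRel Q M (n a) ∧ RootRel Q r (n a)) ∧
      ∀ a b, a ≠ b → n a ≠ n b ∧ ¬ RootRel Q (n a) (n b)

namespace OFrame

variable (K : OFrame Q m)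

include K in
theorem toP_inj_pow {g h : OmG Q} {L M : Submodule F V} (hg : g ∈ lineRoots Q L)
    (hh : h ∈ lineRoots Q M) (e : toP g = toP h) : g = h := by
  obtain ⟨p, hp, _⟩ := exists_char_prime (F := F)
  have := Fact.mk hp
  have hg' : g ^ p ^ 1 = 1 := by rw [pow_one]; exact K.pow_eq_one_of_lineRoots hg
  exact K.toP_lineRoots_inj (p := p) (by simpa using hg') (K.pow_eq_one_of_lineRoots hh)
    (K.commute_of_toP hg' (by rw [e])) e

end OFrame

namespace SendsL

variable {β γ : MulAut (POmG Q)} {L L' L'' M M' : Submodule F V}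

theorem exists_image (h : SendsL β L L') {g : OmG Q} (hg : g ∈ lineRoots Q L) :
    ∃ g' ∈ lineRoots Q L', β (toP g) = toP g' := by
  have : β (toP g) ∈ ⇑(toP (Q := Q)) '' lineRoots Q L' := h.2.2 ▸ ⟨_, ⟨g, hg, rfl⟩, rfl⟩
  obtain ⟨g', hg', e⟩ := this
  exact ⟨g', hg', e.symm⟩

theorem exists_preimage (h : SendsL β L L') {g' : OmG Q} (hg : g' ∈ lineRoots Q L') :
    ∃ g ∈ lineRoots Q L, β (toP g) = toP g' := by
  have : toP g' ∈ ⇑β '' (⇑(toP (Q := Q)) '' lineRoots Q L) := h.2.2 ▸ ⟨g', hg, rfl⟩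
  obtain ⟨_, ⟨g, hg, rfl⟩, e⟩ := this
  exact ⟨g, hg, e⟩

theorem symm (h : SendsL β L L') : SendsL β⁻¹ L' L := by
  refine ⟨h.2.1, h.1, ?_⟩
  rw [← h.2.2, Set.image_image]
  simp

theorem comp (h : SendsL β L L') (h' : SendsL γ L' L'') : SendsL (γ * β) L L'' := by
  refine ⟨h.1, h'.2.1, ?_⟩
  rw [← h'.2.2, ← h.2.2, Set.image_image (⇑γ) (⇑β)]
  rfl

theorem unique (K : OFrame Q m) (h : SendsL β L L') (h' : SendsL β L L'') : L' = L'' := by
  obtain ⟨g, hg, hg1⟩ := K.exists_lineRoot h.2.1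
  obtain ⟨g0, hg0, e⟩ := h.exists_preimage hg
  obtain ⟨g', hg', e'⟩ := h'.exists_image hg0
  have := K.toP_inj_pow hg hg' (e.symm.trans e')
  subst this
  exact K.eq_of_lineRoots h.2.1 h'.2.1 hg hg' hg1

theorem inj (K : OFrame Q m) (h : SendsL β L L') (h' : SendsL β M L') : L = M :=
  h.symm.unique K h'.symm

theorem commL (K : OFrame Q m) (h : SendsL β L L') (h' : SendsL β M M') (hc : CommL Q L M) :
    CommL Q L' M' := by
  intro g hg k hk
  obtain ⟨g0, hg0, e⟩ := h.exists_preimage hg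
  obtain ⟨k0, hk0, e'⟩ := h'.exists_preimage hk
  obtain ⟨p, hp, _⟩ := exists_char_prime (F := F)
  have := Fact.mk hp
  refine K.commute_of_toP (k := 1) (by rw [pow_one]; exact K.pow_eq_one_of_lineRoots (p := p) hg) ?_
  rw [← e, ← e']
  exact ((hc g0 hg0 k0 hk0).map toP).map β

theorem rootRel (K : OFrame Q m) (h : SendsL β L L') (h' : SendsL β M M') (hr : RootRel Q L M) :
    RootRel Q L' M' := by
  obtain ⟨hne, hc, g, hg, k, hk, hg1, hk1, N, hN, hgk⟩ := hr
  refine ⟨fun e => hne (h.inj K (e ▸ h')), h.commL K h' hc, ?_⟩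
  obtain ⟨g', hg', e⟩ := h.exists_image hg
  obtain ⟨k', hk', e'⟩ := h'.exists_image hk
  obtain ⟨N', hN'⟩ := K.exists_sendsL β hN
  obtain ⟨n', hn', en⟩ := hN'.exists_image hgk
  have one : ∀ {z : OmG Q} {z' : OmG Q} {T : Submodule F V}, z ∈ lineRoots Q T → z ≠ 1 →
      β (toP z) = toP z' → IsTL Q T → z' ≠ 1 := by
    intro z z' T hz hz1 ez hT hz'
    rw [hz', map_one] at ez
    have h1 : toP z = toP (1 : OmG Q) := by rw [map_one]; exact β.injective (ez.trans (map_one β).symm)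
    exact hz1 (K.toP_inj_pow hz (⟨0, zero_mem T, 0, zero_mem T,
      (siegel_zero Q (0 : V)).symm⟩ : (1 : OmG Q) ∈ lineRoots Q T) h1)
  refine ⟨g', hg', k', hk', one hg hg1 e h.1, one hk hk1 e' h'.1, N', hN'.2.1, ?_⟩
  obtain ⟨p, hp, _⟩ := exists_char_prime (F := F)
  have := Fact.mk hp
  have hc' : Commute g' k' := h.commL K h' hc g' hg' k' hk'
  have hpow : (g' * k') ^ p = 1 := by
    rw [hc'.mul_pow, K.pow_eq_one_of_lineRoots hg', K.pow_eq_one_of_lineRoots hk', one_mul]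
  have he : toP (g' * k') = toP n' := by rw [map_mul, ← e, ← e', ← en, map_mul toP, map_mul β]
  rw [K.toP_lineRoots_inj hpow (K.pow_eq_one_of_lineRoots hn') (K.commute_of_toP
    (k := 1) (by rw [pow_one]; exact hpow) (by rw [he])) he]
  exact hn'

theorem starred (K : OFrame Q m) (h : SendsL β L L') (h' : SendsL β M M') (hs : Starred Q L M) :
    Starred Q L' M' := by
  obtain ⟨r, hr, h1, h2, n, hn, hne⟩ := hs
  obtain ⟨r', hr'⟩ := K.exists_sendsL β hr
  choose n' hn' using fun a => K.exists_sendsL β (hn a).1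
  refine ⟨r', hr'.2.1, h.rootRel K hr' h1, h'.rootRel K hr' h2, n', fun a => ⟨(hn' a).2.1,
    h.rootRel K (hn' a) (hn a).2.1, h'.rootRel K (hn' a) (hn a).2.2.1,
    hr'.rootRel K (hn' a) (hn a).2.2.2⟩, fun a b hab => ⟨fun e => (hne a b hab).1
      ((hn' a).inj K (e ▸ hn' b)), fun e => (hne a b hab).2
        ((hn' a).symm.rootRel K (hn' b).symm e)⟩⟩

end SendsL

namespace OFrame

variable (K : OFrame Q m)

theorem tsPair_ee {i j : Fin m} (h : i ≠ j) : TSPair Q (K.e i) (K.e j) := by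
  refine ⟨K.he i, K.he j, K.hee i j, ?_⟩
  have := K.linearIndependent_vec.comp ![Sum.inl i, Sum.inl j]
    (by intro x y; fin_cases x <;> fin_cases y <;> simp [h, Ne.symm h])
  convert this using 1
  funext x; fin_cases x <;> rfl

theorem tsPair_ef {i j : Fin m} (h : i ≠ j) : TSPair Q (K.e i) (K.f j) := by
  refine ⟨K.he i, K.hf j, by simp [K.hef, h], ?_⟩
  have := K.linearIndependent_vec.comp ![Sum.inl i, Sum.inr j]
    (by intro x y; fin_cases x <;> fin_cases y <;> simp)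
  convert this using 1
  funext x; fin_cases x <;> rfl

/-- A singular vector orthogonal to all `e i` lies in their span. -/
theorem eq_sum_e {v : V} (hv : Q v = 0) (h : ∀ i, polar Q (K.e i) v = 0) :
    v = ∑ i, polar Q (K.f i) v • K.e i := by
  have hw : K.wproj v = 0 := K.aniso _ (fun i => K.polar_e_wproj i v) (fun i => K.polar_f_wproj i v)
    (by have := K.quad_decomp v; simpa [hv, h] using this.symm)
  conv_lhs => rw [K.decomp v, hw]
  simp [h]

/-- A vector with non-zero value orthogonal to four hyperbolic pairs of the frame. -/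
theorem exists_anisotropic_perp (h8 : 8 < Module.finrank F V) (ι : Fin 4 → Fin m)
    (hι : Function.Injective ι) :
    ∃ u, Q u ≠ 0 ∧ ∀ a, polar Q (K.e (ι a)) u = 0 ∧ polar Q (K.f (ι a)) u = 0 := by
  let T : V →ₗ[F] (Fin 4 → F) × (Fin 4 → F) :=
    (LinearMap.pi fun a => QuadraticMap.polarBilin Q (K.e (ι a))).prod
      (LinearMap.pi fun a => QuadraticMap.polarBilin Q (K.f (ι a)))
  obtain ⟨u, hu, hu0⟩ : ∃ u ∈ LinearMap.ker T, u ≠ 0 := by
    refine Submodule.exists_mem_ne_zero_of_ne_bot fun h => ?_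
    have h1 := T.finrank_range_add_finrank_ker
    have h2 := Submodule.finrank_le (LinearMap.range T)
    rw [h, finrank_bot] at h1
    simp at h2
    omega
  have hmem : ∀ v, v ∈ LinearMap.ker T ↔
      ∀ a, polar Q (K.e (ι a)) v = 0 ∧ polar Q (K.f (ι a)) v = 0 := fun v => by
    simp [T, funext_iff, forall_and]
  by_contra hcon
  have hz : ∀ v, (∀ a, polar Q (K.e (ι a)) v = 0 ∧ polar Q (K.f (ι a)) v = 0) → Q v = 0 :=
    fun v hv => by_contra fun h => hcon ⟨v, h, hv⟩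
  refine hu0 (K.sep u fun y => ?_)
  have huu := (hmem u).1 hu
  obtain ⟨y', hy'⟩ : ∃ y', y' = y - ∑ a, polar Q (K.f (ι a)) y • K.e (ι a)
      - ∑ a, polar Q (K.e (ι a)) y • K.f (ι a) := ⟨_, rfl⟩
  have hy'' : ∀ a, polar Q (K.e (ι a)) y' = 0 ∧ polar Q (K.f (ι a)) y' = 0 := fun a => by
    constructor <;>
      simp [hy', ← QuadraticMap.polarBilin_apply_apply, map_sum,
        map_smul] <;>
      simp [QuadraticMap.polarBilin_apply_apply, K.hee, K.hff, K.hef, K.hfe, hι.eq_iff]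
  have h1 := hz (u + y') fun a => by
    simp [QuadraticMap.polar_add_right, huu a, hy'' a]
  rw [QuadraticMap.map_add (Q : QuadraticMap F V F), hz u huu, hz y' hy'', zero_add, zero_add] at h1
  rw [hy'] at h1
  simp [← QuadraticMap.polarBilin_apply_apply, map_sum, map_smul] at h1
  simpa [QuadraticMap.polarBilin_apply_apply, QuadraticMap.polar_comm _ u (K.e _),
    QuadraticMap.polar_comm _ u (K.f _), huu] using h1

include K in
theorem starred_std (hm4 : 4 ≤ m) (h8 : 8 < Module.finrank F V) :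
    Starred Q (Submodule.span F {K.e ⟨0, by omega⟩, K.e ⟨1, by omega⟩})
      (Submodule.span F {K.e ⟨0, by omega⟩, K.f ⟨1, by omega⟩}) := by
  obtain ⟨ι, hι, hιi⟩ : ∃ ι : Fin 4 → Fin m, ι = Fin.castLE hm4 ∧ Function.Injective ι :=
    ⟨_, rfl, Fin.castLE_injective _⟩
  rw [show (⟨0, by omega⟩ : Fin m) = ι 0 by rw [hι]; rfl,
    show (⟨1, by omega⟩ : Fin m) = ι 1 by rw [hι]; rfl]
  obtain ⟨u, hu, hperp⟩ := K.exists_anisotropic_perp h8 ι hιi
  have ne : ∀ {a b : Fin 4}, a ≠ b → ι a ≠ ι b := fun h e => h (hιi e)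
  obtain ⟨u', hu'd⟩ : ∃ u', u' = K.e (ι 3) - Q u • K.f (ι 3) + u := ⟨_, rfl⟩
  have hue : ∀ a, polar Q (K.e (ι a)) u' = if a = 3 then -Q u else 0 := fun a => by
    simp [hu'd, QuadraticMap.polar_add_right, QuadraticMap.polar_sub_right,
      QuadraticMap.polar_smul_right, K.hee, K.hef, hιi.eq_iff, (hperp a).1]
    split_ifs <;> simp
  have huf : ∀ a, polar Q (K.f (ι a)) u' = if a = 3 then 1 else 0 := fun a => by
    simp [hu'd, QuadraticMap.polar_add_right, QuadraticMap.polar_sub_right,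
      QuadraticMap.polar_smul_right, K.hff, K.hfe, hιi.eq_iff, (hperp a).2]
  have hQu' : Q u' = 0 := by
    rw [hu'd, QuadraticMap.map_add (Q : QuadraticMap F V F), sub_eq_add_neg, ← neg_smul,
      quad_map_add_smul, QuadraticMap.polar_add_left, QuadraticMap.polar_smul_left, K.he, K.hf, K.hef,
      if_pos rfl, (hperp 3).1, (hperp 3).2]
    simp
  have ts0 : TSPair Q (K.e (ι 0)) u' := ⟨K.he _, hQu', by simp [hue 0], by
    rw [LinearIndependent.pair_iff' ((K.tsPair_ee (ne (show (0 : Fin 4) ≠ 1 by decide))).ne_left)]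
    intro a ha
    have := congrArg (polar Q (K.f (ι 3))) ha
    simp [QuadraticMap.polar_smul_right, K.hfe, hιi.eq_iff, huf 3] at this⟩
  obtain ⟨z, hz⟩ : ∃ z : Fin 4 → V, z = ![K.e (ι 2), K.e (ι 3), K.f (ι 3), u'] := ⟨_, rfl⟩
  have hts : ∀ k, TSPair Q (K.e (ι 0)) (z k) := by
    intro k
    rw [hz]
    fin_cases k
    · exact K.tsPair_ee (ne (by decide))
    · exact K.tsPair_ee (ne (by decide))
    · exact K.tsPair_ef (ne (by decide))
    · exact ts0
  have cop : ∀ {w v : V}, TSPair Q (K.e (ι 0)) w → TSPair Q (K.e (ι 0)) v → ∀ y,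
      polar Q y v ≠ 0 → polar Q y w = 0 → polar Q y (K.e (ι 0)) = 0 → polar Q w v = 0 →
      RootRel Q (Submodule.span F {K.e (ι 0), w}) (Submodule.span F {K.e (ι 0), v}) := by
    intro w v hw hv y hy1 hy2 hy3 hwv
    refine (K.rootRel_iff hw.isTL hv.isTL).2 ⟨⟨fun e => hy1 ?_, _, hw.ne_left, mem_left_span _ _,
      mem_left_span _ _⟩, perpL_span (polar_self_of_singular Q hw.1) hv.2.2.1
        (by rw [QuadraticMap.polar_comm]; exact hw.2.2.1) hwv⟩
    obtain ⟨a, b, hab⟩ := Submodule.mem_span_pair.1 (e ▸ mem_right_span (K.e (ι 0)) v :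
      v ∈ Submodule.span F {K.e (ι 0), w})
    rw [← hab]
    simp [QuadraticMap.polar_add_right, QuadraticMap.polar_smul_right, hy2, hy3]
  have h01 := K.tsPair_ee (ne (show (0 : Fin 4) ≠ 1 by decide))
  have h01' := K.tsPair_ef (ne (show (0 : Fin 4) ≠ 1 by decide))
  refine ⟨_, (hts 0).isTL,
    cop h01 (hts 0) (K.f (ι 2)) (by simp [hz, K.hfe])
      (by simp [K.hfe, hιi.eq_iff]) (by simp [K.hfe, hιi.eq_iff]) (by simp [hz, K.hee]),
    cop h01' (hts 0) (K.f (ι 2)) (by simp [hz, K.hfe]) (by simp [K.hff])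
      (by simp [K.hfe, hιi.eq_iff]) (by simp [hz, K.hfe, hιi.eq_iff]),
    fun k => Submodule.span F {K.e (ι 0), z k.succ}, fun k => ⟨(hts _).isTL, ?_⟩, fun a b hab => ?_⟩
  · obtain ⟨y, hy1, hy2, hy3, hy4, hy5⟩ : ∃ y, polar Q y (z k.succ) ≠ 0 ∧ polar Q y (K.e (ι 1)) = 0 ∧
        polar Q y (K.f (ι 1)) = 0 ∧ polar Q y (K.e (ι 2)) = 0 ∧ polar Q y (K.e (ι 0)) = 0 := by
      fin_cases k
      · exact ⟨K.f (ι 3), by simp [hz, K.hfe], by simp [K.hfe, hιi.eq_iff], by simp [K.hff],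
          by simp [K.hfe, hιi.eq_iff], by simp [K.hfe, hιi.eq_iff]⟩
      · exact ⟨K.e (ι 3), by simp [hz, K.hef], by simp [K.hee], by simp [K.hef, hιi.eq_iff],
          by simp [K.hee], by simp [K.hee]⟩
      · exact ⟨K.e (ι 3), by simp [hz, hue 3, hu], by simp [K.hee], by simp [K.hef, hιi.eq_iff],
          by simp [K.hee], by simp [K.hee]⟩
    refine ⟨cop h01 (hts _) y hy1 hy2 hy5 ?_, cop h01' (hts _) y hy1 hy3 hy5 ?_,
      cop (hts 0) (hts _) y hy1 (by simpa [hz] using hy4) hy5 ?_⟩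
    all_goals fin_cases k <;> simp [hz, K.hee, K.hff, K.hef, K.hfe, hιi.eq_iff, hue, huf]
  · have hb : polar Q (z a.succ) (z b.succ) ≠ 0 := by
      fin_cases a <;> fin_cases b <;> first | exact absurd rfl hab |
        simp [hz, K.hef, K.hfe, hue 3, huf 3, hu, QuadraticMap.polar_comm _ u' (K.e (ι 3)),
          QuadraticMap.polar_comm _ u' (K.f (ι 3))]
    refine ⟨fun e => hb ((hts a.succ).isTL.perp (mem_right_span _ _) ?_), fun e => hb ?_⟩
    · rw [show Submodule.span F {K.e (ι 0), z a.succ} = Submodule.span F {K.e (ι 0), z b.succ} from e]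
      exact mem_right_span _ _
    exact ((K.rootRel_iff (hts _).isTL (hts _).isTL).1 e).2 _ (mem_right_span _ _) _ (mem_right_span _ _)

include K in
theorem starred_of_npMeet (hm4 : 4 ≤ m) (h8 : 8 < Module.finrank F V) {L M : Submodule F V}
    (hL : IsTL Q L) (hM : IsTL Q M) (h : NPMeet Q L M) : Starred Q L M := by
  obtain ⟨⟨hne, x, hx0, hxL, hxM⟩, hnp⟩ := h
  obtain ⟨w, hw, rfl⟩ := hL.exists_pair hxL hx0
  obtain ⟨v, hv, rfl⟩ := hM.exists_pair hxM hx0
  have hwv : polar Q w v ≠ 0 := fun h => hnp (perpL_span (polar_self_of_singular Q hw.1) hv.2.2.1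
    (by rw [QuadraticMap.polar_comm]; exact hw.2.2.1) h)
  obtain ⟨v', hv'⟩ : ∃ v', v' = (polar Q w v)⁻¹ • v := ⟨_, rfl⟩
  have hspan : Submodule.span F {x, v'} = Submodule.span F {x, v} := by
    refine le_antisymm ?_ ?_ <;> rw [Submodule.span_le, Set.insert_subset_iff, Set.singleton_subset_iff]
    · exact ⟨mem_left_span x v, hv' ▸ Submodule.smul_mem _ _ (mem_right_span x v)⟩
    · refine ⟨mem_left_span x v', ?_⟩
      rw [SetLike.mem_coe, Submodule.mem_span_pair]
      exact ⟨0, polar Q w v, by rw [zero_smul, zero_add, hv', smul_inv_smul₀ hwv]⟩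
  rw [← hspan]
  have i0 : (⟨0, by omega⟩ : Fin m) ≠ ⟨1, by omega⟩ := by simp [Fin.ext_iff]
  have hB : polar Q w v' = 1 := by
    rw [hv', QuadraticMap.polar_smul_right, smul_eq_mul, inv_mul_cancel₀ hwv]
  have hxv : polar Q x v' = 0 := by rw [hv', QuadraticMap.polar_smul_right, hv.2.2.1, smul_zero]
  have hQv : Q v' = 0 := by rw [hv', quad_smul, hv.2.1, mul_zero]
  obtain ⟨g, hg⟩ := witt_family K.sep ![K.e ⟨0, by omega⟩, K.e ⟨1, by omega⟩, K.f ⟨1, by omega⟩]
    ![x, w, v']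
    (by
      have := K.linearIndependent_vec.comp
        ![Sum.inl ⟨0, by omega⟩, Sum.inl ⟨1, by omega⟩, Sum.inr ⟨1, by omega⟩]
        (by intro a b; fin_cases a <;> fin_cases b <;> simp)
      convert this using 1
      funext a; fin_cases a <;> rfl)
    (by
      rw [Fintype.linearIndependent_iff]
      intro c hc
      simp [Fin.sum_univ_three] at hc
      have h1 := congrArg (polar Q w) hc
      have h2 := congrArg (polar Q v') hc
      simp [QuadraticMap.polar_add_right, QuadraticMap.polar_smul_right, hB, hw.swap.2.2.1,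
        QuadraticMap.polar_comm _ v' w, QuadraticMap.polar_comm _ v' x, hxv, hw.2.1, hQv] at h1 h2
      rw [h1, h2, zero_smul, zero_smul, add_zero, add_zero, smul_eq_zero] at hc
      intro i; fin_cases i <;> simp [h1, h2, hc.resolve_right hx0])
    (by intro a; fin_cases a <;> simp [K.he, K.hf, hw.1, hw.2.1, hQv])
    (by
      intro a b
      fin_cases a <;> fin_cases b <;>
        simp [K.hee, K.hef, K.hff, K.hfe, hw.1, hw.2.1, hQv, hw.2.2.1, hw.swap.2.2.1,
          hxv, hB, QuadraticMap.polar_comm _ v' w, QuadraticMap.polar_comm _ v' x, i0.symm])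
  have h := (K.move g).starred_std hm4 h8
  rwa [show (K.move g).e ⟨0, by omega⟩ = x from hg 0, show (K.move g).e ⟨1, by omega⟩ = w from hg 1,
    show (K.move g).f ⟨1, by omega⟩ = v' from hg 2] at h

include K in
theorem not_starred_of_disjoint {L M : Submodule F V} (hL : IsTL Q L) (hM : IsTL Q M)
    (hd : ¬ ∃ z, z ≠ 0 ∧ z ∈ L ∧ z ∈ M) (hp : PerpL Q L M) : ¬ Starred Q L M := by
  rintro ⟨r, hr, hLr, hMr, n, hn, hne⟩
  have dec : ∀ N, IsTL Q N → RootRel Q L N → RootRel Q M N →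
      ∃ a b, a ∈ L ∧ b ∈ M ∧ a ≠ 0 ∧ b ≠ 0 ∧ N = Submodule.span F {a, b} := by
    intro N hN h1 h2
    obtain ⟨⟨-, a, ha0, haL, haN⟩, -⟩ := (K.rootRel_iff hL hN).1 h1
    obtain ⟨⟨-, b, hb0, hbM, hbN⟩, -⟩ := (K.rootRel_iff hM hN).1 h2
    refine ⟨a, b, haL, hbM, ha0, hb0, hN.eq_span_of_mem haN hbN ?_⟩
    rw [LinearIndependent.pair_iff' ha0]
    exact fun c hc => hd ⟨b, hb0, hc ▸ L.smul_mem c haL, hbM⟩
  obtain ⟨a, b, haL, hbM, ha0, hb0, hre⟩ := dec r hr hLr hMr
  have key : ∀ i, a ∈ n i ∨ b ∈ n i := by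
    intro i
    obtain ⟨ht, h1, h2, h3⟩ := hn i
    obtain ⟨ai, bi, haiL, hbiM, -, -, hni⟩ := dec (n i) ht h1 h2
    obtain ⟨⟨-, s, hs0, hsr, hsn⟩, -⟩ := (K.rootRel_iff hr ht).1 h3
    rw [hre] at hsr
    rw [hni] at hsn ⊢
    obtain ⟨α, γ, hs⟩ := Submodule.mem_span_pair.1 hsr
    obtain ⟨α', γ', hs'⟩ := Submodule.mem_span_pair.1 hsn
    have h0 : α • a - α' • ai = 0 := by
      by_contra h
      refine hd ⟨_, h, L.sub_mem (L.smul_mem _ haL) (L.smul_mem _ haiL), ?_⟩
      rw [show α • a - α' • ai = γ' • bi - γ • b by linear_combination (norm := module) hs - hs']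
      exact M.sub_mem (M.smul_mem _ hbiM) (M.smul_mem _ hbM)
    rw [sub_eq_zero] at h0
    have h0' : γ • b = γ' • bi := by linear_combination (norm := module) hs - hs' - h0
    by_cases hα : α = 0
    · refine Or.inr (Submodule.mem_span_pair.2 ⟨0, γ⁻¹ * γ', ?_⟩)
      have hγ : γ ≠ 0 := fun h => hs0 (by rw [← hs, hα, h]; simp)
      rw [zero_smul, zero_add, mul_smul, ← h0', inv_smul_smul₀ hγ]
    · refine Or.inl (Submodule.mem_span_pair.2 ⟨α⁻¹ * α', 0, ?_⟩)
      rw [zero_smul, add_zero, mul_smul, ← h0, inv_smul_smul₀ hα]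
  have perp : ∀ i j, PerpL Q (n i) (n j) := by
    intro i j
    obtain ⟨hti, hi1, hi2, -⟩ := hn i
    obtain ⟨htj, hj1, hj2, -⟩ := hn j
    obtain ⟨ai, bi, haiL, hbiM, -, -, hni⟩ := dec (n i) hti hi1 hi2
    obtain ⟨aj, bj, hajL, hbjM, -, -, hnj⟩ := dec (n j) htj hj1 hj2
    rw [hni, hnj]
    exact perpL_span (hL.perp haiL hajL) (hp ai haiL bj hbjM) (hp.symm bi hbiM aj hajL)
      (hM.perp hbiM hbjM)
  have share : ∀ i j, i ≠ j → ∀ c, c ≠ 0 → c ∈ n i → c ∈ n j → False := fun i j hij c hc hi hj =>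
    (hne i j hij).2 ((K.rootRel_iff (hn i).1 (hn j).1).2 ⟨⟨(hne i j hij).1, c, hc, hi, hj⟩, perp i j⟩)
  rcases key 0 with h0 | h0 <;> rcases key 1 with h1 | h1 <;> rcases key 2 with h2 | h2
  all_goals first
    | exact share 0 1 (by decide) a ha0 h0 h1 | exact share 0 1 (by decide) b hb0 h0 h1
    | exact share 0 2 (by decide) a ha0 h0 h2 | exact share 0 2 (by decide) b hb0 h0 h2
    | exact share 1 2 (by decide) a ha0 h1 h2 | exact share 1 2 (by decide) b hb0 h1 h2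

theorem no_disjoint_perp_three (K : OFrame Q 3) {L M : Submodule F V} (hL : IsTL Q L) (hM : IsTL Q M)
    (hd : ¬ ∃ z, z ≠ 0 ∧ z ∈ L ∧ z ∈ M) (hp : PerpL Q L M) : False := by
  obtain ⟨x, w, hxw, hLe⟩ := id hL
  obtain ⟨y, v, hyv, hMe⟩ := id hM
  have hi := linearIndependent_four hxw hyv hLe hMe hd
  have hxL : x ∈ L := hLe ▸ mem_left_span x w
  have hwL : w ∈ L := hLe ▸ mem_right_span x w
  have hyM : y ∈ M := hMe ▸ mem_left_span y v
  have hvM : v ∈ M := hMe ▸ mem_right_span y v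
  have hi3 : LinearIndependent F ![x, w, y] := by
    have := hi.comp ![0, 1, 2] (by intro a b; fin_cases a <;> fin_cases b <;> simp)
    convert this using 1
    funext a; fin_cases a <;> rfl
  obtain ⟨g, hg⟩ := witt_family K.sep ![x, w, y] K.e hi3
    (by
      have := K.linearIndependent_vec.comp Sum.inl Sum.inl_injective
      exact this)
    (by intro a; fin_cases a <;> simp [K.he, hxw.1, hxw.2.1, hyv.1])
    (by
      intro a b
      fin_cases a <;> fin_cases b <;>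
        simp [K.hee, hxw.1, hxw.2.1, hyv.1, hxw.2.2.1, hxw.swap.2.2.1, hp x hxL y hyM,
          hp w hwL y hyM, hp.symm y hyM x hxL, hp.symm y hyM w hwL])
  have hgv : g.1 v = ∑ i, polar Q (K.f i) (g.1 v) • K.e i := by
    refine K.eq_sum_e (by rw [mem_quadIsoms.1 g.2, hyv.2.1]) fun i => ?_
    rw [← hg i, polar_quadIsom g.2]
    fin_cases i <;> simp [hp x hxL v hvM, hp w hwL v hvM, hyv.2.2.1]
  simp only [Fin.sum_univ_three, ← hg, ← map_smul, ← map_add] at hgv
  have h := g.1.injective hgv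
  simp at h
  have := Fintype.linearIndependent_iff.1 hi
    ![polar Q (K.f 0) (g.1 v), polar Q (K.f 1) (g.1 v), polar Q (K.f 2) (g.1 v), -1]
    (by simp [Fin.sum_univ_four]; linear_combination (norm := module) -h) 3
  simp at this

end OFrame

/-- The standing size condition. -/
def BigEnough (F V : Type*) [Field F] [AddCommGroup V] [Module F V] (m : ℕ) : Prop :=
  m = 3 ∨ 4 ≤ m ∧ 8 < Module.finrank F V

theorem SendsL.npMeet {β : MulAut (POmG Q)} {L L' M M' : Submodule F V} (K : OFrame Q m)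
    (hbig : BigEnough F V m) (h : SendsL β L L') (h' : SendsL β M M') (hn : NPMeet Q L M) :
    NPMeet Q L' M' := by
  have hne : L' ≠ M' := fun e => hn.1.1 (h.inj K (e ▸ h'))
  have hc := h.commL K h' ((K.commL_iff h.1 h'.1 hn.1.1).2 (Or.inl hn.1))
  have hr : ¬ Coplanar Q L' M' := fun hC => hn.2 ((K.rootRel_iff h.1 h'.1).1
    (h.symm.rootRel K h'.symm ((K.rootRel_iff h.2.1 h'.2.1).2 hC))).2
  have hno : ¬ ((¬ ∃ z, z ≠ 0 ∧ z ∈ L' ∧ z ∈ M') ∧ PerpL Q L' M') := by
    rintro ⟨hd, hp⟩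
    rcases hbig with rfl | ⟨hm4, h8⟩
    · exact K.no_disjoint_perp_three h.2.1 h'.2.1 hd hp
    · exact K.not_starred_of_disjoint h.2.1 h'.2.1 hd hp
        (h.starred K h' (K.starred_of_npMeet hm4 h8 h.1 h'.1 hn))
  rcases (K.commL_iff h.2.1 h'.2.1 hne).1 hc with hm' | hp
  · exact ⟨hm', fun hp => hr ⟨hm', hp⟩⟩
  · by_cases hd : ∃ z, z ≠ 0 ∧ z ∈ L' ∧ z ∈ M'
    · exact absurd ⟨⟨hne, hd⟩, hp⟩ hr
    · exact absurd ⟨hd, hp⟩ hno

theorem SendsL.meetL {β : MulAut (POmG Q)} {L L' M M' : Submodule F V} (K : OFrame Q m)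
    (hbig : BigEnough F V m) (h : SendsL β L L') (h' : SendsL β M M') (hn : MeetL L M) :
    MeetL L' M' := by
  by_cases hp : PerpL Q L M
  · exact ((K.rootRel_iff h.2.1 h'.2.1).1
      (h.rootRel K h' ((K.rootRel_iff h.1 h'.1).2 ⟨hn, hp⟩))).1
  · exact (h.npMeet K hbig h' ⟨hn, hp⟩).1

end CfsgLib.Classical
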