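import Mathlib
import Cfsg.Agent.Lib.Classical.OrthAutMeet

/-!
Automorphisms of `PΩ`, part 6: the permutation of the singular points.
-/

set_option autoImplicit false
set_option linter.unusedSectionVars false

namespace CfsgLib.Classical

open CfsgLib.Geom
open QuadraticMap (polar)

variable {F V : Type*} [Field F] [Finite F] [AddCommGroup V] [Module F V] [FiniteDimensional F V]
variable {Q : QuadraticForm F V} {m : ℕ}

/-- `β` carries the singular point of `x` to that of `y`. -/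
def SendsP (β : MulAut (POmG Q)) (x y : V) : Prop :=
  (Q x = 0 ∧ x ≠ 0) ∧ (Q y = 0 ∧ y ≠ 0) ∧ ∀ L L', SendsL β L L' → x ∈ L → y ∈ L'

namespace OFrame

variable (K : OFrame Q m)

include K in
theorem exists_frame_at {x : V} (hx : Q x = 0) (hx0 : x ≠ 0) (i : Fin m) :
    ∃ K' : OFrame Q m, K'.e i = x := by
  obtain ⟨g, hg⟩ := witt_family K.sep ![K.e i] ![x]
    (.of_subsingleton (0 : Fin 1) (K.linearIndependent_vec.ne_zero (Sum.inl i)))
    (.of_subsingleton (0 : Fin 1) hx0) (by intro a; fin_cases a; simp [K.he, hx])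
    (by intro a b; fin_cases a; fin_cases b; simp [polar_self_of_singular Q hx, K.hee])
  exact ⟨K.move g, hg 0⟩

include K in
theorem exists_npMeet_at {x : V} (hx : Q x = 0) (hx0 : x ≠ 0) :
    ∃ L M, IsTL Q L ∧ IsTL Q M ∧ x ∈ L ∧ x ∈ M ∧ NPMeet Q L M := by
  have := K.hm
  obtain ⟨K', rfl⟩ := K.exists_frame_at hx hx0 ⟨0, by omega⟩
  have h : (⟨0, by omega⟩ : Fin m) ≠ ⟨1, by omega⟩ := by simp [Fin.ext_iff]
  have ha := K'.tsPair_ee h
  have hb := K'.tsPair_ef h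
  have hB : polar Q (K'.e ⟨1, by omega⟩) (K'.f ⟨1, by omega⟩) ≠ 0 := by simp [K'.hef]
  exact ⟨_, _, ha.isTL, hb.isTL, mem_left_span _ _, mem_left_span _ _,
    ⟨fun e => hB (ha.isTL.perp (mem_right_span _ _)
      (by rw [e]; exact mem_right_span (K'.e ⟨0, by omega⟩) _)),
      _, ha.ne_left, mem_left_span _ _, mem_left_span _ _⟩,
    fun hp => hB (hp _ (mem_right_span _ _) _ (mem_right_span _ _))⟩

include K in
theorem eq_smul_of_mem_inter {L M : Submodule F V} (hL : IsTL Q L) (hM : IsTL Q M) (hne : L ≠ M)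
    {y z : V} (hy0 : y ≠ 0) (hyL : y ∈ L) (hyM : y ∈ M) (hzL : z ∈ L) (hzM : z ∈ M) :
    ∃ a : F, z = a • y := by
  by_contra h
  push Not at h
  have hi : LinearIndependent F ![y, z] := (LinearIndependent.pair_iff' hy0).2 fun a ha => h a ha.symm
  exact hne ((hL.eq_span_of_mem hyL hzL hi).trans (hM.eq_span_of_mem hyM hzM hi).symm)

variable (hbig : BigEnough F V m)
include K hbig

theorem exists_sendsP (β : MulAut (POmG Q)) {x : V} (hx : Q x = 0) (hx0 : x ≠ 0) :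
    ∃ y, SendsP β x y := by
  obtain ⟨L, M, hL, hM, hxL, hxM, hLM⟩ := K.exists_npMeet_at hx hx0
  obtain ⟨L', hL'⟩ := K.exists_sendsL β hL
  obtain ⟨M', hM'⟩ := K.exists_sendsL β hM
  have hn := hL'.npMeet K hbig hM' hLM
  obtain ⟨⟨hne, y, hy0, hyL, hyM⟩, hnp⟩ := id hn
  refine ⟨y, ⟨hx, hx0⟩, ⟨hL'.2.1.singular hyL, hy0⟩, fun T T' hT hxT => ?_⟩
  by_cases h1 : T = L
  · subst h1; rwa [hT.unique K hL']
  by_cases h2 : T = M
  · subst h2; rwa [hT.unique K hM']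
  obtain ⟨-, a, ha0, haT, haL⟩ := hT.meetL K hbig hL' ⟨h1, x, hx0, hxT, hxL⟩
  obtain ⟨-, b, hb0, hbT, hbM⟩ := hT.meetL K hbig hM' ⟨h2, x, hx0, hxT, hxM⟩
  by_contra hyT
  have hia : LinearIndependent F ![y, a] := (LinearIndependent.pair_iff' hy0).2 fun c hc => hyT (by
    have hc0 : c ≠ 0 := fun h => ha0 (by rw [← hc, h, zero_smul])
    have := T'.smul_mem c⁻¹ haT
    rwa [← hc, inv_smul_smul₀ hc0] at this)
  have hib : LinearIndependent F ![y, b] := (LinearIndependent.pair_iff' hy0).2 fun c hc => hyT (by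
    have hc0 : c ≠ 0 := fun h => hb0 (by rw [← hc, h, zero_smul])
    have := T'.smul_mem c⁻¹ hbT
    rwa [← hc, inv_smul_smul₀ hc0] at this)
  refine hnp ?_
  rw [hL'.2.1.eq_span_of_mem hyL haL hia, hM'.2.1.eq_span_of_mem hyM hbM hib]
  exact perpL_span (hL'.2.1.perp hyL hyL) (hM'.2.1.perp hyM hbM) (hL'.2.1.perp haL hyL)
    (hT.2.1.perp haT hbT)

theorem sendsP_line {β : MulAut (POmG Q)} {x y : V} (h : SendsP β x y) :
    ∀ y₂, SendsP β x y₂ → ∃ a : F, y₂ = a • y := by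
  intro y₂ h₂
  obtain ⟨L, M, hL, hM, hxL, hxM, hLM⟩ := K.exists_npMeet_at h.1.1 h.1.2
  obtain ⟨L', hL'⟩ := K.exists_sendsL β hL
  obtain ⟨M', hM'⟩ := K.exists_sendsL β hM
  exact K.eq_smul_of_mem_inter hL'.2.1 hM'.2.1 (hL'.npMeet K hbig hM' hLM).1.1 h.2.1.2
    (h.2.2 _ _ hL' hxL) (h.2.2 _ _ hM' hxM) (h₂.2.2 _ _ hL' hxL) (h₂.2.2 _ _ hM' hxM)

end OFrame

namespace SendsP

variable {β γ : MulAut (POmG Q)} {x y z x' y' : V}

theorem smul_right (h : SendsP β x y) {a : F} (ha : a ≠ 0) : SendsP β x (a • y) :=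
  ⟨h.1, ⟨by rw [quad_smul, h.2.1.1, mul_zero], smul_ne_zero ha h.2.1.2⟩,
    fun L L' hL hx => L'.smul_mem a (h.2.2 L L' hL hx)⟩

theorem smul_left (h : SendsP β x y) {a : F} (ha : a ≠ 0) : SendsP β (a • x) y :=
  ⟨⟨by rw [quad_smul, h.1.1, mul_zero], smul_ne_zero ha h.1.2⟩, h.2.1, fun L L' hL hx =>
    h.2.2 L L' hL (by have := L.smul_mem a⁻¹ hx; rwa [inv_smul_smul₀ ha] at this)⟩

theorem symm (K : OFrame Q m) (hbig : BigEnough F V m) (h : SendsP β x y) : SendsP β⁻¹ y x := by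
  obtain ⟨x₂, h₂⟩ := K.exists_sendsP hbig β⁻¹ h.2.1.1 h.2.1.2
  obtain ⟨L, M, hL, hM, hxL, hxM, hLM⟩ := K.exists_npMeet_at h.1.1 h.1.2
  obtain ⟨L', hL'⟩ := K.exists_sendsL β hL
  obtain ⟨M', hM'⟩ := K.exists_sendsL β hM
  obtain ⟨a, ha⟩ := K.eq_smul_of_mem_inter hL'.1 hM'.1 hLM.1.1 h.1.2 hxL hxM
    (h₂.2.2 _ _ hL'.symm (h.2.2 _ _ hL' hxL)) (h₂.2.2 _ _ hM'.symm (h.2.2 _ _ hM' hxM))
  have ha0 : a ≠ 0 := fun h0 => h₂.2.1.2 (by rw [ha, h0, zero_smul])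
  have := h₂.smul_right (inv_ne_zero ha0)
  rwa [ha, inv_smul_smul₀ ha0] at this

theorem comp (K : OFrame Q m) (h : SendsP β x y) (h' : SendsP γ y z) : SendsP (γ * β) x z := by
  refine ⟨h.1, h'.2.1, fun L L' hL hx => ?_⟩
  obtain ⟨L₁, hL₁⟩ := K.exists_sendsL β hL.1
  obtain ⟨L₂, hL₂⟩ := K.exists_sendsL γ hL₁.2.1
  rw [hL.unique K (hL₁.comp hL₂)]
  exact h'.2.2 _ _ hL₂ (h.2.2 _ _ hL₁ hx)

theorem injective (K : OFrame Q m) (hbig : BigEnough F V m) (h : SendsP β x y)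
    (h' : SendsP β x' y) : ∃ a : F, x' = a • x :=
  K.sendsP_line hbig (h.symm K hbig) _ (h'.symm K hbig)

theorem perp (K : OFrame Q m) (hbig : BigEnough F V m) (h : SendsP β x y) (h' : SendsP β x' y')
    (hp : polar Q x x' = 0) : polar Q y y' = 0 := by
  by_cases hi : LinearIndependent F ![x, x']
  · have hT : IsTL Q (Submodule.span F {x, x'}) := ⟨x, x', ⟨h.1.1, h'.1.1, hp, hi⟩, rfl⟩
    obtain ⟨T', hT'⟩ := K.exists_sendsL β hT
    exact hT'.2.1.perp (h.2.2 _ _ hT' (mem_left_span x x')) (h'.2.2 _ _ hT' (mem_right_span x x'))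
  · rw [LinearIndependent.pair_iff' h.1.2] at hi
    push Not at hi
    obtain ⟨c, rfl⟩ := hi
    have hc : c ≠ 0 := fun h0 => h'.1.2 (by rw [h0, zero_smul])
    have h'' := h'.smul_left (inv_ne_zero hc)
    rw [inv_smul_smul₀ hc] at h''
    obtain ⟨a, rfl⟩ := K.sendsP_line hbig h _ h''
    rw [QuadraticMap.polar_smul_right, polar_self_of_singular Q h.2.1.1, smul_zero]

theorem perp_iff (K : OFrame Q m) (hbig : BigEnough F V m) (h : SendsP β x y) (h' : SendsP β x' y') :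
    polar Q x x' = 0 ↔ polar Q y y' = 0 :=
  ⟨h.perp K hbig h', fun e => (h.symm K hbig).perp K hbig (h'.symm K hbig) e⟩

end SendsP

/-- Semisimilarities send lines and points to their images. -/
theorem SemiSim.sendsL (S : SemiSim Q) {L : Submodule F V} (hL : IsTL Q L) :
    ∃ L', SendsL S.aut L L' ∧ ∀ v, S.map v ∈ L' ↔ v ∈ L := by
  obtain ⟨x, w, hxw, rfl⟩ := hL
  have hi : LinearIndependent F ![S.map x, S.map w] := by
    refine LinearIndependent.pair_iff.2 fun a b h => ?_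
    obtain ⟨a, rfl⟩ := S.σ.surjective a
    obtain ⟨b, rfl⟩ := S.σ.surjective b
    rw [← S.map_smul, ← S.map_smul, ← map_add, map_eq_zero_iff S.map S.map.injective] at h
    obtain ⟨ha, hb⟩ := LinearIndependent.pair_iff.1 hxw.2.2.2 a b h
    simp [ha, hb]
  have h' : TSPair Q (S.map x) (S.map w) := ⟨by rw [S.map_quad, hxw.1]; simp,
    by rw [S.map_quad, hxw.2.1]; simp, by rw [S.map_polar, hxw.2.2.1]; simp, hi⟩
  have hmem : ∀ v, S.map v ∈ Submodule.span F {S.map x, S.map w} ↔ v ∈ Submodule.span F {x, w} := by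
    intro v
    simp only [Submodule.mem_span_pair]
    constructor
    · rintro ⟨a, b, h⟩
      obtain ⟨a, rfl⟩ := S.σ.surjective a
      obtain ⟨b, rfl⟩ := S.σ.surjective b
      rw [← S.map_smul, ← S.map_smul, ← map_add] at h
      exact ⟨a, b, S.map.injective h⟩
    · rintro ⟨a, b, rfl⟩
      exact ⟨S.σ a, S.σ b, by rw [map_add, S.map_smul, S.map_smul]⟩
  refine ⟨_, ⟨hxw.isTL, h'.isTL, ?_⟩, hmem⟩
  have hsing : ∀ {a b : V}, a ∈ Submodule.span F {x, w} → b ∈ Submodule.span F {x, w} →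
      Q a = 0 ∧ polar Q a b = 0 := fun ha hb => ⟨hxw.isTL.singular ha, hxw.isTL.perp ha hb⟩
  ext z
  constructor
  · rintro ⟨_, ⟨g, ⟨a, ha, b, hb, e⟩, rfl⟩, rfl⟩
    refine ⟨S.conjOm g, ⟨S.map a, (hmem a).2 ha, ((S.c⁻¹ : Fˣ) : F) • S.map b,
      Submodule.smul_mem _ _ ((hmem b).2 hb), ?_⟩, (S.aut_toP g).symm⟩
    rw [S.conjOm_coe, e, S.conj_siegel (hsing ha hb).1 (hsing ha hb).2]
  · rintro ⟨g', ⟨a', ha', b', hb', e⟩, rfl⟩
    obtain ⟨a, rfl⟩ := S.map.surjective a'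
    obtain ⟨b, hb⟩ := S.map.surjective ((S.c : F) • b')
    have hbL : b ∈ Submodule.span F {x, w} := (hmem b).1 (hb ▸ Submodule.smul_mem _ _ hb')
    have haL := (hmem a).1 ha'
    refine ⟨toP (S.conjOm.symm g'), ⟨_, ⟨a, haL, b, hbL, S.conj.injective ?_⟩, rfl⟩, ?_⟩
    · rw [← S.conjOm_coe, MulEquiv.apply_symm_apply, e, S.conj_siegel (hsing haL hbL).1 (hsing haL hbL).2,
        hb, smul_smul, Units.inv_mul, one_smul]
    · rw [S.aut_toP, MulEquiv.apply_symm_apply]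

theorem SemiSim.sendsP (K : OFrame Q m) (S : SemiSim Q) {x : V} (hx : Q x = 0) (hx0 : x ≠ 0) :
    SendsP S.aut x (S.map x) := by
  refine ⟨⟨hx, hx0⟩, ⟨by rw [S.map_quad, hx]; simp, fun h => hx0 (S.map.injective (h.trans (map_zero _).symm))⟩,
    fun L L' hL hxL => ?_⟩
  obtain ⟨L'', h'', hmem⟩ := S.sendsL hL.1
  rw [hL.unique K h'']
  exact (hmem x).2 hxL

end CfsgLib.Classical
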