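import Mathlib
import Cfsg.Agent.Lib.Classical.OrthAutPoints
import Cfsg.Agent.Lib.KnownC.Collineation

/-!
Automorphisms of `PΩ`, part 7: after composing with a semisimilarity, an automorphism fixes all points
of the two totally singular subspaces spanned by the frame.
-/

set_option autoImplicit false
set_option linter.unusedSectionVars false

namespace CfsgLib.Classical

open CfsgLib.Geom CfsgLib.KnownC
open QuadraticMap (polar)
open scoped LinearAlgebra.Projectivization

variable {F V : Type*} [Field F] [Finite F] [AddCommGroup V] [Module F V] [FiniteDimensional F V]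
variable {Q : QuadraticForm F V} {m : ℕ}

theorem linearIndependent_hyperbolic {ι : Type*} [Fintype ι] [DecidableEq ι] {y z : ι → V}
    (hyy : ∀ i j, polar Q (y i) (y j) = 0) (hzz : ∀ i j, polar Q (z i) (z j) = 0)
    (hyz : ∀ i j, polar Q (y i) (z j) = if i = j then 1 else 0) :
    LinearIndependent F (Sum.elim y z) := by
  rw [Fintype.linearIndependent_iff]
  intro g hg
  have hzy : ∀ i j, polar Q (z i) (y j) = if i = j then 1 else 0 := fun i j => by
    rw [QuadraticMap.polar_comm, hyz]; simp [eq_comm]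
  have key : ∀ x, polar Q x (∑ i, g i • Sum.elim y z i) = ∑ i, g i * polar Q x (Sum.elim y z i) :=
    fun x => by
      rw [show polar Q x (∑ i, g i • Sum.elim y z i) =
        QuadraticMap.polarBilin Q x (∑ i, g i • Sum.elim y z i) from rfl, map_sum]
      simp [map_smul]
  rintro (i | i)
  · have := key (z i)
    rw [hg] at this
    simpa [Fintype.sum_sum_type, hzy, hzz] using this.symm
  · have := key (y i)
    rw [hg] at this
    simpa [Fintype.sum_sum_type, hyz, hyy] using this.symm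

namespace OFrame

variable (K : OFrame Q m)

/-- The span of the `e i` as a map from coordinates. -/
def lcomb : (Fin m → F) →ₗ[F] V where
  toFun a := ∑ i, a i • K.e i
  map_add' a b := by simp [add_smul, Finset.sum_add_distrib]
  map_smul' c a := by simp [Finset.smul_sum, mul_smul]

theorem lcomb_apply (a : Fin m → F) : K.lcomb a = ∑ i, a i • K.e i := rfl

theorem lcomb_single (i : Fin m) : K.lcomb (Pi.single i 1) = K.e i := by
  simp [lcomb_apply, Pi.single_apply, ite_smul]

theorem quad_lcomb (a : Fin m → F) : Q (K.lcomb a) = 0 := K.quad_sum_e a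

theorem polar_f_lcomb (i : Fin m) (a : Fin m → F) : polar Q (K.f i) (K.lcomb a) = a i := by
  simp [lcomb_apply, polar_sum_right, K.hfe]

theorem polar_e_lcomb (i : Fin m) (a : Fin m → F) : polar Q (K.e i) (K.lcomb a) = 0 := by
  simp [lcomb_apply, polar_sum_right, K.hee]

theorem lcomb_ne_zero {a : Fin m → F} (ha : a ≠ 0) : K.lcomb a ≠ 0 := fun h => ha (funext fun i => by
  rw [← K.polar_f_lcomb i a, h, QuadraticMap.polar_zero_right]; rfl)

theorem lcomb_polar_lcomb (a b : Fin m → F) :
    polar Q (K.lcomb a) (K.flip.lcomb b) = ∑ i, a i * b i := by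
  rw [show K.flip.lcomb b = ∑ i, b i • K.f i from rfl, polar_sum_right]
  refine Finset.sum_congr rfl fun i _ => ?_
  rw [QuadraticMap.polar_comm _ _ (K.f i), K.polar_f_lcomb, mul_comm]

/-- A semisimilarity fixing the frame for each field automorphism. -/
def FieldLift : Prop :=
  ∀ σ : F ≃+* F, ∃ S : SemiSim Q, S.σ = σ ∧ (∀ i, S.map (K.e i) = K.e i) ∧ ∀ i, S.map (K.f i) = K.f i

/-- `β` fixes every point of the two totally singular spans of the frame. -/
def FixesFrame (β : MulAut (POmG Q)) : Prop :=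
  ∀ a : Fin m → F, a ≠ 0 → SendsP β (K.lcomb a) (K.lcomb a) ∧
    SendsP β (K.flip.lcomb a) (K.flip.lcomb a)

variable (hbig : BigEnough F V m)
include hbig

theorem exists_fix_frame_points (β : MulAut (POmG Q)) :
    ∃ g : quadIsoms Q, ∀ i, SendsP ((SemiSim.ofIsom g).symm.aut * β) (K.e i) (K.e i) ∧
      SendsP ((SemiSim.ofIsom g).symm.aut * β) (K.f i) (K.f i) := by
  have hne : ∀ i, K.e i ≠ 0 := fun i => K.linearIndependent_vec.ne_zero (Sum.inl i)
  have hnf : ∀ i, K.f i ≠ 0 := fun i => K.linearIndependent_vec.ne_zero (Sum.inr i)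
  choose y hy using fun i => K.exists_sendsP hbig β (K.he i) (hne i)
  choose z hz using fun i => K.exists_sendsP hbig β (K.hf i) (hnf i)
  have hyy : ∀ i j, polar Q (y i) (y j) = 0 := fun i j => (hy i).perp K hbig (hy j) (K.hee i j)
  have hzz : ∀ i j, polar Q (z i) (z j) = 0 := fun i j => (hz i).perp K hbig (hz j) (K.hff i j)
  have hd : ∀ i, polar Q (y i) (z i) ≠ 0 := fun i h => by
    have := ((hy i).perp_iff K hbig (hz i)).2 h
    rw [K.hef, if_pos rfl] at this
    exact one_ne_zero this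
  obtain ⟨z', hz'd⟩ : ∃ z', z' = fun i => (polar Q (y i) (z i))⁻¹ • z i := ⟨_, rfl⟩
  have hz' : ∀ i, SendsP β (K.f i) (z' i) := fun i => by
    rw [hz'd]; exact (hz i).smul_right (inv_ne_zero (hd i))
  have hyz : ∀ i j, polar Q (y i) (z' j) = if i = j then 1 else 0 := fun i j => by
    by_cases h : i = j
    · subst h
      simp [hz'd, QuadraticMap.polar_smul_right, inv_mul_cancel₀ (hd i)]
    · rw [if_neg h]
      exact (hy i).perp K hbig (hz' j) (by rw [K.hef, if_neg h])
  have hzz' : ∀ i j, polar Q (z' i) (z' j) = 0 := fun i j => (hz' i).perp K hbig (hz' j) (K.hff i j)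
  obtain ⟨g, hg⟩ := witt_family K.sep K.vec (Sum.elim y z') K.linearIndependent_vec
    (linearIndependent_hyperbolic hyy hzz' hyz)
    (by rintro (i | i) <;> simp [OFrame.vec, K.he, K.hf, (hy i).2.1.1, (hz' i).2.1.1])
    (by
      rintro (i | i) (j | j) <;>
        simp [OFrame.vec, K.hee, K.hff, K.hef, K.hfe, hyy, hzz', hyz,
          QuadraticMap.polar_comm _ (z' i) (y _), eq_comm])
  refine ⟨g, fun i => ⟨(hy i).comp K ?_, (hz' i).comp K ?_⟩⟩
  · have h1 : g.1 (K.e i) = y i := hg (Sum.inl i)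
    have := (SemiSim.ofIsom g).symm.sendsP K (hy i).2.1.1 (hy i).2.1.2
    rwa [show (SemiSim.ofIsom g).symm.map (y i) = K.e i by
      rw [← h1]; exact g.1.symm_apply_apply _] at this
  · have h1 : g.1 (K.f i) = z' i := hg (Sum.inr i)
    have := (SemiSim.ofIsom g).symm.sendsP K (hz' i).2.1.1 (hz' i).2.1.2
    rwa [show (SemiSim.ofIsom g).symm.map (z' i) = K.f i by
      rw [← h1]; exact g.1.symm_apply_apply _] at this

theorem exists_semilinear {γ : MulAut (POmG Q)} (he : ∀ i, SendsP γ (K.e i) (K.e i)) :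
    ∃ (d : Fin m → F) (σ : F ≃+* F), (∀ i, d i ≠ 0) ∧
      ∀ a, a ≠ 0 → SendsP γ (K.lcomb a) (K.lcomb fun i => d i * σ (a i)) := by
  have hex : ∀ a : Fin m → F, a ≠ 0 → ∃ b, b ≠ 0 ∧ SendsP γ (K.lcomb a) (K.lcomb b) := by
    intro a ha
    obtain ⟨y, hy⟩ := K.exists_sendsP hbig γ (K.quad_lcomb a) (K.lcomb_ne_zero ha)
    have hye : y = K.lcomb fun i => polar Q (K.f i) y :=
      K.eq_sum_e hy.2.1.1 fun i => (he i).perp K hbig hy (K.polar_e_lcomb i a)
    refine ⟨fun i => polar Q (K.f i) y, fun h => hy.2.1.2 ?_, hye ▸ hy⟩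
    rw [hye, h, map_zero]
  let π : ℙ F (Fin m → F) → ℙ F (Fin m → F) := fun P =>
    Projectivization.mk F (hex P.rep P.rep_nonzero).choose (hex P.rep P.rep_nonzero).choose_spec.1
  have hπ : ∀ a b, a ≠ 0 → b ≠ 0 → SendsP γ (K.lcomb a) (K.lcomb b) → SendsPt π a b := by
    intro a b ha hb h
    refine ⟨ha, hb, ?_⟩
    obtain ⟨hc0, hc⟩ := (hex _ (Projectivization.mk F a ha).rep_nonzero).choose_spec
    obtain ⟨r, hr⟩ := (Projectivization.mk_eq_mk_iff' F _ _ ha
      (Projectivization.mk F a ha).rep_nonzero).1 (Projectivization.mk_rep _).symm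
    have hr0 : r ≠ 0 := fun h0 => ha (by rw [← hr, h0, zero_smul])
    have h' := hc.smul_left hr0
    rw [← map_smul, hr] at h'
    obtain ⟨t, ht⟩ := K.sendsP_line hbig h _ h'
    refine (Projectivization.mk_eq_mk_iff' F _ _ _ _).2 ⟨t, funext fun i => ?_⟩
    have := congrArg (polar Q (K.f i)) ht
    rw [← map_smul, K.polar_f_lcomb, K.polar_f_lcomb] at this
    exact this.symm
  have hsend : ∀ u, u ≠ 0 → ∃ u', SendsPt π u u' ∧ SendsP γ (K.lcomb u) (K.lcomb u') := fun u hu => by
    obtain ⟨b, hb, h⟩ := hex u hu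
    exact ⟨b, hπ u b hu hb h, h⟩
  have hinj : Function.Injective π := by
    intro P R e
    induction P using Projectivization.ind with | _ a ha =>
    induction R using Projectivization.ind with | _ b hb =>
    obtain ⟨a', h1, h1'⟩ := hsend a ha
    obtain ⟨b', h2, h2'⟩ := hsend b hb
    obtain ⟨_, _, e1⟩ := h1
    obtain ⟨_, _, e2⟩ := h2
    rw [e1, e2] at e
    obtain ⟨t, ht⟩ := (Projectivization.mk_eq_mk_iff' F _ _ _ _).1 e
    have ht0 : t ≠ 0 := fun h0 => h1'.2.1.2 (by rw [← ht, h0, zero_smul, map_zero])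
    have h3 := h2'.smul_right ht0
    rw [← map_smul, ht] at h3
    obtain ⟨s, hs⟩ := h1'.injective K hbig h3
    refine (Projectivization.mk_eq_mk_iff' F _ _ _ _).2 ⟨s⁻¹, funext fun i => ?_⟩
    have hs0 : s ≠ 0 := fun h0 => h3.1.2 (by rw [hs, h0, zero_smul])
    have := congrArg (polar Q (K.f i)) hs
    rw [← map_smul, K.polar_f_lcomb, K.polar_f_lcomb] at this
    rw [Pi.smul_apply, this, Pi.smul_apply, smul_eq_mul, smul_eq_mul, inv_mul_cancel_left₀ hs0]
  have hlines : PreservesLines π := by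
    intro u v w hu hv hw ⟨a, b, hab⟩
    obtain ⟨u', h1, h1'⟩ := hsend u hu
    obtain ⟨v', h2, h2'⟩ := hsend v hv
    obtain ⟨w', h3, h3'⟩ := hsend w hw
    rw [h1.2.2, h2.2.2, h3.2.2, Projectivization.submodule_mk, Projectivization.submodule_mk,
      Projectivization.submodule_mk, Submodule.span_singleton_le_iff_mem]
    by_cases hi : LinearIndependent F ![K.lcomb u, K.lcomb v]
    · have hT : TSPair Q (K.lcomb u) (K.lcomb v) := ⟨K.quad_lcomb u, K.quad_lcomb v, by
        have := K.quad_lcomb (u + v)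
        rwa [map_add, QuadraticMap.map_add (Q : QuadraticMap F V F), K.quad_lcomb, K.quad_lcomb,
          zero_add, zero_add] at this, hi⟩
      obtain ⟨T', hT'⟩ := K.exists_sendsL γ hT.isTL
      have hi' : LinearIndependent F ![K.lcomb u', K.lcomb v'] := by
        rw [LinearIndependent.pair_iff' h1'.2.1.2]
        intro c hc
        have hc0 : c ≠ 0 := fun h0 => h2'.2.1.2 (by rw [← hc, h0, zero_smul])
        have h4 := h1'.smul_right hc0
        rw [hc] at h4
        obtain ⟨s, hs⟩ := h4.injective K hbig h2'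
        exact (LinearIndependent.pair_iff' (K.lcomb_ne_zero hu)).1 hi s hs.symm
      have hmem := h3'.2.2 _ _ hT' (Submodule.mem_span_pair.2 ⟨a, b, by rw [hab, map_add, map_smul, map_smul]⟩)
      rw [hT'.2.1.eq_span_of_mem (h1'.2.2 _ _ hT' (mem_left_span _ _))
        (h2'.2.2 _ _ hT' (mem_right_span _ _)) hi'] at hmem
      obtain ⟨p, q, hpq⟩ := Submodule.mem_span_pair.1 hmem
      rw [← map_smul, ← map_smul, ← map_add] at hpq
      have he' : w' = p • u' + q • v' := funext fun i => by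
        rw [← K.polar_f_lcomb i w', ← hpq, K.polar_f_lcomb]
      rw [he']
      exact Submodule.add_mem_sup (Submodule.mem_span_singleton.2 ⟨p, rfl⟩)
        (Submodule.mem_span_singleton.2 ⟨q, rfl⟩)
    · rw [LinearIndependent.pair_iff' (K.lcomb_ne_zero hu)] at hi
      push Not at hi
      obtain ⟨c, hc⟩ := hi
      have hwu : K.lcomb w = (a + b * c) • K.lcomb u := by
        rw [hab, map_add, map_smul, map_smul, ← hc]; module
      have hne : a + b * c ≠ 0 := fun h0 => K.lcomb_ne_zero hw (by rw [hwu, h0, zero_smul])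
      have h4 := h1'.smul_left hne
      rw [← hwu] at h4
      obtain ⟨t, ht⟩ := K.sendsP_line hbig h4 _ h3'
      refine Submodule.mem_sup_left (Submodule.mem_span_singleton.2 ⟨t, funext fun i => ?_⟩)
      rw [← K.polar_f_lcomb i w', ht, ← map_smul, K.polar_f_lcomb]
  obtain ⟨g, σ, hgσ⟩ := exists_semilinear_of_collineation (Finite.injective_iff_bijective.1 hinj) hlines
    (by have := K.hm; simpa using this)
  have hsingle : ∀ i, (Pi.single i 1 : Fin m → F) ≠ 0 := fun i h => by simpa using congrFun h i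
  have hdiag : ∀ i, ∃ d : F, d ≠ 0 ∧ g.1.mulVec (Pi.single i 1) = d • Pi.single i 1 := by
    intro i
    have h1 := hπ _ _ (hsingle i) (hsingle i) (by rw [K.lcomb_single]; exact he i)
    have h2 := hgσ _ (hsingle i)
    have e : (fun k => σ ((Pi.single i 1 : Fin m → F) k)) = Pi.single i 1 := funext fun k => by
      by_cases h : k = i
      · subst h; simp
      · simp [h]
    rw [e] at h2
    obtain ⟨t, ht⟩ := (Projectivization.mk_eq_mk_iff' F _ _ h2.2.1 h1.2.1).1 (h2.2.2.symm.trans h1.2.2)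
    exact ⟨t, fun h0 => h2.2.1 (by rw [← ht, h0, zero_smul]), ht.symm⟩
  choose d hd0 hd using hdiag
  have hg : g.1 = Matrix.diagonal d := by
    ext i j
    have := congrFun (hd j) i
    rw [Matrix.mulVec_single_one] at this
    simp only [Matrix.col_apply, Pi.smul_apply, Pi.single_apply, smul_eq_mul] at this
    rw [this, Matrix.diagonal_apply]
    split_ifs with h
    · subst h; rw [mul_one]
    · rw [mul_zero]
  refine ⟨d, σ, hd0, fun a ha => ?_⟩
  obtain ⟨b, hb, hb'⟩ := hex a ha
  have h2 := hgσ a ha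
  obtain ⟨t, ht⟩ := (Projectivization.mk_eq_mk_iff' F _ _ h2.2.1 hb).1
    (h2.2.2.symm.trans (hπ a b ha hb hb').2.2)
  have ht0 : t ≠ 0 := fun h0 => h2.2.1 (by rw [← ht, h0, zero_smul])
  have h3 := hb'.smul_right ht0
  rw [← map_smul, ht] at h3
  convert h3 using 2
  funext i
  rw [hg, Matrix.mulVec_diagonal]

theorem exists_fixesFrame (hlift : K.FieldLift) (β : MulAut (POmG Q)) :
    ∃ S : SemiSim Q, K.FixesFrame (S.aut⁻¹ * β) := by
  obtain ⟨g, hg⟩ := K.exists_fix_frame_points hbig β
  obtain ⟨γ, hγ⟩ : ∃ γ, γ = (SemiSim.ofIsom g).symm.aut * β := ⟨_, rfl⟩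
  rw [← hγ] at hg
  obtain ⟨d, σ, hd0, hd⟩ := K.exists_semilinear hbig fun i => (hg i).1
  obtain ⟨S₀, hσ, hSe, hSf⟩ := hlift σ
  have hyy : ∀ i j, polar Q (d i • K.e i) (d j • K.e j) = 0 := fun i j => by
    simp [QuadraticMap.polar_smul_left, QuadraticMap.polar_smul_right, K.hee]
  have hzz : ∀ i j, polar Q ((d i)⁻¹ • K.f i) ((d j)⁻¹ • K.f j) = 0 := fun i j => by
    simp [QuadraticMap.polar_smul_left, QuadraticMap.polar_smul_right, K.hff]
  have hyz : ∀ i j, polar Q (d i • K.e i) ((d j)⁻¹ • K.f j) = if i = j then 1 else 0 := fun i j => by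
    simp [QuadraticMap.polar_smul_left, QuadraticMap.polar_smul_right, K.hef]
    split_ifs with h
    · subst h; rw [inv_mul_cancel₀ (hd0 i)]
    · rfl
  obtain ⟨D, hD⟩ := witt_family K.sep K.vec (Sum.elim (fun i => d i • K.e i) fun i => (d i)⁻¹ • K.f i)
    K.linearIndependent_vec (linearIndependent_hyperbolic hyy hzz hyz)
    (by rintro (i | i) <;> simp [OFrame.vec, quad_smul, K.he, K.hf])
    (by
      rintro (i | i) (j | j) <;>
        simp [OFrame.vec, QuadraticMap.polar_smul_left, QuadraticMap.polar_smul_right, K.hee, K.hff,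
          K.hef, K.hfe]
      all_goals
        split_ifs with h
        · subst h; field_simp [hd0 i]
        · rfl)
  obtain ⟨S, hS⟩ : ∃ S, S = S₀.trans (SemiSim.ofIsom D) := ⟨_, rfl⟩
  have hSa : ∀ a, S.map (K.lcomb a) = K.lcomb fun i => d i * σ (a i) := fun a => by
    rw [hS]
    show D.1 (S₀.map _) = _
    rw [lcomb_apply, map_sum, map_sum, lcomb_apply]
    refine Finset.sum_congr rfl fun i _ => ?_
    rw [S₀.map_smul, hσ, hSe, map_smul, show D.1 (K.e i) = d i • K.e i from hD (Sum.inl i), smul_smul,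
      mul_comm]
  have hSfi : ∀ i, S.map (K.f i) = (d i)⁻¹ • K.f i := fun i => by
    rw [hS]
    show D.1 (S₀.map _) = _
    rw [hSf]
    exact hD (Sum.inr i)
  refine ⟨S.trans (SemiSim.ofIsom g), ?_⟩
  have hcomb : (S.trans (SemiSim.ofIsom g)).aut⁻¹ * β = S.symm.aut * γ := by
    rw [hγ, SemiSim.aut_trans, mul_inv_rev, SemiSim.aut_symm, SemiSim.aut_symm, mul_assoc]
  rw [hcomb]
  have hE : ∀ a, a ≠ 0 → SendsP (S.symm.aut * γ) (K.lcomb a) (K.lcomb a) := by
    intro a ha
    refine (hd a ha).comp K ?_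
    have := S.symm.sendsP K (hd a ha).2.1.1 (hd a ha).2.1.2
    rwa [show S.symm.map (K.lcomb fun i => d i * σ (a i)) = K.lcomb a by
      rw [← hSa]; exact S.map.symm_apply_apply _] at this
  have hFi : ∀ i, SendsP (S.symm.aut * γ) (K.f i) (K.f i) := fun i => by
    refine (hg i).2.comp K ?_
    have h1 := S.symm.sendsP K (x := K.f i) (K.hf i) (K.linearIndependent_vec.ne_zero (Sum.inr i))
    have h2 : S.map.symm (K.f i) = S.σ.symm (d i) • K.f i := by
      apply S.map.injective
      rw [AddEquiv.apply_symm_apply, S.map_smul, RingEquiv.apply_symm_apply, hSfi,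
        smul_inv_smul₀ (hd0 i)]
    rw [show S.symm.map (K.f i) = S.σ.symm (d i) • K.f i from h2] at h1
    have h3 := h1.smul_right (inv_ne_zero ((map_ne_zero S.σ.symm).2 (hd0 i)))
    rwa [inv_smul_smul₀ ((map_ne_zero S.σ.symm).2 (hd0 i))] at h3
  intro a ha
  refine ⟨hE a ha, ?_⟩
  obtain ⟨y, hy⟩ := K.exists_sendsP hbig (S.symm.aut * γ) (K.flip.quad_lcomb a) (K.flip.lcomb_ne_zero ha)
  obtain ⟨b, hb⟩ : ∃ b : Fin m → F, b = fun i => polar Q (K.e i) y := ⟨_, rfl⟩
  have hye : y = K.flip.lcomb b := by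
    rw [hb]
    exact K.flip.eq_sum_e hy.2.1.1 fun i => (hFi i).perp K hbig hy (K.flip.polar_e_lcomb i a)
  have horth : ∀ c : Fin m → F, ∑ i, c i * a i = 0 → ∑ i, c i * b i = 0 := by
    intro c hc
    by_cases hc0 : c = 0
    · simp [hc0]
    · rw [← K.lcomb_polar_lcomb, ← hye]
      exact (hE c hc0).perp K hbig hy (by rw [K.lcomb_polar_lcomb, hc])
  obtain ⟨k, hk⟩ : ∃ k, a k ≠ 0 := Function.ne_iff.1 ha
  have hprop : b = (b k / a k) • a := funext fun j => by
    have h := horth (a j • Pi.single k 1 - a k • Pi.single j 1)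
      (by simp [sub_mul, Finset.sum_sub_distrib, Pi.single_apply]; ring)
    simp [sub_mul, Finset.sum_sub_distrib, Pi.single_apply] at h
    rw [Pi.smul_apply, smul_eq_mul]
    field_simp
    linear_combination -h
  rw [hye, hprop, map_smul] at hy
  have hne : b k / a k ≠ 0 := fun h0 => hy.2.1.2 (by rw [h0, zero_smul])
  have := hy.smul_right (inv_ne_zero hne)
  rwa [inv_smul_smul₀ hne] at this

end OFrame

end CfsgLib.Classical
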