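import Mathlib
import Cfsg.Agent.Lib.Classical.OrthAutCollineation

/-!
Automorphisms of `PΩ`, part 8: an automorphism fixing the frame points acts by reciprocal scalars on the
root groups inside the two spans.
-/

set_option autoImplicit false
set_option linter.unusedSectionVars false

namespace CfsgLib.Classical

open CfsgLib.Geom
open QuadraticMap (polar)

variable {F V : Type*} [Field F] [Finite F] [AddCommGroup V] [Module F V] [FiniteDimensional F V]
variable {Q : QuadraticForm F V} {m : ℕ}

theorem siegel_self_smul {x : V} (hx : Q x = 0) (c : F) : siegel Q x (c • x) = 1 := by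
  refine quadIsoms_ext Q fun z => ?_
  rw [siegel_apply_ts hx (by rw [quad_smul, hx, mul_zero])
    (by rw [QuadraticMap.polar_smul_right, polar_self_of_singular Q hx, smul_zero]),
    QuadraticMap.polar_smul_left, smul_smul, smul_eq_mul, mul_comm (polar Q x z) c, add_sub_cancel_right]
  rfl

theorem siegel_zero_left (w : V) : siegel Q 0 w = 1 := by
  by_cases h : Q (0 : V) = 0 ∧ polar Q 0 w = 0
  · refine quadIsoms_ext Q fun z => ?_
    rw [siegel_apply Q h.1 h.2]
    simp
  · exact siegel_of_not Q h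

theorem toP_conj_image {γ : MulAut (POmG Q)} {g g' r r' : OmG Q} (hg : γ (toP g) = toP g')
    (hr : γ (toP r) = toP r') : γ (toP (g * r * g⁻¹)) = toP (g' * r' * g'⁻¹) := by
  simp only [map_mul, map_inv, hg, hr]

theorem SendsP.equivariant {γ : MulAut (POmG Q)} (K : OFrame Q m) {x y : V} (h : SendsP γ x y)
    {g g' : OmG Q} (hg : γ (toP g) = toP g') : SendsP γ (g.1.1 x) (g'.1.1 y) := by
  refine ⟨⟨by rw [mem_quadIsoms.1 g.1.2, h.1.1],
      fun e => h.1.2 (g.1.1.injective (e.trans (map_zero g.1.1).symm))⟩,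
    ⟨by rw [mem_quadIsoms.1 g'.1.2, h.2.1.1],
      fun e => h.2.1.2 (g'.1.1.injective (e.trans (map_zero g'.1.1).symm))⟩, fun T T' hT hxT => ?_⟩
  obtain ⟨T₀, hT₀⟩ : ∃ T₀, T₀ = T.map (g.1⁻¹).1.toLinearMap := ⟨_, rfl⟩
  obtain ⟨T₁, hT₁⟩ := K.exists_sendsL γ (show IsTL Q T₀ from hT₀ ▸ hT.1.map g.1⁻¹)
  have hx0 : x ∈ T₀ := by
    rw [hT₀]
    exact ⟨_, hxT, g.1.1.symm_apply_apply x⟩
  have e : T = T₀.map g.1.1.toLinearMap := by
    rw [hT₀, ← Submodule.map_comp,
      show g.1.1.toLinearMap.comp (g.1⁻¹).1.toLinearMap = LinearMap.id from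
        LinearMap.ext fun v => g.1.1.apply_symm_apply v, Submodule.map_id]
  have h2 : SendsL γ T (T₁.map g'.1.1.toLinearMap) := by
    refine ⟨hT.1, hT₁.2.1.map g'.1, ?_⟩
    rw [e, ← lineRoots_conj g.1 T₀ g rfl, ← lineRoots_conj g'.1 T₁ g' rfl]
    ext z
    constructor
    · rintro ⟨_, ⟨_, ⟨r, hr, rfl⟩, rfl⟩, rfl⟩
      obtain ⟨r', hr', er⟩ := hT₁.exists_image hr
      exact ⟨g' * r' * g'⁻¹, ⟨r', hr', rfl⟩, (toP_conj_image hg er).symm⟩
    · rintro ⟨_, ⟨r', hr', rfl⟩, rfl⟩
      obtain ⟨r, hr, er⟩ := hT₁.exists_preimage hr'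
      exact ⟨_, ⟨_, ⟨r, hr, rfl⟩, rfl⟩, toP_conj_image hg er⟩
  rw [hT.unique K h2]
  exact Submodule.mem_map_of_mem (h.2.2 _ _ hT₁ hx0)

theorem sendsL_of_fixed (K : OFrame Q m) {γ : MulAut (POmG Q)} {x w : V} (hx : SendsP γ x x)
    (hw : SendsP γ w w) (h : TSPair Q x w) :
    SendsL γ (Submodule.span F {x, w}) (Submodule.span F {x, w}) := by
  obtain ⟨T, hT⟩ := K.exists_sendsL γ h.isTL
  have := hT.2.1.eq_span_of_mem (hx.2.2 _ _ hT (mem_left_span x w)) (hw.2.2 _ _ hT (mem_right_span x w))
    h.2.2.2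
  rwa [this] at hT

namespace OFrame

variable (K : OFrame Q m)

include K in
theorem root_toP_inj {x w y v : V} (e : toP (K.root x w) = toP (K.root y v)) :
    siegel Q x w = siegel Q y v := by
  obtain ⟨p, hp, _⟩ := exists_char_prime (F := F)
  have := Fact.mk hp
  have hg : K.root x w ^ p ^ 1 = 1 := by rw [pow_one]; exact K.root_pow_char x w
  exact congrArg Subtype.val (K.toP_lineRoots_inj (p := p) (K.root_pow_char x w) (K.root_pow_char y v)
    (K.commute_of_toP hg (by rw [e])) e)

theorem root_add {x w w' : V} (hx : Q x = 0) (hw : polar Q x w = 0) (hw' : polar Q x w' = 0) :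
    K.root x (w + w') = K.root x w * K.root x w' := Subtype.ext (siegel_add Q hx hw hw')

theorem root_conj (g : OmG Q) (x w : V) : g * K.root x w * g⁻¹ = K.root (g.1.1 x) (g.1.1 w) :=
  Subtype.ext (siegel_conj Q g.1 x w)

theorem root_smul {x w : V} (hx : Q x = 0) (hw : polar Q x w = 0) (a : F) :
    K.root (a • x) w = K.root x (a • w) := Subtype.ext (siegel_smul Q hx hw a)

theorem FixesFrame.flip {γ : MulAut (POmG Q)} (h : K.FixesFrame γ) : K.flip.FixesFrame γ :=
  fun a ha => ⟨(h a ha).2, (h a ha).1⟩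

theorem FixesFrame.fix_e {γ : MulAut (POmG Q)} (h : K.FixesFrame γ) (i : Fin m) :
    SendsP γ (K.e i) (K.e i) := by
  have := (h (Pi.single i 1) (fun e => by simpa using congrFun e i)).1
  rwa [K.lcomb_single] at this

theorem FixesFrame.fix_f {γ : MulAut (POmG Q)} (h : K.FixesFrame γ) (i : Fin m) :
    SendsP γ (K.f i) (K.f i) := by
  have := (h (Pi.single i 1) (fun e => by simpa using congrFun e i)).2
  rwa [K.flip.lcomb_single] at this

theorem tsPair_lcomb {a b : Fin m → F} (h : LinearIndependent F ![a, b]) :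
    TSPair Q (K.lcomb a) (K.lcomb b) := by
  refine ⟨K.quad_lcomb a, K.quad_lcomb b, ?_, LinearIndependent.pair_iff.2 fun s t e => ?_⟩
  · have := K.quad_lcomb (a + b)
    rwa [map_add, QuadraticMap.map_add (Q : QuadraticMap F V F), K.quad_lcomb, K.quad_lcomb, zero_add,
      zero_add] at this
  · refine LinearIndependent.pair_iff.1 h s t (funext fun i => ?_)
    rw [← K.polar_f_lcomb i (s • a + t • b), map_add, map_smul, map_smul, e,
      QuadraticMap.polar_zero_right]
    rfl

/-- `γ` acts by the scalar `t` on the root element of `x` and `w`. -/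
def RScal (γ : MulAut (POmG Q)) (x w : V) (t : F) : Prop :=
  γ (toP (K.root x w)) = toP (K.root x (t • w))

theorem exists_span_scalar {γ : MulAut (POmG Q)} (h : K.FixesFrame γ) :
    ∃ μ : F, μ ≠ 0 ∧ ∀ a b : Fin m → F, K.RScal γ (K.lcomb a) (K.lcomb b) μ := by
  have hex : ∀ a b : Fin m → F, LinearIndependent F ![a, b] →
      ∃ t : F, t ≠ 0 ∧ K.RScal γ (K.lcomb a) (K.lcomb b) t := by
    intro a b hab
    have hp := K.tsPair_lcomb hab
    have ha : a ≠ 0 := by simpa using hab.ne_zero (0 : Fin 2)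
    have hb : b ≠ 0 := by simpa using hab.ne_zero (1 : Fin 2)
    have hL := sendsL_of_fixed K (h a ha).1 (h b hb).1 hp
    have hmem : K.root (K.lcomb a) (K.lcomb b) ∈ lineRoots Q (Submodule.span F {K.lcomb a, K.lcomb b}) :=
      K.root_mem_lineRoots (mem_left_span _ _) (mem_right_span _ _)
    obtain ⟨g', hg', e⟩ := hL.exists_image hmem
    rw [K.lineRoots_eq hp] at hg'
    obtain ⟨t, rfl⟩ := hg'
    refine ⟨t, fun h0 => K.root_ne_one hp one_ne_zero ?_, e⟩
    rw [one_smul]
    have e1 : γ (toP (K.root (K.lcomb a) (K.lcomb b))) = 1 := by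
      rw [e]
      show toP (K.root _ (t • _)) = 1
      rw [h0, zero_smul, show K.root (K.lcomb a) (0 : V) = 1 from Subtype.ext (siegel_zero Q _), map_one]
    have e2 : toP (K.root (K.lcomb a) (K.lcomb b)) = toP (K.root (K.lcomb a) 0) := by
      rw [show K.root (K.lcomb a) (0 : V) = 1 from Subtype.ext (siegel_zero Q _), map_one]
      exact γ.injective (e1.trans (map_one γ).symm)
    exact Subtype.ext ((K.root_toP_inj e2).trans (siegel_zero Q _))
  choose μ hμ0 hμ using hex
  have hperp : ∀ a b, polar Q (K.lcomb a) (K.lcomb b) = 0 := fun a b => by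
    have := K.quad_lcomb (a + b)
    rwa [map_add, QuadraticMap.map_add (Q : QuadraticMap F V F), K.quad_lcomb, K.quad_lcomb, zero_add,
      zero_add] at this
  have cancel : ∀ {a v v' : Fin m → F}, a ≠ 0 →
      toP (K.root (K.lcomb a) (K.lcomb v)) = toP (K.root (K.lcomb a) (K.lcomb v')) →
        ∃ c : F, v - v' = c • a := by
    intro a v v' ha e
    obtain ⟨c, hc⟩ := siegel_injective K.sep (K.lcomb_ne_zero ha) (K.quad_lcomb a) (hperp a v)
      (hperp a v') (K.root_toP_inj e)
    exact ⟨c, funext fun i => by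
      rw [← K.polar_f_lcomb i (v - v'), map_sub, hc, ← map_smul, K.polar_f_lcomb]⟩
  have h3 : ∀ a b c (hab : LinearIndependent F ![a, b]) (hac : LinearIndependent F ![a, c]),
      c ∉ Submodule.span F {a, b} → μ a b hab = μ a c hac := by
    intro a b c hab hac hc
    have hsum : LinearIndependent F ![a, b + c] := by
      refine LinearIndependent.pair_iff.2 fun s t e => ?_
      have ht : t = 0 := by
        by_contra ht
        refine hc (Submodule.mem_span_pair.2 ⟨-(s / t), -1, ?_⟩)
        funext i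
        have := congrFun e i
        simp at this ⊢
        field_simp
        linear_combination -this
      subst ht
      refine ⟨?_, rfl⟩
      rw [zero_smul, add_zero, smul_eq_zero] at e
      exact e.resolve_right (by simpa using hab.ne_zero (0 : Fin 2))
    have e := hμ a (b + c) hsum
    rw [RScal, map_add, K.root_add (K.quad_lcomb a) (hperp a b) (hperp a c), map_mul, map_mul,
      hμ a b hab, hμ a c hac, ← map_mul, ← map_smul, ← map_smul,
      ← K.root_add (K.quad_lcomb a) (hperp _ _) (hperp _ _), ← map_add, ← map_add, ← map_smul] at e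
    obtain ⟨r, hr⟩ := cancel (by simpa using hab.ne_zero (0 : Fin 2)) e
    have hcc : μ a c hac - μ a (b + c) hsum = 0 := by
      by_contra hne
      refine hc (Submodule.mem_span_pair.2 ⟨r / (μ a c hac - μ a (b + c) hsum),
        -(μ a b hab - μ a (b + c) hsum) / (μ a c hac - μ a (b + c) hsum), ?_⟩)
      funext i
      have := congrFun hr i
      simp at this ⊢
      field_simp
      linear_combination -this
    have hbb : μ a b hab - μ a (b + c) hsum = 0 :=
      (LinearIndependent.pair_iff.1 hab (-r) (μ a b hab - μ a (b + c) hsum) (by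
        funext i
        have := congrFun hr i
        simp at this ⊢
        linear_combination this - c i * hcc)).2
    linear_combination hbb - hcc
  have hout : ∀ a b : Fin m → F, ∃ c, c ∉ Submodule.span F {a, b} := by
    classical
    intro a b
    have hlt : Submodule.span F ({a, b} : Set (Fin m → F)) ≠ ⊤ := fun e => by
      have h1 := finrank_span_finset_le_card (R := F) ({a, b} : Finset (Fin m → F))
      rw [show (({a, b} : Finset (Fin m → F)) : Set (Fin m → F)) = {a, b} by simp, Set.finrank, e,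
        finrank_top, Module.finrank_fin_fun] at h1
      have h2 : ({a, b} : Finset (Fin m → F)).card ≤ 2 := Finset.card_le_two
      have := K.hm
      omega
    obtain ⟨c, -, hc⟩ := SetLike.exists_of_lt (lt_top_iff_ne_top.2 hlt)
    exact ⟨c, hc⟩
  have hind : ∀ {a b c : Fin m → F}, a ≠ 0 → c ∉ Submodule.span F {a, b} →
      LinearIndependent F ![a, c] := fun {a b c} ha hc =>
    (LinearIndependent.pair_iff' ha).2 fun s hs =>
      hc (hs ▸ Submodule.smul_mem _ _ (Submodule.subset_span (by simp)))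
  have hsame : ∀ a b b' (hab : LinearIndependent F ![a, b]) (hab' : LinearIndependent F ![a, b']),
      μ a b hab = μ a b' hab' := by
    intro a b b' hab hab'
    by_cases hb' : b' ∈ Submodule.span F {a, b}
    · obtain ⟨c, hc⟩ := hout a b
      have hac := hind (by simpa using hab.ne_zero (0 : Fin 2)) hc
      rw [h3 a b c hab hac hc]
      refine (h3 a b' c hab' hac fun hc' => hc ?_).symm
      refine Submodule.span_le.2 ?_ hc'
      rw [Set.insert_subset_iff, Set.singleton_subset_iff]
      exact ⟨mem_left_span a b, hb'⟩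
    · exact h3 a b b' hab hab' hb'
  have hsymm : ∀ a b (hab : LinearIndependent F ![a, b]) (hba : LinearIndependent F ![b, a]),
      μ a b hab = μ b a hba := by
    intro a b hab hba
    have hp := K.tsPair_lcomb hab
    have e := hμ b a hba
    have s1 : ∀ t : F, K.root (K.lcomb b) (t • K.lcomb a) = (K.root (K.lcomb a) (t • K.lcomb b))⁻¹ := by
      intro t
      refine Subtype.ext ?_
      rw [Subgroup.coe_inv, root_coe, root_coe, siegel_neg Q (K.quad_lcomb a)
        (by rw [QuadraticMap.polar_smul_right, hperp, smul_zero]), ← neg_smul]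
      simpa using siegel_span hp 0 1 t 0
    have := s1 1
    rw [one_smul, one_smul] at this
    rw [RScal, this, s1, map_inv, map_inv, map_inv, inv_inj, hμ a b hab, ← map_smul, ← map_smul] at e
    obtain ⟨r, hr⟩ := cancel (by simpa using hab.ne_zero (0 : Fin 2)) e
    have := (LinearIndependent.pair_iff.1 hab (-r) (μ a b hab - μ b a hba)
      (by rw [sub_smul, hr, neg_smul, neg_add_cancel])).2
    exact sub_eq_zero.1 this
  have := K.hm
  have hij : (⟨0, by omega⟩ : Fin m) ≠ ⟨1, by omega⟩ := by simp [Fin.ext_iff]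
  have h01 : LinearIndependent F ![(Pi.single ⟨0, by omega⟩ 1 : Fin m → F), Pi.single ⟨1, by omega⟩ 1] := by
    refine LinearIndependent.pair_iff.2 fun s t e => ⟨?_, ?_⟩
    · simpa [hij] using congrFun e ⟨0, by omega⟩
    · simpa [hij.symm] using congrFun e ⟨1, by omega⟩
  refine ⟨μ _ _ h01, hμ0 _ _ h01, fun a b => ?_⟩
  by_cases hab : LinearIndependent F ![a, b]
  · obtain ⟨c, hc⟩ := hout a (Pi.single ⟨0, by omega⟩ 1)
    have ha : a ≠ 0 := by simpa using hab.ne_zero (0 : Fin 2)
    have hac := hind ha hc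
    have h0c : LinearIndependent F ![(Pi.single ⟨0, by omega⟩ 1 : Fin m → F), c] :=
      hind (b := a) (by simp) (by rwa [Set.pair_comm])
    have hca := LinearIndependent.pair_symm_iff.1 hac
    have hc0 := LinearIndependent.pair_symm_iff.1 h0c
    rw [hsame _ _ _ h01 h0c, hsymm _ _ h0c hc0, hsame _ _ _ hc0 hca, hsymm _ _ hca hac,
      hsame _ _ _ hac hab]
    exact hμ a b hab
  · by_cases ha : a = 0
    · subst ha
      have : ∀ v, K.root (K.lcomb 0) v = 1 := fun v =>
        Subtype.ext (by rw [root_coe, map_zero, siegel_zero_left]; rfl)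
      rw [RScal, this, this, map_one, map_one]
    · rw [LinearIndependent.pair_iff' ha] at hab
      push Not at hab
      obtain ⟨r, rfl⟩ := hab
      have : ∀ t : F, K.root (K.lcomb a) (t • K.lcomb a) = 1 := fun t =>
        Subtype.ext (siegel_self_smul (K.quad_lcomb a) t)
      simp [RScal, map_smul, smul_smul, this]

/-- The product of three root elements exchanging two hyperbolic pairs. -/
noncomputable def nElt (i j : Fin m) (t s : F) : OmG Q :=
  K.root (K.e i) (t • K.e j) * K.root (K.f i) (s • K.f j) * K.root (K.e i) (t • K.e j)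

theorem nElt_apply {i j : Fin m} (t s : F) (v : V) :
    (K.nElt i j t s).1.1 v =
      (siegel Q (K.e i) (t • K.e j)).1 ((siegel Q (K.f i) (s • K.f j)).1
        ((siegel Q (K.e i) (t • K.e j)).1 v)) := rfl

theorem xRoot_apply (i j : Fin m) (t : F) (v : V) :
    (siegel Q (K.e i) (t • K.e j)).1 v =
      v + (t * polar Q (K.e i) v) • K.e j - (t * polar Q (K.e j) v) • K.e i := by
  rw [siegel_apply_ts (K.he i) (by rw [quad_smul, K.he, mul_zero])
    (by rw [QuadraticMap.polar_smul_right, K.hee, smul_zero]), QuadraticMap.polar_smul_left, smul_smul,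
    mul_comm, smul_eq_mul]

theorem yRoot_apply (i j : Fin m) (s : F) (v : V) :
    (siegel Q (K.f i) (s • K.f j)).1 v =
      v + (s * polar Q (K.f i) v) • K.f j - (s * polar Q (K.f j) v) • K.f i :=
  K.flip.xRoot_apply i j s v

theorem nElt_e_left {i j : Fin m} (hij : i ≠ j) (t s : F) :
    (K.nElt i j t s).1.1 (K.e i) = (1 - t * s) • K.e i + s • K.f j := by
  simp [nElt_apply, K.xRoot_apply, K.yRoot_apply, K.hee, K.hef, K.hfe, hij, hij.symm,
    QuadraticMap.polar_add_right, QuadraticMap.polar_smul_right]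
  module

theorem nElt_vals {i j : Fin m} (hij : i ≠ j) {t s : F} (hts : t * s = 1) :
    (K.nElt i j t s).1.1 (K.e i) = s • K.f j ∧ (K.nElt i j t s).1.1 (K.e j) = -(s • K.f i) ∧
      (K.nElt i j t s).1.1 (K.f i) = t • K.e j ∧ (K.nElt i j t s).1.1 (K.f j) = -(t • K.e i) ∧
      ∀ v, polar Q (K.e i) v = 0 → polar Q (K.e j) v = 0 → polar Q (K.f i) v = 0 →
        polar Q (K.f j) v = 0 → (K.nElt i j t s).1.1 v = v := by
  refine ⟨by rw [K.nElt_e_left hij, hts, sub_self, zero_smul, zero_add], ?_, ?_, ?_, ?_⟩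
  · simp [nElt_apply, K.xRoot_apply, K.yRoot_apply, K.hee, K.hef, K.hfe, hij, hij.symm,
      QuadraticMap.polar_sub_right, QuadraticMap.polar_smul_right, hts]
    abel
  · simp [nElt_apply, K.xRoot_apply, K.yRoot_apply, K.hee, K.hef, K.hff, K.hfe, hij, hij.symm,
      QuadraticMap.polar_add_right, QuadraticMap.polar_sub_right, QuadraticMap.polar_smul_right]
    simp [mul_comm s t, hts]
  · simp [nElt_apply, K.xRoot_apply, K.yRoot_apply, K.hee, K.hef, K.hff, K.hfe, hij, hij.symm,
      QuadraticMap.polar_add_right, QuadraticMap.polar_sub_right, QuadraticMap.polar_smul_right]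
    simp [mul_comm s t, hts]
    abel
  · intro v h1 h2 h3 h4
    simp [nElt_apply, K.xRoot_apply, K.yRoot_apply, h1, h2, h3, h4]

/-- The reciprocal scalars. -/
def Scalars (γ : MulAut (POmG Q)) (μ : F) : Prop :=
  μ ≠ 0 ∧ (∀ a b : Fin m → F, K.RScal γ (K.lcomb a) (K.lcomb b) μ) ∧
    ∀ a b : Fin m → F, K.RScal γ (K.flip.lcomb a) (K.flip.lcomb b) μ⁻¹

variable {K}

theorem Scalars.image_x {γ : MulAut (POmG Q)} {μ : F} (h : K.Scalars γ μ) (i j : Fin m) (t : F) :
    γ (toP (K.root (K.e i) (t • K.e j))) = toP (K.root (K.e i) ((μ * t) • K.e j)) := by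
  have := h.2.1 (Pi.single i 1) (t • Pi.single j 1)
  rwa [RScal, map_smul, K.lcomb_single, K.lcomb_single, smul_smul] at this

theorem Scalars.image_y {γ : MulAut (POmG Q)} {μ : F} (h : K.Scalars γ μ) (i j : Fin m) (t : F) :
    γ (toP (K.root (K.f i) (t • K.f j))) = toP (K.root (K.f i) ((μ⁻¹ * t) • K.f j)) := by
  have := h.2.2 (Pi.single i 1) (t • Pi.single j 1)
  rwa [RScal, map_smul, K.flip.lcomb_single, K.flip.lcomb_single, smul_smul] at this

theorem Scalars.image_n {γ : MulAut (POmG Q)} {μ : F} (h : K.Scalars γ μ) (i j : Fin m) (t s : F) :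
    γ (toP (K.nElt i j t s)) = toP (K.nElt i j (μ * t) (μ⁻¹ * s)) := by
  simp only [nElt, map_mul, h.image_x, h.image_y]

variable (K)

theorem exists_scalars {γ : MulAut (POmG Q)} (hbig : BigEnough F V m) (h : K.FixesFrame γ) :
    ∃ μ, K.Scalars γ μ := by
  obtain ⟨μ, hμ0, hμ⟩ := K.exists_span_scalar h
  obtain ⟨ν, hν0, hν⟩ := K.flip.exists_span_scalar (h.flip K)
  refine ⟨μ, hμ0, hμ, ?_⟩
  suffices ν = μ⁻¹ by subst this; exact hν
  have := K.hm
  obtain ⟨i, j, hij⟩ : ∃ i j : Fin m, i ≠ j := ⟨⟨0, by omega⟩, ⟨1, by omega⟩, by simp [Fin.ext_iff]⟩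
  have hx := hμ (Pi.single i 1) (Pi.single j 1)
  rw [RScal, K.lcomb_single, K.lcomb_single] at hx
  have hy := hν (Pi.single i 1) (Pi.single j 1)
  rw [RScal, K.flip.lcomb_single, K.flip.lcomb_single] at hy
  have hn : γ (toP (K.nElt i j 1 1)) = toP (K.nElt i j μ ν) := by
    simp only [nElt, map_mul, one_smul]
    rw [hx, show γ (toP (K.root (K.f i) (K.f j))) = toP (K.root (K.f i) (ν • K.f j)) from hy]
  have h1 := (h.fix_e K i).equivariant K hn
  rw [K.nElt_e_left hij, K.nElt_e_left hij, one_mul, sub_self, zero_smul, zero_add, one_smul] at h1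
  obtain ⟨c, hc⟩ := K.sendsP_line hbig (h.fix_f K j) _ h1
  have h2 := congrArg (polar Q (K.f i)) hc
  simp [QuadraticMap.polar_add_right, QuadraticMap.polar_smul_right, K.hfe, K.hff] at h2
  exact eq_inv_of_mul_eq_one_right (by linear_combination -h2)

end OFrame

end CfsgLib.Classical
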