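import Mathlib
import Cfsg.Agent.Lib.Classical.OrthAutScalar

/-!
Automorphisms of `PΩ`, part 9: every automorphism is induced by a semisimilarity.
-/

set_option autoImplicit false
set_option linter.unusedSectionVars false

namespace CfsgLib.Classical

open CfsgLib.Geom
open QuadraticMap (polar)

variable {F V : Type*} [Field F] [Finite F] [AddCommGroup V] [Module F V] [FiniteDimensional F V]
variable {Q : QuadraticForm F V} {m : ℕ}

namespace OFrame

variable (K : OFrame Q m)

include K in
/-- Root elements at one point go to root elements at a fixed point. -/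
theorem exists_rad_image {γ : MulAut (POmG Q)} {x : V} (hx : SendsP γ x x) {p q : V}
    (hxp : polar Q x p = 0) (hxq : polar Q x q = 0) (hp : Q p = 0)
    (hpq : polar Q p q = 1) {w : V} (hw : polar Q x w = 0) :
    ∃ w', polar Q x w' = 0 ∧ (Q w = 0 → Q w' = 0) ∧ γ (toP (K.root x w)) = toP (K.root x w') := by
  have hone : γ (toP (K.root x 0)) = toP (K.root x 0) := by
    rw [show K.root x (0 : V) = 1 from Subtype.ext (siegel_zero Q _), map_one, map_one]
  have hsing : ∀ w, Q w = 0 → polar Q x w = 0 →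
      ∃ w', polar Q x w' = 0 ∧ Q w' = 0 ∧ γ (toP (K.root x w)) = toP (K.root x w') := by
    intro w hwQ hxw
    by_cases hi : LinearIndependent F ![x, w]
    · obtain ⟨T, hT⟩ := K.exists_sendsL γ (⟨x, w, ⟨hx.1.1, hwQ, hxw, hi⟩, rfl⟩ : IsTL Q _)
      have hxT := hx.2.2 _ _ hT (mem_left_span x w)
      obtain ⟨v, hv, hTe⟩ := hT.2.1.exists_pair hxT hx.1.2
      obtain ⟨g', hg', e⟩ := hT.exists_image (K.root_mem_lineRoots (mem_left_span x w) (mem_right_span x w))
      rw [hTe, K.lineRoots_eq hv] at hg'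
      obtain ⟨t, rfl⟩ := hg'
      exact ⟨t • v, by rw [QuadraticMap.polar_smul_right, hv.2.2.1, smul_zero],
        by rw [quad_smul, hv.2.1, mul_zero], e⟩
    · rw [LinearIndependent.pair_iff' hx.1.2] at hi
      push Not at hi
      obtain ⟨c, rfl⟩ := hi
      refine ⟨0, QuadraticMap.polar_zero_right _ _, QuadraticMap.map_zero _, ?_⟩
      rw [show K.root x (c • x) = K.root x 0 from Subtype.ext (by
        rw [root_coe, root_coe, siegel_zero, siegel_self_smul hx.1.1])]
      exact hone
  by_cases hwQ : Q w = 0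
  · obtain ⟨w', h1, h2, h3⟩ := hsing w hwQ hw
    exact ⟨w', h1, fun _ => h2, h3⟩
  have hstep : ∀ w, polar Q x w = 0 → polar Q p w ≠ 0 →
      ∃ w', polar Q x w' = 0 ∧ γ (toP (K.root x w)) = toP (K.root x w') := by
    intro w hxw hpw
    obtain ⟨t, ht⟩ : ∃ t : F, t = -Q w / polar Q p w := ⟨_, rfl⟩
    have h1 : polar Q x (w + t • p) = 0 := by
      rw [QuadraticMap.polar_add_right, hxw, QuadraticMap.polar_smul_right, hxp, smul_zero, add_zero]
    have h2 : polar Q x ((-t) • p) = 0 := by
      rw [QuadraticMap.polar_smul_right, hxp, smul_zero]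
    obtain ⟨a, ha, -, ea⟩ := hsing (w + t • p) (by
      rw [quad_map_add_smul, hp, QuadraticMap.polar_comm _ w p, ht]; field_simp; ring) h1
    obtain ⟨b, hb, -, eb⟩ := hsing ((-t) • p) (by rw [quad_smul, hp, mul_zero]) h2
    refine ⟨a + b, by rw [QuadraticMap.polar_add_right, ha, hb, add_zero], ?_⟩
    rw [show w = (w + t • p) + (-t) • p by rw [neg_smul, add_neg_cancel_right],
      K.root_add hx.1.1 h1 h2, K.root_add hx.1.1 ha hb, map_mul, map_mul, ea, eb, map_mul]
  by_cases hpw : polar Q p w = 0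
  · obtain ⟨a, ha, ea⟩ := hstep (w + q) (by rw [QuadraticMap.polar_add_right, hw, hxq, add_zero])
      (by rw [QuadraticMap.polar_add_right, hpw, hpq, zero_add]; exact one_ne_zero)
    obtain ⟨b, hb, eb⟩ := hstep (-q) (by rw [QuadraticMap.polar_neg_right, hxq, neg_zero])
      (by rw [QuadraticMap.polar_neg_right, hpq]; exact neg_ne_zero.2 one_ne_zero)
    refine ⟨a + b, by rw [QuadraticMap.polar_add_right, ha, hb, add_zero], fun h => absurd h hwQ, ?_⟩
    rw [show w = (w + q) + (-q) by abel,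
      K.root_add hx.1.1 (by rw [QuadraticMap.polar_add_right, hw, hxq, add_zero])
        (by rw [QuadraticMap.polar_neg_right, hxq, neg_zero]),
      K.root_add hx.1.1 ha hb, map_mul, map_mul, ea, eb, map_mul]
  · obtain ⟨a, ha, ea⟩ := hstep w hw hpw
    exact ⟨a, ha, fun h => absurd h hwQ, ea⟩

theorem wproj_add (u v : V) : K.wproj (u + v) = K.wproj u + K.wproj v := by
  simp only [wproj, QuadraticMap.polar_add_right, add_smul, Finset.sum_add_distrib]
  abel

theorem wproj_smul (a : F) (v : V) : K.wproj (a • v) = a • K.wproj v := by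
  simp only [wproj, QuadraticMap.polar_smul_right, smul_eq_mul, mul_smul, smul_sub, Finset.smul_sum]

theorem wproj_of_perp {w : V} (h1 : ∀ i, polar Q (K.e i) w = 0) (h2 : ∀ i, polar Q (K.f i) w = 0) :
    K.wproj w = w := by simp [wproj, h1, h2]

include K in
/-- The action on the orthogonal complement of the frame. -/
theorem exists_wmap {γ : MulAut (POmG Q)} (h : K.FixesFrame γ) {μ : F} (hμ : K.Scalars γ μ)
    (i j k : Fin m) (hij : i ≠ j) (hjk : j ≠ k) (hik : i ≠ k) :
    ∃ T : V → V, (∀ w, (∀ l, polar Q (K.e l) w = 0) → (∀ l, polar Q (K.f l) w = 0) →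
        (∀ l, polar Q (K.e l) (T w) = 0) ∧ (∀ l, polar Q (K.f l) (T w) = 0) ∧
        γ (toP (K.root (K.e i) w)) = toP (K.root (K.e i) (T w)) ∧ Q (T w) = μ * Q w) ∧
      (∀ w w', (∀ l, polar Q (K.e l) w = 0) → (∀ l, polar Q (K.f l) w = 0) →
        (∀ l, polar Q (K.e l) w' = 0) → (∀ l, polar Q (K.f l) w' = 0) → T (w + w') = T w + T w') ∧
      ∀ (a : F) w, (∀ l, polar Q (K.e l) w = 0) → (∀ l, polar Q (K.f l) w = 0) →
        T (a • w) = a • T w := by
  have hei := h.fix_e K i
  have rad : ∀ {w}, polar Q (K.e i) w = 0 →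
      ∃ w', polar Q (K.e i) w' = 0 ∧ polar Q (K.f i) w' = 0 ∧ (Q w = 0 → Q w' = 0) ∧
        γ (toP (K.root (K.e i) w)) = toP (K.root (K.e i) w') := by
    intro w hw
    obtain ⟨w', h1, h2, h3⟩ := K.exists_rad_image hei (p := K.e j) (q := K.f j) (K.hee i j)
      (by simp [K.hef, hij]) (K.he j) (by simp [K.hef]) hw
    refine ⟨w' + (-polar Q (K.f i) w') • K.e i, ?_, ?_, fun hQ => ?_, h3.trans ?_⟩
    · simp [QuadraticMap.polar_add_right, QuadraticMap.polar_neg_right, QuadraticMap.polar_smul_right,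
        h1, K.hee]
    · simp [QuadraticMap.polar_add_right, QuadraticMap.polar_neg_right, QuadraticMap.polar_smul_right,
        K.hfe]
    · rw [quad_map_add_smul, h2 hQ, K.he, QuadraticMap.polar_comm _ w', h1]; ring
    · rw [K.root_add (K.he i) h1 (by rw [QuadraticMap.polar_smul_right, K.hee, smul_zero]),
        show K.root (K.e i) ((-polar Q (K.f i) w') • K.e i) = 1 from
          Subtype.ext (siegel_self_smul (K.he i) _), mul_one]
  have uniq : ∀ {w w'}, polar Q (K.e i) w = 0 → polar Q (K.e i) w' = 0 → polar Q (K.f i) w = 0 →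
      polar Q (K.f i) w' = 0 → toP (K.root (K.e i) w) = toP (K.root (K.e i) w') → w = w' := by
    intro w w' h1 h1' h2 h2' e
    obtain ⟨a, ha⟩ := siegel_injective K.sep (show K.e i ≠ 0 from K.linearIndependent_vec.ne_zero (Sum.inl i)) (K.he i)
      h1 h1' (K.root_toP_inj e)
    have := congrArg (polar Q (K.f i)) ha
    rw [QuadraticMap.polar_sub_right, h2, h2', sub_zero, QuadraticMap.polar_smul_right, K.hfe,
      if_pos rfl, smul_eq_mul, mul_one] at this
    rw [← this, zero_smul, sub_eq_zero] at ha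
    exact ha
  choose T hTe hTf hTQ hT using @rad
  classical
  refine ⟨fun w => if hw : polar Q (K.e i) w = 0 then T hw else 0, ?_⟩
  have val : ∀ {w} (hw : polar Q (K.e i) w = 0),
      (if hw : polar Q (K.e i) w = 0 then T hw else 0) = T hw := fun hw => dif_pos hw
  have others : ∀ l, l ≠ i → ∃ l', l' ≠ i ∧ l ≠ l' := by
    intro l hl
    by_cases hlj : l = j
    · exact ⟨k, hik.symm, by rw [hlj]; exact hjk⟩
    · exact ⟨j, hij.symm, hlj⟩
  have hW : ∀ w, (∀ l, polar Q (K.e l) w = 0) → (∀ l, polar Q (K.f l) w = 0) → ∀ hw : polar Q (K.e i) w = 0,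
      (∀ l, polar Q (K.e l) (T hw) = 0) ∧ ∀ l, polar Q (K.f l) (T hw) = 0 := by
    intro w h1 h2 hw
    obtain ⟨p, hp, _⟩ := exists_char_prime (F := F)
    have := Fact.mk hp
    have comm : ∀ (g g' : OmG Q), γ (toP g) = toP g' → g.1.1 (K.e i) = K.e i →
        g.1.1 w = w → g'.1.1 (K.e i) = K.e i → ∃ a : F, g'.1.1 (T hw) - T hw = a • K.e i := by
      intro g g' hg hge hgw hge'
      have e : g * K.root (K.e i) w * g⁻¹ = K.root (K.e i) w := by rw [K.root_conj, hge, hgw]
      have e' := toP_conj_image hg (hT hw)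
      rw [e, hT hw, K.root_conj, hge'] at e'
      exact siegel_injective K.sep (show K.e i ≠ 0 from K.linearIndependent_vec.ne_zero (Sum.inl i)) (K.he i)
        (by conv_lhs => rw [← hge']
            rw [polar_quadIsom g'.1.2, hTe hw]) (hTe hw) (K.root_toP_inj e'.symm)
    constructor
    · intro l
      by_cases hli : l = i
      · rw [hli]; exact hTe hw
      obtain ⟨l', hl'i, hll'⟩ := others l hli
      obtain ⟨a, ha⟩ := comm _ _ (hμ.image_x l l' 1)
        (by rw [root_coe, K.xRoot_apply]; simp [K.hee]) (by rw [root_coe, K.xRoot_apply]; simp [h1])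
        (by rw [root_coe, K.xRoot_apply]; simp [K.hee])
      have := congrArg (polar Q (K.f l')) ha
      rw [root_coe, K.xRoot_apply] at this
      simpa [QuadraticMap.polar_add_right, QuadraticMap.polar_sub_right, QuadraticMap.polar_smul_right,
        K.hfe, hll', hll'.symm, hl'i, hμ.1] using this
    · intro l
      by_cases hli : l = i
      · rw [hli]; exact hTf hw
      obtain ⟨l', hl'i, hll'⟩ := others l hli
      obtain ⟨a, ha⟩ := comm _ _ (hμ.image_y l l' 1)
        (by rw [root_coe, K.yRoot_apply]; simp [K.hfe, hli, hl'i])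
        (by rw [root_coe, K.yRoot_apply]; simp [h2])
        (by rw [root_coe, K.yRoot_apply]; simp [K.hfe, hli, hl'i])
      have := congrArg (polar Q (K.e l')) ha
      rw [root_coe, K.yRoot_apply] at this
      simpa [QuadraticMap.polar_add_right, QuadraticMap.polar_sub_right, QuadraticMap.polar_smul_right,
        K.hef, K.hee, hll', hll'.symm, hl'i, hμ.1] using this
  refine ⟨fun w h1 h2 => ?_, fun w w' h1 h2 h1' h2' => ?_, fun a w h1 h2 => ?_⟩ <;> beta_reduce
  · rw [val (h1 i)]
    obtain ⟨hW1, hW2⟩ := hW w h1 h2 (h1 i)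
    refine ⟨hW1, hW2, hT _, ?_⟩
    have hue : polar Q (K.e i) (w + K.e j + (-Q w) • K.f j) = 0 := by
      simp [QuadraticMap.polar_add_right, QuadraticMap.polar_neg_right, QuadraticMap.polar_smul_right,
        h1 i, K.hee, K.hef, hij]
    have huQ : Q (w + K.e j + (-Q w) • K.f j) = 0 := by
      rw [quad_map_add_smul, QuadraticMap.map_add (Q : QuadraticMap F V F), K.he, K.hf,
        QuadraticMap.polar_add_left, QuadraticMap.polar_comm _ w, QuadraticMap.polar_comm _ w, h1 j, h2 j,
        K.hef, if_pos rfl]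
      ring
    have hTu : T hue = T (h1 i) + μ • K.e j + (-Q w) • K.f j := by
      refine uniq (hTe hue) ?_ (hTf hue) ?_ ?_
      · simp [QuadraticMap.polar_add_right, QuadraticMap.polar_neg_right,
          QuadraticMap.polar_smul_right, hTe (h1 i), K.hee, K.hef, hij]
      · simp [QuadraticMap.polar_add_right, QuadraticMap.polar_neg_right,
          QuadraticMap.polar_smul_right, hTf (h1 i), K.hfe, K.hff, hij]
      · rw [← hT hue]
        have hfj : ∀ c : F, γ (toP (K.root (K.e i) (c • K.f j))) = toP (K.root (K.e i) (c • K.f j)) := by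
          intro c
          obtain ⟨hv1, -, -, -, hv5⟩ := K.nElt_vals hjk (t := 1) (s := 1) (one_mul 1)
          obtain ⟨hv1', -, -, -, hv5'⟩ := K.nElt_vals hjk (t := μ) (s := μ⁻¹) (mul_inv_cancel₀ hμ.1)
          have hfix : ∀ g : V → V, (∀ v, polar Q (K.e j) v = 0 → polar Q (K.e k) v = 0 →
              polar Q (K.f j) v = 0 → polar Q (K.f k) v = 0 → g v = v) → g (K.e i) = K.e i := fun g hg =>
            hg _ (K.hee j i) (K.hee k i) (by simp [K.hfe, hij.symm]) (by simp [K.hfe, hik.symm])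
          obtain ⟨g, hg⟩ : ∃ g, g = K.nElt k j 1 1 := ⟨_, rfl⟩
          obtain ⟨g', hg'⟩ : ∃ g', g' = K.nElt k j μ μ⁻¹ := ⟨_, rfl⟩
          obtain ⟨hw1, -, -, -, hw5⟩ := K.nElt_vals hjk.symm (t := 1) (s := 1) (one_mul 1)
          obtain ⟨hw1', -, -, -, hw5'⟩ := K.nElt_vals hjk.symm (t := μ) (s := μ⁻¹) (mul_inv_cancel₀ hμ.1)
          have hgg : γ (toP g) = toP g' := by
            rw [hg, hg', hμ.image_n, mul_one, mul_one]
          have e1 : g * K.root (K.e i) (c • K.e k) * g⁻¹ = K.root (K.e i) (c • K.f j) := by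
            rw [K.root_conj, hg, hw5 _ (K.hee k i) (K.hee j i) (by simp [K.hfe, hik.symm])
              (by simp [K.hfe, hij.symm]), map_smul, hw1, one_smul]
          have e2 : g' * K.root (K.e i) ((μ * c) • K.e k) * g'⁻¹ = K.root (K.e i) (c • K.f j) := by
            rw [K.root_conj, hg', hw5' _ (K.hee k i) (K.hee j i) (by simp [K.hfe, hik.symm])
              (by simp [K.hfe, hij.symm]), map_smul, hw1', smul_smul, mul_comm μ c,
              mul_inv_cancel_right₀ hμ.1]
          rw [← e1, toP_conj_image hgg (hμ.image_x i k c), e2, e1]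
        have hej := hμ.image_x i j 1
        rw [one_smul, mul_one] at hej
        rw [K.root_add (K.he i) (by simp [QuadraticMap.polar_add_right, h1 i, K.hee])
            (by simp [QuadraticMap.polar_neg_right, QuadraticMap.polar_smul_right, K.hef, hij]),
          K.root_add (K.he i) (h1 i) (K.hee i j),
          K.root_add (K.he i) (by simp [QuadraticMap.polar_add_right, QuadraticMap.polar_smul_right,
              hTe (h1 i), K.hee])
            (by simp [QuadraticMap.polar_neg_right, QuadraticMap.polar_smul_right, K.hef, hij]),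
          K.root_add (K.he i) (hTe (h1 i)) (by simp [QuadraticMap.polar_smul_right, K.hee]),
          map_mul, map_mul, map_mul, map_mul, hT (h1 i), hej, hfj, map_mul, map_mul]
    have h0 := hTQ hue huQ
    rw [hTu, quad_map_add_smul, quad_map_add_smul, K.he, K.hf, QuadraticMap.polar_add_left,
      QuadraticMap.polar_smul_left, QuadraticMap.polar_comm _ (T (h1 i)),
      QuadraticMap.polar_comm _ (T (h1 i)), hW1 j, hW2 j, K.hef, if_pos rfl, smul_eq_mul] at h0
    linear_combination h0
  · have hs : polar Q (K.e i) (w + w') = 0 := by rw [QuadraticMap.polar_add_right, h1, h1', add_zero]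
    rw [val hs, val (h1 i), val (h1' i)]
    refine uniq (hTe hs) (by rw [QuadraticMap.polar_add_right, hTe, hTe, add_zero]) (hTf hs)
      (by rw [QuadraticMap.polar_add_right, hTf, hTf, add_zero]) ?_
    rw [← hT hs, K.root_add (K.he i) (h1 i) (h1' i), K.root_add (K.he i) (hTe _) (hTe _), map_mul,
      map_mul, hT (h1 i), hT (h1' i), map_mul]
  · have hs : polar Q (K.e i) (a • w) = 0 := by rw [QuadraticMap.polar_smul_right, h1, smul_zero]
    rw [val hs, val (h1 i)]
    by_cases ha : a = 0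
    · refine uniq (hTe hs) (by simp [QuadraticMap.polar_smul_right, hTe (h1 i)]) (hTf hs)
        (by simp [QuadraticMap.polar_smul_right, hTf (h1 i)]) ?_
      rw [← hT hs, ha, zero_smul, zero_smul, show K.root (K.e i) (0 : V) = 1 from
        Subtype.ext (siegel_zero Q _), map_one, map_one]
    obtain ⟨t, rfl⟩ : ∃ t, a = -t := ⟨-a, (neg_neg a).symm⟩
    have ht : t ≠ 0 := fun h0 => ha (by rw [h0, neg_zero])
    obtain ⟨u, hu⟩ : ∃ u, u = K.nElt i j t t⁻¹ * K.nElt i j 1 1 := ⟨_, rfl⟩
    obtain ⟨u', hu'⟩ : ∃ u', u' = K.nElt i j (μ * t) (μ * t)⁻¹ * K.nElt i j μ μ⁻¹ := ⟨_, rfl⟩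
    have hμt : μ * t ≠ 0 := mul_ne_zero hμ.1 ht
    have huu : γ (toP u) = toP u' := by
      rw [hu, hu', map_mul, map_mul, hμ.image_n, hμ.image_n, mul_one, mul_one, mul_inv, map_mul]
    obtain ⟨a1, -, -, a4, a5⟩ := K.nElt_vals hij (t := t) (s := t⁻¹) (mul_inv_cancel₀ ht)
    obtain ⟨b1, -, -, -, b5⟩ := K.nElt_vals hij (t := 1) (s := 1) (one_mul 1)
    obtain ⟨c1, -, -, c4, c5⟩ := K.nElt_vals hij (t := μ * t) (s := (μ * t)⁻¹) (mul_inv_cancel₀ hμt)
    obtain ⟨d1, -, -, -, d5⟩ := K.nElt_vals hij (t := μ) (s := μ⁻¹) (mul_inv_cancel₀ hμ.1)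
    obtain ⟨hW1, hW2⟩ := hW w h1 h2 (h1 i)
    have e1 : u * K.root (K.e i) w * u⁻¹ = K.root (K.e i) ((-t) • w) := by
      rw [K.root_conj, hu, omega_mul_apply, b1, one_smul, a4, omega_mul_apply,
        b5 _ (h1 i) (h1 j) (h2 i) (h2 j), a5 _ (h1 i) (h1 j) (h2 i) (h2 j), ← neg_smul,
        K.root_smul (K.he i) (h1 i)]
    have e2 : u' * K.root (K.e i) (T (h1 i)) * u'⁻¹ = K.root (K.e i) ((-t) • T (h1 i)) := by
      rw [K.root_conj, hu', omega_mul_apply, d1, map_smul, c4, omega_mul_apply,
        d5 _ (hW1 i) (hW1 j) (hW2 i) (hW2 j), c5 _ (hW1 i) (hW1 j) (hW2 i) (hW2 j), smul_neg, smul_smul,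
        inv_mul_cancel_left₀ hμ.1, ← neg_smul, K.root_smul (K.he i) (hTe _)]
    refine uniq (hTe hs) (by rw [QuadraticMap.polar_smul_right, hTe, smul_zero]) (hTf hs)
      (by rw [QuadraticMap.polar_smul_right, hTf, smul_zero]) ?_
    rw [← hT hs, ← e1, toP_conj_image huu (hT (h1 i)), e2]

include K in
/-- Every automorphism is induced by a semisimilarity. -/
theorem exists_semiSim (hbig : BigEnough F V m) (hlift : K.FieldLift) (β : MulAut (POmG Q)) :
    ∃ S : SemiSim Q, β = S.aut := by
  obtain ⟨S₁, hS₁⟩ := K.exists_fixesFrame hbig hlift β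
  obtain ⟨γ, hγ⟩ : ∃ γ, γ = S₁.aut⁻¹ * β := ⟨_, rfl⟩
  rw [← hγ] at hS₁
  suffices ∃ S : SemiSim Q, γ = S.aut by
    obtain ⟨S, hS⟩ := this
    exact ⟨S.trans S₁, by rw [SemiSim.aut_trans, ← hS, hγ, mul_inv_cancel_left]⟩
  obtain ⟨μ, hμ⟩ := K.exists_scalars hbig hS₁
  have hm := K.hm
  obtain ⟨i, j, k, hij, hjk, hik⟩ : ∃ i j k : Fin m, i ≠ j ∧ j ≠ k ∧ i ≠ k :=
    ⟨⟨0, by omega⟩, ⟨1, by omega⟩, ⟨2, by omega⟩, by simp [Fin.ext_iff], by simp [Fin.ext_iff],
      by simp [Fin.ext_iff]⟩
  obtain ⟨T, hT, hTadd, hTsmul⟩ := K.exists_wmap hS₁ hμ i j k hij hjk hik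
  let g : V →ₗ[F] V :=
    { toFun := fun v => ∑ l, (μ * polar Q (K.f l) v) • K.e l + ∑ l, polar Q (K.e l) v • K.f l +
        T (K.wproj v)
      map_add' := fun u v => by
        rw [K.wproj_add, hTadd _ _ (fun l => K.polar_e_wproj l u) (fun l => K.polar_f_wproj l u)
          (fun l => K.polar_e_wproj l v) (fun l => K.polar_f_wproj l v)]
        simp only [QuadraticMap.polar_add_right, mul_add, add_smul, Finset.sum_add_distrib]
        abel
      map_smul' := fun a v => by
        rw [K.wproj_smul, hTsmul a _ (fun l => K.polar_e_wproj l v) (fun l => K.polar_f_wproj l v)]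
        simp only [RingHom.id_apply, QuadraticMap.polar_smul_right, smul_eq_mul, smul_add,
          Finset.smul_sum, smul_smul, mul_left_comm] }
  have gval : ∀ v, g v = ∑ l, (μ * polar Q (K.f l) v) • K.e l + ∑ l, polar Q (K.e l) v • K.f l +
      T (K.wproj v) := fun _ => rfl
  have ge : ∀ v l, polar Q (K.e l) (g v) = polar Q (K.e l) v := fun v l => by
    rw [gval, QuadraticMap.polar_add_right, QuadraticMap.polar_add_right, polar_sum_right,
      polar_sum_right, (hT _ (fun l => K.polar_e_wproj l v) (fun l => K.polar_f_wproj l v)).1 l]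
    simp [K.hee, K.hef]
  have gf : ∀ v l, polar Q (K.f l) (g v) = μ * polar Q (K.f l) v := fun v l => by
    rw [gval, QuadraticMap.polar_add_right, QuadraticMap.polar_add_right, polar_sum_right,
      polar_sum_right, (hT _ (fun l => K.polar_e_wproj l v) (fun l => K.polar_f_wproj l v)).2.1 l]
    simp [K.hff, K.hfe]
  have gw : ∀ v, K.wproj (g v) = T (K.wproj v) := fun v => by
    have h := K.decomp (g v)
    simp only [gf, ge] at h
    conv_lhs at h => rw [gval]
    exact (add_left_cancel h).symm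
  have gQ : ∀ v, Q (g v) = μ * Q v := fun v => by
    rw [K.quad_decomp (g v), gw, (hT _ (fun l => K.polar_e_wproj l v) (fun l => K.polar_f_wproj l v)).2.2.2,
      K.quad_decomp v, mul_add, Finset.mul_sum]
    simp only [gf, ge, mul_assoc]
  have ginj : Function.Injective g := (injective_iff_map_eq_zero g).2 fun v hv => K.sep v fun y => by
    have h : polar Q (g v) (g y) = μ * polar Q v y := by
      simp only [polar, ← map_add, gQ]; ring
    rw [hv, QuadraticMap.polar_zero_left] at h
    exact (mul_eq_zero.1 h.symm).resolve_left hμ.1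
  have hfinV : Finite V := Module.finite_of_finite F
  let S : SemiSim Q :=
    { map := (LinearEquiv.ofBijective g ⟨ginj, Finite.injective_iff_surjective.1 ginj⟩).toAddEquiv
      σ := RingEquiv.refl F
      c := Units.mk0 μ hμ.1
      map_smul := fun a v => g.map_smul a v
      map_quad := fun v => gQ v }
  have Sval : ∀ v, S.map v = g v := fun _ => rfl
  refine ⟨S, ?_⟩
  have ge' : ∀ l, g (K.e l) = μ • K.e l := fun l => by
    have h0 : K.wproj (K.e l) = 0 := by simp [wproj, K.hee, K.hfe]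
    have h1 := hTsmul 0 0 (fun _ => QuadraticMap.polar_zero_right _ _)
      (fun _ => QuadraticMap.polar_zero_right _ _)
    rw [zero_smul, zero_smul] at h1
    rw [gval, h0, h1]
    simp [K.hee, K.hfe, mul_ite]
  have gf' : ∀ l, g (K.f l) = K.f l := fun l => by
    have h0 : K.wproj (K.f l) = 0 := by simp [wproj, K.hff, K.hef]
    have h1 := hTsmul 0 0 (fun _ => QuadraticMap.polar_zero_right _ _)
      (fun _ => QuadraticMap.polar_zero_right _ _)
    rw [zero_smul, zero_smul] at h1
    rw [gval, h0, h1]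
    simp [K.hff, K.hef]
  have Saut : ∀ {x w}, Q x = 0 → polar Q x w = 0 →
      S.aut (toP (K.root x w)) = toP (K.root (g x) (μ⁻¹ • g w)) := by
    intro x w hx hw
    rw [S.aut_toP]
    refine congrArg toP (Subtype.ext ?_)
    rw [S.conjOm_coe, root_coe, root_coe, S.conj_siegel hx hw, Units.val_inv_eq_inv_val]
    rfl
  obtain ⟨δ, hδ⟩ : ∃ δ, δ = S.aut⁻¹ * γ := ⟨_, rfl⟩
  suffices δ = 1 by rw [hδ, inv_mul_eq_one] at this; exact this.symm
  have hfix : ∀ {x w}, γ (toP (K.root x w)) = S.aut (toP (K.root x w)) →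
      δ (toP (K.root x w)) = toP (K.root x w) := fun {x w} e => by
    rw [hδ, MulAut.mul_apply, e, MulAut.inv_apply, MulEquiv.symm_apply_apply]
  let Fx : Subgroup (OmG Q) :=
    { carrier := {r | δ (toP r) = toP r}
      one_mem' := by simp
      mul_mem' := fun {a b} (ha : δ (toP a) = toP a) (hb : δ (toP b) = toP b) =>
        show δ (toP (a * b)) = toP (a * b) by rw [map_mul, map_mul, ha, hb]
      inv_mem' := fun {a} (ha : δ (toP a) = toP a) => show δ (toP a⁻¹) = toP a⁻¹ by
        rw [map_inv, map_inv, ha] }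
  have hFx : ∀ {r}, r ∈ Fx ↔ δ (toP r) = toP r := Iff.rfl
  have hxE : ∀ a b t, K.root (K.e a) (t • K.e b) ∈ Fx := fun a b t => hFx.2 (hfix (by
    rw [hμ.image_x, Saut (K.he a) (by rw [QuadraticMap.polar_smul_right, K.hee, smul_zero]), map_smul,
      ge', ge', K.root_smul (K.he a) (by simp [QuadraticMap.polar_smul_right, K.hee]),
      smul_smul, smul_smul, smul_smul]
    congr 3
    field_simp [hμ.1]))
  have hyE : ∀ a b t, K.root (K.f a) (t • K.f b) ∈ Fx := fun a b t => hFx.2 (hfix (by
    rw [hμ.image_y, Saut (K.hf a) (by rw [QuadraticMap.polar_smul_right, K.hff, smul_zero]), map_smul,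
      gf', gf', smul_smul]))
  have hrad : ∀ w, polar Q (K.e i) w = 0 → K.root (K.e i) w ∈ Fx := by
    intro w hw
    have hwd : ∀ v, (∀ l, polar Q (K.e l) v = 0) → (∀ l, polar Q (K.f l) v = 0) →
        K.root (K.e i) v ∈ Fx := fun v h1 h2 => hFx.2 (hfix (by
      obtain ⟨t1, -, t3, -⟩ := hT v h1 h2
      rw [t3, Saut (K.he i) (h1 i), ge', K.root_smul (K.he i)
        (by rw [QuadraticMap.polar_smul_right, ge v i, h1 i, smul_zero]),
        smul_smul, mul_inv_cancel₀ hμ.1, one_smul]
      congr 2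
      rw [gval, K.wproj_of_perp h1 h2]
      simp [h1, h2]))
    have hfl : ∀ l, l ≠ i → ∀ c : F, K.root (K.e i) (c • K.f l) ∈ Fx := by
      intro l hl c
      obtain ⟨l', hl'i, hll'⟩ : ∃ l', l' ≠ i ∧ l' ≠ l := by
        by_cases hlj : l = j
        · exact ⟨k, hik.symm, by rw [hlj]; exact hjk.symm⟩
        · exact ⟨j, hij.symm, Ne.symm hlj⟩
      obtain ⟨v1, -, -, -, v5⟩ := K.nElt_vals hll' (t := 1) (s := 1) (one_mul 1)
      have hn : K.nElt l' l 1 1 ∈ Fx :=
        Fx.mul_mem (Fx.mul_mem (hxE l' l 1) (hyE l' l 1)) (hxE l' l 1)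
      have e : K.nElt l' l 1 1 * K.root (K.e i) (c • K.e l') * (K.nElt l' l 1 1)⁻¹ =
          K.root (K.e i) (c • K.f l) := by
        rw [K.root_conj, v5 _ (K.hee l' i) (K.hee l i) (by simp [K.hfe, hl'i]) (by simp [K.hfe, hl]),
          map_smul, v1, one_smul]
      rw [← e]
      exact Fx.mul_mem (Fx.mul_mem hn (hxE i l' c)) (Fx.inv_mem hn)
    have hsum : ∀ (s : Finset (Fin m)) (u : Fin m → V), (∀ l, polar Q (K.e i) (u l) = 0) →
        (∀ l, K.root (K.e i) (u l) ∈ Fx) → K.root (K.e i) (∑ l ∈ s, u l) ∈ Fx := by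
      intro s u h1 h2
      induction s using Finset.induction with
      | empty =>
        rw [Finset.sum_empty, show K.root (K.e i) (0 : V) = 1 from Subtype.ext (siegel_zero Q _)]
        exact Fx.one_mem
      | insert a s ha ih =>
        rw [Finset.sum_insert ha, K.root_add (K.he i) (h1 a) (by
          rw [show polar Q (K.e i) (∑ l ∈ s, u l) =
            QuadraticMap.polarBilin Q (K.e i) (∑ l ∈ s, u l) from rfl, map_sum]
          simp [h1])]
        exact Fx.mul_mem (h2 a) ih
    have h1 : ∀ l, polar Q (K.e i) (polar Q (K.f l) w • K.e l) = 0 := fun l => by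
      rw [QuadraticMap.polar_smul_right, K.hee, smul_zero]
    have h2 : ∀ l, polar Q (K.e i) (polar Q (K.e l) w • K.f l) = 0 := fun l => by
      rw [QuadraticMap.polar_smul_right, K.hef]
      by_cases h : i = l
      · subst h; simp [hw]
      · simp [h]
    rw [K.decomp w, K.root_add (K.he i)
      (by simp [QuadraticMap.polar_add_right, polar_sum_right, K.hee, K.hef, hw]) (K.polar_e_wproj i w),
      K.root_add (K.he i) (by simp [polar_sum_right, K.hee]) (by simp [polar_sum_right, K.hef, hw])]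
    refine Fx.mul_mem (Fx.mul_mem (hsum _ _ h1 fun l => hxE i l _) (hsum _ _ h2 fun l => ?_))
      (hwd _ (fun l => K.polar_e_wproj l w) fun l => K.polar_f_wproj l w)
    by_cases hl : l = i
    · subst hl
      rw [hw, zero_smul, show K.root (K.e l) (0 : V) = 1 from Subtype.ext (siegel_zero Q _)]
      exact Fx.one_mem
    · exact hfl l hl _
  -- an element of the fixed subgroup taking `e i` to a multiple of `f i`
  have hnFx : ∀ a b, K.nElt a b 1 1 ∈ Fx := fun a b =>
    Fx.mul_mem (Fx.mul_mem (hxE a b 1) (hyE a b 1)) (hxE a b 1)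
  obtain ⟨r, hr, hre⟩ : ∃ r ∈ Fx, r.1.1 (K.e i) = K.f i := by
    refine ⟨K.nElt k i 1 1 * (K.nElt j k 1 1 * K.nElt i j 1 1),
      Fx.mul_mem (hnFx k i) (Fx.mul_mem (hnFx j k) (hnFx i j)), ?_⟩
    obtain ⟨a1, -, -, -, -⟩ := K.nElt_vals hij (t := 1) (s := 1) (one_mul 1)
    obtain ⟨-, -, b3, -, -⟩ := K.nElt_vals hjk (t := 1) (s := 1) (one_mul 1)
    obtain ⟨c1, -, -, -, -⟩ := K.nElt_vals hik.symm (t := 1) (s := 1) (one_mul 1)
    rw [omega_mul_apply, omega_mul_apply, a1, one_smul, b3, one_smul, c1, one_smul]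
  have hradf : ∀ w, polar Q (K.f i) w = 0 → K.root (K.f i) w ∈ Fx := by
    intro w hw
    obtain ⟨v, rfl⟩ := r.1.1.surjective w
    rw [← hre, ← K.root_conj]
    refine Fx.mul_mem (Fx.mul_mem hr (hrad v ?_)) (Fx.inv_mem hr)
    rw [← hre, polar_quadIsom r.1.2] at hw
    exact hw
  have hnear : ∀ x, Q x = 0 → polar Q (K.e i) x ≠ 0 → ∀ w, polar Q x w = 0 → K.root x w ∈ Fx := by
    intro x hx hne w hw
    obtain ⟨x', hx'⟩ : ∃ x', x' = (polar Q (K.e i) x)⁻¹ • x := ⟨_, rfl⟩
    have hxx : polar Q (K.e i) x' = 1 := by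
      rw [hx', QuadraticMap.polar_smul_right, smul_eq_mul, inv_mul_cancel₀ hne]
    have hef : polar Q (K.e i) (K.f i) = 1 := by simp [K.hef]
    have hQ' : Q x' = 0 := by rw [hx', quad_smul, hx, mul_zero]
    have hs := siegel_move Q (K.he i) hef hxx (by rw [hQ', K.hf])
    have hu : polar Q (K.e i) (x' - K.f i) = 0 := by
      rw [QuadraticMap.polar_sub_right, hxx, hef, sub_self]
    have hsFx := hrad _ hu
    have hxe : x = polar Q (K.e i) x • x' := by rw [hx', smul_inv_smul₀ hne]
    have hw' : polar Q x' w = 0 := by rw [hx', QuadraticMap.polar_smul_left, hw, smul_zero]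
    rw [hxe, K.root_smul hQ' hw']
    obtain ⟨v, hv⟩ := (siegel Q (K.e i) (x' - K.f i)).1.surjective (polar Q (K.e i) x • w)
    rw [← hs, ← hv, ← K.root_coe, ← K.root_conj]
    refine Fx.mul_mem (Fx.mul_mem hsFx (hradf v ?_)) (Fx.inv_mem hsFx)
    rw [← polar_quadIsom (siegel Q (K.e i) (x' - K.f i)).2, hs, hv, QuadraticMap.polar_smul_right, hw',
      smul_zero]
  have hall : ∀ x w, K.root x w ∈ Fx := by
    intro x w
    by_cases hc : Q x = 0 ∧ polar Q x w = 0 ∧ x ≠ 0
    swap
    · have : K.root x w = 1 := Subtype.ext (by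
        rw [root_coe, Subgroup.coe_one]
        by_cases hd : Q x = 0 ∧ polar Q x w = 0
        · rw [show x = 0 from by_contra fun h => hc ⟨hd.1, hd.2, h⟩, siegel_zero_left]
        · exact siegel_of_not Q hd)
      rw [this]; exact Fx.one_mem
    obtain ⟨hx, hw, hx0⟩ := hc
    by_cases hne : polar Q (K.e i) x = 0
    swap
    · exact hnear x hx hne w hw
    obtain ⟨u, hu1, hu2, hu3⟩ : ∃ u, polar Q (K.e i) u = 0 ∧ polar Q (K.f i) u = 0 ∧
        polar Q u x + Q u * polar Q (K.f i) x ≠ 0 := by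
      by_contra hcon
      have key : ∀ u, polar Q (K.e i) u = 0 → polar Q (K.f i) u = 0 →
          polar Q u x + Q u * polar Q (K.f i) x = 0 :=
        fun u a b => by_contra fun h => hcon ⟨u, a, b, h⟩
      have he' : ∀ l, polar Q (K.e l) x = 0 := fun l => by
        by_cases hl : l = i
        · rw [hl, hne]
        · simpa [K.he] using key (K.e l) (K.hee i l) (by simp [K.hfe, Ne.symm hl])
      have hf' : ∀ l, l ≠ i → polar Q (K.f l) x = 0 := fun l hl => by
        simpa [K.hf] using key (K.f l) (by simp [K.hef, Ne.symm hl]) (K.hff i l)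
      have h := key (K.e j + K.f j) (by simp [QuadraticMap.polar_add_right, K.hee, K.hef, hij])
        (by simp [QuadraticMap.polar_add_right, K.hfe, K.hff, hij])
      rw [QuadraticMap.polar_add_left, he' j, hf' j hij.symm, QuadraticMap.map_add (Q : QuadraticMap F V F),
        K.he, K.hf, K.hef, if_pos rfl] at h
      refine hx0 ((K.eq_sum_e hx he').trans (Finset.sum_eq_zero fun l _ => ?_))
      by_cases hl : l = i
      · subst hl
        rw [show polar Q (K.f l) x = 0 by linear_combination h, zero_smul]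
      · rw [hf' l hl, zero_smul]
    have hsFx := hradf u hu2
    have hmove : polar Q (K.e i) ((siegel Q (K.f i) u).1 x) ≠ 0 := by
      rw [siegel_apply Q (K.hf i) hu2, QuadraticMap.polar_sub_right, QuadraticMap.polar_add_right,
        QuadraticMap.polar_smul_right, QuadraticMap.polar_smul_right, hne, hu1, K.hef, if_pos rfl]
      intro h
      simp at h
      exact hu3 (by linear_combination -h)
    have := hnear _ (by rw [mem_quadIsoms.1 (siegel Q (K.f i) u).2, hx]) hmove
      ((siegel Q (K.f i) u).1 w) (by rw [polar_quadIsom (siegel Q (K.f i) u).2, hw])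
    rw [← K.root_coe (K.f i) u, ← K.root_conj] at this
    have h2 := Fx.mul_mem (Fx.mul_mem (Fx.inv_mem hsFx) this) hsFx
    simpa [mul_assoc] using h2
  refine MulEquiv.ext fun z => ?_
  obtain ⟨g, rfl⟩ := toP_surjective z
  rw [MulAut.one_apply, ← hFx]
  have hg : g.1 ∈ siegelGroup Q := commutator_eq_siegelGroup Q K.sep K.five_le ▸ g.2
  suffices ∀ t ∈ siegelGroup Q, ∀ ht : t ∈ commutator (quadIsoms Q), (⟨t, ht⟩ : OmG Q) ∈ Fx from
    this g.1 hg g.2
  intro t ht
  unfold siegelGroup at ht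
  induction ht using Subgroup.closure_induction with
  | mem t ht =>
    intro ht'
    obtain ⟨⟨x, w⟩, he⟩ := ht
    rw [show (⟨t, ht'⟩ : OmG Q) = K.root x w from Subtype.ext he.symm]
    exact hall x w
  | one => intro _; exact Fx.one_mem
  | mul a b ha hb iha ihb =>
    intro _
    have hS := commutator_eq_siegelGroup Q K.sep K.five_le
    exact Fx.mul_mem (iha (hS ▸ ha)) (ihb (hS ▸ hb))
  | inv a ha iha =>
    intro _
    have hS := commutator_eq_siegelGroup Q K.sep K.five_le
    exact Fx.inv_mem (iha (hS ▸ ha))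

end OFrame

end CfsgLib.Classical
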