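import Mathlib
import Cfsg.Prelude.Def_LieTypeDatum
import Cfsg.Agent.Lib.Classical.OrthAutFinal
import Cfsg.Agent.Lib.Classical.OrthOmega

/-!
Automorphisms of `PΩ`, part 10: the statement for matrix groups.
-/

set_option autoImplicit false
set_option linter.unusedSectionVars false

namespace CfsgLib.Classical

open CfsgLib.Geom
open Matrix
open QuadraticMap (polar)

variable {F : Type*} [Field F] [Finite F] {ι : Type} [Fintype ι] [DecidableEq ι]

/-- The two models of `PΩ`. -/
noncomputable def pOmegaEquiv (Q : QuadraticForm F (ι → F)) : POmG Q ≃* Cfsg.POmega F (⇑Q) :=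
  centerQuotCongr (omegaEquiv Q)

theorem pOmegaEquiv_toP (Q : QuadraticForm F (ι → F)) (k : OmG Q) :
    pOmegaEquiv Q (toP k) = QuotientGroup.mk (omegaEquiv Q k) := rfl

theorem omegaEquiv_mulVec (Q : QuadraticForm F (ι → F)) (k : OmG Q) (v : ι → F) :
    (((omegaEquiv Q k : ↥(Cfsg.isometryGroup F (⇑Q))) : GL ι F) : Matrix ι ι F) *ᵥ v = k.1.1 v := by
  rw [omegaEquiv_coe]
  exact orEquiv_mulVec Q k.1 v

namespace SemiSim

variable {Q : QuadraticForm F (ι → F)} (S : SemiSim Q)

/-- The linear part of a semisimilarity of a coordinate space. -/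
def linPart : (ι → F) →ₗ[F] (ι → F) where
  toFun v := S.map fun i => S.σ.symm (v i)
  map_add' u v := by rw [← map_add]; congr 1; funext i; simp
  map_smul' a v := by
    rw [RingHom.id_apply,
      show (fun i => S.σ.symm ((a • v) i)) = S.σ.symm a • fun i => S.σ.symm (v i) by funext i; simp,
      S.map_smul, RingEquiv.apply_symm_apply]

theorem linPart_map (v : ι → F) : S.linPart (fun i => S.σ (v i)) = S.map v := by
  show S.map _ = _
  simp

theorem linPart_bijective : Function.Bijective S.linPart := by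
  have h : Function.Injective S.linPart := fun u v e => funext fun i =>
    S.σ.symm.injective (congrFun (S.map.injective e) i)
  exact ⟨h, Finite.injective_iff_surjective.1 h⟩

/-- Its matrix. -/
noncomputable def gl : GL ι F :=
  glOfEquiv (LinearEquiv.ofBijective S.linPart S.linPart_bijective)

theorem gl_mulVec (v : ι → F) : (S.gl : Matrix ι ι F) *ᵥ (fun i => S.σ (v i)) = S.map v := by
  rw [gl, glOfEquiv_mulVec]
  exact S.linPart_map v

theorem gl_inv_mulVec (v : ι → F) :
    ((S.gl⁻¹ : GL ι F) : Matrix ι ι F) *ᵥ v = fun i => S.σ (S.map.symm v i) := by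
  conv_lhs => rw [← S.map.apply_symm_apply v, ← S.gl_mulVec (S.map.symm v), mulVec_mulVec,
    ← Units.val_mul, inv_mul_cancel, Units.val_one, one_mulVec]

theorem isSemisimilarityPair : Cfsg.IsSemisimilarityPair (⇑Q) S.gl S.σ :=
  ⟨S.c, fun v => by rw [S.gl_mulVec, S.map_quad]⟩

theorem isInduced :
    Cfsg.IsInducedBySemilinearPOmega (⇑Q) S.gl S.σ
      (((pOmegaEquiv Q).symm.trans S.aut).trans (pOmegaEquiv Q)) := by
  intro s s' h
  obtain ⟨k, rfl⟩ := (omegaEquiv Q).surjective s
  have h' : s' = omegaEquiv Q (S.conjOm k) := by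
    refine Subtype.ext (Subtype.ext (Units.ext (Matrix.ext_iff_mulVec.2 fun v => ?_)))
    rw [h, omegaEquiv_mulVec, S.conjOm_coe, S.conj_apply, ← mulVec_mulVec, ← mulVec_mulVec,
      gl_inv_mulVec, ← S.gl_mulVec (k.1.1 (S.map.symm v))]
    congr 1
    funext i
    rw [← omegaEquiv_mulVec]
    exact (RingHom.map_mulVec (S.σ : F →+* F) _ _ i).symm
  show pOmegaEquiv Q (S.aut ((pOmegaEquiv Q).symm (QuotientGroup.mk (omegaEquiv Q k)))) = _
  rw [← pOmegaEquiv_toP, MulEquiv.symm_apply_apply, S.aut_toP, pOmegaEquiv_toP, h']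

end SemiSim

/-- All automorphisms come from semisimilarities. -/
theorem gammaPOmega_eq_top {m : ℕ} (Q : QuadraticForm F (ι → F)) (K : OFrame Q m)
    (hbig : BigEnough F (ι → F) m) (hlift : K.FieldLift) : Cfsg.gammaPOmega F (⇑Q) = ⊤ := by
  refine eq_top_iff.2 fun β _ => Subgroup.subset_closure ?_
  obtain ⟨S, hS⟩ := K.exists_semiSim hbig hlift
    (((pOmegaEquiv Q).trans β).trans (pOmegaEquiv Q).symm)
  refine ⟨S.gl, S.σ, S.isSemisimilarityPair, ?_⟩
  have e : β = ((pOmegaEquiv Q).symm.trans S.aut).trans (pOmegaEquiv Q) := by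
    rw [← hS]
    exact MulEquiv.ext fun x => by simp
  rw [e]
  exact S.isInduced

end CfsgLib.Classical
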