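import Mathlib
import Cfsg.Agent.Lib.Classical.OrthAutMatrix
import Cfsg.Agent.Lib.Classical.StdQuad

/-!
Automorphisms of `PΩ`, part 11: the three standard forms.
-/

set_option autoImplicit false
set_option linter.unusedSectionVars false
set_option linter.unusedVariables false

namespace CfsgLib.Classical

open CfsgLib.Geom
open QuadraticMap (polar)

variable {F : Type*} [Field F] [Fintype F]

theorem four_le_of_big {m n : ℕ} (hm : 3 ≤ m) (h : 4 ≤ m → 8 < n) : m = 3 ∨ 4 ≤ m ∧ 8 < n := by
  by_cases h3 : m = 3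
  · exact Or.inl h3
  · exact Or.inr ⟨by omega, h (by omega)⟩

/-- The standard frame of the plus form. -/
noncomputable def framePlus (m : ℕ) (hm : 3 ≤ m) : OFrame (qfPlus m F) m where
  sep := qfPlus_sep m
  hm := hm
  e i := Pi.single (.inl i) 1
  f i := Pi.single (.inr i) 1
  he i := by simp [qfPlus_apply, Cfsg.quadFormPlus, Pi.single_apply]
  hf i := by simp [qfPlus_apply, Cfsg.quadFormPlus, Pi.single_apply]
  hee i j := by simp [polar_qfPlus, Pi.single_apply]
  hff i j := by simp [polar_qfPlus, Pi.single_apply]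
  hef i j := by simp [polar_qfPlus, Pi.single_apply, eq_comm]
  aniso w h1 h2 _ := by
    funext k
    rcases k with i | i
    · simpa [polar_qfPlus, Pi.single_apply] using h2 i
    · simpa [polar_qfPlus, Pi.single_apply] using h1 i

/-- The standard frame of the odd form. -/
noncomputable def frameOdd (h2 : (2 : F) ≠ 0) (m : ℕ) (hm : 3 ≤ m) : OFrame (qfOdd m F) m where
  sep := qfOdd_sep h2 m
  hm := hm
  e i := Pi.single (.inr (.inl i)) 1
  f i := Pi.single (.inr (.inr i)) 1
  he i := by simp [qfOdd_apply, Cfsg.quadFormOdd, Pi.single_apply]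
  hf i := by simp [qfOdd_apply, Cfsg.quadFormOdd, Pi.single_apply]
  hee i j := by simp [polar_qfOdd, Pi.single_apply]
  hff i j := by simp [polar_qfOdd, Pi.single_apply]
  hef i j := by simp [polar_qfOdd, Pi.single_apply, eq_comm]
  aniso w h1 h2' hQ := by
    have he : ∀ i, w (.inr (.inr i)) = 0 := fun i => by
      simpa [polar_qfOdd, Pi.single_apply] using h1 i
    have hf : ∀ i, w (.inr (.inl i)) = 0 := fun i => by
      simpa [polar_qfOdd, Pi.single_apply] using h2' i
    funext k
    rcases k with ⟨⟩ | i | i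
    · simpa [qfOdd_apply, Cfsg.quadFormOdd, he] using hQ
    · exact hf i
    · exact he i

/-- The standard frame of the minus form. -/
noncomputable def frameMinus (m : ℕ) (hm : 3 ≤ m) {a b : F}
    (hab : ∀ z₁ z₂ : F, z₁ ^ 2 + a * z₁ * z₂ + b * z₂ ^ 2 = 0 → z₁ = 0 ∧ z₂ = 0) :
    OFrame (qfMinus m F a b) m where
  sep := qfMinus_sep m hab
  hm := hm
  e i := Pi.single (.inl (.inl i)) 1
  f i := Pi.single (.inl (.inr i)) 1
  he i := by simp [qfMinus_apply, Cfsg.quadFormMinus, Pi.single_apply]
  hf i := by simp [qfMinus_apply, Cfsg.quadFormMinus, Pi.single_apply]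
  hee i j := by simp [polar_qfMinus, Pi.single_apply]
  hff i j := by simp [polar_qfMinus, Pi.single_apply]
  hef i j := by simp [polar_qfMinus, Pi.single_apply, eq_comm]
  aniso w h1 h2 hQ := by
    have he : ∀ i, w (.inl (.inr i)) = 0 := fun i => by
      simpa [polar_qfMinus, Pi.single_apply] using h1 i
    have hf : ∀ i, w (.inl (.inl i)) = 0 := fun i => by
      simpa [polar_qfMinus, Pi.single_apply] using h2 i
    have hz := hab (w (.inr 0)) (w (.inr 1)) (by
      simpa [qfMinus_apply, Cfsg.quadFormMinus, he] using hQ)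
    funext k
    rcases k with (i | i) | i
    · exact hf i
    · exact he i
    · fin_cases i
      · exact hz.1
      · exact hz.2

/-- A field automorphism applied to each coordinate, as an additive bijection. -/
def coordMap {ι : Type} (σ : F ≃+* F) : (ι → F) ≃+ (ι → F) where
  toFun v i := σ (v i)
  invFun v i := σ.symm (v i)
  left_inv v := funext fun i => σ.symm_apply_apply _
  right_inv v := funext fun i => σ.apply_symm_apply _
  map_add' u v := funext fun i => map_add σ _ _

theorem coordMap_single {ι : Type} [DecidableEq ι] (σ : F ≃+* F) (i : ι) :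
    coordMap σ (Pi.single i (1 : F)) = Pi.single i 1 := by
  funext j
  show σ _ = _
  by_cases h : j = i
  · subst h; simp
  · simp [h]

theorem fieldLift_plus (m : ℕ) (hm : 3 ≤ m) : (framePlus (F := F) m hm).FieldLift := fun σ =>
  ⟨{ map := coordMap σ
     σ := σ
     c := 1
     map_smul := fun a v => funext fun i => map_mul σ a (v i)
     map_quad := fun v => by simp [qfPlus_apply, Cfsg.quadFormPlus, coordMap, map_sum] },
    rfl, fun _ => coordMap_single σ _, fun _ => coordMap_single σ _⟩

theorem fieldLift_odd (h2 : (2 : F) ≠ 0) (m : ℕ) (hm : 3 ≤ m) : (frameOdd h2 m hm).FieldLift := fun σ =>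
  ⟨{ map := coordMap σ
     σ := σ
     c := 1
     map_smul := fun a v => funext fun i => map_mul σ a (v i)
     map_quad := fun v => by simp [qfOdd_apply, Cfsg.quadFormOdd, coordMap, map_sum] },
    rfl, fun _ => coordMap_single σ _, fun _ => coordMap_single σ _⟩

/-- Two anisotropic binary forms with leading coefficient one differ by a triangular substitution. -/
theorem exists_binary_subst {a b a' b' : F}
    (hab : ∀ z₁ z₂ : F, z₁ ^ 2 + a * z₁ * z₂ + b * z₂ ^ 2 = 0 → z₁ = 0 ∧ z₂ = 0)
    (hab' : ∀ z₁ z₂ : F, z₁ ^ 2 + a' * z₁ * z₂ + b' * z₂ ^ 2 = 0 → z₁ = 0 ∧ z₂ = 0) :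
    ∃ t r : F, r ≠ 0 ∧ 2 * t + a * r = a' ∧ t ^ 2 + a * r * t + b * r ^ 2 = b' := by
  by_cases h2 : (2 : F) = 0
  · have ha : a ≠ 0 := (two_ne_zero_or_ne_zero hab).resolve_left fun h => h h2
    have ha' : a' ≠ 0 := (two_ne_zero_or_ne_zero hab').resolve_left fun h => h h2
    let φ : F →+ F :=
      { toFun := fun s => s * s + s
        map_zero' := by simp
        map_add' := fun x y => by linear_combination (x * y) * h2 }
    have hker : φ.ker = AddSubgroup.closure {1} := by
      refine le_antisymm (fun s hs => ?_) ?_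
      · have h : s * (s + 1) = 0 := by
          have : s * s + s = 0 := hs
          linear_combination this
        rcases mul_eq_zero.1 h with h | h
        · rw [h]; exact zero_mem _
        · rw [show s = 1 by linear_combination h - h2]
          exact AddSubgroup.subset_closure rfl
      · rw [AddSubgroup.closure_le, Set.singleton_subset_iff]
        show (1 : F) * 1 + 1 = 0
        linear_combination h2
    have hidx : φ.range.index = 2 := by
      have h1 := AddSubgroup.card_mul_index φ.range
      have hk := AddSubgroup.card_mul_index φ.ker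
      rw [AddSubgroup.index_ker] at hk
      have hk2 : Nat.card φ.ker = 2 := by
        rw [hker, ← AddSubgroup.zmultiples_eq_closure, Nat.card_zmultiples,
          addOrderOf_eq_prime (p := 2) (by rw [two_nsmul]; linear_combination h2) one_ne_zero]
      rw [hk2] at hk
      rw [← hk, mul_comm 2] at h1
      exact Nat.eq_of_mul_eq_mul_left (Nat.card_pos) h1
    have hnot : ∀ {x y : F}, (∀ z₁ z₂ : F, z₁ ^ 2 + x * z₁ * z₂ + y * z₂ ^ 2 = 0 → z₁ = 0 ∧ z₂ = 0) →
        x ≠ 0 → y / x ^ 2 ∉ φ.range := by
      rintro x y hxy hx ⟨s, hs⟩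
      have hs' : s * s + s = y / x ^ 2 := hs
      refine one_ne_zero (hxy (x * s) 1 ?_).2
      field_simp at hs'
      linear_combination hs' + y * h2
    obtain ⟨s, hs⟩ : b' / a' ^ 2 - b / a ^ 2 ∈ φ.range := by
      have := AddSubgroup.add_mem_iff_of_index_two hidx (a := b' / a' ^ 2) (b := -(b / a ^ 2))
      rw [sub_eq_add_neg]
      exact this.2 (iff_of_false (hnot hab' ha') fun h => hnot hab ha (by simpa using h))
    have hs' : s * s + s = b' / a' ^ 2 - b / a ^ 2 := hs
    refine ⟨a' * s, a' / a, div_ne_zero ha' ha, ?_, ?_⟩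
    · field_simp
      linear_combination s * h2
    · field_simp at hs' ⊢
      linear_combination hs'
  · have hd : ¬ IsSquare (a * a - 4 * b) := fun ⟨c, hc⟩ => by
      refine one_ne_zero (hab ((-a + c) / 2) 1 ?_).2
      field_simp
      linear_combination -hc
    have hd' : ¬ IsSquare (a' * a' - 4 * b') := fun ⟨c, hc⟩ => by
      refine one_ne_zero (hab' ((-a' + c) / 2) 1 ?_).2
      field_simp
      linear_combination -hc
    obtain ⟨s, hs⟩ := isSquare_mul_of_not _ _ hd' hd
    have hD : a * a - 4 * b ≠ 0 := fun h => hd (by rw [h]; exact IsSquare.zero)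
    have hD' : a' * a' - 4 * b' ≠ 0 := fun h => hd' (by rw [h]; exact IsSquare.zero)
    have hs0 : s ≠ 0 := fun h => mul_ne_zero hD' hD (by rw [hs, h, mul_zero])
    obtain ⟨r, hr⟩ : ∃ r, r = s / (a * a - 4 * b) := ⟨_, rfl⟩
    have hr2 : r * r * (a * a - 4 * b) = a' * a' - 4 * b' := by
      rw [hr, div_mul_div_comm, ← hs]
      generalize a * a - 4 * b = D at hD ⊢
      field_simp
    refine ⟨(a' - a * r) / 2, r, by rw [hr]; exact div_ne_zero hs0 hD, by field_simp; ring, ?_⟩
    field_simp
    linear_combination -hr2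

theorem fieldLift_minus (m : ℕ) (hm : 3 ≤ m) {a b : F}
    (hab : ∀ z₁ z₂ : F, z₁ ^ 2 + a * z₁ * z₂ + b * z₂ ^ 2 = 0 → z₁ = 0 ∧ z₂ = 0) :
    (frameMinus m hm hab).FieldLift := by
  intro σ
  have habσ : ∀ z₁ z₂ : F, z₁ ^ 2 + σ a * z₁ * z₂ + σ b * z₂ ^ 2 = 0 → z₁ = 0 ∧ z₂ = 0 := by
    intro z₁ z₂ h
    obtain ⟨z₁, rfl⟩ := σ.surjective z₁
    obtain ⟨z₂, rfl⟩ := σ.surjective z₂
    rw [← map_pow, ← map_pow, ← map_mul, ← map_mul, ← map_mul, ← map_add, ← map_add,
      map_eq_zero_iff σ σ.injective] at h
    obtain ⟨h1, h2⟩ := hab _ _ h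
    simp [h1, h2]
  obtain ⟨t, r, hr, h1, h2⟩ := exists_binary_subst hab habσ
  let M : ((Fin m ⊕ Fin m) ⊕ Fin 2 → F) → ((Fin m ⊕ Fin m) ⊕ Fin 2 → F) := fun v k =>
    match k with
    | .inl k => σ (v (.inl k))
    | .inr i => ![σ (v (.inr 0)) + t * σ (v (.inr 1)), r * σ (v (.inr 1))] i
  have hMinj : Function.Injective M := by
    intro u v e
    funext k
    have e0 := congrFun e (.inr 0)
    have e1 := congrFun e (.inr 1)
    simp [M] at e0 e1
    rcases k with k | i
    · exact σ.injective (congrFun e (.inl k))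
    · have h1' : u (.inr 1) = v (.inr 1) := e1.resolve_right hr
      fin_cases i
      · rw [h1'] at e0
        exact σ.injective (add_right_cancel e0)
      · exact h1'
  let M' : ((Fin m ⊕ Fin m) ⊕ Fin 2 → F) →+ ((Fin m ⊕ Fin m) ⊕ Fin 2 → F) :=
    { toFun := M
      map_zero' := funext fun k => by
        rcases k with k | i
        · exact map_zero σ
        · fin_cases i <;> simp [M]
      map_add' := fun u v => funext fun k => by
        rcases k with k | i
        · exact map_add σ _ _
        · fin_cases i <;> simp [M] <;> ring }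
  refine ⟨{ map := AddEquiv.ofBijective M' ⟨hMinj, Finite.injective_iff_surjective.1 hMinj⟩
            σ := σ
            c := 1
            map_smul := ?_
            map_quad := ?_ }, rfl, fun i => ?_, fun i => ?_⟩
  · intro c v
    funext k
    show M (c • v) k = σ c * M v k
    rcases k with k | i
    · exact map_mul σ _ _
    · fin_cases i <;> simp [M] <;> ring
  · intro v
    show qfMinus m F a b (M v) = _
    simp [qfMinus_apply, Cfsg.quadFormMinus, M, map_sum, map_pow]
    linear_combination (σ (v (.inr 0)) * σ (v (.inr 1))) * h1 + (σ (v (.inr 1)) ^ 2) * h2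
  · show M _ = _
    funext k
    rcases k with k | l
    · show σ _ = _
      by_cases h : k = Sum.inl i <;> simp [frameMinus, h]
    · fin_cases l <;> simp [M, frameMinus]
  · show M _ = _
    funext k
    rcases k with k | l
    · show σ _ = _
      by_cases h : k = Sum.inr i <;> simp [frameMinus, h]
    · fin_cases l <;> simp [M, frameMinus]

end CfsgLib.Classical
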