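import Mathlib

/-!
# Centralizers and conjugation in `SL(2, F)`

Element-wise facts used for the subgroup theorem of Dickson.
-/

set_option autoImplicit false

namespace CfsgLib.Classical

open Matrix
open scoped MatrixGroups

variable {F : Type*} [Field F]

/-- `g` is a scalar matrix. -/
def IsScalarSL (g : SL(2, F)) : Prop :=
  g.1 0 1 = 0 ∧ g.1 1 0 = 0 ∧ g.1 0 0 = g.1 1 1

theorem slTwo_ext {g h : SL(2, F)} (h00 : g.1 0 0 = h.1 0 0) (h01 : g.1 0 1 = h.1 0 1)
    (h10 : g.1 1 0 = h.1 1 0) (h11 : g.1 1 1 = h.1 1 1) : g = h :=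
  Subtype.ext (Matrix.ext fun i j => by fin_cases i <;> fin_cases j <;> assumption)

theorem slTwo_det (g : SL(2, F)) : g.1 0 0 * g.1 1 1 - g.1 0 1 * g.1 1 0 = 1 :=
  (Matrix.det_fin_two g.1).symm.trans g.2

theorem slTwo_inv_apply (g : SL(2, F)) :
    (g⁻¹).1 0 0 = g.1 1 1 ∧ (g⁻¹).1 0 1 = -g.1 0 1 ∧ (g⁻¹).1 1 0 = -g.1 1 0 ∧
      (g⁻¹).1 1 1 = g.1 0 0 := by
  simp [Matrix.SpecialLinearGroup.coe_inv, Matrix.adjugate_fin_two]

theorem slTwo_mul_apply (g h : SL(2, F)) (i j : Fin 2) :
    (g * h).1 i j = g.1 i 0 * h.1 0 j + g.1 i 1 * h.1 1 j := by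
  rw [Matrix.SpecialLinearGroup.coe_mul, Matrix.mul_apply, Fin.sum_univ_two]

/-- The trace. -/
def trSL (g : SL(2, F)) : F := g.1 0 0 + g.1 1 1

theorem isScalarSL_cases {g : SL(2, F)} (h : IsScalarSL g) : g.1 = 1 ∨ g.1 = -1 := by
  obtain ⟨h01, h10, h11⟩ := h
  have hd := slTwo_det g
  rw [h01, h10, ← h11] at hd
  rcases mul_self_eq_one_iff.1 (show g.1 0 0 * g.1 0 0 = 1 by linear_combination hd) with h | h
  · left
    ext i j
    fin_cases i <;> fin_cases j <;> simp [h01, h10, ← h11, h]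
  · right
    ext i j
    fin_cases i <;> fin_cases j <;> simp [h01, h10, ← h11, h]

theorem isScalarSL_iff {g : SL(2, F)} : IsScalarSL g ↔ g.1 = 1 ∨ g.1 = -1 := by
  refine ⟨isScalarSL_cases, ?_⟩
  rintro (h | h) <;> simp [IsScalarSL, h]

theorem commute_of_isScalarSL {g : SL(2, F)} (h : IsScalarSL g) (x : SL(2, F)) : Commute g x := by
  refine Subtype.ext ?_
  rcases isScalarSL_cases h with h | h <;> simp [h]

/-- Centralisers of non-scalar elements consist of their linear polynomials. -/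
theorem exists_coeff_of_commute {g h : SL(2, F)} (hg : ¬ IsScalarSL g) (hc : Commute h g) :
    ∃ a b : F, h.1 = a • (1 : Matrix (Fin 2) (Fin 2) F) + b • g.1 := by
  have e : ∀ i j, (h * g).1 i j = (g * h).1 i j := fun i j => by rw [hc.eq]
  have e00 := e 0 0
  have e01 := e 0 1
  have e10 := e 1 0
  rw [slTwo_mul_apply, slTwo_mul_apply] at e00 e01 e10
  have key : ∀ b : F, h.1 0 1 = b * g.1 0 1 → h.1 1 0 = b * g.1 1 0 →
      h.1 0 0 - h.1 1 1 = b * (g.1 0 0 - g.1 1 1) →
      h.1 = (h.1 0 0 - b * g.1 0 0) • (1 : Matrix (Fin 2) (Fin 2) F) + b • g.1 := fun b b1 b2 b3 => by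
    ext i j
    fin_cases i <;> fin_cases j <;> simp
    · exact b1
    · exact b2
    · linear_combination -b3
  by_cases h1 : g.1 0 1 = 0
  · by_cases h2 : g.1 1 0 = 0
    · have h3 : g.1 0 0 - g.1 1 1 ≠ 0 := fun h => hg ⟨h1, h2, sub_eq_zero.1 h⟩
      refine ⟨_, (h.1 0 0 - h.1 1 1) / (g.1 0 0 - g.1 1 1), key _ ?_ ?_ (div_mul_cancel₀ _ h3).symm⟩
      · rw [h1, mul_zero]
        exact (mul_eq_zero.1 (show (g.1 0 0 - g.1 1 1) * h.1 0 1 = 0 by
          rw [h1] at e01; linear_combination -e01)).resolve_left h3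
      · rw [h2, mul_zero]
        exact (mul_eq_zero.1 (show (g.1 0 0 - g.1 1 1) * h.1 1 0 = 0 by
          rw [h2] at e10; linear_combination e10)).resolve_left h3
    · refine ⟨_, h.1 1 0 / g.1 1 0, key _ ?_ (div_mul_cancel₀ _ h2).symm ?_⟩
      · rw [div_mul_eq_mul_div, eq_div_iff h2]; linear_combination e00
      · rw [div_mul_eq_mul_div, eq_div_iff h2]; linear_combination -e10
  · refine ⟨_, h.1 0 1 / g.1 0 1, key _ (div_mul_cancel₀ _ h1).symm ?_ ?_⟩
    · rw [div_mul_eq_mul_div, eq_div_iff h1]; linear_combination -e00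
    · rw [div_mul_eq_mul_div, eq_div_iff h1]; linear_combination e01

/-- Centralisers of non-scalar elements are abelian. -/
theorem commute_of_commute {g h k : SL(2, F)} (hg : ¬ IsScalarSL g) (hh : Commute h g)
    (hk : Commute k g) : Commute h k := by
  obtain ⟨a, b, hab⟩ := exists_coeff_of_commute hg hh
  obtain ⟨c, d, hcd⟩ := exists_coeff_of_commute hg hk
  refine Subtype.ext ?_
  rw [Matrix.SpecialLinearGroup.coe_mul, Matrix.SpecialLinearGroup.coe_mul, hab, hcd]
  simp only [add_mul, mul_add, smul_mul_assoc, mul_smul_comm, one_mul, mul_one, smul_add, smul_smul]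
  module

theorem trSL_coeff {g h : SL(2, F)} {a b : F} (hab : h.1 = a • (1 : Matrix (Fin 2) (Fin 2) F) + b • g.1) :
    trSL h = 2 * a + b * trSL g ∧ a ^ 2 + a * b * trSL g + b ^ 2 = 1 := by
  have hd := slTwo_det h
  have hg := slTwo_det g
  constructor
  · simp [trSL, hab]; ring
  · simp [hab] at hd
    simp only [trSL]
    linear_combination hd - b ^ 2 * hg

theorem trSL_conj (g h : SL(2, F)) : trSL (h * g * h⁻¹) = trSL g := by
  have hd := slTwo_det h
  obtain ⟨i00, i01, i10, i11⟩ := slTwo_inv_apply h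
  simp only [trSL, slTwo_mul_apply, i00, i01, i10, i11]
  linear_combination (g.1 0 0 + g.1 1 1) * hd

/-- A semisimple element is conjugate only to itself and its inverse within its centraliser. -/
theorem conj_eq_or_eq_inv {g h : SL(2, F)} (hg : trSL g ^ 2 ≠ 4) (hc : Commute (h * g * h⁻¹) g) :
    h * g * h⁻¹ = g ∨ h * g * h⁻¹ = g⁻¹ := by
  have hs : ¬ IsScalarSL g := fun hs => hg (by
    rcases isScalarSL_cases hs with h | h <;> simp [trSL, h] <;> ring)
  obtain ⟨a, b, hab⟩ := exists_coeff_of_commute hs hc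
  obtain ⟨h1, h2⟩ := trSL_coeff hab
  rw [trSL_conj] at h1
  obtain ⟨i00, i01, i10, i11⟩ := slTwo_inv_apply g
  have hb : b = 1 ∨ b = -1 := by
    refine mul_self_eq_one_iff.1 (sub_eq_zero.1 ((mul_eq_zero.1 (show (b * b - 1) * (trSL g ^ 2 - 4) = 0 by
      linear_combination (-(trSL g) - 2 * a - b * trSL g) * h1 - 4 * h2)).resolve_right
      (sub_ne_zero.2 hg)))
  rcases hb with rfl | rfl
  · have h3 : a * (a + trSL g) = 0 := by linear_combination h2
    rcases mul_eq_zero.1 h3 with rfl | h4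
    · left
      exact Subtype.ext (by rw [hab]; simp)
    · have h5 : (2 : F) * trSL g = 0 := by linear_combination h1 + 2 * h4
      rcases mul_eq_zero.1 h5 with h6 | h6
      · right
        have ha : a = trSL g := by linear_combination h4 - trSL g * h6
        refine slTwo_ext ?_ ?_ ?_ ?_
        · rw [hab, i00, ha]; simp [trSL]; linear_combination g.1 0 0 * h6
        · rw [hab, i01]; simp; linear_combination g.1 0 1 * h6
        · rw [hab, i10]; simp; linear_combination g.1 1 0 * h6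
        · rw [hab, i11, ha]; simp [trSL]; linear_combination g.1 1 1 * h6
      · left
        have ha : a = 0 := by linear_combination h4 - h6
        exact Subtype.ext (by rw [hab, ha]; simp)
  · have h3 : a * (a - trSL g) = 0 := by linear_combination h2
    rcases mul_eq_zero.1 h3 with rfl | h4
    · have h5 : (2 : F) * trSL g = 0 := by linear_combination h1
      rcases mul_eq_zero.1 h5 with h6 | h6
      · left
        refine slTwo_ext ?_ ?_ ?_ ?_
        · rw [hab]; simp; linear_combination -g.1 0 0 * h6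
        · rw [hab]; simp; linear_combination -g.1 0 1 * h6
        · rw [hab]; simp; linear_combination -g.1 1 0 * h6
        · rw [hab]; simp; linear_combination -g.1 1 1 * h6
      · right
        simp only [trSL] at h6
        refine slTwo_ext ?_ ?_ ?_ ?_
        · rw [hab, i00]; simp; linear_combination -h6
        · rw [hab, i01]; simp
        · rw [hab, i10]; simp
        · rw [hab, i11]; simp; linear_combination -h6
    · right
      have ha : a = trSL g := sub_eq_zero.1 h4
      refine slTwo_ext ?_ ?_ ?_ ?_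
      · rw [hab, i00, ha]; simp [trSL]
      · rw [hab, i01]; simp
      · rw [hab, i10]; simp
      · rw [hab, i11, ha]; simp [trSL]

/-! ### Unipotent elements -/

theorem sq_sub_one_of_trSL {g : SL(2, F)} (h : trSL g = 2) :
    (g.1 - 1) * (g.1 - 1) = (0 : Matrix (Fin 2) (Fin 2) F) := by
  have hd := slTwo_det g
  simp only [trSL] at h
  ext i j
  fin_cases i <;> fin_cases j <;> simp [Matrix.mul_apply, Fin.sum_univ_two]
  · linear_combination (g.1 0 0) * h - hd
  · linear_combination (g.1 0 1) * h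
  · linear_combination (g.1 1 0) * h
  · linear_combination (g.1 1 1) * h - hd

section Char

variable (p : ℕ) [Fact p.Prime] [CharP F p]

theorem pow_char_of_trSL {g : SL(2, F)} (h : trSL g = 2) : g ^ p = 1 := by
  have hp := (Fact.out : p.Prime)
  refine Subtype.ext ?_
  rw [Matrix.SpecialLinearGroup.coe_pow, Matrix.SpecialLinearGroup.coe_one]
  have h1 := sub_pow_char_of_commute (p := p) (Commute.one_right (g.1 : Matrix (Fin 2) (Fin 2) F))
  obtain ⟨k, hk⟩ : ∃ k, p = 2 + k := ⟨p - 2, (Nat.add_sub_cancel' hp.two_le).symm⟩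
  have h2 : (g.1 - 1) ^ p = (0 : Matrix (Fin 2) (Fin 2) F) := by
    rw [hk, pow_add, pow_two, sq_sub_one_of_trSL h, zero_mul]
  rw [h2, one_pow] at h1
  exact (sub_eq_zero.1 h1.symm)

theorem trSL_of_pow_char {g : SL(2, F)} {k : ℕ} (h : g ^ p ^ k = 1) : trSL g = 2 := by
  have h1 := sub_pow_char_pow_of_commute (p := p) k (Commute.one_right (g.1 : Matrix (Fin 2) (Fin 2) F))
  rw [one_pow, show (g.1 : Matrix (Fin 2) (Fin 2) F) ^ p ^ k = 1 by
    rw [← Matrix.SpecialLinearGroup.coe_pow, h, Matrix.SpecialLinearGroup.coe_one], sub_self] at h1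
  have h2 := congrArg Matrix.det h1
  rw [Matrix.det_pow, Matrix.det_zero, pow_eq_zero_iff (pow_ne_zero k (Fact.out : p.Prime).ne_zero),
    Matrix.det_fin_two] at h2
  simp at h2
  have hd := slTwo_det g
  simp only [trSL]
  linear_combination hd - h2

end Char

/-- An element centralising a non-trivial unipotent is unipotent up to sign. -/
theorem trSL_of_commute_unipotent {u h : SL(2, F)} (hu : trSL u = 2) (hus : ¬ IsScalarSL u)
    (hc : Commute h u) : trSL h = 2 ∨ trSL h = -2 := by
  obtain ⟨a, b, hab⟩ := exists_coeff_of_commute hus hc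
  obtain ⟨h1, h2⟩ := trSL_coeff hab
  rw [hu] at h1 h2
  rcases mul_self_eq_one_iff.1 (show (a + b) * (a + b) = 1 by linear_combination h2) with h | h
  · left; linear_combination h1 + 2 * h
  · right; linear_combination h1 + 2 * h

/-- Commuting unipotents have proportional nilpotent parts. -/
theorem exists_smul_of_commute_unipotent {u v : SL(2, F)} (hu : trSL u = 2) (hv : trSL v = 2)
    (hus : ¬ IsScalarSL u) (hc : Commute v u) :
    ∃ c : F, v.1 - 1 = c • (u.1 - 1) := by
  obtain ⟨a, b, hab⟩ := exists_coeff_of_commute hus hc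
  obtain ⟨h1, h2⟩ := trSL_coeff hab
  rw [hu, hv] at h1
  rw [hu] at h2
  have h4 : (a + b - 1) * (a + b - 1) = 0 := by linear_combination h2 + h1
  have h5 : a + b = 1 := sub_eq_zero.1 (mul_self_eq_zero.1 h4)
  exact ⟨b, by rw [hab, show a = 1 - b by linear_combination h5]; module⟩

/-- A conjugating element scales the nilpotent part. -/
theorem exists_scale_of_commute_conj {g u : SL(2, F)} (hu : trSL u = 2) (hus : ¬ IsScalarSL u)
    (hc : Commute (g * u * g⁻¹) u) :
    ∃ c : F, c ≠ 0 ∧ g.1 * (u.1 - 1) = c • ((u.1 - 1) * g.1) := by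
  obtain ⟨c, hcu⟩ := exists_smul_of_commute_unipotent hu ((trSL_conj u g).trans hu) hus hc
  have hgg : (g⁻¹).1 * g.1 = 1 := by
    rw [← Matrix.SpecialLinearGroup.coe_mul, inv_mul_cancel, Matrix.SpecialLinearGroup.coe_one]
  have h1 : g.1 * (u.1 - 1) = c • ((u.1 - 1) * g.1) := by
    rw [← smul_mul_assoc, ← hcu, sub_mul, one_mul, Matrix.SpecialLinearGroup.coe_mul,
      Matrix.SpecialLinearGroup.coe_mul, mul_assoc, hgg, mul_one, mul_sub, mul_one]
  refine ⟨c, fun h => hus ?_, h1⟩
  rw [h, zero_smul] at hcu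
  have : g * u * g⁻¹ = 1 := Subtype.ext (sub_eq_zero.1 hcu)
  rw [conj_eq_one_iff] at this
  exact isScalarSL_iff.2 (Or.inl (by rw [this, Matrix.SpecialLinearGroup.coe_one]))

/-- The centraliser of a non-scalar element normalising a unipotent line normalises it. -/
theorem commute_conj_of_commute_normalizing {g x u : SL(2, F)} (hg : ¬ IsScalarSL g)
    (hu : trSL u = 2) (hus : ¬ IsScalarSL u)
    (hc : Commute (g * u * g⁻¹) u) (hx : Commute x g) : Commute (x * u * x⁻¹) u := by
  obtain ⟨c, -, hgN⟩ := exists_scale_of_commute_conj hu hus hc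
  have hNN := sq_sub_one_of_trSL hu
  obtain ⟨a, b, hab⟩ := exists_coeff_of_commute hg hx
  obtain ⟨a', b', hab'⟩ := exists_coeff_of_commute hg hx.inv_left
  have hxx : x.1 * (x⁻¹).1 = 1 := by
    rw [← Matrix.SpecialLinearGroup.coe_mul, mul_inv_cancel, Matrix.SpecialLinearGroup.coe_one]
  obtain ⟨N, hN⟩ : ∃ N, N = u.1 - 1 := ⟨_, rfl⟩
  rw [← hN] at hgN hNN
  have hkey : ∀ a b : F, N * (a • (1 : Matrix (Fin 2) (Fin 2) F) + b • g.1) * N = 0 := fun a b => by
    rw [mul_add, mul_smul_comm, mul_smul_comm, mul_one, add_mul, smul_mul_assoc, smul_mul_assoc, hNN,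
      smul_zero, mul_assoc, hgN, mul_smul_comm, ← mul_assoc, hNN, zero_mul]
    simp
  have hu1 : u.1 = 1 + N := by rw [hN]; abel
  have hconj : (x * u * x⁻¹).1 = 1 + x.1 * N * (x⁻¹).1 := by
    rw [Matrix.SpecialLinearGroup.coe_mul, Matrix.SpecialLinearGroup.coe_mul, hu1, mul_add, mul_one,
      add_mul, hxx]
  refine Subtype.ext ?_
  have h1 : x.1 * N * (x⁻¹).1 * N = 0 := by
    rw [mul_assoc x.1, mul_assoc x.1, hab', hkey, mul_zero]
  have h2 : N * (x.1 * N * (x⁻¹).1) = 0 := by
    rw [← mul_assoc, ← mul_assoc, hab, hkey, zero_mul]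
  rw [Matrix.SpecialLinearGroup.coe_mul (x * u * x⁻¹) u, Matrix.SpecialLinearGroup.coe_mul u, hconj, hu1]
  simp only [mul_add, add_mul, one_mul, mul_one, h1, h2]
  abel

end CfsgLib.Classical
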