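import Cfsg.Agent.Lib.Geom.DicksonCases
import Cfsg.Agent.Lib.Geom.DicksonBorel
import Cfsg.Agent.Lib.Classical.SLTwoCent
import Cfsg.Agent.Lib.Classical.SLTwoTori
import Cfsg.Agent.Lib.Classical.PSLTwoPerm
import Cfsg.Agent.Lib.Invol.Dihedral

/-!
# Dihedral maximal subgroups of `PSL₂(q)`

Consequences of Dickson's list: the normalisers of the two tori are maximal, apart from small `q`.
-/

set_option autoImplicit false

namespace CfsgLib.Classical

open Matrix
open scoped MatrixGroups

variable {F : Type*} [Field F] [Fintype F]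

/-- Elements of `PGL₂(u)` have order at most `u + 1`. -/
theorem orderOf_pgl_two_le {K : Type*} [Field K] [Fintype K] (x : ProjGenLinGroup (Fin 2) K) :
    orderOf x ≤ Fintype.card K + 1 := by
  classical
  obtain ⟨g, rfl⟩ := ProjGenLinGroup.mk_surjective x
  by_cases hsc : ∀ c : K, g.1 ≠ c • (1 : Matrix (Fin 2) (Fin 2) K)
  swap
  · simp only [ne_eq, not_forall, not_not] at hsc
    obtain ⟨c, hc⟩ := hsc
    have h1 : ProjGenLinGroup.mk g = 1 := by
      refine (QuotientGroup.eq_one_iff g).2 (Subgroup.mem_center_iff.2 fun y => Units.ext ?_)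
      simp [hc]
    rw [h1, orderOf_one]
    omega
  set n := orderOf (ProjGenLinGroup.mk g) with hn
  have hspan : ∀ i : ℕ, ∃ v : K × K, (g.1 ^ i) = v.1 • (1 : Matrix (Fin 2) (Fin 2) K) + v.2 • g.1 := by
    have hCH : g.1 * g.1 = (-g.1.det) • (1 : Matrix (Fin 2) (Fin 2) K) + g.1.trace • g.1 := by
      ext i j
      fin_cases i <;> fin_cases j <;>
        simp [Matrix.mul_apply, Fin.sum_univ_two, Matrix.det_fin_two, Matrix.trace_fin_two] <;> ring
    intro i
    induction i with
    | zero => exact ⟨(1, 0), by simp⟩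
    | succ i ih =>
      obtain ⟨v, hv⟩ := ih
      refine ⟨(v.2 * (-g.1.det), v.1 + v.2 * g.1.trace), ?_⟩
      rw [pow_succ, hv, add_mul, smul_mul_assoc, smul_mul_assoc, one_mul, hCH]
      module
  choose v hv using hspan
  have hne : ∀ (i : ℕ) (c : Kˣ), ((c : K) * (v i).1, (c : K) * (v i).2) ≠ (0, 0) := fun i c h => by
    simp only [Prod.mk.injEq, mul_eq_zero, c.ne_zero, false_or] at h
    have h0 := hv i
    rw [h.1, h.2, zero_smul, zero_smul, add_zero, ← Units.val_pow_eq_pow_val] at h0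
    exact (g ^ i).isUnit.ne_zero h0
  let f : Fin n × Kˣ → {w : K × K // w ≠ (0, 0)} := fun ic => ⟨_, hne ic.1 ic.2⟩
  have hf : Function.Injective f := by
    rintro ⟨i, c⟩ ⟨j, d⟩ h
    simp only [f, Subtype.mk.injEq, Prod.mk.injEq] at h
    have hM : (c : K) • g.1 ^ (i : ℕ) = (d : K) • g.1 ^ (j : ℕ) := by
      rw [hv, hv, smul_add, smul_add, smul_smul, smul_smul, smul_smul, smul_smul, h.1, h.2]
    have hij : ProjGenLinGroup.mk g ^ (i : ℕ) = ProjGenLinGroup.mk g ^ (j : ℕ) := by
      rw [← map_pow, ← map_pow]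
      refine (QuotientGroup.eq (s := Subgroup.center (GL (Fin 2) K))).2 (Subgroup.mem_center_iff.2 ?_)
      have hkey : (((g ^ (i : ℕ))⁻¹ * g ^ (j : ℕ) : GL (Fin 2) K)).1 = ((c : K) * ↑d⁻¹) • (1 : Matrix (Fin 2) (Fin 2) K) := by
        have e : g.1 ^ (j : ℕ) = ((c : K) * ↑d⁻¹) • g.1 ^ (i : ℕ) := by
          rw [mul_comm, ← smul_smul, hM, smul_smul, Units.inv_mul, one_smul]
        rw [Units.val_mul, Units.val_pow_eq_pow_val (n := (j : ℕ)), e, mul_smul_comm,
          ← Units.val_pow_eq_pow_val, Units.inv_mul]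
      intro y
      refine Units.ext ?_
      rw [Units.val_mul, Units.val_mul _ y, hkey]
      simp
    obtain rfl : i = j := Fin.ext (pow_injOn_Iio_orderOf i.2 j.2 hij)
    refine Prod.ext rfl (Units.ext ?_)
    rw [← Units.val_pow_eq_pow_val] at hM
    have h0 := congrArg (fun M => M * ((g ^ (i : ℕ))⁻¹ : GL (Fin 2) K).1) hM
    simp only [smul_mul_assoc, Units.mul_inv] at h0
    simpa using congrFun (congrFun h0 0) 0
  have hcard := Fintype.card_le_of_injective f hf
  rw [Fintype.card_prod, Fintype.card_fin, Fintype.card_units, Fintype.card_subtype_compl,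
    Fintype.card_subtype_eq, Fintype.card_prod] at hcard
  obtain ⟨k, hk⟩ : ∃ k, Fintype.card K = k + 2 := ⟨Fintype.card K - 2,
    (Nat.sub_add_cancel (Fintype.one_lt_card : 1 < Fintype.card K)).symm⟩
  rw [hk] at hcard ⊢
  have h1 : n * (k + 1) ≤ (k + 3) * (k + 1) := by
    refine hcard.trans (le_of_eq (Nat.sub_eq_of_eq_add ?_))
    ring
  exact Nat.le_of_mul_le_mul_right h1 (by omega)

theorem altFour_facts : (∀ g : alternatingGroup (Fin 4), g ^ 2 = 1 ∨ g ^ 3 = 1) ∧
    ∀ g h : alternatingGroup (Fin 4), h * g * h⁻¹ = g⁻¹ → g ^ 2 = 1 := by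
  constructor <;> decide +kernel

theorem permFour_pow : ∀ g : Equiv.Perm (Fin 4), g ^ 3 = 1 ∨ g ^ 4 = 1 := by decide +kernel

theorem altFive_pow' : ∀ g : alternatingGroup (Fin 5), g ^ 2 = 1 ∨ g ^ 3 = 1 ∨ g ^ 5 = 1 := by
  decide +kernel

theorem eq_of_dvd_prime_of_three_le {n p : ℕ} (hp : p.Prime) (hn : 3 ≤ n) (h : n ∣ p) : n = p :=
  ((Nat.dvd_prime hp).1 h).resolve_left (by omega)

theorem card_psl_two_ge :
    Fintype.card F * (Fintype.card F ^ 2 - 1) =
      Nat.gcd 2 (Fintype.card F - 1) * Nat.card (ProjectiveSpecialLinearGroup (Fin 2) F) :=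
  card_psl_two_mul.symm

/-- A criterion for a dihedral subgroup to be maximal. -/
theorem isCoatom_dihedral {r s : ProjectiveSpecialLinearGroup (Fin 2) F} {n : ℕ} (hn : 3 ≤ n)
    (hr : orderOf r = n) (hsr : s * r * s⁻¹ = r⁻¹)
    (hD : Nat.card (Subgroup.closure ({r, s} : Set (ProjectiveSpecialLinearGroup (Fin 2) F))) = 2 * n)
    (hsmall : 2 * n < Nat.card (ProjectiveSpecialLinearGroup (Fin 2) F))
    (hborel : ∀ P : Geom.Moebius.Line F, ProjectiveSpecialLinearGroup.toPGL r • P = P →
      ProjectiveSpecialLinearGroup.toPGL s • P ≠ P)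
    (hdvd : ∀ k, Geom.Moebius.TorusDvd F k → n ∣ 2 * k → k ∣ n)
    (h5 : n ≤ 5 → n ≠ 4 ∧ Nat.card (ProjectiveSpecialLinearGroup (Fin 2) F) = 60)
    (hsub : ∀ u m : ℕ, 3 ≤ u → 2 ≤ m → u ^ m = Fintype.card F → u + 1 < n) :
    IsCoatom (Subgroup.closure ({r, s} : Set (ProjectiveSpecialLinearGroup (Fin 2) F))) := by
  set D := Subgroup.closure ({r, s} : Set (ProjectiveSpecialLinearGroup (Fin 2) F)) with hDdef
  refine ⟨fun h => ?_, fun M hM => ?_⟩
  · rw [h, Subgroup.card_top] at hD
    omega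
  by_contra hMtop
  have hlt : 2 * n < Nat.card M := by
    rw [← hD]
    exact lt_of_not_ge fun h => hM.ne (Subgroup.eq_of_le_of_card_ge hM.le h)
  have hMG : Nat.card M < Nat.card (ProjectiveSpecialLinearGroup (Fin 2) F) :=
    lt_of_not_ge fun h => hMtop (Subgroup.eq_top_of_le_card M h)
  have hMdvd : Nat.card M ∣ Nat.card (ProjectiveSpecialLinearGroup (Fin 2) F) :=
    Subgroup.card_subgroup_dvd_card M
  have hrM : r ∈ M := hM.le (Subgroup.subset_closure (by simp))
  have hsM : s ∈ M := hM.le (Subgroup.subset_closure (by simp))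
  have hr' : orderOf (⟨r, hrM⟩ : M) = n := (Subgroup.orderOf_mk r hrM).trans hr
  have hsr' : (⟨s, hsM⟩ : M) * ⟨r, hrM⟩ * (⟨s, hsM⟩ : M)⁻¹ = (⟨r, hrM⟩ : M)⁻¹ := Subtype.ext hsr
  have hnM : n ∣ Nat.card M := hr' ▸ orderOf_dvd_natCard (⟨r, hrM⟩ : M)
  have hdiv : ∀ {B : Type} [Group B] (e : M ≃* B) (k : ℕ), (e ⟨r, hrM⟩) ^ k = 1 → n ∣ k := fun {B} _ e k h => by
    rw [← hr']
    exact orderOf_dvd_of_pow_eq_one (e.injective (by rw [map_pow, map_one, h]))
  cases Geom.Moebius.dickson M with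
  | cyclic k hk hc hcard =>
    have hcomm : (⟨r, hrM⟩ : M) = (⟨r, hrM⟩ : M)⁻¹ := by
      obtain ⟨g, hg⟩ := hc.exists_zpow_surjective
      obtain ⟨i, hi⟩ := hg (⟨s, hsM⟩ : M)
      obtain ⟨j, hj⟩ := hg (⟨r, hrM⟩ : M)
      rw [← hsr', ← hi, ← hj]
      group
    have : n ∣ 2 := by
      rw [← hr']
      exact orderOf_dvd_of_pow_eq_one (by rw [pow_two]; nth_rewrite 1 [hcomm]; exact inv_mul_cancel _)
    exact absurd (Nat.le_of_dvd (by omega) this) (by omega)
  | borel P h => exact hborel P (h r hrM) (h s hsM)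
  | dihedral k hk htd hc hcard =>
    have := Nat.le_of_dvd (by omega) (hdvd k htd (hcard ▸ hnM))
    omega
  | tetrahedral h hcard =>
    obtain ⟨e⟩ := h
    rcases altFour_facts.1 (e ⟨r, hrM⟩) with h2 | h3
    · exact absurd (Nat.le_of_dvd (by omega) (hdiv e 2 h2)) (by omega)
    · have hn3 := eq_of_dvd_prime_of_three_le Nat.prime_three hn (hdiv e 3 h3)
      have h2 := altFour_facts.2 (e ⟨r, hrM⟩) (e ⟨s, hsM⟩)
        (by rw [← map_inv, ← map_mul, ← map_mul, hsr', map_inv])
      exact absurd (Nat.le_of_dvd (by omega) (hdiv e 2 h2)) (by omega)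
  | octahedral h hcard =>
    obtain ⟨e⟩ := h
    have hle : n ≤ 4 := by
      rcases permFour_pow (e ⟨r, hrM⟩) with h3 | h4
      · exact (Nat.le_of_dvd (by omega) (hdiv e 3 h3)).trans (by omega)
      · exact Nat.le_of_dvd (by omega) (hdiv e 4 h4)
    obtain ⟨-, h60⟩ := h5 (by omega)
    rw [hcard, h60] at hMdvd
    norm_num at hMdvd
  | icosahedral h hcard =>
    obtain ⟨e⟩ := h
    have hle : n ≤ 5 := by
      rcases altFive_pow' (e ⟨r, hrM⟩) with h2 | h3 | h5'
      · exact (Nat.le_of_dvd (by omega) (hdiv e 2 h2)).trans (by omega)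
      · exact (Nat.le_of_dvd (by omega) (hdiv e 3 h3)).trans (by omega)
      · exact Nat.le_of_dvd (by omega) (hdiv e 5 h5')
    obtain ⟨-, h60⟩ := h5 hle
    omega
  | subfieldPGL K u hu hK h hcard =>
    obtain ⟨m, hm1, hm⟩ := Geom.Moebius.subfield_card_pow K hK
    obtain ⟨e⟩ := h
    let _ : Fintype K := Fintype.ofFinite K
    rcases Nat.lt_or_ge m 2 with hm2 | hm2
    · obtain rfl : m = 1 := by omega
      rw [pow_one] at hm
      have hG := card_psl_two_ge (F := F)
      rw [← hm] at hG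
      have hle : Nat.card (ProjectiveSpecialLinearGroup (Fin 2) F) ≤ u * (u ^ 2 - 1) := by
        rw [hG]; exact Nat.le_mul_of_pos_left _ (Nat.gcd_pos_of_pos_left _ two_pos)
      have : Nat.card M = u * (u ^ 2 - 1) := by
        rw [hcard, show u ^ 2 - 1 = (u + 1) * (u - 1) from by rw [← Nat.sq_sub_sq, one_pow]]; ring
      omega
    · have := hsub u m hu hm2 hm
      have h1 : orderOf (e ⟨r, hrM⟩) = n := by rw [MulEquiv.orderOf_eq, hr']
      have h2 := orderOf_pgl_two_le (e ⟨r, hrM⟩)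
      rw [h1, ← Nat.card_eq_fintype_card, hK] at h2
      omega
  | subfieldPSL K u hu hK h hcard =>
    obtain ⟨m, hm1, hm⟩ := Geom.Moebius.subfield_card_pow K hK
    obtain ⟨e⟩ := h
    let _ : Fintype K := Fintype.ofFinite K
    rcases Nat.lt_or_ge m 2 with hm2 | hm2
    · obtain rfl : m = 1 := by omega
      rw [pow_one] at hm
      have hG := card_psl_two_ge (F := F)
      have hG' := card_psl_two_ge (F := K)
      rw [← Nat.card_eq_fintype_card, hK, hm, ← Nat.card_congr e.toEquiv] at hG'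
      have : Nat.card (ProjectiveSpecialLinearGroup (Fin 2) F) = Nat.card M :=
        Nat.eq_of_mul_eq_mul_left (Nat.gcd_pos_of_pos_left _ two_pos) (hG.symm.trans hG')
      omega
    · have := hsub u m hu hm2 hm
      have h1 : orderOf (ProjectiveSpecialLinearGroup.toPGL (e ⟨r, hrM⟩)) = n := by
        rw [orderOf_injective _ ProjectiveSpecialLinearGroup.toPGL_injective, MulEquiv.orderOf_eq, hr']
      have h2 := orderOf_pgl_two_le (ProjectiveSpecialLinearGroup.toPGL (e ⟨r, hrM⟩))
      rw [h1, ← Nat.card_eq_fintype_card, hK] at h2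
      omega

/-- A cyclic subgroup of `SL₂` inverted by an element squaring into the centre gives a dihedral group. -/
theorem exists_dihedral_of_torus (T : Subgroup SL(2, F)) (hT : IsCyclic T)
    (hZT : Subgroup.center SL(2, F) ≤ T) {s : SL(2, F)} (hs2 : s * s ∈ Subgroup.center SL(2, F))
    (hsT : s ∉ T) (hinv : ∀ t ∈ T, s * t * s⁻¹ = t⁻¹) {n : ℕ}
    (hn : Nat.gcd 2 (Fintype.card F - 1) * n = Nat.card T) :
    ∃ r : SL(2, F), r ∈ T ∧ orderOf (QuotientGroup.mk r : ProjectiveSpecialLinearGroup (Fin 2) F) = n ∧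
      (QuotientGroup.mk s : ProjectiveSpecialLinearGroup (Fin 2) F) * QuotientGroup.mk r *
        (QuotientGroup.mk s)⁻¹ = (QuotientGroup.mk r)⁻¹ ∧
      Nonempty (Subgroup.closure ({QuotientGroup.mk r, QuotientGroup.mk s} :
        Set (ProjectiveSpecialLinearGroup (Fin 2) F)) ≃* DihedralGroup n) ∧
      Nat.card (Subgroup.closure ({QuotientGroup.mk r, QuotientGroup.mk s} :
        Set (ProjectiveSpecialLinearGroup (Fin 2) F))) = 2 * n := by
  obtain ⟨⟨r, hr⟩, hgen⟩ := IsCyclic.exists_zpow_surjective (G := T)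
  set π := QuotientGroup.mk' (Subgroup.center SL(2, F)) with hπ
  have hzT : Subgroup.zpowers r = T := le_antisymm (Subgroup.zpowers_le.2 hr) fun t ht => by
    obtain ⟨i, hi⟩ := hgen ⟨t, ht⟩
    exact ⟨i, congrArg Subtype.val hi⟩
  have hord : orderOf (π r) = n := by
    have h1 : Nat.card (T.map π) = orderOf (π r) := by
      rw [← hzT, MonoidHom.map_zpowers, Nat.card_zpowers]
    have h2 : Nat.card T = Nat.card (Subgroup.center SL(2, F)) * Nat.card (T.map π) := by
      let φ : T →* T.map π := π.subgroupMap T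
      have hk : φ.ker = (Subgroup.center SL(2, F)).subgroupOf T := by
        ext x
        rw [MonoidHom.mem_ker, Subgroup.mem_subgroupOf, ← QuotientGroup.eq_one_iff, Subtype.ext_iff]
        rfl
      rw [Subgroup.card_eq_card_quotient_mul_card_subgroup φ.ker,
        Nat.card_congr (QuotientGroup.quotientKerEquivOfSurjective φ (π.subgroupMap_surjective T)).toEquiv,
        hk, Nat.card_congr (Subgroup.subgroupOfEquivOfLe hZT).toEquiv, mul_comm]
    rw [card_center_sl, Fintype.card_fin, ← hn] at h2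
    rw [← h1]
    exact (Nat.eq_of_mul_eq_mul_left (Nat.gcd_pos_of_pos_left _ two_pos) h2).symm
  have hs1 : π s ≠ 1 := fun h => hsT (hZT ((QuotientGroup.eq_one_iff s).1 h))
  have hs2' : orderOf (π s) = 2 := orderOf_eq_prime
    (by rw [pow_two, ← map_mul]; exact (QuotientGroup.eq_one_iff _).2 hs2) hs1
  have hnot : π s ∉ Subgroup.zpowers (π r) := by
    rintro ⟨i, hi⟩
    change π r ^ i = π s at hi
    rw [← map_zpow] at hi
    refine hsT ?_
    have h1 : (r ^ i)⁻¹ * s ∈ Subgroup.center SL(2, F) := QuotientGroup.eq.1 hi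
    simpa using mul_mem (zpow_mem hr i) (hZT h1)
  have : NeZero n := ⟨fun h => by rw [h, mul_zero] at hn; exact Nat.card_pos.ne hn⟩
  have hsr : π s * π r * (π s)⁻¹ = (π r)⁻¹ := by rw [← map_inv π s, ← map_mul, ← map_mul, hinv r hr, map_inv]
  obtain ⟨e⟩ := CfsgLib.Invol.exists_mulEquiv_dihedral hord hs2' hsr hnot
  exact ⟨r, hr, hord, hsr, ⟨e⟩, (Nat.card_congr e.toEquiv).trans DihedralGroup.nat_card⟩

omit [Fintype F] in
/-- A point fixed by the image of `g` is an eigenvector of `g`. -/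
theorem exists_eigen_of_fix {g : SL(2, F)} {v : Fin 2 → F} (hv : v ≠ 0)
    (h : ProjectiveSpecialLinearGroup.toPGL (QuotientGroup.mk g : ProjectiveSpecialLinearGroup (Fin 2) F) •
      Projectivization.mk F v hv = Projectivization.mk F v hv) :
    ∃ c : F, g.1 *ᵥ v = c • v := by
  change ProjGenLinGroup.mk (Matrix.SpecialLinearGroup.toGL g) • Projectivization.mk F v hv = _ at h
  rw [Projectivization.PGL.mk_smul_mk, Projectivization.mk_eq_mk_iff'] at h
  obtain ⟨c, hc⟩ := h
  exact ⟨c, by rw [hc]; simp [Units.smul_def, smul_eq_mulVec]⟩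

theorem exists_minus_one_repr {a b : F}
    (hab : ∀ z₁ z₂ : F, z₁ ^ 2 + a * z₁ * z₂ + b * z₂ ^ 2 = 0 → z₁ = 0 ∧ z₂ = 0) :
    ∃ x y : F, x ^ 2 + a * x * y + b * y ^ 2 = -1 := by
  by_cases h2 : (2 : F) = 0
  · exact ⟨1, 0, by linear_combination h2⟩
  have hd : b - a ^ 2 / 4 ≠ 0 := fun h => by
    refine one_ne_zero (hab (-a / 2) 1 ?_).2
    have h4 : (4 : F) ≠ 0 := by
      rw [show (4 : F) = 2 * 2 by norm_num]; exact mul_ne_zero h2 h2
    field_simp at h ⊢
    linear_combination h
  have hodd : ringChar F ≠ 2 := fun h => h2 (by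
    have := ringChar.Nat.cast_ringChar (R := F)
    rw [h] at this
    exact_mod_cast this)
  obtain ⟨u, y, huy⟩ := FiniteField.exists_root_sum_quadratic
    (f := Polynomial.X ^ 2) (g := Polynomial.C (b - a ^ 2 / 4) * Polynomial.X ^ 2 + Polynomial.C 1)
    (Polynomial.degree_X_pow 2) (by compute_degree!) (FiniteField.odd_card_of_char_ne_two hodd)
  simp at huy
  refine ⟨u - a * y / 2, y, ?_⟩
  have h4 : (4 : F) ≠ 0 := by
    rw [show (4 : F) = 2 * 2 by norm_num]; exact mul_ne_zero h2 h2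
  field_simp at huy ⊢
  linear_combination huy

/-- The normaliser of a non-split torus, as a dihedral group without fixed points. -/
theorem exists_dihedral_nonsplit :
    ∃ r s : ProjectiveSpecialLinearGroup (Fin 2) F,
      orderOf r = (Fintype.card F + 1) / Nat.gcd 2 (Fintype.card F - 1) ∧ s * r * s⁻¹ = r⁻¹ ∧
      Nonempty (Subgroup.closure ({r, s} : Set (ProjectiveSpecialLinearGroup (Fin 2) F)) ≃*
        DihedralGroup ((Fintype.card F + 1) / Nat.gcd 2 (Fintype.card F - 1))) ∧
      Nat.card (Subgroup.closure ({r, s} : Set (ProjectiveSpecialLinearGroup (Fin 2) F))) =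
        2 * ((Fintype.card F + 1) / Nat.gcd 2 (Fintype.card F - 1)) ∧
      (3 ≤ (Fintype.card F + 1) / Nat.gcd 2 (Fintype.card F - 1) →
        ∀ P : Geom.Moebius.Line F, ProjectiveSpecialLinearGroup.toPGL r • P ≠ P) := by
  obtain ⟨a, b, hab⟩ := exists_anisotropic_binary (F := F)
  have hZT : Subgroup.center SL(2, F) ≤ nsTorus a b := fun z hz => by
    obtain ⟨c, -, hc⟩ := Matrix.SpecialLinearGroup.mem_center_iff.1 hz
    exact ⟨c, 0, by rw [← hc]; ext i j; fin_cases i <;> fin_cases j <;> simp⟩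
  obtain ⟨α, γ, hαγ⟩ := exists_minus_one_repr hab
  let s : SL(2, F) := ⟨!![α, α * a + γ * b; γ, -α], by rw [det_fin_two_of]; linear_combination -hαγ⟩
  have hs2 : s * s ∈ Subgroup.center SL(2, F) := Matrix.SpecialLinearGroup.mem_center_iff.2 ⟨-1, by simp, by
    rw [Matrix.SpecialLinearGroup.coe_mul]
    ext i j
    fin_cases i <;> fin_cases j <;> simp [s, Matrix.mul_apply, Fin.sum_univ_two] <;>
      first | linear_combination hαγ | linear_combination -hαγ | ring⟩
  have hsT : s ∉ nsTorus a b := by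
    rintro ⟨x, y, hxy⟩
    have e00 : α = x := by simpa [s] using congrFun (congrFun hxy 0) 0
    have e01 : α * a + γ * b = -b * y := by simpa [s] using congrFun (congrFun hxy 0) 1
    have e10 : γ = y := by simpa [s] using congrFun (congrFun hxy 1) 0
    have e11 : -α = x + a * y := by simpa [s] using congrFun (congrFun hxy 1) 1
    subst e00 e10
    refine one_ne_zero (α := F) ?_
    by_cases h2 : (2 : F) = 0
    · have hy : a * γ = 0 := by linear_combination -e11 - α * h2
      rcases mul_eq_zero.1 hy with ha | hγ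
      · obtain ⟨p, hp⟩ := CharP.exists F
        have hp2 : p = 2 := by
          have h2' : ((2 : ℕ) : F) = 0 := by exact_mod_cast h2
          exact ((Nat.dvd_prime Nat.prime_two).1 ((CharP.cast_eq_zero_iff F p 2).1 h2')).resolve_left
            (CharP.char_ne_one F p)
        subst hp2
        obtain ⟨w, hw⟩ := (Finite.injective_iff_surjective.1 (frobenius_inj F 2)) b
        rw [frobenius_def] at hw
        exact (hab w 1 (by rw [ha]; linear_combination hw + b * h2)).2
      · rw [hγ] at e01 hαγ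
        rcases mul_eq_zero.1 (show α * a = 0 by linear_combination e01) with hα | ha
        · rw [hα] at hαγ; linear_combination hαγ
        · obtain ⟨p, hp⟩ := CharP.exists F
          have hp2 : p = 2 := by
            have h2' : ((2 : ℕ) : F) = 0 := by exact_mod_cast h2
            exact ((Nat.dvd_prime Nat.prime_two).1 ((CharP.cast_eq_zero_iff F p 2).1 h2')).resolve_left
              (CharP.char_ne_one F p)
          subst hp2
          obtain ⟨w, hw⟩ := (Finite.injective_iff_surjective.1 (frobenius_inj F 2)) b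
          rw [frobenius_def] at hw
          exact (hab w 1 (by rw [ha]; linear_combination hw + b * h2)).2
    · have hdisc : 4 * b - a ^ 2 ≠ 0 := fun h => one_ne_zero (hab (-a / 2) 1 (by
        field_simp
        linear_combination h)).2
      have hγ : γ = 0 := (mul_eq_zero.1 (show (4 * b - a ^ 2) * γ = 0 by
        linear_combination 2 * e01 + a * e11)).resolve_left hdisc
      have hα : α = 0 := (mul_eq_zero.1 (show (2 : F) * α = 0 by
        rw [hγ] at e11; linear_combination -e11)).resolve_left h2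
      rw [hα, hγ] at hαγ
      linear_combination hαγ
  have hinv : ∀ t ∈ nsTorus a b, s * t * s⁻¹ = t⁻¹ := by
    rintro t ⟨x, y, ht⟩
    refine mul_inv_eq_iff_eq_mul.2 (Subtype.ext ?_)
    rw [Matrix.SpecialLinearGroup.coe_mul, Matrix.SpecialLinearGroup.coe_mul, Matrix.SpecialLinearGroup.coe_inv, ht,
      adjugate_fin_two_of]
    ext i j
    fin_cases i <;> fin_cases j <;> simp [s, Matrix.mul_apply, Fin.sum_univ_two] <;> ring
  have hd : Nat.gcd 2 (Fintype.card F - 1) ∣ Fintype.card F + 1 := by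
    have h1 := Fintype.one_lt_card (α := F)
    have h := dvd_add (Nat.gcd_dvd_right 2 (Fintype.card F - 1)) (Nat.gcd_dvd_left 2 (Fintype.card F - 1))
    rwa [show Fintype.card F - 1 + 2 = Fintype.card F + 1 by omega] at h
  obtain ⟨r, hrT, hord, hsr, he, hcard⟩ := exists_dihedral_of_torus (nsTorus a b) (isCyclic_nsTorus hab)
    hZT hs2 hsT hinv (n := (Fintype.card F + 1) / Nat.gcd 2 (Fintype.card F - 1))
    (by rw [Nat.mul_div_cancel' hd, card_nsTorus hab])
  refine ⟨_, _, hord, hsr, he, hcard, fun h3 P hP => ?_⟩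
  induction P using Projectivization.ind with | _ v hv =>
  obtain ⟨c, hc⟩ := exists_eigen_of_fix hv hP
  obtain ⟨x, y, hxy⟩ := hrT
  rw [hxy] at hc
  have hc0 : x * v 0 - b * y * v 1 = c * v 0 := by
    have := congrFun hc 0
    simp [Matrix.mulVec, dotProduct, Fin.sum_univ_two] at this
    linear_combination this
  have hc1 : y * v 0 + (x + a * y) * v 1 = c * v 1 := by
    have := congrFun hc 1
    simp [Matrix.mulVec, dotProduct, Fin.sum_univ_two] at this
    linear_combination this
  by_cases hy : y = 0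
  · subst hy
    have hcen : r ∈ Subgroup.center SL(2, F) := by
      have hd1 := nsTorus_det hxy
      exact Matrix.SpecialLinearGroup.mem_center_iff.2 ⟨x, by rw [Fintype.card_fin]; linear_combination hd1, by
        rw [hxy]; ext i j; fin_cases i <;> fin_cases j <;> simp⟩
    rw [(QuotientGroup.eq_one_iff r).2 hcen, orderOf_one] at hord
    omega
  · have h := hab (v 0) (v 1) ((mul_eq_zero.1 (show y * (v 0 ^ 2 + a * v 0 * v 1 + b * v 1 ^ 2) = 0 by
      linear_combination v 0 * hc1 - v 1 * hc0)).resolve_left hy)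
    exact hv (funext fun i => by fin_cases i <;> simp [h.1, h.2])

theorem splitTorus_val {K : Type*} [Field K] (u : Kˣ) :
    (splitTorus K u).1 = !![(u : K), 0; 0, (↑u⁻¹ : K)] := rfl

/-- The normaliser of a split torus, as a dihedral group without fixed points. -/
theorem exists_dihedral_split (hq : 4 ≤ Fintype.card F) :
    ∃ r s : ProjectiveSpecialLinearGroup (Fin 2) F,
      orderOf r = (Fintype.card F - 1) / Nat.gcd 2 (Fintype.card F - 1) ∧ s * r * s⁻¹ = r⁻¹ ∧
      Nonempty (Subgroup.closure ({r, s} : Set (ProjectiveSpecialLinearGroup (Fin 2) F)) ≃*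
        DihedralGroup ((Fintype.card F - 1) / Nat.gcd 2 (Fintype.card F - 1))) ∧
      Nat.card (Subgroup.closure ({r, s} : Set (ProjectiveSpecialLinearGroup (Fin 2) F))) =
        2 * ((Fintype.card F - 1) / Nat.gcd 2 (Fintype.card F - 1)) ∧
      (3 ≤ (Fintype.card F - 1) / Nat.gcd 2 (Fintype.card F - 1) →
        ∀ P : Geom.Moebius.Line F, ProjectiveSpecialLinearGroup.toPGL r • P = P →
          ProjectiveSpecialLinearGroup.toPGL s • P ≠ P) := by
  have hZT : Subgroup.center SL(2, F) ≤ (splitTorus F).range := fun z hz => by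
    obtain ⟨c, hc1, hc⟩ := Matrix.SpecialLinearGroup.mem_center_iff.1 hz
    rw [Fintype.card_fin] at hc1
    have hinv : c⁻¹ = c := inv_eq_of_mul_eq_one_right (by rw [← pow_two]; exact hc1)
    have hc0 : c ≠ 0 := fun h => by simp [h] at hc1
    exact ⟨Units.mk0 c hc0, Subtype.ext (by
      show !![c, 0; 0, c⁻¹] = z.1
      rw [← hc]; ext i j; fin_cases i <;> fin_cases j <;> simp [hinv])⟩
  let s : SL(2, F) := ⟨!![0, 1; -1, 0], by simp [det_fin_two_of]⟩
  have hs2 : s * s ∈ Subgroup.center SL(2, F) := Matrix.SpecialLinearGroup.mem_center_iff.2 ⟨-1, by simp, by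
    rw [Matrix.SpecialLinearGroup.coe_mul]
    ext i j
    fin_cases i <;> fin_cases j <;> simp [s, Matrix.mul_apply, Fin.sum_univ_two]⟩
  have hsT : s ∉ (splitTorus F).range := by
    rintro ⟨u, hu⟩
    have := congrArg (fun g : SL(2, F) => g.1 0 1) hu
    simp [s, splitTorus_val] at this
  have hinv : ∀ t ∈ (splitTorus F).range, s * t * s⁻¹ = t⁻¹ := by
    rintro t ⟨u, rfl⟩
    refine mul_inv_eq_iff_eq_mul.2 (Subtype.ext ?_)
    rw [Matrix.SpecialLinearGroup.coe_mul, Matrix.SpecialLinearGroup.coe_mul, Matrix.SpecialLinearGroup.coe_inv]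
    ext i j
    fin_cases i <;> fin_cases j <;> simp [s, splitTorus_val, Matrix.mul_apply, Fin.sum_univ_two]
  obtain ⟨r, ⟨u, hu⟩, hord, hsr, he, hcard⟩ := exists_dihedral_of_torus (splitTorus F).range
    isCyclic_splitTorus hZT hs2 hsT hinv (n := (Fintype.card F - 1) / Nat.gcd 2 (Fintype.card F - 1))
    (by rw [Nat.mul_div_cancel' (Nat.gcd_dvd_right _ _), card_splitTorus])
  refine ⟨_, _, hord, hsr, he, hcard, fun h3 P hP hsP => ?_⟩
  induction P using Projectivization.ind with | _ v hv =>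
  obtain ⟨c, hc⟩ := exists_eigen_of_fix hv hP
  obtain ⟨d, hd⟩ := exists_eigen_of_fix hv hsP
  have hd0 : v 1 = d * v 0 := by simpa [s, Matrix.mulVec, dotProduct, Fin.sum_univ_two] using congrFun hd 0
  have hd1 : -v 0 = d * v 1 := by simpa [s, Matrix.mulVec, dotProduct, Fin.sum_univ_two] using congrFun hd 1
  subst hu
  have hc0 : (u : F) * v 0 = c * v 0 := by
    simpa [splitTorus_val, Matrix.mulVec, dotProduct, Fin.sum_univ_two] using congrFun hc 0
  have hc1 : (↑u⁻¹ : F) * v 1 = c * v 1 := by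
    simpa [splitTorus_val, Matrix.mulVec, dotProduct, Fin.sum_univ_two] using congrFun hc 1
  have hv0 : v 0 ≠ 0 := fun h => hv (funext fun i => by fin_cases i <;> simp [h, hd0])
  have hv1 : v 1 ≠ 0 := fun h => by rw [h, mul_zero, neg_eq_zero] at hd1; exact hv0 hd1
  have hc' : (u : F) = c := mul_right_cancel₀ hv0 hc0
  have hc'' : (↑u⁻¹ : F) = c := mul_right_cancel₀ hv1 hc1
  have hcen : splitTorus F u ∈ Subgroup.center SL(2, F) := Matrix.SpecialLinearGroup.mem_center_iff.2
    ⟨c, by rw [Fintype.card_fin, pow_two]; nth_rewrite 1 [← hc']; rw [← hc'', Units.mul_inv], by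
      ext i j; fin_cases i <;> fin_cases j <;> simp [splitTorus_val, ← hc']
      rw [← Units.val_inv_eq_inv_val, hc'', hc']⟩
  rw [(QuotientGroup.eq_one_iff _).2 hcen, orderOf_one] at hord
  omega

end CfsgLib.Classical
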