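import Mathlib
import Cfsg.Agent.Lib.Classical.OrthAutFinal

/-!
The group of semisimilarities and its map to the automorphism group of `PΩ`: the kernel is the group of
scalars.
-/

set_option autoImplicit false
set_option linter.unusedSectionVars false

namespace CfsgLib.Classical

open CfsgLib.Geom
open QuadraticMap (polar)

variable {F V : Type*} [Field F] [AddCommGroup V] [Module F V]
variable {Q : QuadraticForm F V}

namespace SemiSim

theorem ext' {S T : SemiSim Q} (h1 : ∀ v, S.map v = T.map v) (h2 : S.σ = T.σ) (h3 : S.c = T.c) : S = T := by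
  obtain ⟨Sm, Sσ, Sc, _, _⟩ := S
  obtain ⟨Tm, Tσ, Tc, _, _⟩ := T
  obtain rfl : Sm = Tm := AddEquiv.ext h1
  obtain rfl : Sσ = Tσ := h2
  obtain rfl : Sc = Tc := h3
  rfl

/-- An isometry as a semisimilarity. -/
theorem ofIsom_map (g : quadIsoms Q) (v : V) : (ofIsom g).map v = g.1 v := rfl

instance : Group (SemiSim Q) where
  mul S T := T.trans S
  one := ofIsom 1
  inv := symm
  mul_assoc S T U := ext' (fun _ => rfl) rfl (Units.ext (by
    show (S.c : F) * S.σ (T.c : F) * S.σ (T.σ (U.c : F)) = (S.c : F) * S.σ ((T.c : F) * T.σ (U.c : F))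
    rw [map_mul, mul_assoc]))
  one_mul S := ext' (fun _ => rfl) (RingEquiv.ext fun _ => rfl) (Units.ext (by
    show (1 : F) * (S.c : F) = S.c
    rw [one_mul]))
  mul_one S := ext' (fun _ => rfl) (RingEquiv.ext fun _ => rfl) (Units.ext (by
    show (S.c : F) * S.σ (1 : F) = S.c
    rw [map_one, mul_one]))
  inv_mul_cancel S := ext' (fun v => S.map.symm_apply_apply v)
    (RingEquiv.ext fun a => S.σ.symm_apply_apply a) (Units.ext (by
      show S.σ.symm ((S.c⁻¹ : Fˣ) : F) * S.σ.symm (S.c : F) = 1
      rw [← map_mul, Units.inv_mul, map_one]))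

@[simp] theorem mul_map (S T : SemiSim Q) (v : V) : (S * T).map v = S.map (T.map v) := rfl

@[simp] theorem one_map (v : V) : (1 : SemiSim Q).map v = v := rfl

@[simp] theorem one_σ : (1 : SemiSim Q).σ = 1 := rfl

@[simp] theorem one_c : (1 : SemiSim Q).c = 1 := rfl

theorem inv_map (S : SemiSim Q) (v : V) : S⁻¹.map v = S.map.symm v := rfl

theorem mul_σ (S T : SemiSim Q) : (S * T).σ = S.σ * T.σ := rfl

theorem mul_c (S T : SemiSim Q) : ((S * T).c : F) = (S.c : F) * S.σ (T.c : F) := rfl

theorem ofIsom_mul (g h : quadIsoms Q) : ofIsom (g * h) = ofIsom g * ofIsom h :=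
  ext' (fun _ => rfl) (RingEquiv.ext fun _ => rfl) (Units.ext (by
    show (1 : F) = (1 : F) * (RingEquiv.refl F) (1 : F)
    simp))

/-- Isometries, as semisimilarities. -/
def isomHom : quadIsoms Q →* SemiSim Q where
  toFun := ofIsom
  map_one' := rfl
  map_mul' := ofIsom_mul

theorem isomHom_injective : Function.Injective (isomHom (Q := Q)) := fun g h e =>
  quadIsoms_ext Q fun v => by
    have := congrArg (fun S : SemiSim Q => S.map v) e
    exact this

/-- Scalars, as semisimilarities. -/
def scalar : Fˣ →* SemiSim Q where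
  toFun l :=
    { map := (LinearEquiv.smulOfUnit l : V ≃ₗ[F] V).toAddEquiv
      σ := 1
      c := l * l
      map_smul := fun a v => smul_comm (l : F) a v
      map_quad := fun v => by
        show Q ((l : F) • v) = _
        rw [quad_smul]
        simp }
  map_one' := ext' (fun v => one_smul F v) rfl (one_mul 1)
  map_mul' l k := ext' (fun v => mul_smul (l : F) (k : F) v) rfl (Units.ext (by
    show (l : F) * k * (l * k) = (l : F) * l * (1 : F ≃+* F) ((k : F) * k)
    simp only [RingAut.one_apply]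
    ring))

theorem scalar_map (l : Fˣ) (v : V) : (scalar (Q := Q) l).map v = (l : F) • v := rfl

theorem scalar_σ (l : Fˣ) : (scalar (Q := Q) l).σ = 1 := rfl

theorem scalar_c (l : Fˣ) : (scalar (Q := Q) l).c = l * l := rfl

/-- The companion field automorphism. -/
def σHom : SemiSim Q →* (F ≃+* F) where
  toFun S := S.σ
  map_one' := rfl
  map_mul' := mul_σ

/-- The map to the automorphism group. -/
noncomputable def autHom : SemiSim Q →* MulAut (POmG Q) where
  toFun := aut
  map_one' := MulEquiv.ext fun x => by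
    obtain ⟨g, rfl⟩ := toP_surjective x
    rw [aut_toP]
    exact congrArg toP (omG_ext fun v => rfl)
  map_mul' S T := aut_trans T S

theorem aut_ofIsom (k : OmG Q) : (ofIsom k.1).aut = MulAut.conj (toP k) := by
  refine MulEquiv.ext fun x => ?_
  obtain ⟨g, rfl⟩ := toP_surjective x
  rw [aut_toP, MulAut.conj_apply, ← map_inv, ← map_mul, ← map_mul]
  exact congrArg toP (omG_ext fun v => rfl)

end SemiSim

namespace OFrame

variable [Finite F] [FiniteDimensional F V] {m : ℕ} (K : OFrame Q m)

include K in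
theorem semiSim_ext {S T : SemiSim Q} (h : ∀ v, S.map v = T.map v) : S = T := by
  have := K.hm
  let i : Fin m := ⟨0, by omega⟩
  have he : K.e i ≠ 0 := K.linearIndependent_vec.ne_zero (Sum.inl i)
  have hσ : S.σ = T.σ := RingEquiv.ext fun a => by
    refine smul_left_injective F (show S.map (K.e i) ≠ 0 from fun h0 => he (S.map.injective (h0.trans (map_zero _).symm))) ?_
    show S.σ a • S.map (K.e i) = T.σ a • S.map (K.e i)
    rw [← S.map_smul, h, T.map_smul, h (K.e i)]
  refine SemiSim.ext' h hσ (Units.ext ?_)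
  have hq : Q (K.e i + K.f i) = 1 := by
    rw [QuadraticMap.map_add (Q : QuadraticMap F V F), K.he, K.hf, K.hef]; simp
  have := S.map_quad (K.e i + K.f i)
  rw [h, T.map_quad, hq, map_one, map_one, mul_one, mul_one] at this
  exact this.symm

include K in
theorem finite_semiSim : Finite (SemiSim Q) := by
  have : Finite V := Module.finite_of_finite F
  exact Finite.of_injective (fun S : SemiSim Q => (S.map : V → V))
    fun S T e => K.semiSim_ext (congrFun e)

include K in
theorem exists_scalar_of_aut_eq_one {S : SemiSim Q} (hS : S.aut = 1) :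
    ∃ l : Fˣ, S = SemiSim.scalar l := by
  have hfix : ∀ x, Q x = 0 → x ≠ 0 → ∃ a : F, S.map x = a • x := by
    intro x hx hx0
    obtain ⟨L, M, hL, hM, hxL, hxM, hLM⟩ := K.exists_npMeet_at hx hx0
    have fixl : ∀ {L}, IsTL Q L → ∀ {v}, v ∈ L → S.map v ∈ L := by
      intro L hL v hv
      obtain ⟨L', hL', hmem⟩ := S.sendsL hL
      rw [hS] at hL'
      have h1 : SendsL (1 : MulAut (POmG Q)) L L := ⟨hL, hL, by simp⟩
      rw [h1.unique K hL']
      exact (hmem v).2 hv
    exact K.eq_smul_of_mem_inter hL hM hLM.1.1 hx0 hxL hxM (fixl hL hxL) (fixl hM hxM)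
  have orth : ∀ {x y : V}, TSPair Q x y → ∀ {a b : F}, S.map x = a • x → S.map y = b • y →
      a = b ∧ ∀ t, S.σ t * b = a * t := by
    intro x y h a b ha hb
    have key : ∀ t, S.σ t * b = a * t := by
      intro t
      obtain ⟨r, hr⟩ := hfix (x + t • y) (by rw [quad_map_add_smul, h.1, h.2.1, h.2.2.1]; ring)
        (fun e => one_ne_zero (LinearIndependent.pair_iff.1 h.2.2.2 1 t (by rwa [one_smul])).1)
      rw [map_add, S.map_smul, ha, hb, smul_add, smul_smul, smul_smul] at hr
      obtain ⟨h1, h2⟩ := LinearIndependent.pair_iff.1 h.2.2.2 (a - r) (S.σ t * b - r * t)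
        (by rw [sub_smul, sub_smul, sub_add_sub_comm, hr, sub_self])
      linear_combination h2 - t * h1
    exact ⟨by simpa using (key 1).symm, key⟩
  have := K.hm
  obtain ⟨i, j, hij⟩ : ∃ i j : Fin m, i ≠ j := ⟨⟨0, by omega⟩, ⟨1, by omega⟩, by simp [Fin.ext_iff]⟩
  have hne : ∀ l, K.e l ≠ 0 := fun l => K.linearIndependent_vec.ne_zero (Sum.inl l)
  have hnf : ∀ l, K.f l ≠ 0 := fun l => K.linearIndependent_vec.ne_zero (Sum.inr l)
  choose a ha using fun l => hfix (K.e l) (K.he l) (hne l)
  choose b hb using fun l => hfix (K.f l) (K.hf l) (hnf l)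
  have hae : ∀ l, a l = a i := fun l => by
    by_cases h : l = i
    · rw [h]
    · exact (orth (K.tsPair_ee h) (ha l) (ha i)).1
  have hbf : ∀ l, b l = a i := fun l => by
    by_cases h : i = l
    · subst h
      exact ((orth (K.tsPair_ef hij.symm) (ha j) (hb i)).1).symm.trans (hae j)
    · exact ((orth (K.tsPair_ef h) (ha i) (hb l)).1).symm
  have ha0 : a i ≠ 0 := fun h => hne i (S.map.injective (by rw [ha i, h, zero_smul, map_zero]))
  have hσ : ∀ t, S.σ t = t := fun t => by
    have := (orth (K.tsPair_ee hij) (ha i) (ha j)).2 t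
    rw [hae j, mul_comm] at this
    exact mul_left_cancel₀ ha0 this
  have hw : ∀ w, (∀ l, polar Q (K.e l) w = 0) → (∀ l, polar Q (K.f l) w = 0) → S.map w = a i • w := by
    intro w h1 h2
    obtain ⟨u, hu⟩ : ∃ u, u = w + K.e j + (-Q w) • K.f j := ⟨_, rfl⟩
    have huQ : Q u = 0 := by
      rw [hu, quad_map_add_smul, QuadraticMap.map_add (Q : QuadraticMap F V F), K.he, K.hf,
        QuadraticMap.polar_add_left, QuadraticMap.polar_comm _ w, QuadraticMap.polar_comm _ w, h1 j, h2 j,
        K.hef, if_pos rfl]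
      ring
    have hue : polar Q (K.e i) u = 0 := by
      simp [hu, QuadraticMap.polar_add_right, QuadraticMap.polar_neg_right, QuadraticMap.polar_smul_right,
        h1 i, K.hee, K.hef, hij]
    have huf : polar Q (K.f j) u = 1 := by
      simp [hu, QuadraticMap.polar_add_right, QuadraticMap.polar_neg_right, QuadraticMap.polar_smul_right,
        h2 j, K.hfe, K.hff]
    have hts : TSPair Q (K.e i) u := ⟨K.he i, huQ, hue, (LinearIndependent.pair_iff' (hne i)).2 fun r hr => by
      rw [← hr, QuadraticMap.polar_smul_right, K.hfe, if_neg (Ne.symm hij), smul_zero] at huf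
      exact zero_ne_one huf⟩
    obtain ⟨r, hr⟩ := hfix u huQ (fun e => by rw [e, QuadraticMap.polar_zero_right] at huf; exact zero_ne_one huf)
    rw [← (orth hts (ha i) hr).1, hu, map_add, map_add, S.map_smul, hσ, ha j, hb j, hae j, hbf j,
      smul_add, smul_add, smul_comm (-Q w) (a i)] at hr
    exact add_right_cancel (add_right_cancel hr)
  refine ⟨Units.mk0 (a i) ha0, K.semiSim_ext fun v => ?_⟩
  rw [SemiSim.scalar_map, Units.val_mk0]
  conv_lhs => rw [K.decomp v]
  conv_rhs => rw [K.decomp v]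
  rw [map_add, map_add, map_sum, map_sum, smul_add, smul_add, Finset.smul_sum, Finset.smul_sum,
    hw _ (fun l => K.polar_e_wproj l v) (fun l => K.polar_f_wproj l v)]
  simp only [S.map_smul, hσ, ha, hb, hae, hbf, smul_comm (a i)]

theorem aut_scalar (l : Fˣ) : (SemiSim.scalar (Q := Q) l).aut = 1 := by
  refine MulEquiv.ext fun x => ?_
  obtain ⟨g, rfl⟩ := toP_surjective x
  rw [SemiSim.aut_toP]
  refine congrArg toP (omG_ext fun v => ?_)
  rw [SemiSim.conjOm_coe, SemiSim.conj_apply]
  obtain ⟨w, rfl⟩ := (SemiSim.scalar (Q := Q) l).map.surjective v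
  rw [AddEquiv.symm_apply_apply, SemiSim.scalar_map, SemiSim.scalar_map, map_smul]

include K in
theorem autHom_ker : (SemiSim.autHom (Q := Q)).ker = (SemiSim.scalar (Q := Q)).range := by
  ext S
  refine ⟨fun h => ?_, ?_⟩
  · obtain ⟨l, hl⟩ := K.exists_scalar_of_aut_eq_one h
    exact ⟨l, hl.symm⟩
  · rintro ⟨l, rfl⟩
    exact aut_scalar l

include K in
theorem scalar_injective : Function.Injective (SemiSim.scalar (Q := Q)) := by
  intro l k e
  have := K.hm
  let i : Fin m := ⟨0, by omega⟩
  have h := congrArg (fun S : SemiSim Q => S.map (K.e i)) e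
  exact Units.ext (smul_left_injective F (show K.e i ≠ 0 from K.linearIndependent_vec.ne_zero (Sum.inl i)) h)

include K in
/-- The semisimilarities which induce inner automorphisms. -/
theorem aut_mem_inn_iff (S : SemiSim Q) :
    S.aut ∈ (MulAut.conj : POmG Q →* MulAut (POmG Q)).range ↔
      ∃ (l : Fˣ) (k : OmG Q), S = SemiSim.scalar l * SemiSim.ofIsom k.1 := by
  constructor
  · rintro ⟨x, hx⟩
    obtain ⟨k, rfl⟩ := toP_surjective x
    have h : S * (SemiSim.ofIsom k.1)⁻¹ ∈ (SemiSim.autHom (Q := Q)).ker := by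
      rw [MonoidHom.mem_ker, map_mul, map_inv]
      show S.aut * ((SemiSim.ofIsom k.1).aut)⁻¹ = 1
      rw [SemiSim.aut_ofIsom, hx, mul_inv_cancel]
    rw [K.autHom_ker] at h
    obtain ⟨l, hl⟩ := h
    exact ⟨l, k, by rw [hl, inv_mul_cancel_right]⟩
  · rintro ⟨l, k, rfl⟩
    refine ⟨toP k, ?_⟩
    show _ = SemiSim.autHom (SemiSim.scalar l * SemiSim.ofIsom k.1)
    rw [map_mul]
    show _ = (SemiSim.scalar (Q := Q) l).aut * (SemiSim.ofIsom k.1).aut
    rw [aut_scalar, one_mul, SemiSim.aut_ofIsom]

end OFrame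

end CfsgLib.Classical
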