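import Mathlib
import Cfsg.Prelude.Def_LieTypeDatum
import Cfsg.Agent.Lib.Classical.OrthAutMatrix
import Cfsg.Agent.Lib.Classical.OrthOutBasic

/-!
The named subgroups of the automorphism group of `PΩ` as images of groups of semisimilarities.
-/

set_option autoImplicit false
set_option linter.unusedSectionVars false

namespace CfsgLib.Classical

open CfsgLib.Geom
open Matrix
open QuadraticMap (polar)

variable {F : Type*} [Field F] [Finite F] {ι : Type} [Fintype ι] [DecidableEq ι]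
variable {Q : QuadraticForm F (ι → F)}

namespace SemiSim

/-- The map to the automorphism group of `Cfsg.POmega`. -/
noncomputable def autC (Q : QuadraticForm F (ι → F)) : SemiSim Q →* MulAut (Cfsg.POmega F (⇑Q)) where
  toFun S := ((pOmegaEquiv Q).symm.trans S.aut).trans (pOmegaEquiv Q)
  map_one' := MulEquiv.ext fun x => by
    show pOmegaEquiv Q (autHom (1 : SemiSim Q) ((pOmegaEquiv Q).symm x)) = x
    rw [map_one, MulAut.one_apply, MulEquiv.apply_symm_apply]
  map_mul' S T := MulEquiv.ext fun x => by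
    show pOmegaEquiv Q (autHom (S * T) ((pOmegaEquiv Q).symm x)) =
      pOmegaEquiv Q (autHom S ((pOmegaEquiv Q).symm (pOmegaEquiv Q (autHom T ((pOmegaEquiv Q).symm x)))))
    rw [map_mul, MulAut.mul_apply, MulEquiv.symm_apply_apply]

theorem autC_mk (S : SemiSim Q) (k : OmG Q) :
    autC Q S (QuotientGroup.mk (omegaEquiv Q k)) = QuotientGroup.mk (omegaEquiv Q (S.conjOm k)) := by
  show pOmegaEquiv Q (S.aut ((pOmegaEquiv Q).symm (QuotientGroup.mk (omegaEquiv Q k)))) = _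
  rw [← pOmegaEquiv_toP, MulEquiv.symm_apply_apply, S.aut_toP, pOmegaEquiv_toP]

theorem gl_conj (S : SemiSim Q) (k : OmG Q) :
    (((omegaEquiv Q (S.conjOm k) : ↥(Cfsg.isometryGroup F (⇑Q))) : GL ι F) : Matrix ι ι F) =
      (S.gl : Matrix ι ι F) *
        ((((omegaEquiv Q k : ↥(Cfsg.isometryGroup F (⇑Q))) : GL ι F) : Matrix ι ι F)).map S.σ *
          ((S.gl⁻¹ : GL ι F) : Matrix ι ι F) := by
  refine Matrix.ext_iff_mulVec.2 fun v => ?_
  rw [omegaEquiv_mulVec, S.conjOm_coe, S.conj_apply, ← mulVec_mulVec, ← mulVec_mulVec,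
    gl_inv_mulVec, ← S.gl_mulVec (k.1.1 (S.map.symm v))]
  congr 1
  funext i
  rw [← omegaEquiv_mulVec]
  exact RingHom.map_mulVec (S.σ : F →+* F) _ _ i

/-- A semisimilarity pair as a semisimilarity. -/
noncomputable def ofPair {g : GL ι F} {σ : F ≃+* F} (h : Cfsg.IsSemisimilarityPair (⇑Q) g σ) : SemiSim Q where
  map :=
    { toFun := fun v => (g : Matrix ι ι F) *ᵥ fun i => σ (v i)
      invFun := fun v i => σ.symm ((((g⁻¹ : GL ι F) : Matrix ι ι F) *ᵥ v) i)
      left_inv := fun v => funext fun i => by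
        simp [mulVec_mulVec]
      right_inv := fun v => by
        simp [mulVec_mulVec]
      map_add' := fun u v => by
        rw [← mulVec_add]
        congr 1
        funext i
        simp }
  σ := σ
  c := h.choose
  map_smul a v := by
    show (g : Matrix ι ι F) *ᵥ (fun i => σ ((a • v) i)) = σ a • ((g : Matrix ι ι F) *ᵥ fun i => σ (v i))
    rw [← mulVec_smul]
    congr 1
    funext i
    simp
  map_quad := h.choose_spec

theorem ofPair_gl {g : GL ι F} {σ : F ≃+* F} (h : Cfsg.IsSemisimilarityPair (⇑Q) g σ) :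
    (ofPair h).gl = g := by
  refine Units.ext (Matrix.ext_iff_mulVec.2 fun v => ?_)
  obtain ⟨v, rfl⟩ : ∃ v', v = fun i => σ (v' i) :=
    ⟨fun i => σ.symm (v i), funext fun i => (σ.apply_symm_apply _).symm⟩
  exact (ofPair h).gl_mulVec v

theorem isInduced_iff {g : GL ι F} {σ : F ≃+* F} (h : Cfsg.IsSemisimilarityPair (⇑Q) g σ)
    (β : MulAut (Cfsg.POmega F (⇑Q))) :
    Cfsg.IsInducedBySemilinearPOmega (⇑Q) g σ β ↔ β = autC Q (ofPair h) := by
  constructor
  · intro hβ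
    refine MulEquiv.ext fun x => ?_
    obtain ⟨s, rfl⟩ := QuotientGroup.mk_surjective x
    obtain ⟨k, rfl⟩ := (omegaEquiv Q).surjective s
    rw [autC_mk]
    refine hβ _ _ ?_
    rw [gl_conj, ofPair_gl]
    rfl
  · rintro rfl
    have := (ofPair h).isInduced
    rwa [ofPair_gl] at this

theorem gl_mul (S T : SemiSim Q) :
    ((S * T).gl : Matrix ι ι F) = (S.gl : Matrix ι ι F) * (T.gl : Matrix ι ι F).map S.σ := by
  refine Matrix.ext_iff_mulVec.2 fun v => ?_
  obtain ⟨v, rfl⟩ : ∃ v', v = fun i => (S * T).σ (v' i) :=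
    ⟨fun i => (S * T).σ.symm (v i), funext fun i => ((S * T).σ.apply_symm_apply _).symm⟩
  rw [(S * T).gl_mulVec, mul_map, ← mulVec_mulVec, ← S.gl_mulVec, ← T.gl_mulVec]
  congr 1
  funext i
  exact RingHom.map_mulVec (S.σ : F →+* F) _ _ i

/-- The determinant of the linear part. -/
noncomputable def sdet (S : SemiSim Q) : F := (S.gl : Matrix ι ι F).det

theorem sdet_mul (S T : SemiSim Q) : (S * T).sdet = S.sdet * S.σ T.sdet := by
  rw [sdet, gl_mul, det_mul]
  congr 1
  exact ((S.σ : F →+* F).map_det _).symm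

theorem sdet_ne_zero (S : SemiSim Q) : S.sdet ≠ 0 :=
  ((Matrix.isUnit_iff_isUnit_det _).1 S.gl.isUnit).ne_zero

theorem ofIsom_gl (g : quadIsoms Q) : (ofIsom g).gl = glOfEquiv g.1 := by
  refine Units.ext (Matrix.ext_iff_mulVec.2 fun v => ?_)
  rw [glOfEquiv_mulVec]
  exact (ofIsom g).gl_mulVec v

theorem autC_ofIsom_omega (k : OmG Q) :
    autC Q (ofIsom k.1) = MulAut.conj (QuotientGroup.mk (omegaEquiv Q k)) := by
  refine MulEquiv.ext fun x => ?_
  obtain ⟨s, rfl⟩ := QuotientGroup.mk_surjective x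
  obtain ⟨l, rfl⟩ := (omegaEquiv Q).surjective s
  rw [autC_mk, MulAut.conj_apply, ← QuotientGroup.mk_inv, ← QuotientGroup.mk_mul, ← QuotientGroup.mk_mul,
    ← map_inv, ← map_mul, ← map_mul]
  exact congrArg (fun z => (QuotientGroup.mk (omegaEquiv Q z) : Cfsg.POmega F (⇑Q))) (omG_ext fun v => rfl)

theorem autC_eq_one_iff {m : ℕ} (K : OFrame Q m) (S : SemiSim Q) :
    autC Q S = 1 ↔ ∃ l : Fˣ, S = scalar l := by
  constructor
  · intro h
    refine K.exists_scalar_of_aut_eq_one (MulEquiv.ext fun x => ?_)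
    have := MulEquiv.congr_fun h (pOmegaEquiv Q x)
    show S.aut x = x
    refine (pOmegaEquiv Q).injective ?_
    rw [show autC Q S (pOmegaEquiv Q x) = pOmegaEquiv Q (S.aut ((pOmegaEquiv Q).symm (pOmegaEquiv Q x))) from rfl,
      MulEquiv.symm_apply_apply] at this
    exact this
  · rintro ⟨l, rfl⟩
    refine MulEquiv.ext fun x => ?_
    show pOmegaEquiv Q ((scalar (Q := Q) l).aut ((pOmegaEquiv Q).symm x)) = x
    rw [OFrame.aut_scalar, MulAut.one_apply, MulEquiv.apply_symm_apply]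

theorem autC_ker {m : ℕ} (K : OFrame Q m) : (autC Q).ker = (scalar (Q := Q)).range := by
  ext S
  rw [MonoidHom.mem_ker, autC_eq_one_iff K]
  exact ⟨fun ⟨l, hl⟩ => ⟨l, hl.symm⟩, fun ⟨l, hl⟩ => ⟨l, hl.symm⟩⟩

theorem autC_surjective {m : ℕ} (K : OFrame Q m) (hbig : BigEnough F (ι → F) m) (hlift : K.FieldLift) :
    Function.Surjective (autC Q) := by
  intro β
  obtain ⟨S, hS⟩ := K.exists_semiSim hbig hlift
    (((pOmegaEquiv Q).trans β).trans (pOmegaEquiv Q).symm)
  refine ⟨S, MulEquiv.ext fun x => ?_⟩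
  show pOmegaEquiv Q (S.aut ((pOmegaEquiv Q).symm x)) = β x
  rw [← hS]
  simp

/-- The semisimilarities inducing inner automorphisms: scalar multiples of elements of `Ω`. -/
def innerSub (Q : QuadraticForm F (ι → F)) : Subgroup (SemiSim Q) :=
  (scalar (Q := Q)).range ⊔ (commutator (quadIsoms Q)).map isomHom

theorem map_innerSub {m : ℕ} (K : OFrame Q m) :
    (innerSub Q).map (autC Q) = Cfsg.Inn (Cfsg.POmega F (⇑Q)) := by
  rw [innerSub, Subgroup.map_sup, (Subgroup.map_eq_bot_iff _).2 (autC_ker K).ge, bot_sup_eq]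
  ext β
  constructor
  · rintro ⟨_, ⟨k, hk, rfl⟩, rfl⟩
    exact ⟨_, (autC_ofIsom_omega ⟨k, hk⟩).symm⟩
  · rintro ⟨x, rfl⟩
    obtain ⟨s, rfl⟩ := QuotientGroup.mk_surjective x
    obtain ⟨k, rfl⟩ := (omegaEquiv Q).surjective s
    exact ⟨_, ⟨k.1, k.2, rfl⟩, autC_ofIsom_omega k⟩

theorem comap_inn {m : ℕ} (K : OFrame Q m) :
    (Cfsg.Inn (Cfsg.POmega F (⇑Q))).comap (autC Q) = innerSub Q := by
  rw [← map_innerSub K, Subgroup.comap_map_eq, autC_ker K]
  exact sup_eq_left.2 le_sup_left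

theorem mem_innerSub_iff {m : ℕ} (K : OFrame Q m) (S : SemiSim Q) :
    S ∈ innerSub Q ↔ ∃ (l : Fˣ) (k : OmG Q), S = scalar l * ofIsom k.1 := by
  rw [← K.aut_mem_inn_iff, ← comap_inn K]
  constructor
  · rintro ⟨x, hx⟩
    refine ⟨(pOmegaEquiv Q).symm x, MulEquiv.ext fun y => ?_⟩
    have := MulEquiv.congr_fun hx (pOmegaEquiv Q y)
    simp only [MulAut.conj_apply] at this ⊢
    refine (pOmegaEquiv Q).injective ?_
    rw [map_mul, map_mul, map_inv, MulEquiv.apply_symm_apply, this]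
    show pOmegaEquiv Q (S.aut ((pOmegaEquiv Q).symm (pOmegaEquiv Q y))) = _
    rw [MulEquiv.symm_apply_apply]
  · rintro ⟨x, hx⟩
    refine ⟨pOmegaEquiv Q x, MulEquiv.ext fun y => ?_⟩
    show _ = pOmegaEquiv Q (S.aut ((pOmegaEquiv Q).symm y))
    rw [← hx]
    simp

theorem similarity_pair_iff (g : GL ι F) :
    g ∈ Cfsg.Geo.quadSimilarityGroup (F := F) (⇑Q) ↔ Cfsg.IsSemisimilarityPair (⇑Q) g (RingEquiv.refl F) := by
  simp [Cfsg.IsSemisimilarityPair]
  rfl

theorem pgoAut_eq : Cfsg.pgoAut F (⇑Q) = ((σHom (Q := Q)).ker).map (autC Q) := by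
  refine le_antisymm ((Subgroup.closure_le _).2 ?_) ?_
  · rintro β ⟨g, hg, hβ⟩
    have h := (similarity_pair_iff g).1 hg
    exact ⟨ofPair h, rfl, ((isInduced_iff h β).1 hβ).symm⟩
  · rintro _ ⟨S, hS, rfl⟩
    have hσ : S.σ = RingEquiv.refl F := hS
    refine Subgroup.subset_closure ⟨S.gl, (similarity_pair_iff _).2 (hσ ▸ S.isSemisimilarityPair), ?_⟩
    rw [← hσ]
    exact S.isInduced

/-- The isometries of determinant one, as semisimilarities. -/
noncomputable def soSub (Q : QuadraticForm F (ι → F)) : Subgroup (SemiSim Q) :=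
  ((Cfsg.specialIsometryGroup F (⇑Q)).comap (orEquiv Q).toMonoidHom).map isomHom

theorem psoAut_eq {m : ℕ} (K : OFrame Q m) : Cfsg.psoAut F (⇑Q) = (soSub Q).map (autC Q) := by
  refine le_antisymm ((Subgroup.closure_le _).2 ?_) ?_
  · rintro β ⟨g, ⟨hg1, hg2⟩, hβ⟩
    obtain ⟨k, hk⟩ := (orEquiv Q).surjective ⟨g, hg1⟩
    have h : Cfsg.IsSemisimilarityPair (⇑Q) g (RingEquiv.refl F) :=
      ⟨1, fun v => by rw [Units.val_one, one_mul]; exact (mem_isometryGroup_iff _ g).1 hg1 v⟩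
    refine ⟨isomHom k, ⟨k, ?_, rfl⟩, ?_⟩
    · show orEquiv Q k ∈ Cfsg.specialIsometryGroup F (⇑Q)
      rw [hk]
      exact hg2
    · rw [(isInduced_iff h β).1 hβ]
      refine congrArg _ (K.semiSim_ext fun v => ?_)
      show k.1 v = (g : Matrix ι ι F) *ᵥ fun i => v i
      rw [← orEquiv_mulVec Q k v, hk]
  · rintro _ ⟨_, ⟨k, hk, rfl⟩, rfl⟩
    refine Subgroup.subset_closure ⟨(orEquiv Q k).1, ⟨(orEquiv Q k).2, hk⟩, ?_⟩
    have h := (ofIsom k).isInduced
    rw [ofIsom_gl] at h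
    exact h

end SemiSim

end CfsgLib.Classical
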