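import Mathlib
import Cfsg.Agent.Lib.Classical.OrthOutMatrix
import Cfsg.Agent.Lib.Classical.OrthAutFrames
import Cfsg.Agent.Lib.KnownC.FieldAut

/-!
Multipliers and orders: the automorphism groups of the odd and minus orthogonal groups.
-/

set_option autoImplicit false
set_option linter.unusedSectionVars false
set_option linter.unusedVariables false

namespace CfsgLib.Classical

open CfsgLib.Geom
open Matrix
open QuadraticMap (polar)

variable {F : Type*} [Field F] [Finite F] {ι : Type} [Fintype ι] [DecidableEq ι]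
variable {Q : QuadraticForm F (ι → F)}

namespace SemiSim

theorem sdet_sq (S : SemiSim Q) :
    S.sdet * S.sdet * (LinearMap.toMatrix₂' F Q.polarBilin).det =
      (S.c : F) ^ Fintype.card ι * S.σ (LinearMap.toMatrix₂' F Q.polarBilin).det := by
  have hM : LinearMap.toMatrix' S.linPart = (S.gl : Matrix ι ι F) := by
    refine Matrix.ext_iff_mulVec.2 fun v => ?_
    rw [LinearMap.toMatrix'_mulVec, gl, glOfEquiv_mulVec]
    rfl
  have h : LinearMap.toMatrix₂' F (Q.polarBilin.compl₁₂ S.linPart S.linPart) =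
      (S.c : F) • (LinearMap.toMatrix₂' F Q.polarBilin).map S.σ := by
    ext i j
    simp only [LinearMap.toMatrix₂'_apply, LinearMap.compl₁₂_apply, Matrix.smul_apply, Matrix.map_apply,
      smul_eq_mul, QuadraticMap.polarBilin_apply_apply]
    have hs : ∀ i : ι, S.linPart (Pi.single i 1) = S.map (Pi.single i 1) := fun i => by
      show S.map _ = _
      congr 1
      funext k
      by_cases hk : k = i
      · subst hk; simp
      · simp [hk]
    rw [hs, hs, S.map_polar]
  have := congrArg Matrix.det h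
  rw [LinearMap.toMatrix₂'_compl₁₂, det_mul, det_mul, det_transpose, hM, det_smul,
    show ((LinearMap.toMatrix₂' F Q.polarBilin).map S.σ).det = S.σ (LinearMap.toMatrix₂' F Q.polarBilin).det
      from ((S.σ : F →+* F).map_det _).symm] at this
  rw [← this, sdet]
  ring

/-- The multiplier, on the similitudes. -/
def multHom (Q : QuadraticForm F (ι → F)) : (σHom (Q := Q)).ker →* Fˣ where
  toFun S := S.1.c
  map_one' := rfl
  map_mul' S T := Units.ext (by
    have hS : S.1.σ = 1 := S.2
    show ((S.1 * T.1).c : F) = (S.1.c : F) * T.1.c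
    rw [mul_c, hS]
    rfl)

theorem card_ker_σHom {m : ℕ} (K : OFrame Q m) :
    Nat.card (σHom (Q := Q)).ker = Nat.card (multHom Q).range * Nat.card (quadIsoms Q) := by
  have hk : (multHom Q).ker = ((isomHom (Q := Q)).range).subgroupOf (σHom (Q := Q)).ker := by
    ext S
    rw [MonoidHom.mem_ker, Subgroup.mem_subgroupOf]
    constructor
    · intro h
      have hσ : S.1.σ = 1 := S.2
      have hc : S.1.c = 1 := h
      let g : (ι → F) ≃ₗ[F] (ι → F) :=
        { S.1.map with map_smul' := fun a v => by simpa [hσ] using S.1.map_smul a v }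
      exact ⟨⟨g, mem_quadIsoms.2 fun v => (S.1.map_quad v).trans (by rw [hc, hσ]; simp)⟩,
        ext' (fun v => rfl) hσ.symm hc.symm⟩
    · rintro ⟨g, hg⟩
      show S.1.c = 1
      rw [← hg]
      rfl
  rw [← Subgroup.card_mul_index (multHom Q).ker, Subgroup.index_ker, hk, mul_comm,
    Nat.card_congr (Subgroup.subgroupOfEquivOfLe (?_ : (isomHom (Q := Q)).range ≤ _)).toEquiv,
    Nat.card_congr (MonoidHom.ofInjective (isomHom_injective (Q := Q))).toEquiv.symm]
  rintro _ ⟨g, rfl⟩
  exact rfl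

theorem σHom_surjective {m : ℕ} (K : OFrame Q m) (hlift : K.FieldLift) :
    Function.Surjective (σHom (Q := Q)) := fun σ => by
  obtain ⟨S, hS, -⟩ := hlift σ
  exact ⟨S, hS⟩

theorem card_mulAut {m : ℕ} (K : OFrame Q m) (hbig : BigEnough F (ι → F) m) (hlift : K.FieldLift) :
    Nat.card (MulAut (Cfsg.POmega F (⇑Q))) * Nat.card Fˣ =
      Nat.card (F ≃+* F) * (Nat.card (multHom Q).range * Nat.card (quadIsoms Q)) := by
  have hscal : Nat.card (scalar (Q := Q)).range = Nat.card Fˣ :=
    Nat.card_congr (MonoidHom.ofInjective K.scalar_injective).toEquiv.symm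
  rw [← card_ker_σHom K, ← hscal, ← autC_ker K,
    ← Subgroup.card_top (G := MulAut (Cfsg.POmega F (⇑Q))),
    ← MonoidHom.range_eq_top.2 (autC_surjective K hbig hlift), ← Subgroup.index_ker, mul_comm,
    Subgroup.card_mul_index, ← Subgroup.card_mul_index (σHom (Q := Q)).ker, Subgroup.index_ker,
    MonoidHom.range_eq_top.2 (σHom_surjective K hlift), Subgroup.card_top, mul_comm]

end SemiSim

variable [Fintype F]

theorem card_units_squares (h2 : (2 : F) ≠ 0) :
    2 * Nat.card (powMonoidHom 2 : Fˣ →* Fˣ).range = Nat.card Fˣ := by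
  have hodd : Odd (Fintype.card F) :=
    Nat.odd_iff.2 (FiniteField.odd_card_of_char_ne_two (ringChar_ne_two_of_ne h2))
  have h := Subgroup.card_mul_index (powMonoidHom 2 : Fˣ →* Fˣ).range
  rw [IsCyclic.index_powMonoidHom_range] at h
  have hg : Nat.gcd (Nat.card Fˣ) 2 = 2 := Nat.gcd_eq_right (by
    rw [Nat.card_units, Nat.card_eq_fintype_card]
    exact (Nat.Odd.sub_odd hodd odd_one).two_dvd)
  rw [hg] at h
  rw [mul_comm, h]

/-- A similitude of the odd form has square multiplier. -/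
theorem qfOdd_mult_range (h2 : (2 : F) ≠ 0) (m : ℕ) :
    (SemiSim.multHom (qfOdd m F)).range = (powMonoidHom 2 : Fˣ →* Fˣ).range := by
  refine le_antisymm ?_ ?_
  · rintro _ ⟨S, rfl⟩
    have hσ : S.1.σ = 1 := S.2
    have h := S.1.sdet_sq
    obtain ⟨D, hD⟩ : ∃ D, D = (LinearMap.toMatrix₂' F (qfOdd m F).polarBilin).det := ⟨_, rfl⟩
    rw [← hD, hσ, RingAut.one_apply] at h
    have hD0 : D ≠ 0 := by
      have hnd : LinearMap.BilinForm.Nondegenerate (qfOdd m F).polarBilin :=
        ⟨fun u hu => qfOdd_sep h2 m u hu,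
          fun u hu => qfOdd_sep h2 m u fun y => by rw [QuadraticMap.polar_comm]; exact hu y⟩
      rw [hD, show LinearMap.toMatrix₂' F (qfOdd m F).polarBilin =
          LinearMap.toMatrix₂ (Pi.basisFun F _) (Pi.basisFun F _) (qfOdd m F).polarBilin from by
            ext i j; simp [LinearMap.toMatrix₂_apply, LinearMap.toMatrix₂'_apply]]
      exact (LinearMap.separatingLeft_iff_det_ne_zero (Pi.basisFun F _)).1 hnd.1
    have hc : S.1.sdet * S.1.sdet = (S.1.c : F) ^ (2 * m + 1) := by
      have e : Fintype.card (Unit ⊕ (Fin m ⊕ Fin m)) = 2 * m + 1 := by simp; omega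
      rw [e] at h
      exact mul_right_cancel₀ hD0 h
    refine ⟨Units.mk0 S.1.sdet S.1.sdet_ne_zero * (S.1.c ^ m)⁻¹, Units.ext ?_⟩
    show ((Units.mk0 S.1.sdet S.1.sdet_ne_zero * (S.1.c ^ m)⁻¹) ^ 2 : Fˣ).val = (S.1.c : F)
    simp only [Units.val_pow_eq_pow_val, Units.val_mul, Units.val_mk0, Units.val_inv_eq_inv_val]
    have hc0 : (S.1.c : F) ≠ 0 := Units.ne_zero _
    field_simp
    linear_combination hc
  · rintro _ ⟨l, rfl⟩
    exact ⟨⟨SemiSim.scalar l, rfl⟩, by
      show l * l = l ^ 2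
      rw [sq]⟩

theorem binary_norm_mul (a b x y z w : F) :
    (x * z - b * y * w) ^ 2 + a * (x * z - b * y * w) * (y * z + (x + a * y) * w) +
        b * (y * z + (x + a * y) * w) ^ 2 =
      (x ^ 2 + a * x * y + b * y ^ 2) * (z ^ 2 + a * z * w + b * w ^ 2) := by ring

theorem exists_binary_value {a b : F}
    (hab : ∀ z₁ z₂ : F, z₁ ^ 2 + a * z₁ * z₂ + b * z₂ ^ 2 = 0 → z₁ = 0 ∧ z₂ = 0) (c : F) :
    ∃ x y : F, x ^ 2 + a * x * y + b * y ^ 2 = c := by
  by_cases h2 : (2 : F) = 0
  · obtain ⟨r, hr⟩ := isSquare_of_two_eq_zero h2 c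
    exact ⟨r, 0, by rw [hr]; ring⟩
  · obtain ⟨s, t, hst⟩ := exists_binary_eq h2 (a := 1) (b := 4 * b - a ^ 2) one_ne_zero
      (anisotropic_disc hab) c
    exact ⟨s + t * (-a), 2 * t, by linear_combination hst⟩

/-- Every unit is the multiplier of a similitude of the minus form. -/
theorem exists_minus_similitude (m : ℕ) {a b : F}
    (hab : ∀ z₁ z₂ : F, z₁ ^ 2 + a * z₁ * z₂ + b * z₂ ^ 2 = 0 → z₁ = 0 ∧ z₂ = 0) (c : Fˣ) :
    ∃ S : SemiSim (qfMinus m F a b), S.σ = 1 ∧ S.c = c := by
  obtain ⟨x, y, hxy⟩ := exists_binary_value hab (c : F)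
  let M : ((Fin m ⊕ Fin m) ⊕ Fin 2 → F) →ₗ[F] ((Fin m ⊕ Fin m) ⊕ Fin 2 → F) :=
    { toFun := fun v k =>
        match k with
        | .inl (.inl i) => (c : F) * v (.inl (.inl i))
        | .inl (.inr i) => v (.inl (.inr i))
        | .inr i => ![x * v (.inr 0) - b * y * v (.inr 1), y * v (.inr 0) + (x + a * y) * v (.inr 1)] i
      map_add' := fun u v => funext fun k => by
        rcases k with (k | k) | k
        · exact mul_add _ _ _
        · rfl
        · fin_cases k <;> simp <;> ring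
      map_smul' := fun r v => funext fun k => by
        rcases k with (k | k) | k
        · simp; ring
        · rfl
        · fin_cases k <;> simp <;> ring }
  have hQ : ∀ v, qfMinus m F a b (M v) = (c : F) * qfMinus m F a b v := by
    intro v
    simp only [qfMinus_apply, Cfsg.quadFormMinus, M, LinearMap.coe_mk, AddHom.coe_mk, Matrix.cons_val_zero,
      Matrix.cons_val_one, mul_add, Finset.mul_sum, mul_assoc]
    have := binary_norm_mul a b x y (v (.inr 0)) (v (.inr 1))
    rw [hxy] at this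
    simp only [← mul_assoc] at this ⊢
    linear_combination this
  have hinj : Function.Injective M := (injective_iff_map_eq_zero M).2 fun v hv =>
    qfMinus_sep m hab v fun w => by
      have h : polar (qfMinus m F a b) (M v) (M w) = (c : F) * polar (qfMinus m F a b) v w := by
        simp only [polar, ← map_add, hQ]; ring
      rw [hv, QuadraticMap.polar_zero_left] at h
      exact (mul_eq_zero.1 h.symm).resolve_left c.ne_zero
  exact ⟨{ map := (LinearEquiv.ofBijective M ⟨hinj, Finite.injective_iff_surjective.1 hinj⟩).toAddEquiv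
           σ := 1
           c := c
           map_smul := fun r v => M.map_smul r v
           map_quad := fun v => hQ v }, rfl, rfl⟩

theorem qfMinus_mult_range (m : ℕ) {a b : F}
    (hab : ∀ z₁ z₂ : F, z₁ ^ 2 + a * z₁ * z₂ + b * z₂ ^ 2 = 0 → z₁ = 0 ∧ z₂ = 0) :
    (SemiSim.multHom (qfMinus m F a b)).range = ⊤ :=
  MonoidHom.range_eq_top.2 fun c => by
    obtain ⟨S, hσ, hc⟩ := exists_minus_similitude m hab c
    exact ⟨⟨S, hσ⟩, hc⟩

theorem card_mulAut_pOmegaOdd {p f : ℕ} [Fact p.Prime] (hF : Fintype.card F = p ^ f) (hodd : Odd p) (m : ℕ)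
    (hm : 3 ≤ m) :
    Nat.card (MulAut (Cfsg.POmega F (Cfsg.quadFormOdd m F))) =
      2 * f * Nat.card (Cfsg.POmega F (Cfsg.quadFormOdd m F)) := by
  have hodd' : Odd (Fintype.card F) := hF ▸ hodd.pow
  have h2 := two_ne_zero_of_odd (F := F) hodd'
  have h5 : 5 ≤ Fintype.card (Unit ⊕ (Fin m ⊕ Fin m)) := by simp; omega
  have h := SemiSim.card_mulAut (frameOdd h2 m hm) (four_le_of_big hm fun h => by
    simp [Module.finrank_fintype_fun_eq_card]; omega) (fieldLift_odd h2 m hm)
  rw [qfOdd_mult_range h2, (CfsgLib.KnownC.exists_zmod_mulEquiv_ringAut hF).1,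
    ← card_units_squares (F := F) h2] at h
  have hcz := card_center_omega_one (qfOdd m F) (qfOdd_sep h2 m) h5 (Or.inr (by
    rintro ⟨g, hg, hgm⟩
    have hd : Matrix.GeneralLinearGroup.det (g : Matrix.GeneralLinearGroup (Unit ⊕ (Fin m ⊕ Fin m)) F) = 1 :=
      omega_le_special (qfOdd m F) hg
    have hd' := congrArg Units.val hd
    rw [Matrix.GeneralLinearGroup.val_det_apply, hgm, Matrix.det_neg, Matrix.det_one, mul_one,
      Units.val_one, Odd.neg_one_pow ⟨m, by simp; omega⟩] at hd'
    exact h2 (by linear_combination -hd')))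
  have hO := card_pOmega_mul (qfOdd m F)
  rw [hcz, omega_index_odd (qfOdd m F) (qfOdd_sep h2 m) h2 (by omega), mul_one] at hO
  rw [← hO, qfOdd_coe] at h
  have hpos : 0 < Nat.card (powMonoidHom 2 : Fˣ →* Fˣ).range := Nat.card_pos
  refine Nat.eq_of_mul_eq_mul_right (Nat.mul_pos (Nat.zero_lt_two) hpos) ?_
  rw [h]
  ring

theorem card_mulAut_pOmegaMinus {p f : ℕ} [Fact p.Prime] (hF : Fintype.card F = p ^ f) (m : ℕ) (hm : 3 ≤ m)
    (a b : F) (hab : ∀ z₁ z₂ : F, z₁ ^ 2 + a * z₁ * z₂ + b * z₂ ^ 2 = 0 → z₁ = 0 ∧ z₂ = 0) :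
    Nat.card (MulAut (Cfsg.POmega F (Cfsg.quadFormMinus m F a b))) =
      (if p = 2 then 2 else (if Even ((m + 1) * (p ^ f - 1) / 2) then 4 else 8)) * f *
        Nat.card (Cfsg.POmega F (Cfsg.quadFormMinus m F a b)) := by
  have h5 : 5 ≤ Fintype.card ((Fin m ⊕ Fin m) ⊕ Fin 2) := by simp; omega
  have hQ := qfMinus_sep (F := F) m hab
  have h := SemiSim.card_mulAut (frameMinus m hm hab) (four_le_of_big hm fun h => by
    simp [Module.finrank_fintype_fun_eq_card]; omega) (fieldLift_minus m hm hab)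
  rw [qfMinus_mult_range m hab, Subgroup.card_top, (CfsgLib.KnownC.exists_zmod_mulEquiv_ringAut hF).1,
    ← card_pOmega_mul, qfMinus_coe] at h
  have : CharP F p := charP_of_card_eq_prime_pow hF
  refine Nat.eq_of_mul_eq_mul_right (Nat.card_pos : 0 < Nat.card Fˣ) (h.trans ?_)
  by_cases hp : p = 2
  · subst hp
    have h2 : (2 : F) = 0 := CharTwo.two_eq_zero
    rw [if_pos rfl, ← qfMinus_coe, card_center_omega_one _ hQ h5 (Or.inl h2),
      omega_index_even _ hQ (Or.inr (by rw [Module.finrank_fintype_fun_eq_card]; omega)) h2 (by omega)]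
    ring
  · have hp' : Odd p := (Fact.out : p.Prime).odd_of_ne_two hp
    have hodd : Odd (Fintype.card F) := hF ▸ hp'.pow
    have h2 := two_ne_zero_of_odd (F := F) hodd
    have hneg := neg_one_mem_omega_iff (qfMinus m F a b)
      (by rw [qfMinus_eq_minusForm]; exact minusForm_nondeg h2 m a b hab) h2 (by simp [parity_simps])
    rw [qfMinus_eq_minusForm, minusForm_disc, ← qfMinus_eq_minusForm] at hneg
    have hns := not_isSquare_disc h2 a b hab
    have hdisc : IsSquare ((-1 : F) ^ m * (4 * b - a * a)) ↔ ¬ Fintype.card F ^ (m + 1) % 4 = 1 := by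
      rw [show (-1 : F) ^ m * (4 * b - a * a) = (-1) ^ (m + 1) * (a * a - 4 * b) by ring]
      have hs := isSquare_neg_one_pow_iff (F := F) h2 (m + 1)
      constructor
      · intro hsq h1
        obtain ⟨c, hc⟩ := hs.2 h1
        obtain ⟨e, he⟩ := hsq
        have hc0 : c ≠ 0 := fun h0 => by
          rw [h0, mul_zero] at hc
          exact pow_ne_zero _ (neg_ne_zero.2 one_ne_zero) hc
        exact hns ⟨e / c, by field_simp; linear_combination he - (a * a - 4 * b) * hc⟩
      · intro h1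
        exact isSquare_mul_of_not _ _ (fun hs' => h1 (hs.1 hs')) hns
    rw [hdisc, hF] at hneg
    have hpar : Even ((m + 1) * (p ^ f - 1) / 2) ↔ (p ^ f) ^ (m + 1) % 4 = 1 := by
      obtain ⟨t, ht⟩ := hp'.pow (n := f)
      rw [ht, show (m + 1) * (2 * t + 1 - 1) / 2 = (m + 1) * t by
        rw [Nat.add_sub_cancel, mul_left_comm, Nat.mul_div_cancel_left _ (by norm_num)],
        Nat.pow_mod, Nat.even_mul]
      rcases Nat.even_or_odd t with ⟨u, hu⟩ | ⟨u, hu⟩
      · rw [show (2 * t + 1) % 4 = 1 by omega, one_pow]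
        simp [hu, ← two_mul]
      · rw [show (2 * t + 1) % 4 = 3 by omega]
        have ht' : ¬ Even t := Nat.not_even_iff_odd.2 ⟨u, hu⟩
        rcases Nat.even_or_odd (m + 1) with ⟨v, hv⟩ | ⟨v, hv⟩
        · simp [hv, ← two_mul, pow_mul, Nat.pow_mod]
        · simp [hv, ht', pow_succ, pow_mul, Nat.mul_mod, Nat.pow_mod, parity_simps]
    rw [if_neg hp, ← qfMinus_coe, omega_index_odd _ hQ h2 (by omega)]
    by_cases h4 : (p ^ f) ^ (m + 1) % 4 = 1
    · rw [if_pos (hpar.2 h4), card_center_omega_one _ hQ h5 (Or.inr fun e => hneg.1 e h4)]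
      ring
    · rw [if_neg (fun e => h4 (hpar.1 e)), card_center_omega_two _ hQ h5 h2 (hneg.2 h4)]
      ring

end CfsgLib.Classical
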