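import Mathlib
import Cfsg.Agent.Lib.Classical.OrthOutCount

/-!
Outer automorphism groups: the odd-dimensional groups and the minus groups in characteristic two.
-/

set_option autoImplicit false
set_option linter.unusedSectionVars false
set_option linter.unusedVariables false

namespace CfsgLib.Classical

open CfsgLib.Geom
open Matrix
open QuadraticMap (polar)

/-- A group mapping onto `A` with a section that centralises the kernel is a product. -/
theorem nonempty_prodEquiv_of_section {G A N : Type*} [Group G] [Group A] [Group N] (π : G →* A)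
    (s : A →* G) (hs : ∀ a, π (s a) = a) (i : N →* G) (hi : Function.Injective i)
    (hrange : i.range = π.ker) (hcomm : ∀ a n, Commute (i n) (s a)) : Nonempty (G ≃* N × A) := by
  let e : N × A →* G := MonoidHom.noncommCoprod i s fun n a => hcomm a n
  have hie : ∀ n, π (i n) = 1 := fun n => by
    have : i n ∈ π.ker := hrange ▸ ⟨n, rfl⟩
    exact this
  have he : Function.Bijective e := by
    constructor
    · rw [injective_iff_map_eq_one]
      rintro ⟨n, a⟩ h
      change i n * s a = 1 at h
      have h1 := congrArg π h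
      rw [map_mul, hie, one_mul, hs, map_one] at h1
      subst h1
      rw [map_one, mul_one, map_eq_one_iff i hi] at h
      subst h
      rfl
    · intro g
      have : g * (s (π g))⁻¹ ∈ i.range := by
        rw [hrange, MonoidHom.mem_ker, map_mul, map_inv, hs, mul_inv_cancel]
      obtain ⟨n, hn⟩ := this
      exact ⟨(n, π g), by show i n * s (π g) = g; rw [hn, inv_mul_cancel_right]⟩
  exact ⟨(MulEquiv.ofBijective e he).symm⟩

/-- A normal subgroup of order two is central. -/
theorem commute_of_card_two {G : Type*} [Group G] (N : Subgroup G) [N.Normal] (h : Nat.card N = 2)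
    (n : G) (hn : n ∈ N) (g : G) : Commute n g := by
  obtain ⟨x, y, hxy, hu⟩ := Nat.card_eq_two_iff.1 h
  have hcases : ∀ z : N, z.1 = 1 ∨ z.1 = n ∨ n = 1 := by
    intro z
    by_cases hn1 : n = 1
    · exact Or.inr (Or.inr hn1)
    by_cases hz : z.1 = 1
    · exact Or.inl hz
    refine Or.inr (Or.inl ?_)
    have key : ∀ w : N, w = x ∨ w = y := fun w => by
      have : w ∈ ({x, y} : Set N) := hu ▸ Set.mem_univ w
      simpa using this
    have hz1 : z ≠ 1 := fun e => hz (congrArg Subtype.val e)
    have hn1' : (⟨n, hn⟩ : N) ≠ 1 := fun e => hn1 (congrArg Subtype.val e)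
    rcases key z with a | a <;> rcases key ⟨n, hn⟩ with b | b <;> rcases key 1 with c | c <;>
      first
        | exact congrArg Subtype.val (a.trans b.symm)
        | exact absurd (a.trans c.symm) hz1
        | exact absurd (b.trans c.symm) hn1'
  rcases hcases ⟨g * n * g⁻¹, Subgroup.Normal.conj_mem ‹N.Normal› n hn g⟩ with h1 | h1 | h1
  · have : n = 1 := conj_eq_one_iff.1 h1
    rw [this]; exact Commute.one_left g
  · exact (mul_inv_eq_iff_eq_mul.1 h1).symm
  · rw [h1]; exact Commute.one_left g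

variable {F : Type*} [Field F] [Finite F] {ι : Type} [Fintype ι] [DecidableEq ι]
variable {Q : QuadraticForm F (ι → F)}

namespace SemiSim

/-- The map to the outer automorphism group. -/
noncomputable def outHom (Q : QuadraticForm F (ι → F)) : SemiSim Q →* Cfsg.Out (Cfsg.POmega F (⇑Q)) :=
  (QuotientGroup.mk' _).comp (autC Q)

theorem outHom_ker {m : ℕ} (K : OFrame Q m) : (outHom Q).ker = innerSub Q := by
  rw [outHom, ← MonoidHom.comap_ker, QuotientGroup.ker_mk', comap_inn K]

theorem outHom_surjective {m : ℕ} (K : OFrame Q m) (hbig : BigEnough F (ι → F) m) (hlift : K.FieldLift) :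
    Function.Surjective (outHom Q) :=
  (QuotientGroup.mk'_surjective _).comp (autC_surjective K hbig hlift)

theorem innerSub_le_ker_σHom : innerSub Q ≤ (σHom (Q := Q)).ker := by
  refine sup_le ?_ ?_
  · rintro _ ⟨l, rfl⟩; rfl
  · rintro _ ⟨k, -, rfl⟩; rfl

/-- The field part of an outer automorphism. -/
theorem exists_outField {m : ℕ} (K : OFrame Q m) (hbig : BigEnough F (ι → F) m) (hlift : K.FieldLift) :
    ∃ π : Cfsg.Out (Cfsg.POmega F (⇑Q)) →* (F ≃+* F), ∀ S, π (outHom Q S) = S.σ :=
  ⟨(outHom Q).liftOfSurjective (outHom_surjective K hbig hlift)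
      ⟨σHom, (outHom_ker K).trans_le innerSub_le_ker_σHom⟩,
    fun S => MonoidHom.liftOfRightInverse_comp_apply _ _ _ _ S⟩

theorem card_out (Q : QuadraticForm F (ι → F)) (hQ : ∀ x, (∀ y, polar Q x y = 0) → x = 0)
    (h5 : 5 ≤ Fintype.card ι) :
    Nat.card (Cfsg.Out (Cfsg.POmega F (⇑Q))) * Nat.card (Cfsg.POmega F (⇑Q)) =
      Nat.card (MulAut (Cfsg.POmega F (⇑Q))) := by
  have hs := isSimpleGroup_pOmega Q hQ h5
  have hc : Subgroup.center (Cfsg.POmega F (⇑Q)) = ⊥ := by
    rcases hs.eq_bot_or_eq_top_of_normal (Subgroup.center (Cfsg.POmega F (⇑Q))) inferInstance with h | h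
    · exact h
    exfalso
    have h5' : 5 ≤ Module.finrank F (ι → F) := by rwa [Module.finrank_fintype_fun_eq_card]
    obtain ⟨e⟩ : Nonempty (POmG Q ≃* Cfsg.POmega F (⇑Q)) := ⟨pOmegaEquiv Q⟩
    have hperf := commutator_commutator_quadIsoms Q hQ h5'
    obtain ⟨x, hx⟩ := exists_ne (1 : Cfsg.POmega F (⇑Q))
    have hcomm : ∀ a b : POmG Q, a * b = b * a := fun a b => e.injective (by
      rw [map_mul, map_mul]
      exact Subgroup.mem_center_iff.1 (h ▸ Subgroup.mem_top (e b)) (e a))
    have h1 : commutator (POmG Q) = ⊥ := eq_bot_iff.2 (by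
      show ⁅(⊤ : Subgroup (POmG Q)), (⊤ : Subgroup (POmG Q))⁆ ≤ ⊥
      refine Subgroup.commutator_le.2 ?_
      intro a _ b _
      rw [Subgroup.mem_bot, commutatorElement_eq_one_iff_mul_comm]
      exact hcomm a b)
    have h2 : commutator (POmG Q) = ⊤ := by
      show ⁅(⊤ : Subgroup (POmG Q)), (⊤ : Subgroup (POmG Q))⁆ = ⊤
      have hm : (⊤ : Subgroup (OmG Q)).map (toP (Q := Q)) = ⊤ :=
        Subgroup.map_top_of_surjective _ toP_surjective
      have hp : ⁅(⊤ : Subgroup (OmG Q)), (⊤ : Subgroup (OmG Q))⁆ = ⊤ := hperf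
      have h3 := Subgroup.map_commutator (⊤ : Subgroup (OmG Q)) ⊤ (toP (Q := Q))
      rw [hp, hm] at h3
      exact h3.symm
    obtain ⟨y, rfl⟩ := e.surjective x
    have : y ∈ (⊥ : Subgroup (POmG Q)) := (h1.symm.trans h2).symm ▸ Subgroup.mem_top y
    exact hx (by rw [Subgroup.mem_bot.1 this, map_one])
  have hinj : Function.Injective (MulAut.conj : Cfsg.POmega F (⇑Q) →* MulAut _) := by
    rw [← MonoidHom.ker_eq_bot_iff, eq_bot_iff]
    intro x hx
    rw [← hc, Subgroup.mem_center_iff]
    intro y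
    have := MulEquiv.congr_fun hx y
    simp only [MulAut.conj_apply, MulAut.one_apply, mul_inv_eq_iff_eq_mul] at this
    exact this.symm
  rw [Nat.card_congr (MonoidHom.ofInjective hinj).toEquiv]
  exact (Subgroup.card_eq_card_quotient_mul_card_subgroup _).symm

end SemiSim

variable [Fintype F]

/-- Coordinatewise field automorphisms as a homomorphism. -/
def coordHom (Q : QuadraticForm F (ι → F)) (h : ∀ (σ : F ≃+* F) (v : ι → F), Q (fun i => σ (v i)) = σ (Q v)) :
    (F ≃+* F) →* SemiSim Q where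
  toFun σ :=
    { map := coordMap σ
      σ := σ
      c := 1
      map_smul := fun a v => funext fun i => map_mul σ a (v i)
      map_quad := fun v => (h σ v).trans (one_mul _).symm }
  map_one' := SemiSim.ext' (fun _ => rfl) rfl rfl
  map_mul' σ τ := SemiSim.ext' (fun _ => rfl) rfl (Units.ext (by
    show (1 : F) = 1 * σ 1
    rw [map_one, one_mul]))

theorem out_pOmegaOdd {p f m : ℕ} [Fact p.Prime] (hf : 1 ≤ f) (hF : Fintype.card F = p ^ f) (hp : p ≠ 2)
    (hm : 3 ≤ m) : Nonempty (Cfsg.Out (Cfsg.POmega F (Cfsg.quadFormOdd m F)) ≃* Multiplicative (ZMod 2 × ZMod f)) := by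
  have hp' : Odd p := (Fact.out : p.Prime).odd_of_ne_two hp
  have hodd : Odd (Fintype.card F) := hF ▸ hp'.pow
  have h2 := two_ne_zero_of_odd (F := F) hodd
  have h5 : 5 ≤ Fintype.card (Unit ⊕ (Fin m ⊕ Fin m)) := by simp; omega
  have hA := card_mulAut_pOmegaOdd hF hp' m hm
  obtain ⟨hcard, ⟨eF⟩⟩ := CfsgLib.KnownC.exists_zmod_mulEquiv_ringAut hF
  rw [← qfOdd_coe] at hA ⊢
  have hbig : BigEnough F (Unit ⊕ (Fin m ⊕ Fin m) → F) m := four_le_of_big hm fun h => by
    simp [Module.finrank_fintype_fun_eq_card]; omega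
  obtain ⟨π, hπ⟩ := SemiSim.exists_outField (frameOdd h2 m hm) hbig (fieldLift_odd h2 m hm)
  let s := (SemiSim.outHom (qfOdd m F)).comp (coordHom (qfOdd m F) fun σ v => by
    simp [qfOdd_apply, Cfsg.quadFormOdd, map_sum])
  have hs : ∀ σ, π (s σ) = σ := fun σ => hπ _
  have hfs := SemiSim.card_out (qfOdd m F) (qfOdd_sep h2 m) h5
  have := SemiSim.autC_surjective (frameOdd h2 m hm) hbig (fieldLift_odd h2 m hm)
  have hpos : 0 < Nat.card (Cfsg.POmega F (⇑(qfOdd m F))) := Nat.card_pos
  rw [hA] at hfs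
  have hout := Nat.eq_of_mul_eq_mul_right hpos hfs
  have hker : Nat.card π.ker = 2 := by
    have h := Subgroup.card_mul_index π.ker
    rw [Subgroup.index_ker, MonoidHom.range_eq_top.2 (fun a => ⟨s a, hs a⟩), Subgroup.card_top, hcard,
      hout] at h
    exact Nat.eq_of_mul_eq_mul_right (by omega) h
  obtain ⟨e⟩ := nonempty_prodEquiv_of_section π s hs π.ker.subtype (Subgroup.subtype_injective _)
    (Subgroup.range_subtype _) fun a n => commute_of_card_two π.ker hker n.1 n.2 _
  have hc : IsCyclic π.ker := isCyclic_of_prime_card (p := 2) hker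
  exact ⟨e.trans (((zmodCyclicMulEquiv hc).symm.trans
    (AddEquiv.toMultiplicative (ZMod.ringEquivCongr hker).toAddEquiv)).prodCongr eF.symm) |>.trans
      (MulEquiv.prodMultiplicative (G := ZMod 2) (H := ZMod f)).symm⟩

/-- In characteristic two the anisotropic constant has non-zero trace. -/
theorem sum_pow_two_ne_zero {f : ℕ} (hf : 1 ≤ f) (hF : Fintype.card F = 2 ^ f) {a b : F}
    (hab : ∀ z₁ z₂ : F, z₁ ^ 2 + a * z₁ * z₂ + b * z₂ ^ 2 = 0 → z₁ = 0 ∧ z₂ = 0) :
    ∑ i ∈ Finset.range f, (b / a ^ 2) ^ 2 ^ i ≠ 0 := by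
  have : CharP F 2 := charP_of_card_eq_prime_pow hF
  have h2 : (2 : F) = 0 := CharTwo.two_eq_zero
  have ha : a ≠ 0 := (two_ne_zero_or_ne_zero hab).resolve_left fun h => h h2
  let T : F →+ F :=
    { toFun := fun x => ∑ i ∈ Finset.range f, x ^ 2 ^ i
      map_zero' := by simp
      map_add' := fun x y => by simp only [add_pow_char_pow, Finset.sum_add_distrib] }
  let φ : F →+ F :=
    { toFun := fun s => s * s + s
      map_zero' := by simp
      map_add' := fun x y => by linear_combination (x * y) * h2 }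
  have hle : φ.range ≤ T.ker := by
    rintro _ ⟨s, rfl⟩
    show ∑ i ∈ Finset.range f, (s * s + s) ^ 2 ^ i = 0
    simp only [add_pow_char_pow, Finset.sum_add_distrib, ← sq, ← pow_mul, ← pow_succ']
    have h := Finset.sum_range_succ' (fun i => s ^ 2 ^ i) f
    rw [Finset.sum_range_succ, ← hF, FiniteField.pow_card, pow_zero, pow_one] at h
    rw [← add_right_cancel h]
    exact CharTwo.add_self_eq_zero _
  intro h0
  have hmem : b / a ^ 2 ∈ T.ker := h0
  have hnot : b / a ^ 2 ∉ φ.range := by
    rintro ⟨s, hs⟩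
    have hs' : s * s + s = b / a ^ 2 := hs
    refine one_ne_zero (hab (a * s) 1 ?_).2
    field_simp at hs'
    linear_combination hs' + b * h2
  have hidx : φ.range.index = 2 := by
    have hker : ∀ s, s ∈ φ.ker ↔ s = 0 ∨ s = 1 := fun s => by
      refine ⟨fun h => ?_, ?_⟩
      · have h0' : s * s + s = 0 := h
        have h' : s * (s + 1) = 0 := by linear_combination h0'
        rcases mul_eq_zero.1 h' with e | e
        · exact Or.inl e
        · exact Or.inr (by linear_combination e - h2)
      · rintro (rfl | rfl)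
        · exact zero_mem _
        · show (1 : F) * 1 + 1 = 0
          linear_combination h2
    have hk2 : Nat.card φ.ker = 2 := by
      refine Nat.card_eq_two_iff.2 ⟨⟨0, zero_mem _⟩, ⟨1, (hker 1).2 (Or.inr rfl)⟩, fun e => zero_ne_one
        (congrArg Subtype.val e), Set.eq_univ_of_forall fun x => ?_⟩
      rcases (hker x.1).1 x.2 with e | e
      · exact Or.inl (Subtype.ext e)
      · exact Or.inr (Subtype.ext e)
    have h1 := AddSubgroup.card_mul_index φ.range
    have hk := AddSubgroup.card_mul_index φ.ker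
    rw [AddSubgroup.index_ker, hk2] at hk
    rw [← hk, mul_comm 2] at h1
    exact Nat.eq_of_mul_eq_mul_left Nat.card_pos h1
  have htop : ∀ x : F, T x = 0 := fun x => by
    by_cases hx : x ∈ φ.range
    · exact hle hx
    · have := AddSubgroup.add_mem_iff_of_index_two hidx (a := x) (b := b / a ^ 2)
      have h : x + b / a ^ 2 ∈ T.ker := hle (this.2 (iff_of_false hx hnot))
      have h' := T.ker.sub_mem h hmem
      rwa [add_sub_cancel_right] at h'
  obtain ⟨P, hP⟩ : ∃ P : Polynomial F, P = ∑ i ∈ Finset.range f, Polynomial.X ^ 2 ^ i := ⟨_, rfl⟩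
  have hdeg : P.natDegree ≤ 2 ^ (f - 1) := by
    rw [hP]
    refine Polynomial.natDegree_sum_le_of_forall_le _ _ fun i hi => ?_
    rw [Polynomial.natDegree_X_pow]
    exact Nat.pow_le_pow_right (by norm_num) (by have := Finset.mem_range.1 hi; omega)
  have hP0 : P = 0 := by
    refine Polynomial.eq_zero_of_natDegree_lt_card_of_eval_eq_zero P (f := (id : F → F))
      Function.injective_id (fun x => ?_) (lt_of_le_of_lt hdeg ?_)
    · rw [hP, id, Polynomial.eval_finsetSum]
      simpa [T] using htop x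
    · rw [hF]; exact Nat.pow_lt_pow_right (by norm_num) (by omega)
  have hc : P.coeff 1 = 1 := by
    rw [hP, Polynomial.finsetSum_coeff, Finset.sum_eq_single 0]
    · simp
    · intro i _ hi
      rw [Polynomial.coeff_X_pow, if_neg]
      exact (Nat.one_lt_two_pow hi).ne
    · intro h; simp at h; omega
  rw [hP0, Polynomial.coeff_zero] at hc
  exact zero_ne_one hc

theorem out_pOmegaMinus_two {f m : ℕ} (hf : 1 ≤ f) (hF : Fintype.card F = 2 ^ f) (hm : 3 ≤ m) (a b : F)
    (hab : ∀ z₁ z₂ : F, z₁ ^ 2 + a * z₁ * z₂ + b * z₂ ^ 2 = 0 → z₁ = 0 ∧ z₂ = 0) :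
    IsCyclic (Cfsg.Out (Cfsg.POmega F (Cfsg.quadFormMinus m F a b))) ∧
      Nat.card (Cfsg.Out (Cfsg.POmega F (Cfsg.quadFormMinus m F a b))) = 2 * f := by
  have : CharP F 2 := charP_of_card_eq_prime_pow hF
  have h2 : (2 : F) = 0 := CharTwo.two_eq_zero
  have ha : a ≠ 0 := (two_ne_zero_or_ne_zero hab).resolve_left fun h => h h2
  have h5 : 5 ≤ Fintype.card ((Fin m ⊕ Fin m) ⊕ Fin 2) := by simp; omega
  have hA := card_mulAut_pOmegaMinus hF m hm a b hab
  rw [if_pos rfl] at hA
  rw [← qfMinus_coe] at hA ⊢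
  have hQ := qfMinus_sep (F := F) m hab
  have hbig : BigEnough F ((Fin m ⊕ Fin m) ⊕ Fin 2 → F) m := four_le_of_big hm fun h => by
    simp [Module.finrank_fintype_fun_eq_card]; omega
  have hsurj := SemiSim.autC_surjective (frameMinus m hm hab) hbig (fieldLift_minus m hm hab)
  have hpos : 0 < Nat.card (Cfsg.POmega F (⇑(qfMinus m F a b))) := Nat.card_pos
  have hfs := SemiSim.card_out (qfMinus m F a b) hQ h5
  rw [hA] at hfs
  have hout := Nat.eq_of_mul_eq_mul_right hpos hfs
  refine ⟨?_, hout⟩
  obtain ⟨π, hπ⟩ := SemiSim.exists_outField (frameMinus m hm hab) hbig (fieldLift_minus m hm hab)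
  obtain ⟨φ, hφ, hφo, -⟩ := CfsgLib.KnownC.exists_ringAut_generator (p := 2) hF
  let M : ((Fin m ⊕ Fin m) ⊕ Fin 2 → F) → ((Fin m ⊕ Fin m) ⊕ Fin 2 → F) := fun v k =>
    match k with
    | .inl k => v (.inl k) ^ 2
    | .inr i => ![v (.inr 0) ^ 2 + b * v (.inr 1) ^ 2, a * v (.inr 1) ^ 2] i
  have hMinj : Function.Injective M := by
    intro u v e
    funext k
    have e0 := congrFun e (.inr 0)
    have e1 := congrFun e (.inr 1)
    simp [M] at e0 e1
    rcases k with k | i
    · exact frobenius_inj F 2 (congrFun e (.inl k))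
    · have h1 : u (.inr 1) = v (.inr 1) := frobenius_inj F 2 (e1.resolve_right ha)
      fin_cases i
      · rw [h1] at e0
        exact frobenius_inj F 2 (add_right_cancel e0)
      · exact h1
  let M' : ((Fin m ⊕ Fin m) ⊕ Fin 2 → F) →+ ((Fin m ⊕ Fin m) ⊕ Fin 2 → F) :=
    { toFun := M
      map_zero' := funext fun k => by
        rcases k with k | i
        · simp [M]
        · fin_cases i <;> simp [M]
      map_add' := fun u v => funext fun k => by
        rcases k with k | i
        · simp [M, add_pow_char]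
        · fin_cases i <;> simp [M, add_pow_char] <;> ring }
  let ψ : SemiSim (qfMinus m F a b) :=
    { map := AddEquiv.ofBijective M' ⟨hMinj, Finite.injective_iff_surjective.1 hMinj⟩
      σ := φ
      c := 1
      map_smul := fun r v => funext fun k => by
        show M (r • v) k = φ r * M v k
        rw [hφ]
        rcases k with k | i
        · exact mul_pow _ _ _
        · fin_cases i <;> simp [M] <;> ring
      map_quad := fun v => by
        show qfMinus m F a b (M v) = _
        rw [hφ, Units.val_one, one_mul]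
        simp only [qfMinus_apply, Cfsg.quadFormMinus, M, Matrix.cons_val_zero, Matrix.cons_val_one,
          add_pow_char, sum_pow_char, mul_pow]
        congr 1
        linear_combination (b * v (.inr 1) ^ 4 * a ^ 2) * h2 }
  have hψσ : ψ.σ = φ := rfl
  have hb0 : ψ.map (Pi.single (.inr 0) 1) = Pi.single (.inr 0) 1 := by
    show M _ = _
    funext k
    rcases k with k | i
    · simp [M]
    · fin_cases i <;> simp [M]
  have hbl : ∀ l : Fin m ⊕ Fin m, ψ.map (Pi.single (.inl l) 1) = Pi.single (.inl l) 1 := fun l => by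
    show M _ = _
    funext k
    rcases k with k | i
    · by_cases h : k = l <;> simp [M, h]
    · fin_cases i <;> simp [M]
  have hu : ∀ n, (ψ ^ n).map (Pi.single (.inr 1) 1) =
      (a ^ 2 ^ n * ∑ i ∈ Finset.range n, (b / a ^ 2) ^ 2 ^ i) • Pi.single (.inr 0) 1 +
        a ^ (2 ^ n - 1) • Pi.single (.inr 1) 1 := by
    intro n
    induction n with
    | zero => simp
    | succ n ih =>
      rw [pow_succ', SemiSim.mul_map, ih]
      have h1 : 2 ^ (n + 1) - 1 = (2 ^ n - 1) * 2 + 1 := by
        rw [pow_succ]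
        have := Nat.one_le_two_pow (n := n)
        omega
      show M _ = _
      funext k
      rcases k with k | i
      · simp [M]
      · fin_cases i
        · simp only [M, Fin.zero_eta, Fin.isValue, Matrix.cons_val_zero, Pi.add_apply, Pi.smul_apply,
            Pi.single_eq_same, ne_eq, not_false_eq_true, Sum.inr.injEq, zero_ne_one,
            one_ne_zero, Pi.single_eq_of_ne, smul_eq_mul, mul_one, mul_zero, add_zero, zero_add]
          rw [Finset.sum_range_succ', mul_pow, sum_pow_char, pow_zero, pow_one, mul_add,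
            pow_succ 2 n, pow_mul]
          simp only [← pow_mul, ← pow_succ]
          congr 1
          have : (a ^ (2 ^ n - 1)) ^ 2 * a ^ 2 = a ^ (2 ^ n * 2) := by
            rw [← pow_mul, ← pow_add]
            congr 1
            have := Nat.one_le_two_pow (n := n)
            omega
          rw [← pow_mul] at this
          rw [show 2 ^ (n + 1) = 2 ^ n * 2 from pow_succ 2 n, ← this]
          field_simp
        · simp [M]
          rw [h1]
          ring
  have hfix : ∀ n (x : (Fin m ⊕ Fin m) ⊕ Fin 2 → F), ψ.map x = x → (ψ ^ n).map x = x := fun n x hx => by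
    induction n with
    | zero => rfl
    | succ n ih => rw [pow_succ, SemiSim.mul_map, hx, ih]
  have hψf : (ψ ^ f).σ = 1 := by
    show SemiSim.σHom (ψ ^ f) = 1
    rw [map_pow]
    show φ ^ f = 1
    rw [← hφo, pow_orderOf_eq_one]
  have hv0 : qfMinus m F a b (Pi.single (.inr 0) 1) = 1 := by
    simp [qfMinus_apply, Cfsg.quadFormMinus]
  obtain ⟨R, hR⟩ : ∃ R, R = reflEquiv (qfMinus m F a b) (Pi.single (.inr 0) 1)
      (by rw [hv0]; exact one_ne_zero) := ⟨_, rfl⟩
  have hN : (ψ ^ f).map (Pi.single (.inr 1) 1) = a • Pi.single (.inr 0) 1 + Pi.single (.inr 1) 1 := by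
    have hq := congrArg (qfMinus m F a b) (hu f)
    have hc : ((ψ ^ f).c : F) = 1 := by
      have : ∀ n, ((ψ ^ n).c : F) = 1 := fun n => by
        induction n with
        | zero => rfl
        | succ n ih => rw [pow_succ', SemiSim.mul_c, ih, map_one]; exact one_mul 1
      exact this f
    rw [(ψ ^ f).map_quad, hc, hψf, one_mul, RingAut.one_apply] at hq
    have ha1 : a ^ (2 ^ f - 1) = 1 := by rw [← hF]; exact FiniteField.pow_card_sub_one_eq_one a ha
    have haq : a ^ 2 ^ f = a := by rw [← hF, FiniteField.pow_card]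
    rw [hu f, ha1, haq, one_smul]
    rw [ha1, haq, one_smul] at hq
    have hs := sum_pow_two_ne_zero hf hF hab
    obtain ⟨s, hsd⟩ : ∃ s, s = ∑ i ∈ Finset.range f, (b / a ^ 2) ^ 2 ^ i := ⟨_, rfl⟩
    rw [← hsd] at hq hs ⊢
    simp [qfMinus_apply, Cfsg.quadFormMinus] at hq
    have : (a * s) * (a * s + a) = 0 := by linear_combination hq
    rw [show a * s = a by linear_combination ((mul_eq_zero.1 this).resolve_left (mul_ne_zero ha hs)) - a * h2]
  have hRψ : ∀ x, (ψ ^ f).map x = R x := by
    intro x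
    have hlin : ∀ (r : F) y, (ψ ^ f).map (r • y) = r • (ψ ^ f).map y := fun r y => by
      rw [(ψ ^ f).map_smul, hψf]; rfl
    rw [pi_eq_sum_univ' x, map_sum, map_sum]
    refine Finset.sum_congr rfl fun k _ => ?_
    rw [hlin, map_smul]
    congr 1
    rw [hR, reflEquiv_apply]
    rcases k with k | i
    · rw [hfix f _ (hbl k)]
      simp [hv0, polar_qfMinus]
    · fin_cases i
      · simp only [Fin.zero_eta]
        rw [hfix f _ hb0]
        simp [hv0, h2]
      · simp only [Fin.mk_one]
        rw [hN]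
        simp [hv0, polar_qfMinus, h2]
        rw [CharTwo.sub_eq_add, add_comm]
  have hnot : SemiSim.outHom (qfMinus m F a b) (ψ ^ f) ≠ 1 := by
    intro h
    rw [← MonoidHom.mem_ker, SemiSim.outHom_ker (frameMinus m hm hab),
      SemiSim.mem_innerSub_iff (frameMinus m hm hab)] at h
    obtain ⟨l, k, hlk⟩ := h
    have hl : (l : F) = 1 := by
      have h1 := congrArg (fun S : SemiSim (qfMinus m F a b) => S.map (Pi.single (.inr 0) 1)) hlk
      have h2' : qfMinus m F a b (Pi.single (.inr 0) 1) = (l : F) ^ 2 := by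
        conv_lhs => rw [← hfix f _ hb0, show (ψ ^ f).map _ = _ from h1]
        rw [SemiSim.mul_map, SemiSim.scalar_map, SemiSim.ofIsom_map, quad_smul, mem_quadIsoms.1 k.1.2,
          hv0]
        ring
      rw [hv0] at h2'
      have : ((l : F) - 1) ^ 2 = 0 := by linear_combination -h2' + (1 - (l : F)) * h2
      exact sub_eq_zero.1 ((pow_eq_zero_iff two_ne_zero).1 this)
    have hkR : k.1.1 = R := LinearEquiv.ext fun x => by
      rw [← hRψ, hlk, SemiSim.mul_map, SemiSim.scalar_map, SemiSim.ofIsom_map, hl, one_smul]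
    have hex : (∃ t : F, t ≠ 0 ∧ t ≠ 1) ∨ Module.finrank F ((Fin m ⊕ Fin m) ⊕ Fin 2 → F) ≠ 4 :=
      Or.inr (by rw [Module.finrank_fintype_fun_eq_card]; omega)
    have hk : orEquiv (qfMinus m F a b) k.1 ∈ (spinorHom (qfMinus m F a b) hQ hex).ker := by
      rw [← omega_eq_ker_spinorHom _ hQ hex, ← omegaEquiv_coe]
      exact (omegaEquiv (qfMinus m F a b) k).2
    rw [MonoidHom.mem_ker, spinorHom_refl _ hQ hex _ (v := Pi.single (.inr 0) 1) (by rw [hv0]; exact one_ne_zero)
      (by rw [orEquiv_coe, hkR, hR, glOfEquiv_reflEquiv])] at hk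
    exact absurd (congrArg Prod.fst hk) (show Multiplicative.ofAdd (1 : ZMod 2) ≠ 1 by decide)
  refine isCyclic_of_orderOf_eq_card (SemiSim.outHom (qfMinus m F a b) ψ) ?_
  rw [hout]
  have : Finite (Cfsg.Out (Cfsg.POmega F (⇑(qfMinus m F a b)))) := Nat.finite_of_card_ne_zero (by omega)
  have hd : f ∣ orderOf (SemiSim.outHom (qfMinus m F a b) ψ) := by
    rw [← hφo, ← hψσ, ← hπ ψ]
    exact orderOf_map_dvd π _
  have hle : orderOf (SemiSim.outHom (qfMinus m F a b) ψ) ∣ 2 * f := hout ▸ orderOf_dvd_natCard _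
  obtain ⟨k, hk⟩ := hd
  rw [hk] at hle ⊢
  rw [mul_comm 2 f] at hle ⊢
  rcases (Nat.dvd_prime Nat.prime_two).1 (Nat.dvd_of_mul_dvd_mul_left (by omega) hle) with rfl | rfl
  · exfalso
    refine hnot ?_
    rw [map_pow, ← orderOf_dvd_iff_pow_eq_one, hk, mul_one]
  · rfl

end CfsgLib.Classical
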