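import Mathlib
import Cfsg.Agent.Lib.Chev.Bruhat
import Cfsg.Agent.Lib.Chev.WeylCheck

/-!
Centralisers of root involutions: canonical form and stabilisers in the Weyl group.
-/

set_option autoImplicit false

namespace CfsgLib.Classical.ChevFix

open Cfsg.Lie Matrix CfsgLib.Chev

universe u

/-- `v` is dominant for `J` with stabiliser type `J'`. -/
noncomputable def domOK (D : ChevalleyDatum) (dat : LieData) (J J' : List ℕ) (v : ℕ) : Bool :=
  Nat.blt v D.nroots && decide (D.nroots / 2 ≤ v) && allR (fun j => Nat.blt j D.rank && inL J j) J' &&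
  allR (fun j => (inL J' j) == Int.beq' (fcartan D j v) 0) J &&
  allR (fun a => Nat.blt a (D.nroots / 2) || !suppB D dat J a ||
    (decide (0 ≤ fpair D a v) && (Int.beq' (fpair D a v) 0 == suppB D dat J' a))) (upto D.nroots)

/-- All commutator terms of `X_s` with `X_v` have even coefficient. -/
noncomputable def evenOK (D : ChevalleyDatum) (v s : ℕ) : Bool :=
  Nat.beq s v || (!(Nat.beq v (fneg D s)) && (fterms D s v).all fun c => Int.beq' (c.2.1 % 2) 0)

/-- `X_v` centralises the positive root groups and the negative fundamental ones in `J`. -/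
noncomputable def centOK (D : ChevalleyDatum) (J : List ℕ) (v : ℕ) : Bool :=
  allR (fun s => Nat.blt s (D.nroots / 2) || evenOK D v s) (upto D.nroots) &&
    allR (fun j => evenOK D v (fneg D (D.simple j))) J

variable {D : ChevalleyDatum} (g : Good D) {F : Type u} [Field F]

/-- The subgroup generated by `U` and the negative fundamental root groups of `J`. -/
def parK (D : ChevalleyDatum) (F : Type u) [Field F] (J : List ℕ) : Subgroup (GL D.Idx F) :=
  D.posUnipotent F ⊔ rootGen D F {s | ∃ j ∈ J, s = D.neg (D.simple j)}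

include g

theorem half_eq' : half D = D.nroots / 2 := by
  have := g.nroots_eq
  omega

theorem isStep_of_domOK {dat : LieData} {sd : StructData} (hl : LieChecks D dat) (hs : StructChecks D dat sd)
    {J J' : List ℕ} {v : ℕ} (h : domOK D dat J J' v = true) :
    ∃ hv : v < D.nroots, half D ≤ v ∧ (∀ j ∈ J', j < D.rank) ∧ g.IsStep {i | i ∈ J} {i | i ∈ J'} ⟨v, hv⟩ := by
  simp only [domOK, Bool.and_eq_true, Nat.blt, Nat.ble_eq, allR_eq, List.all_eq_true, inL_iff,
    decide_eq_true_eq] at h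
  obtain ⟨⟨⟨⟨hv, hp⟩, hsub⟩, hfix⟩, hdom⟩ := h
  have hh := half_eq' g
  have hv' : v < D.nroots := by omega
  have hdom' : ∀ a : Fin D.nroots, half D ≤ a.val → g.SuppIn {i | i ∈ J} a →
      0 ≤ pair D a v ∧ (pair D a v = 0 ↔ g.SuppIn {i | i ∈ J'} a) := by
    intro a ha hsa
    have := hdom a (by rw [upto_eq]; exact List.mem_range.2 a.2)
    simp only [Bool.or_eq_true, Bool.not_eq_true', Bool.and_eq_true, decide_eq_true_eq,
      beq_iff_eq, g.fpair_eq _ hv'] at this
    rcases this with (h1 | h1) | h1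
    · have h1' : a.val + 1 ≤ D.nroots / 2 := Nat.le_of_ble_eq_true h1
      omega
    · rw [(g.suppB_iff hl hs J a).2 hsa] at h1; cases h1
    · exact ⟨h1.1, by rw [← g.suppB_iff hl hs, ← h1.2, Int.beq'_eq]⟩
  refine ⟨hv', by omega, fun j hj => ?_, ⟨fun i hi => (hsub i hi).2, fun j hj => ?_,
    fun a ha hsa => (hdom' a ha hsa).1, fun a ha hsa => (hdom' a ha hsa).2⟩⟩
  · have := (hsub j hj).1
    omega
  · have := hfix j hj
    rw [beq_iff_eq] at this
    show (j : ℕ) ∈ J' ↔ D.cartan j v = 0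
    rw [← inL_iff, this, Int.beq'_eq, cartan_eq hl.pack j.2 hv']

theorem commute_of_evenOK [CharP F 2] (hc : HasComm D) {v s : ℕ} (hv : v < D.nroots) (hs : s < D.nroots)
    (h : evenOK D v s = true) (t u : F) : Commute (g.xG s u) (g.xG v t) := by
  simp only [evenOK, Bool.or_eq_true, Nat.beq_eq, Bool.and_eq_true, Bool.not_eq_true', List.all_eq_true,
    Int.beq'_eq] at h
  rcases h with rfl | ⟨hne, hterms⟩
  · show g.xG s u * g.xG s t = g.xG s t * g.xG s u
    rw [g.xG_add, g.xG_add, add_comm]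
  by_cases hsv : v = s
  · subst hsv
    show g.xG v u * g.xG v t = g.xG v t * g.xG v u
    rw [g.xG_add, g.xG_add, add_comm]
  have hne' : v ≠ D.neg s := fun e => by
    rw [g.neg_rev hs] at e
    have : Nat.beq v (fneg D s) = true := by rw [Nat.beq_eq, fneg]; omega
    rw [this] at hne
    cases hne
  show g.xG s u * g.xG v t = g.xG v t * g.xG s u
  have h1 := g.xG_conj hc hv hs hsv hne' t u
  rw [List.prod_eq_one, mul_one, mul_inv_eq_iff_eq_mul] at h1
  · exact h1
  intro x hx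
  obtain ⟨c, hc', rfl⟩ := List.mem_map.1 hx
  rw [← g.fterms_eq hs hv] at hc'
  have h0 : ((c.2.1 : ℤ) : F) = 0 :=
    (CharP.intCast_eq_zero_iff F 2 _).2 (Int.dvd_of_emod_eq_zero (hterms c hc'))
  rw [h0, zero_mul, zero_mul, g.xG_zero]

theorem xG_mem_parK {J : List ℕ} (hJ : ∀ j ∈ J, j < D.rank) {s : ℕ}
    (hs : (half D ≤ s ∧ s < D.nroots) ∨ ∃ j ∈ J, s = D.neg (D.simple j)) (t : F) : g.xG s t ∈ parK D F J := by
  rcases hs with hs | ⟨j, hj, rfl⟩
  · exact Subgroup.mem_sup_left (g.xG_mem_posUnipotent ((g.isPosRoot_iff s).2 hs) t)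
  · exact Subgroup.mem_sup_right (g.mem_rootGen (g.neg_lt (g.simple_lt (hJ j hj)))
      (show _ ∈ {s | ∃ i ∈ J, s = D.neg (D.simple i)} from ⟨j, hj, rfl⟩) t)

theorem parK_le_group {J : List ℕ} : parK D F J ≤ D.group F :=
  sup_le g.posUnipotent_le_group (g.rootGen_le fun _ _ hr t => g.xG_mem_group hr t)

theorem nG_mem_parK {J : List ℕ} (hJ : ∀ j ∈ J, j < D.rank) {j : ℕ} (hj : j ∈ J) (t : Fˣ) :
    g.nG (D.simple j) t ∈ parK D F J := by
  rw [Good.nG]
  exact mul_mem (mul_mem (xG_mem_parK g hJ (Or.inl ⟨g.simple_pos (hJ j hj), g.simple_lt (hJ j hj)⟩) _)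
    (xG_mem_parK g hJ (Or.inr ⟨j, hj, rfl⟩) _))
    (xG_mem_parK g hJ (Or.inl ⟨g.simple_pos (hJ j hj), g.simple_lt (hJ j hj)⟩) _)

theorem commute_parK [CharP F 2] (hc : HasComm D) {J : List ℕ} (hJ : ∀ j ∈ J, j < D.rank) {v : ℕ}
    (hv : v < D.nroots) (h : centOK D J v = true) (t : F) {x : GL D.Idx F} (hx : x ∈ parK D F J) :
    Commute x (g.xG v t) := by
  simp only [centOK, Bool.and_eq_true, allR_eq, List.all_eq_true, Bool.or_eq_true] at h
  have hle : parK D F J ≤ Subgroup.centralizer {g.xG v t} := by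
    refine sup_le ?_ (g.rootGen_le fun r hr hr' c => ?_)
    · rw [g.posUnipotent_eq]
      refine g.rootGen_le fun r hr hr' c => Subgroup.mem_centralizer_singleton_iff.2 ?_
      rcases h.1 r (by rw [upto_eq]; exact List.mem_range.2 hr') with h1 | h1
      · have : r + 1 ≤ D.nroots / 2 := Nat.le_of_ble_eq_true h1
        have := half_eq' g
        have : half D ≤ r := hr
        omega
      · exact (commute_of_evenOK g hc hv hr' h1 t c).eq
    · obtain ⟨j, hj, rfl⟩ := hr
      refine Subgroup.mem_centralizer_singleton_iff.2 ?_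
      have h1 := h.2 j hj
      have e : fneg D (D.simple j) = D.neg (D.simple j) := by
        rw [g.neg_rev (g.simple_lt (hJ j hj)), fneg]
      rw [e] at h1
      exact (commute_of_evenOK g hc hv hr' h1 t c).eq
  exact Subgroup.mem_centralizer_singleton_iff.1 (hle hx)

theorem torHom_mem_parK {J : List ℕ} (hJ : ∀ j ∈ J, j < D.rank) (c : Fin D.rank → Fˣ)
    (h : ∀ i : Fin D.rank, (i : ℕ) ∉ J → c i = 1) : torHom D F c ∈ parK D F J := by
  rw [← Finset.univ_prod_mulSingle c]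
  refine Subgroup.mem_comap.1 (Subgroup.prod_mem ((parK D F J).comap (torHom D F)) fun i _ => ?_)
  rw [Subgroup.mem_comap, g.torHom_single]
  by_cases hi : (i : ℕ) ∈ J
  · rw [g.hG_eq (g.simple_lt i.2)]
    exact mul_mem (nG_mem_parK g hJ hi _) (nG_mem_parK g hJ hi _)
  · rw [h i hi, map_one]
    exact one_mem _

/-- The general centraliser computation. -/
theorem centralizer_eq (hc : HasComm D) {J : List ℕ} (hJ : ∀ j ∈ J, j < D.rank) {t : GL D.Idx F}
    (hcent : ∀ x ∈ parK D F J, Commute x t)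
    (hN : ∀ (n : GL D.Idx F) (π : Equiv.Perm (Fin D.nroots)), π ∈ g.weyl → g.Acts n π →
      (∃ h ∈ D.diagonalSubgroup F, n * t * n⁻¹ = h * t * h⁻¹) → π ∈ g.wJ {i | i ∈ J})
    (hH : ∀ c : Fin D.rank → Fˣ, Commute (torHom D F c) t → torHom D F c ∈ parK D F J) :
    D.group F ⊓ Subgroup.centralizer {t} = parK D F J := by
  refine le_antisymm (fun x hx => ?_) (le_inf (parK_le_group g) fun x hx =>
    Subgroup.mem_centralizer_singleton_iff.2 (hcent x hx).eq)
  obtain ⟨hxG, hxt⟩ := Subgroup.mem_inf.1 hx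
  obtain ⟨b, hb, n, hn, π, hπw, hπ, w, hw, rfl⟩ := g.exists_canonical hc hxG
  obtain ⟨v, hv, h, hh, rfl⟩ := g.mem_borel.1 hb
  have hwK : w ∈ parK D F J := Subgroup.mem_sup_left (g.minus_le_pos π hw)
  have hvK : v ∈ parK D F J := Subgroup.mem_sup_left hv
  have hxt' : Commute (v * h * n * w) t := Subgroup.mem_centralizer_singleton_iff.1 hxt
  have hmid : Commute (h * n) t := by
    have h1 := (((hcent v hvK).inv_left).mul_left hxt').mul_left (hcent w hwK).inv_left
    rwa [show v⁻¹ * (v * h * n * w) * w⁻¹ = h * n by group] at h1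
  have hπJ : π ∈ g.wJ {i | i ∈ J} := by
    refine hN n π hπw hπ ⟨h⁻¹, inv_mem hh, ?_⟩
    calc n * t * n⁻¹ = h⁻¹ * (h * n * t) * (h * n)⁻¹ * h := by group
      _ = h⁻¹ * (t * (h * n)) * (h * n)⁻¹ * h := by rw [hmid.eq]
      _ = h⁻¹ * t * h⁻¹⁻¹ := by group
  obtain ⟨l, hl, hlπ⟩ := g.exists_wperm_J hπJ
  have hlK : g.wordN (F := F) l ∈ parK D F J := by
    clear hlπ
    induction l with
    | nil => exact one_mem _
    | cons i l ih =>
      rw [g.wordN_cons]
      exact mul_mem (nG_mem_parK g hJ (hl i (by simp)) 1) (ih fun k hk => hl k (List.mem_cons_of_mem _ hk))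
  have hdiag : (g.wordN l)⁻¹ * n ∈ D.diagonalSubgroup F := by
    have h1 : g.rootAct ⟨(g.wordN l)⁻¹ * n, mul_mem (inv_mem (g.wordN_mem l)) hn⟩ = 1 := by
      refine Subtype.ext (g.rootAct_eq ?_)
      have h2 := g.acts_mul (g.acts_inv (g.acts_wordN (F := F) l)) hπ
      rwa [hlπ, inv_mul_cancel] at h2
    have h2 : (⟨(g.wordN l)⁻¹ * n, mul_mem (inv_mem (g.wordN_mem l)) hn⟩ : ↥(D.monomialSubgroup F)) ∈
        (g.rootAct (F := F)).ker := h1
    rw [g.rootAct_ker] at h2
    exact h2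
  have hd : (g.wordN l)⁻¹ * (h * n) ∈ D.diagonalSubgroup F := by
    have := mul_mem (g.diag_conj (inv_mem (g.wordN_mem (F := F) l)) hh) hdiag
    rwa [show (g.wordN (F := F) l)⁻¹ * h * (g.wordN l)⁻¹⁻¹ * ((g.wordN l)⁻¹ * n) =
      (g.wordN l)⁻¹ * (h * n) by group] at this
  have hdt : Commute ((g.wordN l)⁻¹ * (h * n)) t := ((hcent _ hlK).inv_left).mul_left hmid
  rw [g.diagonal_eq_range] at hd
  obtain ⟨c, hc'⟩ := hd
  have hcK := hH c (hc'.symm ▸ hdt)
  rw [hc'] at hcK
  rw [show v * h * n * w = v * (g.wordN l * ((g.wordN l)⁻¹ * (h * n))) * w by group]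
  exact mul_mem (mul_mem hvK (mul_mem hlK hcK)) hwK

theorem xG_inj {r : ℕ} (hr : r < D.nroots) {a b : F} (h : g.xG r a = g.xG r b) : a = b := by
  have h2 : g.xG r (a + -b) = 1 := by
    rw [← g.xG_add, h, g.xG_add, add_neg_cancel, g.xG_zero]
  exact eq_of_sub_eq_zero (by rw [sub_eq_add_neg]; exact (g.x_eq_one_iff hr _).1 (congrArg Units.val h2))

theorem torHom_char (c : Fin D.rank → Fˣ) {v : ℕ} {i₀ : Fin D.rank}
    (h1 : D.cartan i₀ v = 1) (h0 : ∀ i : Fin D.rank, i ≠ i₀ → c i = 1 ∨ D.cartan i v = 0) :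
    (∏ i : Fin D.rank, c i ^ D.cartan i v : Fˣ) = c i₀ := by
  rw [Finset.prod_eq_single i₀]
  · rw [h1, zpow_one]
  · intro i _ hi
    rcases h0 i hi with h | h <;> simp [h]
  · simp

/-- The centraliser of a root involution central in `U`. -/
theorem centralizer_root [CharP F 2] (hc : HasComm D) {dat : LieData} {sd : StructData} (hl : LieChecks D dat)
    (hs : StructChecks D dat sd) {J : List ℕ} {v i₀ : ℕ}
    (hdom : domOK D dat (List.range D.rank) J v = true) (hcent : centOK D J v = true)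
    (hi₀ : i₀ < D.rank) (hone : fcartan D i₀ v = 1)
    (hcover : (List.range D.rank).all (fun i => Nat.beq i i₀ || inL J i) = true) :
    D.group F ⊓ Subgroup.centralizer {g.xG v (1 : F)} = parK D F J := by
  obtain ⟨hv, hvp, hJ, hst⟩ := isStep_of_domOK g hl hs hdom
  have hin : ∀ i : Fin D.rank, i ≠ ⟨i₀, hi₀⟩ → (i : ℕ) ∈ J := by
    intro i hi
    have := List.all_eq_true.1 hcover i (List.mem_range.2 i.2)
    simp only [Bool.or_eq_true, Nat.beq_eq, inL_iff] at this
    exact this.resolve_left fun e => hi (Fin.ext e)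
  refine centralizer_eq g hc hJ (fun x hx => commute_parK g hc hJ hv hcent 1 hx) ?_ ?_
  · rintro n π hπw hπ ⟨h, hh, he⟩
    refine g.mem_of_fix hst ?_ (Fin.ext ?_)
    · rw [g.weyl_eq_wJ] at hπw
      simpa using hπw
    obtain ⟨c, hc1⟩ := hπ ⟨v, hv⟩
    obtain ⟨d, hd⟩ := g.diagonal_conj_xG hh hv (1 : F)
    have h2 : g.xG (π ⟨v, hv⟩) ((c : F) * 1) = g.xG v ((d : F) * 1) := by rw [← hc1 1, ← hd]; exact he
    by_contra hne
    exact c.ne_zero (by simpa using g.eq_of_xG_eq (π ⟨v, hv⟩).2 hv hne h2)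
  · intro c hct
    refine torHom_mem_parK g hJ c fun i hi => ?_
    obtain rfl : i = ⟨i₀, hi₀⟩ := by
      by_contra hne
      exact hi (hin i hne)
    have h1 := g.torHom_conj_xG c hv (1 : F)
    rw [hct.eq, mul_inv_cancel_right] at h1
    have h2 := xG_inj g hv h1
    rw [mul_one, torHom_char g c (i₀ := ⟨i₀, hi₀⟩) ((cartan_eq hl.pack hi₀ hv).trans hone)
      fun j hj => Or.inr ((hst.fix j (by simp [j.2])).1 (hin j hj))] at h2
    exact Units.ext h2.symm

/-- The generators of `parK` listed by their indices. -/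
theorem rootGen_list {J L : List ℕ} (hJ : J.map (fun j => fneg D (D.simple j)) = L)
    (hlt : ∀ j ∈ J, j < D.rank) :
    rootGen D F {s | ∃ j ∈ J, s = D.neg (D.simple j)} =
      Subgroup.closure {x : GL D.Idx F | ∃ s ∈ L, ∃ c : F, (x : Matrix D.Idx D.Idx F) = D.x F s c} := by
  subst hJ
  have e : ∀ j ∈ J, fneg D (D.simple j) = D.neg (D.simple j) := fun j hj => by
    rw [g.neg_rev (g.simple_lt (hlt j hj)), fneg]
  refine le_antisymm ((Subgroup.closure_le _).2 ?_) ((Subgroup.closure_le _).2 ?_)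
  · rintro x ⟨s, c, ⟨j, hj, rfl⟩, -, hx⟩
    exact Subgroup.subset_closure ⟨_, List.mem_map.2 ⟨j, hj, e j hj⟩, c, hx⟩
  · rintro x ⟨s, hs, c, hx⟩
    obtain ⟨j, hj, rfl⟩ := List.mem_map.1 hs
    rw [e j hj] at hx
    exact Subgroup.subset_closure ⟨_, c, ⟨j, hj, rfl⟩, g.neg_lt (g.simple_lt (hlt j hj)), hx⟩

/-- `parK` as a join of root subgroups. -/
theorem rootGen_iSup {J L : List ℕ} (hJ : J.map (fun j => fneg D (D.simple j)) = L)
    (hlt : ∀ j ∈ J, j < D.rank) :
    rootGen D F {s | ∃ j ∈ J, s = D.neg (D.simple j)} = ⨆ s ∈ L, D.rootSubgroup F s := by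
  rw [rootGen_list g hJ hlt]
  refine le_antisymm ((Subgroup.closure_le _).2 ?_) (iSup₂_le fun s hs => (Subgroup.closure_le _).2 ?_)
  · rintro x ⟨s, hs, c, hx⟩
    exact Subgroup.mem_iSup_of_mem s (Subgroup.mem_iSup_of_mem hs (Subgroup.subset_closure ⟨c, hx⟩))
  · rintro x ⟨c, hx⟩
    exact Subgroup.subset_closure ⟨s, hs, c, hx⟩

end CfsgLib.Classical.ChevFix
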