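import Mathlib
import Cfsg.Agent.Lib.Classical.SemiNorm
import Cfsg.Agent.Lib.Geom.WittQuad
import Cfsg.Agent.Lib.Geom.SympSpace

/-!
Invariant forms of a linear automorphism: over a finite field two nondegenerate invariant alternating
(resp. quadratic) forms of a semisimple automorphism differ by an element of its centraliser.
-/

set_option autoImplicit false

namespace CfsgLib.Classical.SemiForms

universe u

variable {F : Type*} [Field F] [Finite F]

section Form

variable {V : Type u} [AddCommGroup V] [Module F V] [FiniteDimensional F V]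

omit [Finite F] in
/-- Two nondegenerate bilinear forms differ by a unique automorphism. -/
theorem exists_rel (B₁ B₂ : V →ₗ[F] V →ₗ[F] F) (h₁ : ∀ x, (∀ y, B₁ x y = 0) → x = 0) :
    ∃ S : V →ₗ[F] V, ∀ u v, B₁ (S u) v = B₂ u v := by
  have hinj : Function.Injective B₁ := fun x y h =>
    sub_eq_zero.1 (h₁ _ fun z => by rw [map_sub, LinearMap.sub_apply, h, sub_self])
  let d := LinearEquiv.ofInjectiveOfFinrankEq B₁ hinj Subspace.dual_finrank_eq.symm
  exact ⟨d.symm.toLinearMap ∘ₗ B₂, fun u v => LinearMap.congr_fun (d.apply_symm_apply (B₂ u)) v⟩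

/-- Two forms of the same symmetry that are invariant under `f`, with `f - f⁻¹` invertible. -/
theorem exists_comm_no_one (B₁ B₂ : V →ₗ[F] V →ₗ[F] F) (f : V ≃ₗ[F] V) {ε : F} (hε : ε * ε = 1)
    (s₁ : ∀ u v, B₁ v u = ε * B₁ u v) (s₂ : ∀ u v, B₂ v u = ε * B₂ u v)
    (h₁ : ∀ x, (∀ y, B₁ x y = 0) → x = 0) (h₂ : ∀ x, (∀ y, B₂ x y = 0) → x = 0)
    (i₁ : ∀ u v, B₁ (f u) (f v) = B₁ u v) (i₂ : ∀ u v, B₂ (f u) (f v) = B₂ u v)
    (hf : ∀ v, f v = f.symm v → v = 0) :
    ∃ e : V ≃ₗ[F] V, (∀ v, e (f v) = f (e v)) ∧ ∀ u v, B₁ (e u) (e v) = B₂ u v := by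
  have : Finite V := Module.finite_of_finite F
  have : Finite (Module.End F V) := Finite.of_injective _ DFunLike.coe_injective
  obtain ⟨S, hS⟩ := exists_rel B₁ B₂ h₁
  have hext : ∀ X Y : Module.End F V, (∀ u v, B₁ (X u) v = B₁ (Y u) v) → X = Y := fun X Y h =>
    LinearMap.ext fun u => sub_eq_zero.1 (h₁ _ fun v => by
      rw [map_sub, LinearMap.sub_apply, h, sub_self])
  have hex : ∀ X : Module.End F V, ∃ Y : Module.End F V, ∀ u v, B₁ (Y u) v = B₁ u (X v) := fun X =>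
    exists_rel B₁ (B₁.compl₂ X) h₁
  choose t ht using hex
  let τ : Module.End F V →+ Module.End F V := AddMonoidHom.mk' t fun X Y => hext _ _ fun u v => by
    rw [ht, LinearMap.add_apply, map_add, ← ht X, ← ht Y, LinearMap.add_apply, map_add, LinearMap.add_apply]
  have hτ : ∀ X u v, B₁ (τ X u) v = B₁ u (X v) := ht
  let fe : Module.End F V := f.toLinearMap
  let fi : Module.End F V := f.symm.toLinearMap
  have hunit : ∀ X : Module.End F V, (∀ v, X v = 0 → v = 0) → IsUnit X := fun X h => by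
    have hi : Function.Injective X := (injective_iff_map_eq_zero X).2 h
    exact (Module.End.isUnit_iff X).2 ⟨hi, LinearMap.injective_iff_surjective.1 hi⟩
  have hSu : IsUnit (S : Module.End F V) := hunit S fun v hv => h₂ v fun w => by
    rw [← hS, hv, map_zero, LinearMap.zero_apply]
  have hτS : τ S = S := hext _ _ fun u v => by
    rw [hτ, s₁ (S v) u, hS, hS, s₂ u v, ← mul_assoc, hε, one_mul]
  have hτf : τ fe = fi := hext _ _ fun u v => by
    rw [hτ]
    show B₁ u (f v) = B₁ (f.symm u) v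
    rw [← i₁ (f.symm u) v, f.apply_symm_apply]
  have hτfi : τ fi = fe := hext _ _ fun u v => by
    rw [hτ]
    show B₁ u (f.symm v) = B₁ (f u) v
    rw [← i₁ u (f.symm v), f.apply_symm_apply]
  have hSf : Commute (S : Module.End F V) fe := hext _ _ fun u v => by
    show B₁ (S (f u)) v = B₁ (f (S u)) v
    rw [hS]
    conv_rhs => rw [← f.apply_symm_apply v, i₁, hS]
    conv_lhs => rw [← f.apply_symm_apply v, i₂]
  have hff : fe * fi = 1 := LinearMap.ext fun v => f.apply_symm_apply v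
  have hff' : fi * fe = 1 := LinearMap.ext fun v => f.symm_apply_apply v
  have hθ : Commute fe fi := hff.trans hff'.symm
  have hSfi : Commute (S : Module.End F V) fi := Commute.units_inv_right (u := ⟨fe, fi, hff, hff'⟩) hSf
  obtain ⟨e, he, hc⟩ := SemiNorm.exists_star_mul τ
    (hext _ _ fun u v => by rw [hτ]; rfl)
    (fun X Y => hext _ _ fun u v => by
      show B₁ (τ (X * Y) u) v = B₁ (τ Y (τ X u)) v
      rw [hτ, hτ, hτ]; rfl)
    hSu hτS hτf hτfi hSf hSfi hθ (hunit _ fun v hv => hf v (sub_eq_zero.1 hv))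
  have hB : ∀ u v, B₁ (e u) (e v) = B₂ u v := fun u v => by
    rw [← hτ, ← hS u v, ← he]; rfl
  have hinj : Function.Injective e := (injective_iff_map_eq_zero e).2 fun v hv => h₂ v fun w => by
    rw [← hB, hv, map_zero, LinearMap.zero_apply]
  refine ⟨LinearEquiv.ofInjectiveEndo e hinj, fun v => ?_, fun u v => hB u v⟩
  exact (LinearMap.congr_fun (hc fe hSf.symm (Commute.refl _) hθ).eq v).symm

omit [Finite F] in
/-- A semisimple automorphism: `ker (f - c) ∩ range (f - c) = 0`. -/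
theorem isCompl_ker_range (f : V ≃ₗ[F] V) {N : ℕ} (hN : (N : F) ≠ 0) (hfN : ∀ v, (f^[N]) v = v) {c : F}
    (hc : c ≠ 0) :
    IsCompl (LinearMap.ker (f.toLinearMap - c • LinearMap.id))
      (LinearMap.range (f.toLinearMap - c • LinearMap.id)) := by
  obtain ⟨g, hg⟩ : ∃ g : V →ₗ[F] V, g = f.toLinearMap - c • LinearMap.id := ⟨_, rfl⟩
  rw [← hg]
  have hga : ∀ v, g v = f v - c • v := fun v => by rw [hg]; rfl
  have hd : Disjoint (LinearMap.ker g) (LinearMap.range g) := by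
    rw [Submodule.disjoint_def]
    rintro y hy ⟨x, rfl⟩
    rw [LinearMap.mem_ker] at hy
    obtain ⟨y, hydef⟩ : ∃ y, y = g x := ⟨_, rfl⟩
    rw [← hydef] at hy ⊢
    have hfy : f y = c • y := sub_eq_zero.1 ((hga y).symm.trans hy)
    have hfx : f x = c • x + y := by rw [hydef, hga]; abel
    have hk : ∀ k : ℕ, (f^[k + 1]) x = c ^ (k + 1) • x + (((k + 1 : ℕ) : F) * c ^ k) • y := by
      intro k
      induction k with
      | zero => simp [hfx]
      | succ k ih =>
        rw [Function.iterate_succ_apply', ih, map_add, map_smul, map_smul, hfx, hfy, smul_add, smul_smul,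
          smul_smul, add_assoc, ← add_smul, Nat.cast_succ (k + 1)]
        congr 2
        · rw [pow_succ c (k + 1)]
        · ring
    obtain ⟨N, rfl⟩ : ∃ M, N = M + 1 := ⟨N - 1, by
      rcases Nat.eq_zero_or_pos N with rfl | h
      · simp at hN
      · omega⟩
    have h1 := hk N
    rw [hfN] at h1
    have h2 : (c ^ (N + 1) - 1) • y = 0 := by
      have := congrArg g h1
      rw [map_add, map_smul, map_smul, hy, ← hydef, smul_zero, add_zero] at this
      rw [sub_smul, one_smul, ← this, sub_self]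
    rcases smul_eq_zero.1 h2 with h | h
    · rw [sub_eq_zero.1 h, one_smul, left_eq_add, smul_eq_zero] at h1
      exact h1.resolve_left (mul_ne_zero hN (pow_ne_zero _ hc))
    · exact h
  refine (Submodule.isCompl_iff_disjoint _ _ ?_).2 hd
  rw [← g.finrank_range_add_finrank_ker]; omega

omit [Finite F] [FiniteDimensional F V] in
theorem apply_mem_pieces (f : V ≃ₗ[F] V) (c : F) :
    (∀ x ∈ LinearMap.ker (f.toLinearMap - c • LinearMap.id), f x = c • x) ∧
      ∀ x ∈ LinearMap.range (f.toLinearMap - c • LinearMap.id),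
        f x ∈ LinearMap.range (f.toLinearMap - c • LinearMap.id) := by
  refine ⟨fun x hx => sub_eq_zero.1 hx, ?_⟩
  rintro _ ⟨x, rfl⟩
  exact ⟨f x, by simp [LinearMap.sub_apply]⟩

/-- The restriction of `f` to an invariant subspace, as an automorphism. -/
noncomputable def restr (f : V ≃ₗ[F] V) (W : Submodule F V) (hW : ∀ x ∈ W, f x ∈ W) : W ≃ₗ[F] W :=
  LinearEquiv.ofInjectiveEndo (f.toLinearMap.restrict hW) fun a b h =>
    Subtype.ext (f.injective (congrArg Subtype.val h))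

omit [Finite F] in
theorem restr_apply (f : V ≃ₗ[F] V) (W : Submodule F V) (hW : ∀ x ∈ W, f x ∈ W) (x : W) :
    (restr f W hW x : V) = f x := rfl

omit [Finite F] in
theorem restr_iterate (f : V ≃ₗ[F] V) (W : Submodule F V) (hW : ∀ x ∈ W, f x ∈ W) {N : ℕ}
    (hfN : ∀ v, (f^[N]) v = v) (x : W) : ((restr f W hW)^[N]) x = x := by
  have h : ∀ k : ℕ, (((restr f W hW)^[k]) x : V) = (f^[k]) (x : V) := fun k => by
    induction k with
    | zero => rfl
    | succ k ih => rw [Function.iterate_succ_apply', Function.iterate_succ_apply', restr_apply, ih]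
  exact Subtype.ext ((h N).trans (hfN _))

omit [Finite F] in
theorem orth_pieces (B : V →ₗ[F] V →ₗ[F] F) (f : V ≃ₗ[F] V) (i : ∀ u v, B (f u) (f v) = B u v) {c : F}
    (hc : c * c = 1) {k r : V} (hk : k ∈ LinearMap.ker (f.toLinearMap - c • LinearMap.id))
    (hr : r ∈ LinearMap.range (f.toLinearMap - c • LinearMap.id)) : B k r = 0 ∧ B r k = 0 := by
  have hfk : f k = c • k := (apply_mem_pieces f c).1 k hk
  obtain ⟨x, rfl⟩ := hr
  show B k (f x - c • x) = 0 ∧ B (f x - c • x) k = 0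
  have h1 : B k (f x) = c * B k x := by
    have := i k x
    rw [hfk, map_smul, LinearMap.smul_apply, smul_eq_mul] at this
    linear_combination c * this - (B k (f x)) * hc
  have h2 : B (f x) k = c * B x k := by
    have := i x k
    rw [hfk, map_smul, smul_eq_mul] at this
    linear_combination c * this - (B (f x) k) * hc
  constructor
  · rw [map_sub, map_smul, smul_eq_mul, h1, sub_self]
  · rw [map_sub, LinearMap.sub_apply, map_smul, LinearMap.smul_apply, smul_eq_mul, h2, sub_self]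

omit [Finite F] in
theorem sep_piece (B : V →ₗ[F] V →ₗ[F] F) (h : ∀ x, (∀ y, B x y = 0) → x = 0) {K R : Submodule F V}
    (hKR : IsCompl K R) (ho : ∀ k ∈ K, ∀ r ∈ R, B k r = 0) (k : K)
    (hk : ∀ k' : K, B (k : V) k' = 0) : k = 0 := by
  refine Subtype.ext (h _ fun y => ?_)
  obtain ⟨a, ha, b, hb, rfl⟩ := Submodule.mem_sup.1 (hKR.sup_eq_top.symm ▸ Submodule.mem_top : y ∈ K ⊔ R)
  rw [map_add, hk ⟨a, ha⟩, ho _ k.2 _ hb, add_zero]

/-- Gluing along an invariant decomposition. -/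
theorem glue (f : V ≃ₗ[F] V) {c : F} {K R : Submodule F V} (hKR : IsCompl K R)
    (hfK : ∀ x ∈ K, f x = c • x) (hfR : ∀ x ∈ R, f x ∈ R) (eK : K ≃ₗ[F] K) (eR : R ≃ₗ[F] R)
    (hcR : ∀ x : R, eR (restr f R hfR x) = restr f R hfR (eR x)) :
    ∃ e : V ≃ₗ[F] V, (∀ v, e (f v) = f (e v)) ∧ ∀ (k : K) (r : R), e ((k : V) + r) = (eK k : V) + eR r := by
  let d := Submodule.prodEquivOfIsCompl K R hKR
  let e := d.symm.trans ((eK.prodCongr eR).trans d)
  have he : ∀ (k : K) (r : R), e ((k : V) + r) = (eK k : V) + eR r := fun k r => by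
    have hd : d (k, r) = (k : V) + r := Submodule.coe_prodEquivOfIsCompl' K R hKR _
    rw [← hd]
    show d ((eK.prodCongr eR) (d.symm (d (k, r)))) = _
    rw [d.symm_apply_apply]
    exact Submodule.coe_prodEquivOfIsCompl' K R hKR _
  refine ⟨e, fun v => ?_, he⟩
  obtain ⟨⟨k, r⟩, rfl⟩ := d.surjective v
  rw [show d (k, r) = (k : V) + r from Submodule.coe_prodEquivOfIsCompl' K R hKR _, map_add f, he, map_add f,
    show f (k : V) = ((c • k : K) : V) from hfK _ k.2, show f (r : V) = (restr f R hfR r : V) from rfl, he,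
    map_smul, hcR, hfK _ (eK k).2]
  rfl

/-- Splitting off the eigenvalue `c = ±1` for alternating forms. -/
theorem split_alt (B₁ B₂ : V →ₗ[F] V →ₗ[F] F) (f : V ≃ₗ[F] V) {N : ℕ} (hN : (N : F) ≠ 0)
    (hfN : ∀ v, (f^[N]) v = v) (a₁ : ∀ v, B₁ v v = 0) (a₂ : ∀ v, B₂ v v = 0)
    (h₁ : ∀ x, (∀ y, B₁ x y = 0) → x = 0) (h₂ : ∀ x, (∀ y, B₂ x y = 0) → x = 0)
    (i₁ : ∀ u v, B₁ (f u) (f v) = B₁ u v) (i₂ : ∀ u v, B₂ (f u) (f v) = B₂ u v) {c : F} (hc : c * c = 1)
    (rec' : ∀ R : Submodule F V, ∀ hR : ∀ x ∈ R, f x ∈ R, (∀ x ∈ R, f x = c • x → x = 0) →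
      (∀ x : R, (∀ y : R, B₁ (x : V) y = 0) → x = 0) → (∀ x : R, (∀ y : R, B₂ (x : V) y = 0) → x = 0) →
      ∃ e : R ≃ₗ[F] R, (∀ x, e (restr f R hR x) = restr f R hR (e x)) ∧
        ∀ x y : R, B₁ (e x : V) (e y) = B₂ (x : V) y) :
    ∃ e : V ≃ₗ[F] V, (∀ v, e (f v) = f (e v)) ∧ ∀ u v, B₁ (e u) (e v) = B₂ u v := by
  have hc0 : c ≠ 0 := left_ne_zero_of_mul_eq_one hc
  have hKR := isCompl_ker_range f hN hfN hc0
  obtain ⟨hfK, hfR⟩ := apply_mem_pieces f c
  have o₁ := fun k hk r hr => orth_pieces B₁ f i₁ hc (k := k) (r := r) hk hr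
  have o₂ := fun k hk r hr => orth_pieces B₂ f i₂ hc (k := k) (r := r) hk hr
  obtain ⟨eK, heK⟩ := CfsgLib.Geom.exists_symp_isometry (F := F) _
    (B₂.compl₁₂ (LinearMap.ker (f.toLinearMap - c • LinearMap.id)).subtype
      (LinearMap.ker (f.toLinearMap - c • LinearMap.id)).subtype)
    (B₁.compl₁₂ (LinearMap.ker (f.toLinearMap - c • LinearMap.id)).subtype
      (LinearMap.ker (f.toLinearMap - c • LinearMap.id)).subtype)
    (fun v => a₂ _) (fun x hx => sep_piece B₂ h₂ hKR (fun k hk r hr => (o₂ k hk r hr).1) x hx)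
    (fun v => a₁ _) (fun x hx => sep_piece B₁ h₁ hKR (fun k hk r hr => (o₁ k hk r hr).1) x hx) rfl rfl
  obtain ⟨eR, hcR, heR⟩ := rec' _ hfR
    (fun x hx hfx => (Submodule.disjoint_def.1 hKR.disjoint) x (sub_eq_zero.2 hfx) hx)
    (sep_piece B₁ h₁ hKR.symm fun r hr k hk => (o₁ k hk r hr).2)
    (sep_piece B₂ h₂ hKR.symm fun r hr k hk => (o₂ k hk r hr).2)
  obtain ⟨e, hef, he⟩ := glue f hKR hfK hfR eK eR hcR
  refine ⟨e, hef, fun u v => ?_⟩
  obtain ⟨⟨k, r⟩, rfl⟩ := (Submodule.prodEquivOfIsCompl _ _ hKR).surjective u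
  obtain ⟨⟨k', r'⟩, rfl⟩ := (Submodule.prodEquivOfIsCompl _ _ hKR).surjective v
  simp only [Submodule.coe_prodEquivOfIsCompl', he]
  have := heK k k'
  simp only [LinearMap.compl₁₂_apply, Submodule.subtype_apply] at this
  simp only [map_add, LinearMap.add_apply, this, heR, (o₁ _ (eK k).2 _ (eR r').2).1,
    (o₁ _ (eK k').2 _ (eR r).2).2, (o₂ _ k.2 _ r'.2).1, (o₂ _ k'.2 _ r.2).2]

/-- Two invariant symplectic forms of a semisimple automorphism differ by its centraliser. -/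
theorem exists_comm_alt (B₁ B₂ : V →ₗ[F] V →ₗ[F] F) (f : V ≃ₗ[F] V) {N : ℕ} (hN : (N : F) ≠ 0)
    (hfN : ∀ v, (f^[N]) v = v) (a₁ : ∀ v, B₁ v v = 0) (a₂ : ∀ v, B₂ v v = 0)
    (h₁ : ∀ x, (∀ y, B₁ x y = 0) → x = 0) (h₂ : ∀ x, (∀ y, B₂ x y = 0) → x = 0)
    (i₁ : ∀ u v, B₁ (f u) (f v) = B₁ u v) (i₂ : ∀ u v, B₂ (f u) (f v) = B₂ u v) :
    ∃ e : V ≃ₗ[F] V, (∀ v, e (f v) = f (e v)) ∧ ∀ u v, B₁ (e u) (e v) = B₂ u v := by
  refine split_alt B₁ B₂ f hN hfN a₁ a₂ h₁ h₂ i₁ i₂ (c := 1) (one_mul 1) fun R hR hR1 s₁ s₂ => ?_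
  refine split_alt (B₁.compl₁₂ R.subtype R.subtype) (B₂.compl₁₂ R.subtype R.subtype) (restr f R hR) hN
    (restr_iterate f R hR hfN) (fun v => a₁ _) (fun v => a₂ _) s₁ s₂ (fun u v => i₁ _ _) (fun u v => i₂ _ _)
    (c := -1) (by ring) fun W hW hW1 t₁ t₂ => ?_
  refine exists_comm_no_one ((B₁.compl₁₂ R.subtype R.subtype).compl₁₂ W.subtype W.subtype)
    ((B₂.compl₁₂ R.subtype R.subtype).compl₁₂ W.subtype W.subtype) (restr (restr f R hR) W hW) (ε := -1)
    (by ring) (fun u v => ?_) (fun u v => ?_) t₁ t₂ (fun u v => i₁ _ _) (fun u v => i₂ _ _) fun v hv => ?_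
  · simpa using CfsgLib.Geom.alt_neg_swap B₁ a₁ ((u : R) : V) ((v : R) : V)
  · simpa using CfsgLib.Geom.alt_neg_swap B₂ a₂ ((u : R) : V) ((v : R) : V)
  · obtain ⟨g, hg⟩ : ∃ g, g = restr (restr f R hR) W hW := ⟨_, rfl⟩
    rw [← hg] at hv
    have h2 : g (g v) = v := by rw [hv, g.apply_symm_apply]
    have hw : g v + v = 0 := by
      have hfix : g (g v + v) = g v + v := by rw [map_add, h2, add_comm]
      have h3 : (((g (g v + v) : W) : R) : V) = (((g v + v : W) : R) : V) := by rw [hfix]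
      have h4 : (((g (g v + v) : W) : R) : V) = f (((g v + v : W) : R) : V) := by rw [hg]; rfl
      refine Subtype.ext (Subtype.ext (hR1 _ (((g v + v : W) : R)).2 ?_))
      rw [one_smul, ← h4, h3]
    refine Subtype.ext (hW1 _ v.2 ?_)
    rw [neg_one_smul, ← show ((g v : W) : R) = restr f R hR (v : R) by rw [hg]; rfl,
      eq_neg_of_add_eq_zero_left hw]
    rfl

end Form

section Quad

variable {V : Type u} [AddCommGroup V] [Module F V] [FiniteDimensional F V]

open QuadraticMap (polar)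
open CfsgLib.Geom

/-- Two isometric invariant nondegenerate quadratic forms of a semisimple automorphism of odd order differ
by its centraliser. -/
theorem exists_comm_quad (Q₁ Q₂ : QuadraticForm F V) (f : V ≃ₗ[F] V) {N : ℕ} (hN : (N : F) ≠ 0)
    (hodd : Odd N) (hfN : ∀ v, (f^[N]) v = v) (h₁ : ∀ x, (∀ y, polar Q₁ x y = 0) → x = 0)
    (h₂ : ∀ x, (∀ y, polar Q₂ x y = 0) → x = 0) (i₁ : ∀ v, Q₁ (f v) = Q₁ v) (i₂ : ∀ v, Q₂ (f v) = Q₂ v)
    (h : V ≃ₗ[F] V) (hh : ∀ v, Q₁ (h v) = Q₂ v) :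
    ∃ e : V ≃ₗ[F] V, (∀ v, e (f v) = f (e v)) ∧ ∀ v, Q₁ (e v) = Q₂ v := by
  have ip : ∀ (Q : QuadraticForm F V), (∀ v, Q (f v) = Q v) → ∀ u v,
      Q.polarBilin (f u) (f v) = Q.polarBilin u v := fun Q i u v => by
    simp only [QuadraticMap.polarBilin_apply_apply, QuadraticMap.polar, ← map_add, i]
  obtain ⟨K, hK⟩ : ∃ K, K = LinearMap.ker (f.toLinearMap - (1 : F) • LinearMap.id) := ⟨_, rfl⟩
  obtain ⟨R, hR'⟩ : ∃ R, R = LinearMap.range (f.toLinearMap - (1 : F) • LinearMap.id) := ⟨_, rfl⟩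
  have hKR : IsCompl K R := by rw [hK, hR']; exact isCompl_ker_range f hN hfN one_ne_zero
  obtain ⟨hfK, hfR⟩ := apply_mem_pieces f (1 : F)
  rw [← hK] at hfK
  rw [← hR'] at hfR
  have ho : ∀ (Q : QuadraticForm F V), (∀ v, Q (f v) = Q v) → ∀ k ∈ K, ∀ r ∈ R, polar Q k r = 0 :=
    fun Q i k hk r hr => (orth_pieces Q.polarBilin f (ip Q i) (one_mul 1) (hK ▸ hk) (hR' ▸ hr)).1
  let g := restr f R hfR
  have hgN := restr_iterate f R hfR hfN
  have hno : ∀ x : R, g x = g.symm x → x = 0 := by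
    intro x hx
    have h2 : g (g x) = x := by rw [hx, g.apply_symm_apply]
    obtain ⟨k, rfl⟩ := hodd
    have hx1 : g x = x := by
      have h3 : ∀ k : ℕ, (g^[2 * k + 1]) x = g x := fun k => by
        induction k with
        | zero => rfl
        | succ k ih => rw [show 2 * (k + 1) + 1 = 2 * k + 1 + 1 + 1 by ring, Function.iterate_succ_apply',
            Function.iterate_succ_apply', ih, h2]
      rw [← h3 k, hgN]
    refine Subtype.ext ((Submodule.disjoint_def.1 hKR.disjoint) x ?_ x.2)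
    rw [hK, LinearMap.mem_ker, LinearMap.sub_apply, LinearMap.smul_apply, one_smul]
    exact sub_eq_zero.2 (congrArg Subtype.val hx1)
  have hsep : ∀ (Q : QuadraticForm F V), (∀ v, Q (f v) = Q v) → (∀ x, (∀ y, polar Q x y = 0) → x = 0) →
      ∀ x : R, (∀ y : R, polar Q (x : V) y = 0) → x = 0 := fun Q i hs =>
    sep_piece Q.polarBilin hs hKR.symm fun r hr k hk => by
      rw [QuadraticMap.polarBilin_apply_apply, QuadraticMap.polar_comm]
      exact ho Q i k hk r hr
  obtain ⟨eR, hcR, heR⟩ := exists_comm_no_one (Q₁.polarBilin.compl₁₂ R.subtype R.subtype)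
    (Q₂.polarBilin.compl₁₂ R.subtype R.subtype) g (ε := 1) (one_mul 1)
    (fun u v => by simpa using QuadraticMap.polar_comm Q₁ _ _)
    (fun u v => by simpa using QuadraticMap.polar_comm Q₂ _ _) (hsep Q₁ i₁ h₁) (hsep Q₂ i₂ h₂)
    (fun u v => ip Q₁ i₁ _ _) (fun u v => ip Q₂ i₂ _ _) hno
  -- on `R` equality of polar forms gives equality of forms
  have heQ : ∀ x : R, Q₁ (eR x : V) = Q₂ (x : V) := by
    let D : R → F := fun x => Q₁ (eR x : V) - Q₂ (x : V)
    have hadd : ∀ x y, D (x + y) = D x + D y := fun x y => by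
      have := heR x y
      simp only [LinearMap.compl₁₂_apply, Submodule.subtype_apply, QuadraticMap.polarBilin_apply_apply,
        QuadraticMap.polar] at this
      simp only [D, map_add, Submodule.coe_add]
      linear_combination this
    have hD0 : D 0 = 0 := by simp [D]
    have hg : ∀ x, D (g x) = D x := fun x => by
      simp only [D, hcR]
      rw [show ((g (eR x) : R) : V) = f (eR x : V) from rfl, show ((g x : R) : V) = f (x : V) from rfl, i₁, i₂]
    obtain ⟨L, hL⟩ : ∃ L : R →ₗ[F] R, ∀ x, L x = g x - x := ⟨g.toLinearMap - LinearMap.id, fun x => rfl⟩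
    have hgi : Function.Injective L := (injective_iff_map_eq_zero L).2 fun x hx => by
      rw [hL] at hx
      have hgx : g x = x := sub_eq_zero.1 hx
      exact hno x (g.eq_symm_apply.2 (by rw [hgx]; exact hgx))
    intro x
    obtain ⟨y, rfl⟩ := LinearMap.injective_iff_surjective.1 hgi x
    rw [hL]
    refine sub_eq_zero.1 (show D (g y - y) = 0 from ?_)
    have h1 := hadd (g y - y) y
    rw [sub_add_cancel, hg] at h1
    linear_combination -h1
  obtain ⟨φ, hφ⟩ : ∃ φ : R →ₗ[F] V, φ = h.toLinearMap ∘ₗ R.subtype ∘ₗ eR.symm.toLinearMap := ⟨_, rfl⟩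
  have hφ' : ∀ x : R, φ x = h (eR.symm x : V) := fun x => by rw [hφ]; rfl
  obtain ⟨w, hw, hwx⟩ := witt_quadratic Q₁ h₁ R φ
    (fun a b hab => eR.symm.injective (Subtype.ext (h.injective (by rwa [hφ', hφ'] at hab))))
    fun x => by rw [hφ', hh, ← heQ, eR.apply_symm_apply]
  let e := h.trans w.symm
  have he1 : ∀ v, Q₁ (e v) = Q₂ v := fun v => by
    rw [← hh v, ← mem_quadIsoms.1 hw (e v)]
    show Q₁ (w (w.symm (h v))) = _
    rw [w.apply_symm_apply]
  have heR' : ∀ x : R, e (x : V) = (eR x : V) := fun x => by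
    show w.symm (h x) = _
    rw [LinearEquiv.symm_apply_eq, hwx, hφ', eR.symm_apply_apply]
  have hep : ∀ u v, polar Q₁ (e u) (e v) = polar Q₂ u v := fun u v => by
    simp only [QuadraticMap.polar, ← map_add, he1]
  refine ⟨e, fun v => ?_, he1⟩
  obtain ⟨k, hk, r, hr, rfl⟩ := Submodule.mem_sup.1 (hKR.sup_eq_top.symm ▸ Submodule.mem_top : v ∈ K ⊔ R)
  have hek : e k ∈ K := by
    obtain ⟨a, ha, b, hb, hab⟩ := Submodule.mem_sup.1 (hKR.sup_eq_top.symm ▸ Submodule.mem_top : e k ∈ K ⊔ R)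
    have hb0 : (⟨b, hb⟩ : R) = 0 := hsep Q₁ i₁ h₁ _ fun y => by
      have h0 : polar Q₁ (e k) (y : V) = 0 := by
        obtain ⟨z, rfl⟩ := eR.surjective y
        rw [← heR', hep]
        exact ho Q₂ i₂ k hk _ z.2
      rw [← hab, QuadraticMap.polar_add_left, ho Q₁ i₁ a ha _ y.2, zero_add] at h0
      exact h0
    rw [← hab, show b = 0 from congrArg Subtype.val hb0, add_zero]
    exact ha
  rw [map_add f, map_add e, map_add e, map_add f, hfK k hk, hfK _ hek, one_smul, one_smul,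
    show f r = (g ⟨r, hr⟩ : V) from rfl, heR', hcR, show e r = (eR ⟨r, hr⟩ : V) from heR' ⟨r, hr⟩]
  rfl

end Quad

end CfsgLib.Classical.SemiForms
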