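import Mathlib
import Cfsg.Agent.Lib.Classical.SemiPalin

/-!
Self-reciprocal polynomials of degree `2m` all of whose irreducible factors divide `X ^ r - 1`.
-/

set_option autoImplicit false

namespace CfsgLib.Classical.PalinCount

open Polynomial CfsgLib.Classical
open scoped Polynomial

variable {F : Type*} [Field F]

/-- Counting tuples with bounded sum. -/
theorem natCard_le_sum (k N : ℕ) :
    Nat.card {a : Fin k → ℕ // ∑ j, a j ≤ N} = (N + k).choose k := by
  classical
  have e : {a : Fin k → ℕ // ∑ j, a j ≤ N} ≃ {b : Fin (k + 1) → ℕ // ∑ j, b j = N} :=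
    { toFun := fun a => ⟨Fin.cons (N - ∑ j, a.1 j) a.1, by
        rw [Fin.sum_univ_succ, Fin.cons_zero]
        simp only [Fin.cons_succ]
        exact Nat.sub_add_cancel a.2⟩
      invFun := fun b => ⟨fun j => b.1 j.succ, by
        have := b.2; rw [Fin.sum_univ_succ] at this
        show ∑ j : Fin k, b.1 j.succ ≤ N
        omega⟩
      left_inv := fun a => Subtype.ext (funext fun j => by simp)
      right_inv := fun b => Subtype.ext (funext fun j => by
        induction j using Fin.cases with
        | zero =>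
          have := b.2; rw [Fin.sum_univ_succ] at this
          simp only [Fin.cons_zero]
          show N - ∑ j : Fin k, b.1 j.succ = b.1 0
          omega
        | succ j => simp) }
  rw [Nat.card_congr (e.trans (Sym.equivNatSumOfFintype (Fin (k + 1)) N).symm), Nat.card_eq_fintype_card,
    Sym.card_sym_eq_choose, Fintype.card_fin, show k + 1 + N - 1 = N + k by omega, Nat.choose_symm_add]

theorem le_div_iff' {d s n : ℕ} (hd : 0 < d) : s ≤ n / d ↔ d * s ≤ n := by
  rw [Nat.le_div_iff_mul_le hd, Nat.mul_comm]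

/-- A family of self-reciprocal building blocks. -/
structure Blocks (F : Type*) [Field F] (d k r : ℕ) where
  /-- The blocks. -/
  B : Fin k → F[X]
  /-- A distinguished prime factor of each block. -/
  P : Fin k → F[X]
  monic : ∀ j, (B j).Monic
  deg : ∀ j, (B j).natDegree = d
  dpos : 0 < d
  rev : ∀ j, (B j).reverse = B j
  prime : ∀ j, Prime (P j)
  dvd : ∀ j, P j ∣ B j
  sep : ∀ j l, P j ∣ B l → j = l
  ne_one : ∀ j, ¬ P j ∣ (X - C (1 : F))
  allowed : ∀ j (Q : F[X]), Irreducible Q → Q ∣ B j → Q ∣ X ^ r - 1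
  cover : ∀ f : F[X], f.reverse = f → ∀ Q : F[X], Q.Monic → Irreducible Q → Q ∣ f → Q ∣ X ^ r - 1 →
    Q ≠ X - C 1 → ∃ j, B j ∣ f

variable {d k r : ℕ} (D : Blocks F d k r)

/-- The polynomial of a tuple. -/
noncomputable def Blocks.poly (n : ℕ) (a : Fin k → ℕ) : F[X] :=
  (X - C 1) ^ (n - d * ∑ j, a j) * ∏ j, D.B j ^ a j

theorem Blocks.monic_poly (n : ℕ) (a : Fin k → ℕ) : (D.poly n a).Monic :=
  ((monic_X_sub_C 1).pow _).mul (monic_prod_of_monic _ _ fun j _ => (D.monic j).pow _)

theorem Blocks.natDegree_poly {n : ℕ} (a : Fin k → ℕ) (ha : d * ∑ j, a j ≤ n) :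
    (D.poly n a).natDegree = n := by
  have hj : ∀ j ∈ (Finset.univ : Finset (Fin k)), (D.B j ^ a j).natDegree = d * a j := fun j _ => by
    rw [(D.monic j).natDegree_pow, D.deg, Nat.mul_comm]
  rw [Blocks.poly, ((monic_X_sub_C 1).pow _).natDegree_mul (monic_prod_of_monic _ _ fun j _ => (D.monic j).pow _),
    (monic_X_sub_C 1).natDegree_pow, natDegree_X_sub_C, natDegree_prod_of_monic _ _ fun j _ => (D.monic j).pow _,
    Finset.sum_congr rfl hj,
    ← Finset.mul_sum]
  omega

theorem reverse_pow' (f : F[X]) (e : ℕ) : (f ^ e).reverse = f.reverse ^ e := by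
  induction e with
  | zero => rw [pow_zero, pow_zero, ← map_one C, SemiPalin.reverse_C]
  | succ e ih => rw [pow_succ, pow_succ, reverse_mul_of_domain, ih]

theorem reverse_prod {ι : Type*} (s : Finset ι) (f : ι → F[X]) :
    (∏ j ∈ s, f j).reverse = ∏ j ∈ s, (f j).reverse := by
  classical
  induction s using Finset.induction_on with
  | empty => rw [Finset.prod_empty, Finset.prod_empty, ← map_one C, SemiPalin.reverse_C]
  | insert x s hx ih => rw [Finset.prod_insert hx, Finset.prod_insert hx, reverse_mul_of_domain, ih]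

theorem reverse_X_sub_one : (X - C 1 : F[X]).reverse = -(X - C 1) := by
  rw [reverse, natDegree_X_sub_C, reflect_sub, reflect_C, map_one, one_mul, pow_one,
    show reflect 1 (X : F[X]) = 1 by simpa using reflect_monomial (R := F) 1 1]
  ring

theorem Blocks.reverse_poly {n : ℕ} (hn : Even n) (hd : Even d) (a : Fin k → ℕ) (ha : d * ∑ j, a j ≤ n) :
    (D.poly n a).reverse = D.poly n a := by
  have hj : ∀ j ∈ (Finset.univ : Finset (Fin k)), (D.B j ^ a j).reverse = D.B j ^ a j := fun j _ => by
    rw [reverse_pow', D.rev]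
  rw [Blocks.poly, reverse_mul_of_domain, reverse_pow', reverse_prod, reverse_X_sub_one,
    Finset.prod_congr rfl hj, ((Nat.even_sub ha).2 (iff_of_true hn (hd.mul_right _))).neg_pow]

theorem X_sub_one_dvd : (X - C 1 : F[X]) ∣ X ^ r - 1 :=
  dvd_iff_isRoot.2 (by simp)

theorem Blocks.allowed_poly (n : ℕ) (a : Fin k → ℕ) {Q : F[X]} (hQ : Irreducible Q) (h : Q ∣ D.poly n a) :
    Q ∣ X ^ r - 1 := by
  rcases hQ.prime.dvd_or_dvd h with h | h
  · exact (hQ.prime.dvd_of_dvd_pow h).trans X_sub_one_dvd
  · obtain ⟨j, -, hj⟩ := hQ.prime.exists_mem_finset_dvd h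
    exact D.allowed j Q hQ (hQ.prime.dvd_of_dvd_pow hj)

theorem Blocks.dvd_poly_iff (n : ℕ) (a : Fin k → ℕ) (j : Fin k) : D.P j ∣ D.poly n a ↔ a j ≠ 0 := by
  constructor
  · intro h h0
    rcases (D.prime j).dvd_or_dvd h with h | h
    · exact D.ne_one j ((D.prime j).dvd_of_dvd_pow h)
    · obtain ⟨l, -, hl⟩ := (D.prime j).exists_mem_finset_dvd h
      have := D.sep j l ((D.prime j).dvd_of_dvd_pow hl)
      subst this
      rw [h0, pow_zero] at hl
      exact (D.prime j).not_isUnit (isUnit_of_dvd_one hl)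
  · intro h
    have h1 : D.P j ∣ D.B j ^ a j := dvd_trans (D.dvd j) (dvd_pow_self (D.B j) h)
    have h2 : D.B j ^ a j ∣ ∏ l, D.B l ^ a l :=
      Finset.dvd_prod_of_mem (fun l => D.B l ^ a l) (Finset.mem_univ j)
    exact dvd_mul_of_dvd_right (dvd_trans h1 h2) _

theorem Blocks.poly_update {n : ℕ} (a : Fin k → ℕ) (j : Fin k) (ha : a j ≠ 0) (hn : d * ∑ l, a l ≤ n) :
    D.poly n a = D.B j * D.poly (n - d) (Function.update a j (a j - 1)) ∧
      d * ∑ l, Function.update a j (a j - 1) l ≤ n - d ∧ d ≤ n := by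
  classical
  obtain ⟨b, hb⟩ : ∃ b, a j = b + 1 := ⟨a j - 1, by omega⟩
  have hs : ∑ l, a l = ∑ l, Function.update a j (a j - 1) l + 1 := by
    rw [Finset.sum_update_of_mem (Finset.mem_univ j), ← Finset.add_sum_erase _ _ (Finset.mem_univ j),
      Finset.sdiff_singleton_eq_erase]
    omega
  have hp : ∏ l, D.B l ^ a l = D.B j * ∏ l, D.B l ^ Function.update a j (a j - 1) l := by
    rw [← Finset.mul_prod_erase _ _ (Finset.mem_univ j), ← Finset.mul_prod_erase _ _ (Finset.mem_univ j),
      Function.update_self, hb, Nat.add_sub_cancel, pow_succ', mul_assoc]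
    congr 2
    exact Finset.prod_congr rfl fun l hl => by rw [Function.update_of_ne (Finset.ne_of_mem_erase hl)]
  rw [hs, Nat.mul_succ] at hn
  refine ⟨?_, by omega, by omega⟩
  rw [Blocks.poly, Blocks.poly, hp, hs, Nat.mul_succ,
    show n - (d * ∑ l, Function.update a j (a j - 1) l + d) = n - d - d * ∑ l, Function.update a j (a j - 1) l by omega]
  ring

theorem Blocks.poly_injective : ∀ (s : ℕ) {n : ℕ} (a b : Fin k → ℕ), ∑ l, a l = s → d * ∑ l, a l ≤ n →
    d * ∑ l, b l ≤ n → D.poly n a = D.poly n b → a = b := by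
  classical
  intro s
  induction s using Nat.strong_induction_on with
  | _ s ih =>
    intro n a b hs ha hb hab
    by_cases h0 : ∃ j, a j ≠ 0
    · obtain ⟨j, hj⟩ := h0
      have hbj : b j ≠ 0 := (D.dvd_poly_iff n b j).1 (hab ▸ (D.dvd_poly_iff n a j).2 hj)
      obtain ⟨e1, l1, hdn⟩ := D.poly_update a j hj ha
      obtain ⟨e2, l2, -⟩ := D.poly_update b j hbj hb
      rw [e1, e2] at hab
      have hlt : ∑ l, Function.update a j (a j - 1) l < s := by
        rw [← hs]
        exact Finset.sum_lt_sum (fun l _ => by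
          rcases eq_or_ne l j with rfl | h
          · rw [Function.update_self]; omega
          · rw [Function.update_of_ne h]) ⟨j, Finset.mem_univ j, by rw [Function.update_self]; omega⟩
      have h := ih _ hlt _ _ rfl l1 l2 (mul_left_cancel₀ (D.monic j).ne_zero hab)
      funext l
      rcases eq_or_ne l j with rfl | hl
      · have := congrFun h l
        rw [Function.update_self, Function.update_self] at this
        omega
      · have := congrFun h l
        rwa [Function.update_of_ne hl, Function.update_of_ne hl] at this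
    · simp only [not_exists, not_not] at h0
      funext l
      rw [h0 l]
      by_contra hne
      exact (D.dvd_poly_iff n a l).1 (hab ▸ (D.dvd_poly_iff n b l).2 (Ne.symm hne)) (h0 l)

include D in
theorem Blocks.exists_tuple (hd : Even d) : ∀ (n : ℕ) {f : F[X]}, f.Monic → f.reverse = f → f.natDegree = n →
    Even n → (∀ Q : F[X], Q.Monic → Irreducible Q → Q ∣ f → Q ∣ X ^ r - 1) →
    ∃ a : Fin k → ℕ, d * ∑ l, a l ≤ n ∧ f = D.poly n a := by
  classical
  intro n
  induction n using Nat.strong_induction_on with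
  | _ n ih =>
    intro f hf hrev hdeg hev hall
    by_cases hQ : ∃ Q : F[X], Q.Monic ∧ Irreducible Q ∧ Q ∣ f ∧ Q ≠ X - C 1
    · obtain ⟨Q, hQm, hQi, hQf, hQ1⟩ := hQ
      obtain ⟨j, g, hg⟩ := D.cover f hrev Q hQm hQi hQf (hall Q hQm hQi hQf) hQ1
      have hgm : g.Monic := (D.monic j).of_mul_monic_left (hg ▸ hf)
      have hgd : g.natDegree + d = n := by
        rw [← hdeg, hg, (D.monic j).natDegree_mul hgm, D.deg, Nat.add_comm]
      have hgr : g.reverse = g := by
        rw [hg, reverse_mul_of_domain, D.rev] at hrev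
        exact mul_left_cancel₀ (D.monic j).ne_zero hrev
      obtain ⟨a, ha, hga⟩ := ih g.natDegree (by have := D.dpos; omega) hgm hgr rfl
        (by rw [← hgd] at hev; exact (Nat.even_add.1 hev).2 hd)
        (fun Q hQm hQi hQd => hall Q hQm hQi (hg ▸ hQd.trans (dvd_mul_left _ _)))
      obtain ⟨a', ha'⟩ : ∃ a', a' = Function.update a j (a j + 1) := ⟨_, rfl⟩
      have hsum : ∑ l, a' l = ∑ l, a l + 1 := by
        rw [ha', Finset.sum_update_of_mem (Finset.mem_univ j), ← Finset.add_sum_erase _ _ (Finset.mem_univ j),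
          Finset.sdiff_singleton_eq_erase]
        omega
      refine ⟨a', by rw [hsum, Nat.mul_succ]; omega, ?_⟩
      obtain ⟨e, -, -⟩ := D.poly_update (n := n) a' j (by rw [ha', Function.update_self]; omega)
        (by rw [hsum, Nat.mul_succ]; omega)
      rw [e, hg, hga, show n - d = g.natDegree by omega]
      congr 2
      rw [ha', Function.update_self, Nat.add_sub_cancel, Function.update_idem, Function.update_eq_self]
    · simp only [not_exists, not_and, not_not] at hQ
      refine ⟨fun _ => 0, by simp, ?_⟩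
      have hp : ∀ (e : ℕ) (f : F[X]), f.Monic → f.natDegree = e →
          (∀ Q : F[X], Q.Monic → Irreducible Q → Q ∣ f → Q = X - C 1) → f = (X - C 1) ^ e := by
        intro e
        induction e with
        | zero => intro f hf hd _; rw [pow_zero, hf.natDegree_eq_zero.mp hd]
        | succ e ihe =>
          intro f hf hd h
          obtain ⟨Q, hQm, hQi, R, hR⟩ := exists_monic_irreducible_factor f (fun hu => by
            have := natDegree_eq_zero_of_isUnit hu; omega)
          have hQ1 := h Q hQm hQi ⟨R, hR⟩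
          have hRm : R.Monic := hQm.of_mul_monic_left (hR ▸ hf)
          rw [hQ1] at hR
          have hRd : R.natDegree = e := by
            rw [hR, (monic_X_sub_C 1).natDegree_mul hRm, natDegree_X_sub_C] at hd; omega
          rw [hR, ihe R hRm hRd fun S h1 h2 h3 => h S h1 h2 (hR ▸ h3.trans (dvd_mul_left _ _)), pow_succ']
      rw [Blocks.poly, hp n f hf hdeg hQ]
      simp

include D in
/-- The count of self-reciprocal polynomials built from the blocks. -/
theorem Blocks.natCard (hd : Even d) (m : ℕ) :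
    Nat.card {f : F[X] // f.Monic ∧ f.reverse = f ∧ f.natDegree = 2 * m ∧
      ∀ Q : F[X], Q.Monic → Irreducible Q → Q ∣ f → Q ∣ X ^ r - 1} = (2 * m / d + k).choose k := by
  rw [← natCard_le_sum k (2 * m / d)]
  symm
  refine Nat.card_congr (Equiv.ofBijective (fun a => ⟨D.poly (2 * m) a.1, D.monic_poly _ _, ?_, ?_, ?_⟩) ⟨?_, ?_⟩)
  · exact D.reverse_poly (even_two_mul m) hd _ ((le_div_iff' D.dpos).1 a.2)
  · exact D.natDegree_poly _ ((le_div_iff' D.dpos).1 a.2)
  · exact fun Q _ hQ h => D.allowed_poly _ _ hQ h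
  · intro a b h
    exact Subtype.ext (D.poly_injective _ a.1 b.1 rfl ((le_div_iff' D.dpos).1 a.2)
      ((le_div_iff' D.dpos).1 b.2) (congrArg Subtype.val h))
  · rintro ⟨f, hf, hrev, hdeg, hall⟩
    obtain ⟨a, ha, rfl⟩ := D.exists_tuple hd (2 * m) hf hrev hdeg (even_two_mul m) hall
    exact ⟨⟨a, (le_div_iff' D.dpos).2 ha⟩, rfl⟩

end CfsgLib.Classical.PalinCount
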