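import Cfsg.Agent.Lib.Classical.PSLTwoPerm
import Cfsg.Agent.Lib.Classical.SLGen
import Cfsg.Agent.Lib.Classical.ExcIsoPerm

/-!
# `PSL₂(7) ≅ PSL₃(2)`

`SL₂(7)` acts on the extended Hamming code on the projective line modulo constants.
-/

namespace CfsgLib.Classical

local notation "F7" => ZMod 7
local notation "F2" => ZMod 2

private local instance fact_seven : Fact (Nat.Prime 7) := ⟨by norm_num⟩

/-- The point of the projective line of a vector (`7` is the point at infinity). -/
def lineLabel (x : Fin 2 → F7) : Fin 8 := if x 1 = 0 then 7 else ⟨(x 0 * x 1 ^ 5).val, Nat.lt_succ_of_lt (ZMod.val_lt _)⟩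

/-- A representative of a point. -/
def lineRep (k : Fin 8) : Fin 2 → F7 := if k = 7 then ![1, 0] else ![((k : ℕ) : F7), 1]

/-- The lift of three coordinates into the code. -/
def codeLift (v : Fin 3 → F2) (x : Fin 2 → F7) : F2 :=
  v 0 * ![0, 1, 1, 0, 1, 0, 0, 1] (lineLabel x) + v 1 * ![0, 0, 1, 1, 0, 1, 0, 1] (lineLabel x) +
    v 2 * ![0, 0, 0, 1, 1, 0, 1, 1] (lineLabel x)

/-- Projection to coordinates. -/
def codeProj : ((Fin 2 → F7) → F2) →ₗ[F2] (Fin 3 → F2) where
  toFun w i := w (lineRep (![4, 3, 3] i)) + w (lineRep (![6, 6, 5] i))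
  map_add' v w := funext fun i => by simp only [Pi.add_apply]; ring
  map_smul' c v := funext fun i => by simp only [Pi.smul_apply, smul_eq_mul, RingHom.id_apply]; ring

theorem codeProj_lift : ∀ v, codeProj (codeLift v) = v := by
  decide +kernel

theorem lineRep_ne : ∀ k, lineRep k ≠ 0 := by
  decide +kernel

/-- Substitution by `g` keeps the code. -/
def KeepsCode (g : Matrix.SpecialLinearGroup (Fin 2) F7) : Prop :=
  ∀ v : Fin 3 → F2, ∃ t : F2, ∀ x : Fin 2 → F7, x ≠ 0 →
    codeLift v (g.1.mulVec x) = codeLift (codeProj fun y => codeLift v (g.1.mulVec y)) x + t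

theorem mulVec_ne_zero {g : Matrix.SpecialLinearGroup (Fin 2) F7} {x : Fin 2 → F7} (hx : x ≠ 0) :
    g.1.mulVec x ≠ 0 := fun h => hx (by
  have h1 := congrArg (g⁻¹).1.mulVec h
  rwa [Matrix.mulVec_mulVec, ← Matrix.SpecialLinearGroup.coe_mul, inv_mul_cancel,
    Matrix.SpecialLinearGroup.coe_one, Matrix.one_mulVec, Matrix.mulVec_zero] at h1)

theorem codeProj_congr {w : (Fin 2 → F7) → F2} {u : Fin 3 → F2} {t : F2}
    (h : ∀ x, x ≠ 0 → w x = codeLift u x + t) : codeProj w = u := by
  funext i
  show w _ + w _ = _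
  rw [h _ (lineRep_ne _), h _ (lineRep_ne _)]
  have h1 := congrFun (codeProj_lift u) i
  change codeLift u _ + codeLift u _ = u i at h1
  have h2 : (2 : F2) = 0 := by decide
  linear_combination h1 + t * h2

theorem keepsCode_proj_mul {g h : Matrix.SpecialLinearGroup (Fin 2) F7} (hg : KeepsCode g)
    (hh : KeepsCode h) (v : Fin 3 → F2) :
    ∃ t : F2, ∀ x, x ≠ 0 → codeLift v ((g * h).1.mulVec x) =
      codeLift (codeProj fun y => codeLift (codeProj fun z => codeLift v (g.1.mulVec z))
        (h.1.mulVec y)) x + t := by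
  obtain ⟨t, ht⟩ := hg v
  obtain ⟨t', ht'⟩ := hh (codeProj fun z => codeLift v (g.1.mulVec z))
  refine ⟨t' + t, fun x hx => ?_⟩
  rw [Matrix.SpecialLinearGroup.coe_mul, ← Matrix.mulVec_mulVec, ht _ (mulVec_ne_zero hx), ht' x hx,
    add_assoc]

theorem KeepsCode.mul {g h : Matrix.SpecialLinearGroup (Fin 2) F7} (hg : KeepsCode g)
    (hh : KeepsCode h) : KeepsCode (g * h) := fun v => by
  obtain ⟨t, ht⟩ := keepsCode_proj_mul hg hh v
  exact ⟨t, fun x hx => by rw [codeProj_congr ht]; exact ht x hx⟩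

theorem KeepsCode.one : KeepsCode 1 := fun v => by
  have h : (fun y => codeLift v ((1 : Matrix.SpecialLinearGroup (Fin 2) F7).1.mulVec y)) = codeLift v := by
    funext y; simp
  refine ⟨0, fun x _ => ?_⟩
  rw [h, codeProj_lift]
  simp

set_option maxHeartbeats 1000000 in
theorem keepsCode_transvection : ∀ (i j : Fin 2) (hij : i ≠ j) (c : F7),
    KeepsCode (Matrix.SpecialLinearGroup.transvection hij c) := by
  unfold KeepsCode
  decide +kernel

theorem keepsCode_all (g : Matrix.SpecialLinearGroup (Fin 2) F7) : KeepsCode g := by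
  let S : Subgroup (Matrix.SpecialLinearGroup (Fin 2) F7) :=
    { carrier := {g | KeepsCode g ∧ KeepsCode g⁻¹}
      one_mem' := ⟨KeepsCode.one, by rw [inv_one]; exact KeepsCode.one⟩
      mul_mem' := fun ha hb => ⟨ha.1.mul hb.1, by rw [mul_inv_rev]; exact hb.2.mul ha.2⟩
      inv_mem' := fun {a} ha => ⟨ha.2, by rw [inv_inv]; exact ha.1⟩ }
  have htop : S = ⊤ := sl_transvection_induction S fun i j hij c => by
    refine ⟨keepsCode_transvection i j hij c, ?_⟩
    rw [Matrix.SpecialLinearGroup.transvection_inv]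
    exact keepsCode_transvection i j hij _
  exact (htop ▸ Subgroup.mem_top g : g ∈ S).1

/-- The action on the code modulo constants. -/
def codeAct (g : Matrix.SpecialLinearGroup (Fin 2) F7) : (Fin 3 → F2) →ₗ[F2] (Fin 3 → F2) where
  toFun v := codeProj fun y => codeLift v ((g⁻¹).1.mulVec y)
  map_add' v w := by
    rw [← map_add]
    exact congrArg codeProj (funext fun y => by simp only [codeLift, Pi.add_apply]; ring)
  map_smul' c v := by
    rw [RingHom.id_apply, ← map_smul]
    exact congrArg codeProj (funext fun y => by simp only [codeLift, Pi.smul_apply, smul_eq_mul]; ring)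

theorem codeAct_apply (g : Matrix.SpecialLinearGroup (Fin 2) F7) (v : Fin 3 → F2) :
    codeAct g v = codeProj fun y => codeLift v ((g⁻¹).1.mulVec y) :=
  rfl

theorem codeAct_one (v : Fin 3 → F2) : codeAct 1 v = v := by
  rw [codeAct_apply]
  refine Eq.trans (congrArg codeProj (funext fun y => ?_)) (codeProj_lift v)
  rw [inv_one, Matrix.SpecialLinearGroup.coe_one, Matrix.one_mulVec]

theorem codeAct_mul (g h : Matrix.SpecialLinearGroup (Fin 2) F7) (v : Fin 3 → F2) :
    codeAct (g * h) v = codeAct g (codeAct h v) := by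
  obtain ⟨t, ht⟩ := keepsCode_proj_mul (keepsCode_all h⁻¹) (keepsCode_all g⁻¹) v
  rw [codeAct_apply, codeAct_apply g, codeAct_apply h, mul_inv_rev]
  exact codeProj_congr ht

theorem det_toMatrix_codeAct (g : Matrix.SpecialLinearGroup (Fin 2) F7) :
    (LinearMap.toMatrix' (codeAct g)).det = 1 := by
  have h : LinearMap.toMatrix' (codeAct g) * LinearMap.toMatrix' (codeAct g⁻¹) = 1 := by
    rw [← LinearMap.toMatrix'_comp, ← LinearMap.toMatrix'_id]
    exact congrArg _ (LinearMap.ext fun v => by
      rw [LinearMap.comp_apply, ← codeAct_mul, mul_inv_cancel, codeAct_one]; rfl)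
  have h1 := congrArg Matrix.det h
  rw [Matrix.det_mul, Matrix.det_one] at h1
  generalize (LinearMap.toMatrix' (codeAct g)).det = d at h1 ⊢
  generalize (LinearMap.toMatrix' (codeAct g⁻¹)).det = d' at h1
  revert h1 d d'
  decide

/-- `SL₂(7) → SL₃(2)`. -/
noncomputable def codeHom : Matrix.SpecialLinearGroup (Fin 2) F7 →* Matrix.SpecialLinearGroup (Fin 3) F2 where
  toFun g := ⟨LinearMap.toMatrix' (codeAct g), det_toMatrix_codeAct g⟩
  map_one' := Subtype.ext (by
    show LinearMap.toMatrix' (codeAct 1) = 1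
    rw [show codeAct 1 = LinearMap.id from LinearMap.ext codeAct_one]
    exact LinearMap.toMatrix'_id)
  map_mul' g h := Subtype.ext (by
    show LinearMap.toMatrix' (codeAct (g * h)) =
      LinearMap.toMatrix' (codeAct g) * LinearMap.toMatrix' (codeAct h)
    rw [← LinearMap.toMatrix'_comp]
    exact congrArg _ (LinearMap.ext (codeAct_mul g h)))

theorem center_le_ker_codeHom :
    Subgroup.center (Matrix.SpecialLinearGroup (Fin 2) F7) ≤ codeHom.ker := fun g hg => by
  obtain ⟨r, -, hr⟩ := Matrix.SpecialLinearGroup.mem_center_iff.1 (inv_mem hg)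
  refine MonoidHom.mem_ker.2 (Subtype.ext ?_)
  show LinearMap.toMatrix' (codeAct g) = 1
  rw [← LinearMap.toMatrix'_id]
  refine congrArg _ (LinearMap.ext fun v => ?_)
  rw [LinearMap.id_apply, codeAct_apply]
  have hdet := (g⁻¹).2
  rw [← hr, Matrix.scalar_apply, Matrix.det_diagonal, Fin.prod_univ_two] at hdet
  have hlab : ∀ (r : F7), r * r = 1 → ∀ y : Fin 2 → F7, lineLabel (r • y) = lineLabel y := by
    decide +kernel
  refine Eq.trans (congrArg codeProj (funext fun y => ?_)) (codeProj_lift v)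
  have hy : (g⁻¹).1.mulVec y = r • y := by
    rw [← hr]; funext i; simp [Matrix.scalar_apply, Matrix.mulVec_diagonal]
  rw [hy]
  simp only [codeLift, hlab r hdet y]

theorem psl_two_seven_equiv :
    Nonempty (Matrix.ProjectiveSpecialLinearGroup (Fin 2) F7 ≃*
      Matrix.ProjectiveSpecialLinearGroup (Fin 3) F2) := by
  have hs : IsSimpleGroup (Matrix.ProjectiveSpecialLinearGroup (Fin 2) F7) :=
    Matrix.ProjectiveSpecialLinearGroup.rank_two_simple (by simp)
  let φ : Matrix.ProjectiveSpecialLinearGroup (Fin 2) F7 →* Matrix.SpecialLinearGroup (Fin 3) F2 :=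
    QuotientGroup.lift _ codeHom center_le_ker_codeHom
  have hinj : Function.Injective φ := by
    refine (MonoidHom.ker_eq_bot_iff φ).1 ((φ.normal_ker.eq_bot_or_eq_top).resolve_right fun htop => ?_)
    obtain ⟨t, ht⟩ : ∃ t, t = Matrix.SpecialLinearGroup.transvection
        (show (0 : Fin 2) ≠ 1 by decide) (1 : F7) := ⟨_, rfl⟩
    have h1 : φ (QuotientGroup.mk t) = 1 := MonoidHom.mem_ker.1 (htop ▸ Subgroup.mem_top _)
    have h2 : LinearMap.toMatrix' (codeAct t) = 1 := congrArg Subtype.val h1
    have h3 : codeAct t (Pi.single 0 1) = Pi.single 0 1 := by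
      rw [LinearMap.toMatrix'.injective (h2.trans LinearMap.toMatrix'_id.symm)]; rfl
    revert h3
    rw [ht]
    decide +kernel
  have hbot : Subgroup.center (Matrix.SpecialLinearGroup (Fin 3) F2) = ⊥ :=
    Subgroup.eq_bot_of_card_eq _ (by rw [card_center_sl, ZMod.card, Fintype.card_fin]; rfl)
  have hcard : Nat.card (Matrix.ProjectiveSpecialLinearGroup (Fin 2) F7) =
      Nat.card (Matrix.SpecialLinearGroup (Fin 3) F2) := by
    have h := card_sl_mul (F := F2) (n := 3) (by norm_num)
    rw [ZMod.card, Fin.prod_univ_three] at h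
    simp at h
    rw [← Nat.card_eq_fintype_card] at h
    rw [card_psl_two_eq (F := F7) (ZMod.card 7) 168 (by norm_num), h]
  exact ⟨((MulEquiv.ofBijective φ ((Nat.bijective_iff_injective_and_card φ).2 ⟨hinj, hcard⟩)).trans
    QuotientGroup.quotientBot.symm).trans (QuotientGroup.quotientMulEquivOfEq hbot.symm)⟩

end CfsgLib.Classical
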