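import Mathlib
import Cfsg.Prelude.Def_Classical
import Cfsg.Agent.Lib.Classical.SemiForms
import Cfsg.Agent.Lib.Geom.OrthMatrix

/-!
Semisimple classes of symplectic and orthogonal groups are controlled by the general linear group.
-/

set_option autoImplicit false

namespace CfsgLib.Classical.SemiSymp

open Matrix

variable {F : Type*} [Field F] [Fintype F] {p : ℕ} [Fact p.Prime] [CharP F p]

omit [Fintype F] in
theorem cast_ne_zero_of_coprime {N : ℕ} (hN : N.Coprime p) : (N : F) ≠ 0 := fun h => by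
  rw [CharP.cast_eq_zero_iff F p] at h
  exact (Fact.out : p.Prime).ne_one (Nat.eq_one_of_dvd_coprimes hN h dvd_rfl)

section Symp

variable {l : Type*} [Fintype l] [DecidableEq l]

local notation "M2" => Matrix (l ⊕ l) (l ⊕ l) F

/-- The alternating form of `Matrix.symplecticGroup`. -/
noncomputable def sympB : ((l ⊕ l) → F) →ₗ[F] ((l ⊕ l) → F) →ₗ[F] F :=
  Matrix.toLinearMap₂' F (J l F)

omit [Fintype F] in
theorem sympB_alt (v : (l ⊕ l) → F) : sympB (F := F) v v = 0 := by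
  rw [sympB, Matrix.toLinearMap₂'_apply']
  conv_lhs => rw [show v = Sum.elim (v ∘ Sum.inl) (v ∘ Sum.inr) from (Sum.elim_comp_inl_inr v).symm]
  rw [J, fromBlocks_mulVec, sumElim_dotProduct_sumElim]
  simp [neg_mulVec, dotProduct_comm]

omit [Fintype F] in
theorem sympB_sep (v : (l ⊕ l) → F) (h : ∀ w, sympB (F := F) v w = 0) : v = 0 :=
  (LinearMap.separatingLeft_toLinearMap₂'_of_det_ne_zero' (M := J l F) (isUnit_det_J l F).ne_zero) v h

omit [Fintype F] in
theorem sympB_mulVec (A : M2) (u v : (l ⊕ l) → F) :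
    sympB (A *ᵥ u) (A *ᵥ v) = u ⬝ᵥ (Aᵀ * J l F * A) *ᵥ v := by
  rw [sympB, Matrix.toLinearMap₂'_apply', ← vecMul_transpose, ← dotProduct_mulVec, mulVec_mulVec,
    mulVec_mulVec, mul_assoc]

omit [Fintype F] in
theorem mem_iff_sympB (A : M2) :
    A ∈ symplecticGroup l F ↔ ∀ u v, sympB (A *ᵥ u) (A *ᵥ v) = sympB u v := by
  rw [SymplecticGroup.mem_iff']
  constructor
  · intro h u v
    rw [sympB_mulVec, h, sympB, Matrix.toLinearMap₂'_apply']
  · intro h
    ext i j
    have := h (Pi.single i 1) (Pi.single j 1)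
    rw [sympB_mulVec, sympB, Matrix.toLinearMap₂'_apply', mulVec_single_one, mulVec_single_one,
      single_one_dotProduct, single_one_dotProduct] at this
    exact this

omit [Fintype F] in
theorem coe_pow_mulVec (A : symplecticGroup l F) (k : ℕ) (v : (l ⊕ l) → F) :
    ((fun w => (A : M2) *ᵥ w)^[k]) v = ((A ^ k : symplecticGroup l F) : M2) *ᵥ v := by
  induction k with
  | zero => simp
  | succ k ih =>
    rw [Function.iterate_succ_apply', ih, pow_succ', SubmonoidClass.coe_pow] at *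
    rw [mulVec_mulVec]
    rfl

/-- Semisimple elements of a symplectic group that are linearly conjugate are conjugate. -/
theorem isConj_of_linear (A B : symplecticGroup l F) (hA : (orderOf A).Coprime p)
    (h : IsConj (A : M2) (B : M2)) : IsConj A B := by
  classical
  obtain ⟨x, hx⟩ := h
  obtain ⟨eA, heA⟩ : ∃ eA : ((l ⊕ l) → F) ≃ₗ[F] ((l ⊕ l) → F), ∀ v, eA v = (A : M2) *ᵥ v :=
    ⟨LinearEquiv.ofLinearMap (toLin' (A : M2)) (toLin' ((A⁻¹ : symplecticGroup l F) : M2))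
      (by rw [← toLin'_mul, ← Submonoid.coe_mul, mul_inv_cancel]; exact toLin'_one)
      (by rw [← toLin'_mul, ← Submonoid.coe_mul, inv_mul_cancel]; exact toLin'_one),
     fun v => toLin'_apply _ v⟩
  have hfN : ∀ v, (eA^[orderOf A]) v = v := by
    intro v
    rw [show (⇑eA : ((l ⊕ l) → F) → _) = fun w => (A : M2) *ᵥ w from funext heA, coe_pow_mulVec,
      pow_orderOf_eq_one, OneMemClass.coe_one, one_mulVec]
  have hsurj : Function.Surjective fun v => (x : M2) *ᵥ v := fun w =>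
    ⟨((x⁻¹ : M2ˣ) : M2) *ᵥ w, by simp [mulVec_mulVec]⟩
  have hxinj : Function.Injective fun v => (x : M2) *ᵥ v := Matrix.mulVec_injective_of_isUnit x.isUnit
  have hxA : ∀ v, (x : M2) *ᵥ ((A : M2) *ᵥ v) = (B : M2) *ᵥ ((x : M2) *ᵥ v) := fun v => by
    rw [mulVec_mulVec, mulVec_mulVec, hx.eq]
  obtain ⟨B₂, hB₂⟩ : ∃ B₂ : ((l ⊕ l) → F) →ₗ[F] ((l ⊕ l) → F) →ₗ[F] F,
      ∀ u v, B₂ u v = sympB ((x : M2) *ᵥ u) ((x : M2) *ᵥ v) :=
    ⟨(sympB (F := F)).compl₁₂ (toLin' (x : M2)) (toLin' (x : M2)), fun u v => by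
      rw [LinearMap.compl₁₂_apply, toLin'_apply, toLin'_apply]⟩
  obtain ⟨e, he, heB⟩ := SemiForms.exists_comm_alt (sympB (F := F)) B₂ eA
    (cast_ne_zero_of_coprime hA) hfN
    sympB_alt (fun v => by rw [hB₂]; exact sympB_alt _) sympB_sep
    (fun v hv => hxinj ((sympB_sep _ fun w => by
      obtain ⟨w, rfl⟩ := hsurj w
      exact (hB₂ v w).symm.trans (hv w)).trans (mulVec_zero _).symm))
    (fun u v => by rw [heA, heA]; exact (mem_iff_sympB _).1 A.2 u v)
    (fun u v => by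
      simp only [hB₂, heA, hxA]
      exact (mem_iff_sympB _).1 B.2 _ _)
  obtain ⟨E', hE'⟩ : ∃ E' : M2, ∀ v, E' *ᵥ v = e.symm v :=
    ⟨LinearMap.toMatrix' e.symm.toLinearMap, fun v => LinearMap.toMatrix'_mulVec _ v⟩
  have hy : (x : M2) * E' ∈ symplecticGroup l F := (mem_iff_sympB _).2 fun u v => by
    rw [← mulVec_mulVec, ← mulVec_mulVec, hE', hE']
    have := heB (e.symm u) (e.symm v)
    rw [hB₂, e.apply_symm_apply, e.apply_symm_apply] at this
    exact this.symm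
  refine isConj_iff.2 ⟨⟨_, hy⟩, mul_inv_eq_iff_eq_mul.2 (Subtype.ext ?_)⟩
  refine Matrix.toLin'.injective (LinearMap.ext fun v => ?_)
  show ((x : M2) * E' * (A : M2)) *ᵥ v = ((B : M2) * ((x : M2) * E')) *ᵥ v
  rw [← mulVec_mulVec, ← mulVec_mulVec, ← mulVec_mulVec, ← mulVec_mulVec, hE', hE', ← hxA, ← heA (e.symm v)]
  congr 1
  rw [LinearEquiv.symm_apply_eq, he, e.apply_symm_apply, heA]

end Symp

section Orth

variable {n : ℕ}

/-- Semisimple elements of odd order of an orthogonal group that are linearly conjugate are conjugate. -/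
theorem isConj_of_linear_orth (Q : QuadraticForm F (Fin n → F))
    (hQ : (QuadraticMap.polarBilin Q).Nondegenerate) (A B : ↥(Cfsg.isometryGroup F ⇑Q))
    (hodd : Odd (orderOf A)) (hA : (orderOf A).Coprime p)
    (h : IsConj ((A : GL (Fin n) F) : Matrix (Fin n) (Fin n) F) ((B : GL (Fin n) F) : Matrix (Fin n) (Fin n) F)) :
    IsConj A B := by
  obtain ⟨x, hx⟩ := h
  obtain ⟨eA, heA⟩ := CfsgLib.Geom.glOfEquiv_bijective.2 (A : GL (Fin n) F)
  obtain ⟨eB, heB⟩ := CfsgLib.Geom.glOfEquiv_bijective.2 (B : GL (Fin n) F)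
  obtain ⟨ex, hex⟩ := CfsgLib.Geom.glOfEquiv_bijective.2 x
  have hAm : eA ∈ CfsgLib.Geom.quadIsoms Q := (CfsgLib.Geom.glOfEquiv_mem_iff Q eA).1 (heA ▸ A.2)
  have hBm : eB ∈ CfsgLib.Geom.quadIsoms Q := (CfsgLib.Geom.glOfEquiv_mem_iff Q eB).1 (heB ▸ B.2)
  have hxA : ex * eA = eB * ex := CfsgLib.Geom.glOfEquiv_bijective.1 (by
    rw [map_mul, map_mul, hex, heA, heB]; exact Units.ext hx.eq)
  have hiter : ∀ (k : ℕ) (v : Fin n → F), (eA^[k]) v = (eA ^ k) v := fun k v => by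
    induction k with
    | zero => rfl
    | succ k ih => rw [Function.iterate_succ_apply', ih, pow_succ', LinearEquiv.mul_apply]
  have hord : eA ^ orderOf A = 1 := CfsgLib.Geom.glOfEquiv_bijective.1 (by
    rw [map_pow, heA, map_one, ← SubmonoidClass.coe_pow, pow_orderOf_eq_one]; rfl)
  have hsep := CfsgLib.Geom.sep_of_nondegenerate Q hQ
  obtain ⟨e, he, heQ⟩ := SemiForms.exists_comm_quad Q (Q.comp ex.toLinearMap) eA
    (cast_ne_zero_of_coprime hA) hodd (fun v => by rw [hiter, hord]; rfl) hsep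
    (fun v hv => ex.map_eq_zero_iff.1 (hsep _ fun w => by
      obtain ⟨w, rfl⟩ := ex.surjective w
      have := hv w
      simpa [QuadraticMap.polar] using this))
    (fun v => hAm v)
    (fun v => by
      show Q (ex (eA v)) = Q (ex v)
      rw [← LinearEquiv.mul_apply, hxA, LinearEquiv.mul_apply, hBm])
    ex (fun v => rfl)
  have hm : CfsgLib.Geom.glOfEquiv (ex * e⁻¹) ∈ Cfsg.isometryGroup F ⇑Q := by
    rw [CfsgLib.Geom.glOfEquiv_mem_iff, CfsgLib.Geom.mem_quadIsoms]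
    intro v
    have := heQ (e⁻¹ v)
    rw [← LinearEquiv.mul_apply e, mul_inv_cancel] at this
    exact this.symm
  have hcom : e * eA = eA * e := LinearEquiv.ext he
  refine isConj_iff.2 ⟨⟨_, hm⟩, mul_inv_eq_iff_eq_mul.2 (Subtype.ext ?_)⟩
  show CfsgLib.Geom.glOfEquiv (ex * e⁻¹) * (A : GL (Fin n) F) = (B : GL (Fin n) F) * CfsgLib.Geom.glOfEquiv (ex * e⁻¹)
  rw [← heA, ← heB, ← map_mul, ← map_mul]
  congr 1
  rw [mul_assoc, ← mul_assoc eB, ← hxA, mul_assoc]
  congr 1
  rw [inv_mul_eq_iff_eq_mul, ← mul_assoc, hcom, mul_inv_cancel_right]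

end Orth

end CfsgLib.Classical.SemiSymp
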