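import Mathlib
import Cfsg.Agent.Lib.Classical.SemiSymp
import Cfsg.Agent.Lib.Classical.SemiPalin
import Cfsg.Agent.Lib.KnownB.SSMatrix

/-!
Every self-reciprocal monic polynomial of even degree is the characteristic polynomial of a semisimple
symplectic matrix; the number of semisimple classes of `Sp_2n(q)`.
-/

set_option autoImplicit false

namespace CfsgLib.Classical.SemiSympExists

open Matrix Polynomial CfsgLib.Classical
open scoped Polynomial

variable {F : Type*} [Field F] [Fintype F] (p : ℕ) [Fact p.Prime] [CharP F p]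

/-- `f` is the characteristic polynomial of a semisimple isometry of some symplectic space. -/
def Real (f : F[X]) : Prop :=
  ∃ (d : ℕ) (B : (Fin d → F) →ₗ[F] (Fin d → F) →ₗ[F] F) (g : (Fin d → F) ≃ₗ[F] (Fin d → F)) (N : ℕ),
    (∀ v, B v v = 0) ∧ (∀ x, (∀ y, B x y = 0) → x = 0) ∧ (∀ u v, B (g u) (g v) = B u v) ∧
      N.Coprime p ∧ (∀ v, (g^[N]) v = v) ∧ g.toLinearMap.charpoly = f

omit [Fintype F] [Fact p.Prime] [CharP F p] in
/-- Transport to `Fin d → F`. -/
theorem real_of_space {V : Type*} [AddCommGroup V] [Module F V] [FiniteDimensional F V]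
    (B : V →ₗ[F] V →ₗ[F] F) (g : V ≃ₗ[F] V) {N : ℕ} (ha : ∀ v, B v v = 0)
    (hs : ∀ x, (∀ y, B x y = 0) → x = 0) (hi : ∀ u v, B (g u) (g v) = B u v) (hN : N.Coprime p)
    (hgN : ∀ v, (g^[N]) v = v) {f : F[X]} (hf : g.toLinearMap.charpoly = f) : Real p f := by
  let e : (Fin (Module.finrank F V) → F) ≃ₗ[F] V := (Module.finBasis F V).equivFun.symm
  obtain ⟨g', hg'⟩ : ∃ g' : (Fin (Module.finrank F V) → F) ≃ₗ[F] (Fin (Module.finrank F V) → F),
      g' = e.trans (g.trans e.symm) := ⟨_, rfl⟩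
  have hga : ∀ v, e (g' v) = g (e v) := fun v => by
    rw [hg']; exact e.apply_symm_apply _
  have hit : ∀ (k : ℕ) v, e ((g'^[k]) v) = (g^[k]) (e v) := fun k v => by
    induction k with
    | zero => rfl
    | succ k ih => rw [Function.iterate_succ_apply', Function.iterate_succ_apply', hga, ih]
  refine ⟨_, B.compl₁₂ e.toLinearMap e.toLinearMap, g', N, fun v => ha _, fun x hx => ?_, fun u v => ?_, hN,
    fun v => e.injective (by rw [hit, hgN]), ?_⟩
  · refine e.injective (((hs _ fun y => ?_)).trans (map_zero e).symm)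
    obtain ⟨y, rfl⟩ := e.surjective y
    exact hx y
  · show B (e (g' u)) (e (g' v)) = B (e u) (e v)
    rw [hga, hga, hi]
  · rw [← hf, ← e.symm.charpoly_conj g.toLinearMap]
    congr 1
    refine LinearMap.ext fun v => e.injective ?_
    show e (g' v) = e (e.symm (g (e v)))
    rw [hga, e.apply_symm_apply]

include p in
/-- The base case: no roots `±1`. -/
theorem real_of_no_root {r : F[X]} (hr : r.Monic) (hrev : r.reverse = r) (he : Even r.natDegree)
    (h1 : r.eval 1 ≠ 0) (h1' : r.eval (-1) ≠ 0) : Real p r := by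
  obtain ⟨d, hd⟩ : ∃ d, d = r.natDegree := ⟨_, rfl⟩
  have hr0 := SemiPalin.coeff_zero_of_rev hrev hr
  obtain ⟨g, hg, hgc⟩ := CfsgLib.KnownB.SSClass.exists_gl p hr hd.symm (by rw [hr0]; exact one_ne_zero)
  obtain ⟨A, hA⟩ : ∃ A : Matrix (Fin d) (Fin d) F, A = (g : Matrix (Fin d) (Fin d) F) := ⟨_, rfl⟩
  obtain ⟨A', hA'⟩ : ∃ A' : Matrix (Fin d) (Fin d) F, A' = ((g⁻¹ : GL (Fin d) F) : Matrix (Fin d) (Fin d) F) :=
    ⟨_, rfl⟩
  have hAA : A * A' = 1 := by rw [hA, hA']; exact g.mul_inv
  have hA'A : A' * A = 1 := by rw [hA, hA']; exact g.inv_mul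
  have hdet : A.det = 1 := by
    rw [det_eq_sign_charpoly_coeff, hA, hgc, hr0, mul_one, Fintype.card_fin, hd, he.neg_one_pow]
  have hA'c : A'.charpoly = r := by
    rw [show A' = A⁻¹ from (inv_eq_right_inv hAA).symm, charpoly_inv A (hA ▸ g.isUnit), hdet,
      ← reverse_charpoly, hA, hgc, hrev, Fintype.card_fin, hd, he.neg_one_pow]
    simp
  obtain ⟨g2, hg2⟩ : ∃ g2 : GL (Fin d) F, (g2 : Matrix (Fin d) (Fin d) F) = A'ᵀ :=
    ⟨⟨A'ᵀ, Aᵀ, by rw [← transpose_mul, hAA, transpose_one], by rw [← transpose_mul, hA'A, transpose_one]⟩, rfl⟩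
  have hg2o : (orderOf g2).Coprime p := by
    refine Nat.Coprime.coprime_dvd_left (orderOf_dvd_of_pow_eq_one (Units.ext ?_)) hg
    rw [Units.val_pow_eq_pow_val, hg2, ← transpose_pow, hA', ← Units.val_pow_eq_pow_val, inv_pow,
      pow_orderOf_eq_one, inv_one, Units.val_one, transpose_one]
  obtain ⟨x, hx⟩ := isConj_iff.1 (CfsgLib.KnownB.SSClass.gl_isConj_of_charpoly p hg hg2o
    (by rw [hgc, hg2, charpoly_transpose, hA'c]))
  obtain ⟨G, hG⟩ : ∃ G : Matrix (Fin d) (Fin d) F, G = (x : Matrix (Fin d) (Fin d) F) := ⟨_, rfl⟩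
  obtain ⟨G', hG'⟩ : ∃ G' : Matrix (Fin d) (Fin d) F, G' = ((x⁻¹ : GL (Fin d) F) : Matrix (Fin d) (Fin d) F) :=
    ⟨_, rfl⟩
  have hG1 : G' * G = 1 := by rw [hG, hG']; exact x.inv_mul
  have hG2 : G * G' = 1 := by rw [hG, hG']; exact x.mul_inv
  have hGt1 : G'ᵀ * Gᵀ = 1 := by rw [← transpose_mul, hG2, transpose_one]
  have hGt2 : Gᵀ * G'ᵀ = 1 := by rw [← transpose_mul, hG1, transpose_one]
  have hinv : Aᵀ * G * A = G := by
    have h2 : G * A = A'ᵀ * G := by
      have := congrArg Units.val (mul_inv_eq_iff_eq_mul.1 hx)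
      rw [Units.val_mul, Units.val_mul, hg2, ← hA, ← hG] at this
      exact this
    rw [mul_assoc, h2, ← mul_assoc, ← transpose_mul, hA'A, transpose_one, one_mul]
  have hinvt : Aᵀ * Gᵀ * A = Gᵀ := by
    conv_rhs => rw [← hinv, transpose_mul, transpose_mul, transpose_transpose, ← mul_assoc]
  let τ : Matrix (Fin d) (Fin d) F →+ Matrix (Fin d) (Fin d) F :=
    { toFun := fun X => G' * Xᵀ * G
      map_zero' := by simp
      map_add' := fun X Y => by simp [mul_add, add_mul] }
  have hτ : ∀ X, τ X = G' * Xᵀ * G := fun X => rfl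
  have hcomm : ∀ H : Matrix (Fin d) (Fin d) F, Aᵀ * H * A = H → H * A = A'ᵀ * H := fun H hH => by
    conv_rhs => rw [← hH]
    rw [← mul_assoc, ← mul_assoc, ← transpose_mul, hAA, transpose_one, one_mul]
  have hAy : Commute A (-(G' * Gᵀ)) := by
    refine Commute.neg_right ?_
    show A * (G' * Gᵀ) = G' * Gᵀ * A
    rw [mul_assoc G', hcomm _ hinvt, ← mul_assoc G', ← mul_assoc A]
    congr 1
    symm
    calc G' * A'ᵀ = G' * (A'ᵀ * G) * G' := by rw [mul_assoc, mul_assoc, hG2, mul_one]
      _ = A * G' := by rw [← hcomm _ hinv, ← mul_assoc G', hG1, one_mul]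
  have hunit : IsUnit (A - A') := by
    have hc : ∀ c : F, r.eval c ≠ 0 → IsUnit (scalar (Fin d) c - A) := fun c hc => by
      rw [isUnit_iff_isUnit_det, ← eval_charpoly, hA, hgc]
      exact isUnit_iff_ne_zero.2 hc
    have h : A - A' = A' * ((scalar (Fin d) (1 : F) - A) * (scalar (Fin d) (-1 : F) - A)) := by
      have e1 : A' * (A * A) = A := by rw [← mul_assoc, hA'A, one_mul]
      simp only [map_one, map_neg, sub_mul, mul_sub, one_mul, mul_one, mul_neg, hA'A, e1]
      abel
    rw [h]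
    exact (hA' ▸ (g⁻¹).isUnit).mul ((hc 1 h1).mul (hc (-1) h1'))
  obtain ⟨z, hz, hzy, hzc⟩ := SemiNorm.exists_twisted τ
    (by rw [hτ, transpose_one, mul_one, hG1])
    (fun X Y => by
      rw [hτ, hτ, hτ, transpose_mul]
      calc G' * (Yᵀ * Xᵀ) * G = G' * Yᵀ * 1 * Xᵀ * G := by rw [mul_one]; simp only [mul_assoc]
        _ = _ := by rw [← hG2]; simp only [mul_assoc])
    (θ := A) (θ' := A') (y := -(G' * Gᵀ)) (y' := -(G'ᵀ * G))
    (by rw [hτ]; calc G' * Aᵀ * G = G' * (Aᵀ * G * A) * A' := by simp only [mul_assoc, hAA, mul_one]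
          _ = A' := by rw [hinv, hG1, one_mul])
    (by rw [hτ, mul_assoc, ← hcomm _ hinv, ← mul_assoc, hG1, one_mul])
    (by rw [hτ, transpose_neg, transpose_mul, transpose_transpose, mul_neg, neg_mul, ← mul_assoc G', hG1,
      one_mul])
    (by rw [hτ, transpose_neg, transpose_mul, transpose_transpose, mul_neg, neg_mul, mul_assoc G', mul_assoc Gᵀ,
      hG1, mul_one])
    (by rw [neg_mul_neg, mul_assoc, ← mul_assoc Gᵀ, hGt2, one_mul, hG1])
    (by rw [neg_mul_neg, mul_assoc, ← mul_assoc G, hG2, one_mul, hGt1])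
    hAy (Commute.units_inv_left (u := ⟨A, A', hAA, hA'A⟩) hAy)
    (Commute.units_inv_right (u := ⟨A, A', hAA, hA'A⟩) (Commute.refl A)) hunit
  obtain ⟨H, hH⟩ : ∃ H, H = G * z := ⟨_, rfl⟩
  have hHt : Hᵀ = -H := by
    rw [hH, transpose_mul]
    conv_rhs => rw [← hzy, hτ]
    calc zᵀ * Gᵀ = G * G' * zᵀ * (G * G' * Gᵀ) := by rw [hG2, one_mul, one_mul]
      _ = _ := by simp only [mul_neg, neg_neg, mul_assoc]
  have hHA : Aᵀ * H * A = H := by
    have hz' := (hzc A (Commute.refl A) (Commute.units_inv_right (u := ⟨A, A', hAA, hA'A⟩) (Commute.refl A))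
      hAy).eq
    rw [hH, mul_assoc, mul_assoc, ← hz', ← mul_assoc, ← mul_assoc, hinv]
  obtain ⟨eA, heA⟩ : ∃ eA : (Fin d → F) ≃ₗ[F] (Fin d → F), ∀ v, eA v = A *ᵥ v :=
    ⟨LinearEquiv.ofLinearMap (toLin' A) (toLin' A') (by rw [← toLin'_mul, hAA]; exact toLin'_one)
      (by rw [← toLin'_mul, hA'A]; exact toLin'_one), fun v => toLin'_apply _ v⟩
  have hB : ∀ u v, Matrix.toLinearMap₂' F H u v = u ⬝ᵥ H *ᵥ v := fun u v => toLinearMap₂'_apply' H u v
  have hBA : ∀ u v, Matrix.toLinearMap₂' F H (A *ᵥ u) (A *ᵥ v) = Matrix.toLinearMap₂' F H u v := fun u v => by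
    rw [hB, hB]
    conv_rhs => rw [← hHA]
    rw [← vecMul_transpose, ← dotProduct_mulVec, mulVec_mulVec, mulVec_mulVec]
  have hswap : ∀ u v, Matrix.toLinearMap₂' F H v u = - Matrix.toLinearMap₂' F H u v := fun u v => by
    rw [hB, hB, dotProduct_mulVec v, ← mulVec_transpose, hHt, neg_mulVec, neg_dotProduct, dotProduct_comm]
  refine real_of_space p (Matrix.toLinearMap₂' F H) eA (N := orderOf g) (fun v => ?_) ?_
    (fun u v => by rw [heA, heA, hBA]) hg (fun v => ?_) ?_
  · obtain ⟨w, rfl⟩ : ∃ w, A *ᵥ w - w = v := by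
      have hu : IsUnit (A - 1) := by
        rw [show A - 1 = -(scalar (Fin d) (1 : F) - A) by rw [map_one, neg_sub], IsUnit.neg_iff,
          isUnit_iff_isUnit_det, ← eval_charpoly, hA, hgc]
        exact isUnit_iff_ne_zero.2 h1
      obtain ⟨P, hP⟩ : ∃ P : Matrix (Fin d) (Fin d) F, (A - 1) * P = 1 := ⟨_, hu.mul_val_inv⟩
      refine ⟨P *ᵥ v, ?_⟩
      rw [mulVec_mulVec, ← sub_mulVec, ← sub_one_mul, hP, one_mulVec]
    have hadd : ∀ a b, Matrix.toLinearMap₂' F H (a + b) (a + b) =
        Matrix.toLinearMap₂' F H a a + Matrix.toLinearMap₂' F H b b := fun a b => by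
      have h' := hswap a b
      rw [hB, hB] at h'
      rw [hB, hB, hB, mulVec_add, add_dotProduct, dotProduct_add, dotProduct_add, h']
      ring
    have h := hadd (A *ᵥ w - w) w
    rw [sub_add_cancel, hBA] at h
    exact left_eq_add.1 (h.trans (add_comm _ _))
  · exact LinearMap.separatingLeft_toLinearMap₂'_of_det_ne_zero' (M := H)
      ((isUnit_iff_isUnit_det _).1 (hH ▸ (hG ▸ x.isUnit).mul hz)).ne_zero
  · have hit : ∀ k, (eA^[k]) v = (A ^ k) *ᵥ v := fun k => by
      induction k with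
      | zero => simp [one_mulVec]
      | succ k ih => rw [Function.iterate_succ_apply', ih, heA, mulVec_mulVec, pow_succ']
    rw [hit, hA, ← Units.val_pow_eq_pow_val, pow_orderOf_eq_one, Units.val_one, one_mulVec]
  · rw [show eA.toLinearMap = toLin' A from LinearMap.ext fun v => (heA v).trans (toLin'_apply A v).symm,
      Matrix.charpoly_toLin', hA, hgc]

include p in
theorem real_of_palindromic : ∀ (k : ℕ) {f : F[X]}, f.Monic → f.reverse = f → f.natDegree = 2 * k → Real p f := by
  intro k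
  induction k using Nat.strong_induction_on with
  | _ k ih =>
    intro f hf hrev hd
    by_cases hroot : ∃ c : F, c * c = 1 ∧ f.eval c = 0
    · obtain ⟨c, hc, hev⟩ := hroot
      obtain ⟨f', hf', hrev', hff⟩ := SemiPalin.exists_sq_dvd hrev hf (hd ▸ even_two_mul k) hc hev
      have hsq : ((X - C c) * (X - C c)).Monic := (monic_X_sub_C c).mul (monic_X_sub_C c)
      have hdd : f.natDegree = 2 + f'.natDegree := by
        rw [hff, hsq.natDegree_mul hf', (monic_X_sub_C c).natDegree_mul (monic_X_sub_C c), natDegree_X_sub_C]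
      obtain ⟨d, B, g, N, ha, hs, hi, hN, hgN, hgc⟩ := ih (k - 1) (by omega) hf' hrev' (by omega)
      let β : ((Fin 1 ⊕ Fin 1) → F) →ₗ[F] ((Fin 1 ⊕ Fin 1) → F) →ₗ[F] F := SemiSymp.sympB
      let B' : ((Fin d → F) × ((Fin 1 ⊕ Fin 1) → F)) →ₗ[F] ((Fin d → F) × ((Fin 1 ⊕ Fin 1) → F)) →ₗ[F] F :=
        B.compl₁₂ (LinearMap.fst F _ _) (LinearMap.fst F _ _) + β.compl₁₂ (LinearMap.snd F _ _) (LinearMap.snd F _ _)
      have hB' : ∀ u v, B' u v = B u.1 v.1 + β u.2 v.2 := fun u v => rfl
      let cu : Fˣ := ⟨c, c, hc, hc⟩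
      let g' := g.prodCongr (LinearEquiv.smulOfUnit cu : ((Fin 1 ⊕ Fin 1) → F) ≃ₗ[F] _)
      have hg' : ∀ u, g' u = (g u.1, c • u.2) := fun u => rfl
      obtain ⟨M, hM, hcM⟩ : ∃ M : ℕ, M.Coprime p ∧ c ^ M = 1 := by
        by_cases h1 : c = 1
        · exact ⟨1, Nat.coprime_one_left p, by rw [h1, one_pow]⟩
        · refine ⟨2, ?_, by rw [sq, hc]⟩
          rw [Nat.coprime_primes Nat.prime_two (Fact.out : p.Prime)]
          intro h2
          have h20 : (2 : F) = 0 := by
            have := CharP.cast_eq_zero F p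
            rw [← h2] at this
            exact_mod_cast this
          exact h1 (sub_eq_zero.1 (mul_self_eq_zero.1 (by linear_combination hc + (1 - c) * h20)))
      have hit : ∀ (j : ℕ) u, (g'^[j]) u = ((g^[j]) u.1, c ^ j • u.2) := fun j u => by
        induction j with
        | zero => simp
        | succ j ihj =>
          rw [Function.iterate_succ_apply', ihj, hg', Function.iterate_succ_apply', smul_smul, pow_succ']
      refine real_of_space p B' g' (N := N * M) (fun v => ?_) (fun x hx => ?_) (fun u v => ?_)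
        (Nat.Coprime.mul_left hN hM) (fun v => ?_) ?_
      · rw [hB', ha]; exact (zero_add _).trans (SemiSymp.sympB_alt _)
      · refine Prod.ext (hs _ fun y => ?_) (SemiSymp.sympB_sep _ fun y => ?_)
        · have := hx (y, 0); rwa [hB', map_zero, add_zero] at this
        · have := hx (0, y); rwa [hB', map_zero, zero_add] at this
      · rw [hB', hg', hg', hB', hi, map_smul, map_smul, LinearMap.smul_apply, smul_smul, hc, one_smul]
      · have hfix : (g^[N * M]) v.1 = v.1 := by
          rw [Function.iterate_mul]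
          exact Function.iterate_fixed (f := g^[N]) (hgN _) M
        rw [hit, hfix, mul_comm N M, pow_mul, hcM, one_pow, one_smul]
      · rw [show g'.toLinearMap = g.toLinearMap.prodMap (c • LinearMap.id) from LinearMap.ext fun v => rfl,
          LinearMap.charpoly_prodMap, hgc, hff, mul_comm (_ * _) f']
        congr 1
        rw [← LinearMap.charpoly_toMatrix (c • LinearMap.id : Module.End F _) (Pi.basisFun F (Fin 1 ⊕ Fin 1)),
          map_smul, LinearMap.toMatrix_id, smul_one_eq_diagonal, charpoly_diagonal]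
        simp [sq]
    · simp only [not_exists, not_and] at hroot
      exact real_of_no_root p hf hrev (hd ▸ even_two_mul k) (hroot 1 (one_mul 1)) (hroot (-1) (by ring))

section Symp

variable {n : ℕ}

local notation "M2" => Matrix (Fin n ⊕ Fin n) (Fin n ⊕ Fin n) F

omit [Fintype F] in
theorem charpoly_symp (A : symplecticGroup (Fin n) F) :
    (A : M2).charpoly.reverse = (A : M2).charpoly := by
  have hA := A.2
  have hAu : IsUnit (A : M2) := A.1.isUnit_iff_isUnit_det.2 (SymplecticGroup.symplectic_det hA)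
  have hinv : (A : M2)⁻¹.charpoly = (A : M2).charpoly := by
    rw [inv_eq_left_inv (B := -J (Fin n) F * (A : M2)ᵀ * J (Fin n) F) (by
      rw [SymplecticGroup.mem_iff'] at hA
      calc -J (Fin n) F * (A : M2)ᵀ * J (Fin n) F * (A : M2)
          = -J (Fin n) F * ((A : M2)ᵀ * J (Fin n) F * (A : M2)) := by simp only [mul_assoc]
        _ = 1 := by rw [hA, neg_mul, J_squared, neg_neg])]
    have hJ : IsUnit (J (Fin n) F) := (isUnit_iff_isUnit_det _).2 (isUnit_det_J _ _)
    have hJi : ((hJ.unit⁻¹ : M2ˣ) : M2) = -J (Fin n) F :=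
      Units.inv_eq_of_mul_eq_one_right (by rw [IsUnit.unit_spec, mul_neg, J_squared, neg_neg])
    have h2 := charpoly_units_conj' hJ.unit (A : M2)ᵀ
    rw [← Matrix.coe_units_inv, hJi, IsUnit.unit_spec, charpoly_transpose] at h2
    exact h2
  rw [charpoly_inv _ hAu, SymplecticGroup.det_eq_one hA, ← reverse_charpoly] at hinv
  simpa [Fintype.card_sum, ← two_mul, pow_mul] using hinv

include p in
theorem exists_symp (f : F[X]) (hf : f.Monic) (hrev : f.reverse = f) (hd : f.natDegree = 2 * n) :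
    ∃ A : symplecticGroup (Fin n) F, (orderOf A).Coprime p ∧ (A : M2).charpoly = f := by
  obtain ⟨d, B, g, N, ha, hs, hi, hN, hgN, hgc⟩ := real_of_palindromic p n hf hrev hd
  have hd2 : d = 2 * n := by
    have := g.toLinearMap.charpoly_natDegree
    rw [hgc, hd, Module.finrank_fin_fun] at this
    exact this.symm
  obtain ⟨e, he⟩ := CfsgLib.Geom.exists_symp_isometry (F := F) d B (SemiSymp.sympB (l := Fin n)) ha hs
    SemiSymp.sympB_alt SemiSymp.sympB_sep (Module.finrank_fin_fun F) (by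
      rw [Module.finrank_pi, Fintype.card_sum, Fintype.card_fin, hd2]; omega)
  obtain ⟨A, hA⟩ : ∃ A : M2, ∀ v, A *ᵥ v = e (g (e.symm v)) :=
    ⟨LinearMap.toMatrix' (e.conj g.toLinearMap), fun v => LinearMap.toMatrix'_mulVec _ v⟩
  have hmem : A ∈ symplecticGroup (Fin n) F := (SemiSymp.mem_iff_sympB _).2 fun u v => by
    rw [hA, hA, he, hi, ← he, e.apply_symm_apply, e.apply_symm_apply]
  refine ⟨⟨A, hmem⟩, Nat.Coprime.coprime_dvd_left (orderOf_dvd_of_pow_eq_one (Subtype.ext ?_)) hN, ?_⟩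
  · refine Matrix.toLin'.injective (LinearMap.ext fun v => ?_)
    rw [OneMemClass.coe_one, toLin'_one, LinearMap.id_apply, toLin'_apply]
    have hit : ∀ k : ℕ, ((fun w => A *ᵥ w)^[k]) v = e ((g^[k]) (e.symm v)) := fun k => by
      induction k with
      | zero => simp
      | succ k ih => rw [Function.iterate_succ_apply', ih, hA, e.symm_apply_apply, Function.iterate_succ_apply']
    rw [← SemiSymp.coe_pow_mulVec ⟨A, hmem⟩ N v, hit, hgN, e.apply_symm_apply]
  · show A.charpoly = f
    rw [← hgc, ← e.charpoly_conj g.toLinearMap, ← Matrix.charpoly_toLin' A]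
    congr 1
    exact LinearMap.ext fun v => (toLin'_apply A v).trans (hA v)

/-- The `n` free coefficients of a self-reciprocal polynomial of degree `2n`. -/
theorem natCard_palindromic :
    Nat.card {f : F[X] // f.Monic ∧ f.reverse = f ∧ f.natDegree = 2 * n} = Fintype.card F ^ n := by
  classical
  refine (Nat.card_congr (Equiv.ofBijective
    (fun f : {f : F[X] // f.Monic ∧ f.reverse = f ∧ f.natDegree = 2 * n} => fun i : Fin n => f.1.coeff (i + 1))
    ⟨?_, ?_⟩)).trans ?_
  · rintro ⟨f, hf, hr, hd⟩ ⟨g, hg, hs, he⟩ h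
    refine Subtype.ext (Polynomial.ext fun i => ?_)
    have low : ∀ j, j ≤ n → f.coeff j = g.coeff j := fun j hj => by
      rcases Nat.eq_zero_or_pos j with rfl | hpos
      · rw [SemiPalin.coeff_zero_of_rev hr hf, SemiPalin.coeff_zero_of_rev hs hg]
      · have := congrFun h ⟨j - 1, by omega⟩
        simpa [Nat.sub_add_cancel hpos] using this
    rcases le_or_gt i n with hi | hi
    · exact low i hi
    rcases le_or_gt i (2 * n) with hi2 | hi2
    · show f.coeff i = g.coeff i
      rw [← SemiPalin.coeff_rev hr (i := i) (by omega), ← SemiPalin.coeff_rev hs (i := i) (by omega), hd, he]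
      exact low _ (by omega)
    · show f.coeff i = g.coeff i
      rw [coeff_eq_zero_of_natDegree_lt (by omega), coeff_eq_zero_of_natDegree_lt (by omega)]
  · intro v
    obtain ⟨w, hw⟩ : ∃ w : ℕ → F, ∀ j, w j = if j = 0 ∨ 2 * n ≤ j then 1 else
        if h : min j (2 * n - j) - 1 < n then v ⟨_, h⟩ else 0 := ⟨_, fun j => rfl⟩
    obtain ⟨f, hf⟩ : ∃ f : F[X], f = ∑ j ∈ Finset.range (2 * n + 1), monomial j (w j) := ⟨_, rfl⟩
    have hc : ∀ j, f.coeff j = if j ≤ 2 * n then w j else 0 := fun j => by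
      rw [hf, finsetSum_coeff]
      simp only [coeff_monomial, Finset.sum_ite_eq', Finset.mem_range, Nat.lt_succ_iff]
    have hdeg : f.natDegree = 2 * n := by
      refine le_antisymm (natDegree_le_iff_coeff_eq_zero.2 fun j hj => ?_) (le_natDegree_of_ne_zero ?_)
      · rw [hc, if_neg (by omega)]
      · rw [hc, if_pos le_rfl, hw, if_pos (Or.inr le_rfl)]; exact one_ne_zero
    have hm : f.Monic := by
      rw [Monic, leadingCoeff, hdeg, hc, if_pos le_rfl, hw, if_pos (Or.inr le_rfl)]
    have hrev : f.reverse = f := by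
      refine Polynomial.ext fun j => ?_
      rw [coeff_reverse, hdeg]
      rcases le_or_gt j (2 * n) with hj | hj
      · rw [revAt_le hj, hc, hc, if_pos hj, if_pos (Nat.sub_le _ _), hw, hw]
        by_cases h0 : j = 0 ∨ 2 * n ≤ j
        · rw [if_pos h0, if_pos (by omega)]
        · rw [if_neg h0, if_neg (by omega)]
          simp only [show min (2 * n - j) (2 * n - (2 * n - j)) = min j (2 * n - j) by omega]
      · rw [revAt_eq_self_of_lt hj]
    refine ⟨⟨f, hm, hrev, hdeg⟩, funext fun i => ?_⟩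
    show f.coeff (i + 1) = v i
    have := i.2
    rw [hc, if_pos (by omega), hw, if_neg (by omega), dif_pos (by omega)]
    exact congrArg v (Fin.ext (by show min _ _ - 1 = _; omega))
  · simp

include p in
/-- `Sp_2n(q)` has `q^n` classes of semisimple elements. -/
theorem natCard_classes :
    Nat.card {c : ConjClasses (symplecticGroup (Fin n) F) //
      ∃ g : symplecticGroup (Fin n) F, ConjClasses.mk g = c ∧ (orderOf g).Coprime p} = Fintype.card F ^ n := by
  classical
  rw [← natCard_palindromic (F := F) (n := n)]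
  let cp : ConjClasses (symplecticGroup (Fin n) F) → F[X] :=
    Quotient.lift (fun g : symplecticGroup (Fin n) F => (g : M2).charpoly) fun a b h => by
      obtain ⟨x, hx⟩ := MonoidHom.map_isConj (symplecticGroup (Fin n) F).subtype h
      show (a : M2).charpoly = (b : M2).charpoly
      have hx' : (x : M2) * (a : M2) * ((x⁻¹ : M2ˣ) : M2) = (b : M2) := by
        rw [show (x : M2) * (a : M2) = (b : M2) * (x : M2) from hx, mul_assoc, Units.mul_inv, mul_one]
      rw [← hx', Matrix.coe_units_inv, Matrix.charpoly_units_conj]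
  have hcp : ∀ g : symplecticGroup (Fin n) F, cp (ConjClasses.mk g) = (g : M2).charpoly := fun g => rfl
  refine Nat.card_congr (Equiv.ofBijective (fun c => ⟨cp c.1, ?_⟩) ⟨?_, ?_⟩)
  · obtain ⟨g, hg⟩ := ConjClasses.mk_surjective c.1
    rw [← hg, hcp]
    exact ⟨charpoly_monic _, charpoly_symp g, by rw [charpoly_natDegree_eq_dim, Fintype.card_sum, Fintype.card_fin, two_mul]⟩
  · rintro ⟨_, g, rfl, hg⟩ ⟨_, h, rfl, hh⟩ he
    have hpq := congrArg Subtype.val he
    simp only [hcp] at hpq
    refine Subtype.ext (ConjClasses.mk_eq_mk_iff_isConj.mpr (SemiSymp.isConj_of_linear g h hg ?_))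
    let e := Fintype.equivFinOfCardEq (show Fintype.card (Fin n ⊕ Fin n) = n + n by simp)
    let re := Matrix.reindexAlgEquiv F F e
    let φ : symplecticGroup (Fin n) F →* GL (Fin (n + n)) F :=
      MonoidHom.toHomUnits (re.toMonoidHom.comp (symplecticGroup (Fin n) F).subtype)
    have hφ : Function.Injective φ := fun a b hab => Subtype.ext (re.injective (congrArg Units.val hab))
    obtain ⟨x, hx⟩ := CfsgLib.KnownB.SSClass.gl_isConj_of_charpoly p (g := φ g) (h := φ h)
      (by rwa [orderOf_injective φ hφ]) (by rwa [orderOf_injective φ hφ])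
      (by
        show (Matrix.reindex e e (g : M2)).charpoly = (Matrix.reindex e e (h : M2)).charpoly
        rw [Matrix.charpoly_reindex, Matrix.charpoly_reindex, hpq])
    have h1 := MonoidHom.map_isConj (re.symm.toMonoidHom.comp (Units.coeHom _)) (⟨x, hx⟩ : IsConj (φ g) (φ h))
    simpa [φ] using h1
  · rintro ⟨f, hf, hrev, hd⟩
    obtain ⟨A, hA, hAf⟩ := exists_symp p f hf hrev hd
    exact ⟨⟨ConjClasses.mk A, A, rfl, hA⟩, Subtype.ext hAf⟩

end Symp

end CfsgLib.Classical.SemiSympExists
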