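import Mathlib

/-!
# Counting with abelian centralisers

If the elements outside a central subgroup `Z` have abelian centralisers, the conjugates of these
centralisers partition the elements outside `Z`.
-/

set_option autoImplicit false

namespace CfsgLib.Classical

variable {G : Type*} [Group G] (Z : Subgroup G)

/-- The conjugates of the elements of `A` outside `Z`. -/
def conjBlock (A : Subgroup G) : Set G := {x | ∃ h a, a ∈ A ∧ a ∉ Z ∧ x = h * a * h⁻¹}

variable {Z}

theorem centralizer_conj_singleton (h x : G) :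
    Subgroup.centralizer {h * x * h⁻¹} =
      (Subgroup.centralizer {x}).map (MulAut.conj h).toMonoidHom := by
  ext y
  rw [Subgroup.mem_centralizer_singleton_iff, Subgroup.mem_map_equiv,
    Subgroup.mem_centralizer_singleton_iff, MulAut.conj_symm_apply]
  constructor <;> intro hy
  · calc h⁻¹ * y * h * x = h⁻¹ * (y * (h * x * h⁻¹)) * h := by group
      _ = h⁻¹ * ((h * x * h⁻¹) * y) * h := by rw [hy]
      _ = x * (h⁻¹ * y * h) := by group
  · calc y * (h * x * h⁻¹) = h * (h⁻¹ * y * h * x) * h⁻¹ := by group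
      _ = h * (x * (h⁻¹ * y * h)) * h⁻¹ := by rw [hy]
      _ = h * x * h⁻¹ * y := by group

theorem mem_normalizer_of_conj_eq {A : Subgroup G} (hA : ∀ a ∈ A, a ∉ Z → Subgroup.centralizer {a} = A)
    {n a b : G} (ha : a ∈ A) (ha' : a ∉ Z) (hb : b ∈ A) (hb' : b ∉ Z) (h : n * a * n⁻¹ = b) :
    n ∈ Subgroup.normalizer (A : Set G) := by
  have h1 := centralizer_conj_singleton n a
  rw [h, hA b hb hb', hA a ha ha'] at h1
  rw [Subgroup.mem_normalizer_iff]
  intro y
  conv_rhs => rw [h1]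
  rw [Subgroup.mem_map_equiv, MulAut.conj_symm_apply]
  constructor <;> intro hy
  · simpa [mul_assoc] using hy
  · simpa [mul_assoc] using hy

theorem card_conjBlock_mul [Finite G] [Z.Normal] {A : Subgroup G} (hZA : Z ≤ A)
    (hA : ∀ a ∈ A, a ∉ Z → Subgroup.centralizer {a} = A) :
    Nat.card (conjBlock Z A) * Nat.card (Subgroup.normalizer (A : Set G)) =
      Nat.card G * (Nat.card A - Nat.card Z) := by
  have hsub : Nat.card {a : G // a ∈ A ∧ a ∉ Z} = Nat.card A - Nat.card Z := by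
    show Nat.card ({a : G | a ∈ A ∧ a ∉ Z} : Set G) = _
    rw [Nat.card_coe_set_eq, show {a : G | a ∈ A ∧ a ∉ Z} = (A : Set G) \ Z from rfl,
      Set.ncard_sdiff hZA (Set.toFinite _), ← Nat.card_coe_set_eq, ← Nat.card_coe_set_eq]
    rfl
  rw [← hsub, ← Nat.card_prod, ← Nat.card_prod]
  have hx : ∀ x : conjBlock Z A, ∃ h a, a ∈ A ∧ a ∉ Z ∧ (x : G) = h * a * h⁻¹ := fun x => x.2
  choose hf af ha ha' hxe using hx
  have hn : ∀ (x : conjBlock Z A) (n : Subgroup.normalizer (A : Set G)),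
      (n : G)⁻¹ * af x * n ∈ A ∧ (n : G)⁻¹ * af x * n ∉ Z := fun x n => by
    refine ⟨(Subgroup.mem_normalizer_iff''.1 n.2 _).1 (ha x), fun h => ha' x ?_⟩
    have := Subgroup.Normal.conj_mem ‹Z.Normal› _ h (n : G)
    simpa [mul_assoc] using this
  refine Nat.card_congr (Equiv.ofBijective
    (fun xn : conjBlock Z A × Subgroup.normalizer (A : Set G) =>
      (hf xn.1 * (xn.2 : G), (⟨_, hn xn.1 xn.2⟩ : {a : G // a ∈ A ∧ a ∉ Z})))
    ⟨?_, ?_⟩)
  · rintro ⟨x, n⟩ ⟨y, m⟩ h
    simp only [Prod.mk.injEq, Subtype.mk.injEq] at h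
    have hxy : (x : G) = y := by
      calc (x : G) = (hf x * n) * ((n : G)⁻¹ * af x * n) * (hf x * n)⁻¹ := by rw [hxe x]; group
        _ = (hf y * m) * ((m : G)⁻¹ * af y * m) * (hf y * m)⁻¹ := by rw [h.1, h.2]
        _ = y := by rw [hxe y]; group
    obtain rfl : x = y := Subtype.ext hxy
    exact Prod.ext rfl (Subtype.ext (mul_left_cancel h.1))
  · rintro ⟨h, a, haA, haZ⟩
    let x : conjBlock Z A := ⟨h * a * h⁻¹, h, a, haA, haZ, rfl⟩
    have hxh : (hf x)⁻¹ * h * a * ((hf x)⁻¹ * h)⁻¹ = af x := by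
      have e : h * a * h⁻¹ = hf x * af x * (hf x)⁻¹ := hxe x
      calc (hf x)⁻¹ * h * a * ((hf x)⁻¹ * h)⁻¹ = (hf x)⁻¹ * (h * a * h⁻¹) * hf x := by group
        _ = af x := by rw [e]; group
    refine ⟨(x, ⟨_, mem_normalizer_of_conj_eq hA haA haZ (ha x) (ha' x) hxh⟩), ?_⟩
    refine Prod.ext (by simp) (Subtype.ext ?_)
    show ((hf x)⁻¹ * h)⁻¹ * af x * ((hf x)⁻¹ * h) = a
    rw [← hxh]; group

/-- Centralisers outside `Z` are abelian. -/
def CAMod (Z : Subgroup G) : Prop :=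
  ∀ g : G, g ∉ Z → ∀ x y : G, Commute x g → Commute y g → Commute x y

theorem centralizer_eq_of_mem (hCA : CAMod Z) {g a : G} (hg : g ∉ Z)
    (ha : a ∈ Subgroup.centralizer {g}) (ha' : a ∉ Z) :
    Subgroup.centralizer {a} = Subgroup.centralizer {g} := by
  have hag : Commute a g := Subgroup.mem_centralizer_singleton_iff.1 ha
  ext y
  simp only [Subgroup.mem_centralizer_singleton_iff]
  exact ⟨fun hy => hCA a ha' y g hy hag.symm, fun hy => hCA g hg y a hy hag⟩

theorem mem_conjBlock_self {g : G} (hg : g ∉ Z) : g ∈ conjBlock Z (Subgroup.centralizer {g}) :=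
  ⟨1, g, Subgroup.mem_centralizer_singleton_iff.2 rfl, hg, by group⟩

theorem conjBlock_subset [Z.Normal] (A : Subgroup G) : conjBlock Z A ⊆ (Z : Set G)ᶜ := by
  rintro x ⟨h, a, -, ha, rfl⟩ hx
  exact ha (by simpa [mul_assoc] using Subgroup.Normal.conj_mem ‹Z.Normal› _ hx h⁻¹)

theorem conjBlock_eq_of_mem [Z.Normal] (hCA : CAMod Z) {g k : G} (hg : g ∉ Z) (hk : k ∉ Z)
    (h : k ∈ conjBlock Z (Subgroup.centralizer {g})) :
    conjBlock Z (Subgroup.centralizer {k}) = conjBlock Z (Subgroup.centralizer {g}) := by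
  obtain ⟨c, a, ha, ha', rfl⟩ := h
  rw [centralizer_conj_singleton, centralizer_eq_of_mem hCA hg ha ha']
  ext x
  constructor
  · rintro ⟨d, b, hb, hb', rfl⟩
    obtain ⟨e, he, rfl⟩ := hb
    refine ⟨d * c, e, he, fun h => hb' (Subgroup.Normal.conj_mem ‹Z.Normal› _ h c), ?_⟩
    simp only [MulEquiv.coe_toMonoidHom, MulAut.conj_apply]
    group
  · rintro ⟨d, b, hb, hb', rfl⟩
    refine ⟨d * c⁻¹, c * b * c⁻¹, ⟨b, hb, rfl⟩, fun h => hb' ?_, by group⟩
    simpa [mul_assoc] using Subgroup.Normal.conj_mem ‹Z.Normal› _ h c⁻¹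

theorem disjoint_conjBlock [Z.Normal] (hCA : CAMod Z) {g k : G} (hg : g ∉ Z) (hk : k ∉ Z)
    (h : k ∉ conjBlock Z (Subgroup.centralizer {g})) :
    Disjoint (conjBlock Z (Subgroup.centralizer {g})) (conjBlock Z (Subgroup.centralizer {k})) := by
  rw [Set.disjoint_left]
  intro x hxg hxk
  have hx : x ∉ Z := conjBlock_subset _ hxg
  refine h ?_
  rw [← conjBlock_eq_of_mem hCA hg hx hxg, conjBlock_eq_of_mem hCA hk hx hxk]
  exact mem_conjBlock_self hk

end CfsgLib.Classical
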