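import Mathlib
import Cfsg.Agent.Lib.Classical.ChevRootCent

/-!
Centralisers of involutions supported on commuting roots below the top.
-/

set_option autoImplicit false

namespace CfsgLib.Classical.ChevFix

open Cfsg.Lie Matrix CfsgLib.Chev

universe u

/-- Conjugation by `X_s` moves `X_r` only within `T`. -/
noncomputable def moveOK (D : ChevalleyDatum) (T : List ℕ) (r s : ℕ) : Bool :=
  Nat.beq s r || (!(Nat.beq r (fneg D s)) &&
    (fterms D s r).all fun c => Int.beq' (c.2.1 % 2) 0 || inL T c.1)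

/-- Exactly one odd term, linear in both arguments. -/
noncomputable def oneOK (D : ChevalleyDatum) (r s k : ℕ) : Bool :=
  !(Nat.beq s r) && !(Nat.beq r (fneg D s)) &&
    match (fterms D s r).filter fun c => !(Int.beq' (c.2.1 % 2) 0) with
    | [c] => Nat.beq c.1 k && Nat.beq c.2.2.1 1 && Nat.beq c.2.2.2 1
    | _ => false

/-- All checks on the data. -/
noncomputable def lowOK (D : ChevalleyDatum) (dat : LieData) (J vs A E : List ℕ) : Bool :=
  A.all (fun r => Nat.blt r D.nroots && decide (D.nroots / 2 ≤ r) &&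
      allR (fun r' => evenOK D r r') A) &&
  vs.all (fun v => inL A v) &&
  allR (fun s => Nat.blt s (D.nroots / 2) ||
    ((inL E s || vs.all (fun v => evenOK D v s)) && (!suppB D dat J s || !inL E s) &&
      A.all (fun r => moveOK D (A.filter fun x => !inL vs x) r s))) (upto D.nroots) &&
  J.all (fun j => Nat.blt j D.rank && vs.all fun v => evenOK D v (fneg D (D.simple j)))

theorem list_conj_mem {G : Type*} [Group G] (N : Subgroup G) : ∀ (l : List G) (y : G),
    (∀ a ∈ l, a⁻¹ * (y * a * y⁻¹) ∈ N) → (∀ a ∈ l, ∀ z ∈ N, Commute z a) →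
      l.prod⁻¹ * (y * l.prod * y⁻¹) ∈ N := by
  intro l
  induction l with
  | nil => intro y _ _; simp
  | cons a l ih =>
    intro y h hc
    have ha := h a (by simp)
    have hl := ih y (fun b hb => h b (by simp [hb])) (fun b hb => hc b (by simp [hb]))
    have hP : Commute (a⁻¹ * (y * a * y⁻¹)) l.prod :=
      Commute.list_prod_right _ _ fun b hb => hc b (by simp [hb]) _ ha
    rw [List.prod_cons]
    have h1 := mul_mem ha hl
    rw [show a⁻¹ * (y * a * y⁻¹) * (l.prod⁻¹ * (y * l.prod * y⁻¹)) =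
      l.prod⁻¹ * (l.prod * (a⁻¹ * (y * a * y⁻¹))) * l.prod⁻¹ * (y * l.prod * y⁻¹) by group, ← hP.eq] at h1
    convert h1 using 1
    group

variable {D : ChevalleyDatum} (g : Good D) {F : Type u} [Field F]

/-- Evaluate a number before use (for the kernel). -/
noncomputable def strictB (x : ℕ) (f : ℕ → Bool) : Bool := Nat.rec (f 0) (fun n _ => f (n + 1)) x

theorem strictB_eq (x : ℕ) (f : ℕ → Bool) : strictB x f = f x := by cases x <;> rfl

/-- Evaluate a list of numbers before use (for the kernel). -/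
noncomputable def strictL (l : List ℕ) : (List ℕ → Bool) → Bool :=
  List.rec (fun k => k []) (fun a _ ih k => strictB a fun a' => ih fun r => k (a' :: r)) l

theorem strictL_eq : ∀ (l : List ℕ) (k : List ℕ → Bool), strictL l k = k l
  | [], _ => rfl
  | a :: l, k => by
    show strictB a (fun a' => strictL l fun r => k (a' :: r)) = k (a :: l)
    rw [strictB_eq, strictL_eq l]

/-- Equality of lists of numbers. -/
noncomputable def eqL (l : List ℕ) : List ℕ → Bool :=
  List.rec (fun m => List.rec true (fun _ _ _ => false) m)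
    (fun a _ ih m => List.rec false (fun b m' _ => Bool.rec false (ih m') (Nat.beq a b)) m) l

theorem eqL_iff : ∀ l m : List ℕ, eqL l m = true ↔ l = m
  | [], [] => by simp [eqL]
  | [], _ :: _ => by simp [eqL]
  | _ :: _, [] => by simp [eqL]
  | a :: l, b :: m => by
    show Bool.rec false (eqL l m) (Nat.beq a b) = true ↔ a :: l = b :: m
    cases h : Nat.beq a b
    · have hab : a ≠ b := fun e => by have h2 : Nat.beq a b = true := (by rw [Nat.beq_eq]; exact e); rw [h2] at h; cases h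
      simp [hab]
    · rw [show a = b from Nat.eq_of_beq_eq_true h]
      simpa using eqL_iff l m

/-- A closed table of the images of `A`; only the trivial image meets `A` both ways. -/
noncomputable def orbitOK (D : ChevalleyDatum) (sd : StructData) (nrm : List ℕ → List ℕ) (A : List ℕ) (k : ℕ)
    (O : List (List ℕ)) : Bool :=
  anyR (eqL (nrm A)) O &&
    allR (fun x => allR (fun i => strictL (x.map (refl sd i)) fun y => strictL (nrm y) fun z => anyR (eqL z) O)
      (upto D.rank)) O &&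
    allR (fun x => !(allR (fun a => inL A a) (x.take k) && allR (fun a => inL x a) (A.take k)) ||
      eqL (x.take k) (A.take k)) O

/-- The subgroup generated by the positive root groups outside `E` and the negative fundamental ones of `J`. -/
def lowK (D : ChevalleyDatum) (F : Type u) [Field F] (J E : List ℕ) : Subgroup (GL D.Idx F) :=
  rootGen D F {s | half D ≤ s ∧ s ∉ E} ⊔ rootGen D F {s | ∃ j ∈ J, s = D.neg (D.simple j)}

include g

theorem xProd_add (S : Set ℕ)
    (hS : ∀ r ∈ S, r < D.nroots → ∀ r' ∈ S, r' < D.nroots → ∀ a b : F, Commute (g.xG r a) (g.xG r' b))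
    {t t' : ℕ → F} (ht : ∀ r, r ∉ S → t r = 0) (ht' : ∀ r, r ∉ S → t' r = 0) (m : ℕ) :
    g.xProd t m * g.xProd t' m = g.xProd (fun r => t r + t' r) m := by
  induction' hk : D.nroots - m with k ih generalizing m
  · simp [Good.xProd, hk]
  have hm : m < D.nroots := by omega
  have hcomm : Commute (g.xProd t (m + 1)) (g.xG m (t' m)) := by
    by_cases hmS : m ∈ S
    · rw [Good.xProd]
      refine Commute.list_prod_left _ _ fun x hx => ?_
      obtain ⟨r, hr, rfl⟩ := List.mem_map.1 hx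
      rw [List.mem_range'_1] at hr
      by_cases hrS : r ∈ S
      · exact hS r hrS (by omega) m hmS hm _ _
      · rw [ht r hrS, g.xG_zero]; exact Commute.one_left _
    · rw [ht' m hmS, g.xG_zero]; exact Commute.one_right _
  rw [g.xProd_succ t hm, g.xProd_succ t' hm, g.xProd_succ _ hm, ← ih (m + 1) (by omega), ← g.xG_add]
  calc g.xG m (t m) * g.xProd t (m + 1) * (g.xG m (t' m) * g.xProd t' (m + 1))
      = g.xG m (t m) * (g.xProd t (m + 1) * g.xG m (t' m)) * g.xProd t' (m + 1) := by group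
    _ = g.xG m (t m) * (g.xG m (t' m) * g.xProd t (m + 1)) * g.xProd t' (m + 1) := by rw [hcomm.eq]
    _ = _ := by group

theorem xProd_zero (m : ℕ) : g.xProd (fun _ => (0 : F)) m = 1 := by
  rw [Good.xProd]
  exact List.prod_eq_one fun x hx => by obtain ⟨r, -, rfl⟩ := List.mem_map.1 hx; exact g.xG_zero r

theorem xProd_single {r m : ℕ} (hrm : m ≤ r) (hr : r < D.nroots) (c : F) :
    g.xProd (fun k => if k = r then c else 0) m = g.xG r c := by
  induction' hk : r - m with k ih generalizing m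
  · obtain rfl : r = m := by omega
    rw [g.xProd_succ _ hr, if_pos rfl, Good.xProd, List.prod_eq_one, mul_one]
    intro x hx
    obtain ⟨j, hj, rfl⟩ := List.mem_map.1 hx
    rw [List.mem_range'_1] at hj
    rw [if_neg (by omega), g.xG_zero]
  · rw [g.xProd_succ _ (by omega), if_neg (by omega), g.xG_zero, one_mul]
    exact ih (by omega) (by omega)

theorem exists_supported {S : Set ℕ} (hpos : ∀ r ∈ S, half D ≤ r)
    (hS : ∀ r ∈ S, r < D.nroots → ∀ r' ∈ S, r' < D.nroots → ∀ a b : F, Commute (g.xG r a) (g.xG r' b))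
    {z : GL D.Idx F} (hz : z ∈ rootGen D F S) :
    ∃ t : ℕ → F, (∀ r, r ∉ S → t r = 0) ∧ z = g.xProd t (half D) := by
  induction hz using Subgroup.closure_induction'' with
  | mem y hy =>
    obtain ⟨r, c, hrS, hr, hy⟩ := hy
    refine ⟨fun k => if k = r then c else 0, fun k hk => if_neg fun e => hk (by rw [e]; exact hrS), ?_⟩
    rw [xProd_single g (hpos r hrS) hr, g.eq_xG hy]
  | inv_mem y hy =>
    obtain ⟨r, c, hrS, hr, hy⟩ := hy
    refine ⟨fun k => if k = r then -c else 0, fun k hk => if_neg fun e => hk (by rw [e]; exact hrS), ?_⟩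
    rw [xProd_single g (hpos r hrS) hr, g.eq_xG hy, g.xG_inv]
  | one => exact ⟨fun _ => 0, fun _ _ => rfl, (xProd_zero g _).symm⟩
  | mul y z _ _ hy hz =>
    obtain ⟨t, ht, rfl⟩ := hy
    obtain ⟨t', ht', rfl⟩ := hz
    exact ⟨fun r => t r + t' r, fun r hr => by show t r + t' r = 0; rw [ht r hr, ht' r hr, add_zero], xProd_add g S hS ht ht' _⟩

theorem xProd_list {S : Set ℕ}
    (hS : ∀ r ∈ S, r < D.nroots → ∀ r' ∈ S, r' < D.nroots → ∀ a b : F, Commute (g.xG r a) (g.xG r' b))
    (hpos : ∀ r ∈ S, half D ≤ r) (c : ℕ → F) :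
    ∀ l : List ℕ, l.Nodup → (∀ r ∈ l, r ∈ S ∧ r < D.nroots) →
      (l.map fun r => g.xG r (c r)).prod = g.xProd (fun k => if k ∈ l then c k else 0) (half D) := by
  intro l
  induction l with
  | nil => intro _ _; simp [xProd_zero g]
  | cons a l ih =>
    intro hnd hl
    obtain ⟨hal, hnd⟩ := List.nodup_cons.1 hnd
    obtain ⟨haS, ha⟩ := hl a (by simp)
    rw [List.map_cons, List.prod_cons, ih hnd fun r hr => hl r (by simp [hr]),
      ← xProd_single g (hpos a haS) ha (c a), xProd_add g S hS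
        (fun r hr => if_neg fun e => hr (by rw [e]; exact haS))
        (fun r hr => if_neg fun e => hr (hl r (List.mem_cons_of_mem _ e)).1)]
    refine congrArg (fun f => g.xProd f (half D)) (funext fun k => ?_)
    by_cases hk : k = a
    · subst hk; simp [hal]
    · simp [hk]

theorem xProd_mem_supported {S : Set ℕ} {t : ℕ → F} (ht : ∀ r, r ∉ S → t r = 0) (m : ℕ) :
    g.xProd t m ∈ rootGen D F S := by
  refine Subgroup.list_prod_mem _ fun x hx => ?_
  obtain ⟨r, hr, rfl⟩ := List.mem_map.1 hx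
  rw [List.mem_range'_1] at hr
  by_cases hrS : r ∈ S
  · exact g.mem_rootGen (by omega) hrS _
  · rw [ht r hrS, g.xG_zero]; exact one_mem _

/-- A monomial element taking one commuting product to another permutes the supports. -/
theorem perm_of_conj {n : GL D.Idx F} {π : Equiv.Perm (Fin D.nroots)} (hπ : g.Acts n π) {A : List ℕ}
    (hA : ∀ r ∈ A, half D ≤ r ∧ r < D.nroots)
    (hAc : ∀ r ∈ {r | r ∈ A}, r < D.nroots → ∀ r' ∈ {r | r ∈ A}, r' < D.nroots →
      ∀ a b : F, Commute (g.xG r a) (g.xG r' b))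
    {t1 t2 : ℕ → F} (h1 : ∀ r, r ∉ A → t1 r = 0) (h2 : ∀ r, r ∉ A → t2 r = 0)
    (he : n * g.xProd t1 (half D) * n⁻¹ = g.xProd t2 (half D)) :
    (∀ (r : ℕ) (hr : r < D.nroots), r ∈ A → t1 r ≠ 0 → (π ⟨r, hr⟩).val ∈ A) ∧
      ∀ k ∈ A, t2 k ≠ 0 → ∃ (r : ℕ) (hr : r < D.nroots), r ∈ A ∧ (π ⟨r, hr⟩).val = k := by
  classical
  choose e he' using hπ
  obtain ⟨push, hpush⟩ : ∃ push : (ℕ → F) → ℕ → F, ∀ f k, push f k =
      if hk : k < D.nroots then (e (π.symm ⟨k, hk⟩) : F) * f (π.symm ⟨k, hk⟩).val else 0 :=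
    ⟨fun f k => if hk : k < D.nroots then (e (π.symm ⟨k, hk⟩) : F) * f (π.symm ⟨k, hk⟩).val else 0, fun _ _ => rfl⟩
  obtain ⟨P, hP⟩ : ∃ P : Finset (Fin D.nroots), P = Finset.univ.filter fun a => a.val ∈ A ∧ half D ≤ (π a).val :=
    ⟨_, rfl⟩
  obtain ⟨S', hS'⟩ : ∃ S' : Set ℕ, S' = {k | ∃ a ∈ P, (π a).val = k} := ⟨_, rfl⟩
  have hS'c : ∀ k ∈ S', k < D.nroots → ∀ k' ∈ S', k' < D.nroots → ∀ a b : F, Commute (g.xG k a) (g.xG k' b) := by
    rw [hS']
    rintro k ⟨r, hr, rfl⟩ - k' ⟨r', hr', rfl⟩ - a b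
    simp only [hP, Finset.mem_filter, Finset.mem_univ, true_and] at hr hr'
    have e1 : ∀ (r : Fin D.nroots) (a : F), g.xG (π r) a = MulAut.conj n (g.xG r (((e r)⁻¹ : Fˣ) * a)) := by
      intro r a
      rw [MulAut.conj_apply, he' r, ← mul_assoc, ← Units.val_mul, mul_inv_cancel, Units.val_one, one_mul]
    rw [e1, e1]
    exact ((hAc r hr.1 r.2 r' hr'.1 r'.2 _ _).map (MulAut.conj n).toMonoidHom)
  have hpos : ∀ R ⊆ P, ∀ f : ℕ → F,
      n * g.xProd (fun r => if ∃ a ∈ R, a.val = r then f r else 0) (half D) * n⁻¹ =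
        g.xProd (fun k => if ∃ a ∈ R, (π a).val = k then push f k else 0) (half D) := by
    intro R
    induction R using Finset.induction with
    | empty => intro _ f; simp [xProd_zero g]
    | insert a R haR ih =>
      intro hsub f
      have haP : a ∈ P := hsub (Finset.mem_insert_self _ _)
      have ha := haP
      simp only [hP, Finset.mem_filter, Finset.mem_univ, true_and] at ha
      have hsubR : ∀ r ∈ R, r ∈ P := fun r hr => hsub (Finset.mem_insert_of_mem hr)
      rw [show (fun r => if ∃ b ∈ insert a R, b.val = r then f r else 0) =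
        fun r => (if r = a.val then f a else 0) + (if ∃ b ∈ R, b.val = r then f r else 0) from funext fun r => by
          by_cases hr : r = a.val
          · subst hr
            rw [if_pos ⟨a, Finset.mem_insert_self _ _, rfl⟩, if_pos rfl,
              if_neg (fun ⟨b, hb, hba⟩ => haR (Fin.ext hba ▸ hb)), add_zero]
          · rw [if_neg hr, zero_add]
            exact if_congr ⟨fun ⟨b, hb, hbr⟩ => ⟨b, (Finset.mem_insert.1 hb).resolve_left
              (fun e => hr (by rw [← hbr, e])), hbr⟩, fun ⟨b, hb, hbr⟩ => ⟨b, Finset.mem_insert_of_mem hb, hbr⟩⟩ rfl rfl,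
        show (fun k => if ∃ b ∈ insert a R, (π b).val = k then push f k else 0) =
        fun k => (if k = (π a).val then push f (π a) else 0) + (if ∃ b ∈ R, (π b).val = k then push f k else 0)
        from funext fun r => by
          by_cases hr : r = (π a).val
          · subst hr
            rw [if_pos ⟨a, Finset.mem_insert_self _ _, rfl⟩, if_pos rfl,
              if_neg (fun ⟨b, hb, hba⟩ => haR (π.injective (Fin.ext hba) ▸ hb)), add_zero]
          · rw [if_neg hr, zero_add]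
            exact if_congr ⟨fun ⟨b, hb, hbr⟩ => ⟨b, (Finset.mem_insert.1 hb).resolve_left
              (fun e => hr (by rw [← hbr, e])), hbr⟩, fun ⟨b, hb, hbr⟩ => ⟨b, Finset.mem_insert_of_mem hb, hbr⟩⟩ rfl rfl]
      rw [← xProd_add g {r | r ∈ A} hAc (fun r hr => if_neg fun e => hr (by rw [e]; exact ha.1))
          (fun r hr => if_neg fun ⟨b, hb, hbr⟩ => hr (by
            have := hsubR b hb; simp only [hP, Finset.mem_filter] at this; rw [← hbr]; exact this.2.1)),
        ← xProd_add g S' hS'c (fun r hr => if_neg fun e => hr (by rw [hS']; exact ⟨a, haP, e.symm⟩))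
          (fun r hr => if_neg fun ⟨b, hb, hbr⟩ => hr (by rw [hS']; exact ⟨b, hsubR b hb, hbr⟩)),
        ← ih (fun r hr => hsubR r hr) f, xProd_single g (hA a ha.1).1 a.2, xProd_single g ha.2 (π a).2]
      have : g.xG (π a) (push f (π a)) = n * g.xG a (f a) * n⁻¹ := by
        rw [he', hpush, dif_pos (π a).2]
        simp
      rw [this]
      group
  have hsplit : g.xProd t1 (half D) =
      g.xProd (fun r => if ∃ a ∈ P, a.val = r then t1 r else 0) (half D) *
        g.xProd (fun r => if ∃ a ∈ P, a.val = r then 0 else t1 r) (half D) := by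
    rw [xProd_add g {r | r ∈ A} hAc (fun r hr => by rw [h1 r hr]; simp) (fun r hr => by rw [h1 r hr]; simp)]
    refine congrArg (fun f => g.xProd f (half D)) (funext fun r => ?_)
    split_ifs <;> simp
  obtain ⟨tm, htm⟩ : ∃ tm : ℕ → F, tm = fun r => if ∃ a ∈ P, a.val = r then 0 else t1 r := ⟨_, rfl⟩
  have hminus : n * g.xProd tm (half D) * n⁻¹ ∈ D.negUnipotent F := by
    refine g.conj_minus_le (fun r => ⟨e r, he' r⟩) (xProd_mem_supported g (fun r hr => ?_) _)
    rw [htm]
    show (if ∃ a ∈ P, a.val = r then 0 else t1 r) = 0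
    split_ifs with hP'
    · rfl
    by_cases hrA : r ∈ A
    · exfalso
      refine hr ⟨(hA r hrA).2, (hA r hrA).1, ?_⟩
      by_contra hge
      exact hP' ⟨⟨r, (hA r hrA).2⟩, (by simp only [hP, Finset.mem_filter, Finset.mem_univ, true_and]; exact ⟨hrA, Nat.not_lt.1 hge⟩), rfl⟩
    · exact h1 r hrA
  rw [hsplit, ← htm, show n * (g.xProd (fun r => if ∃ a ∈ P, a.val = r then t1 r else 0) (half D) *
      g.xProd tm (half D)) * n⁻¹ = (n * g.xProd (fun r => if ∃ a ∈ P, a.val = r then t1 r else 0) (half D) * n⁻¹) *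
      (n * g.xProd tm (half D) * n⁻¹) by group, hpos P (Finset.Subset.refl _)] at he
  have hU : ∀ f : ℕ → F, g.xProd f (half D) ∈ D.borelSubgroup F := fun f =>
    Subgroup.mem_sup_left (by rw [g.posUnipotent_eq]; exact g.xProd_mem f _)
  have h3 : n * g.xProd tm (half D) * n⁻¹ ∈ D.borelSubgroup F ⊓ D.negUnipotent F := by
    refine Subgroup.mem_inf.2 ⟨?_, hminus⟩
    rw [← eq_inv_mul_iff_mul_eq] at he
    rw [he]
    exact mul_mem (inv_mem (hU _)) (hU _)
  rw [g.borel_inf_neg, Subgroup.mem_bot] at h3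
  rw [h3, mul_one] at he
  rw [conj_eq_one_iff, ← xProd_zero g (half D)] at h3
  refine ⟨fun r hr hrA hr1 => ?_, fun k hkA hk2 => ?_⟩
  · by_contra hπA
    have hrP : ∃ a ∈ P, a.val = r := by
      by_contra hrP
      have h4 := g.xProd_inj le_rfl h3 (hA r hrA).1 hr
      rw [htm] at h4
      simp only [if_neg hrP] at h4
      exact hr1 h4
    obtain ⟨a, haP, rfl⟩ := hrP
    have hP' := haP
    simp only [hP, Finset.mem_filter] at hP'
    have h4 := g.xProd_inj le_rfl he hP'.2.2 (π a).2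
    rw [h2 _ hπA, if_pos ⟨a, haP, rfl⟩, hpush, dif_pos (π a).2] at h4
    simp only [Fin.eta, Equiv.symm_apply_apply] at h4
    exact hr1 ((mul_eq_zero.1 h4).resolve_left (e a).ne_zero)
  · have h4 := g.xProd_inj le_rfl he (hA k hkA).1 (hA k hkA).2
    split_ifs at h4 with hex
    · obtain ⟨a, haP, rfl⟩ := hex
      simp only [hP, Finset.mem_filter] at haP
      exact ⟨a, a.2, haP.2.1, rfl⟩
    · exact absurd h4.symm hk2

theorem mem_of_fix_many {dat : LieData} {sd : StructData} (hl : LieChecks D dat) (hs : StructChecks D dat sd)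
    {J : List ℕ} {ws : List (ℕ × ℕ)}
    (hlt : ∀ p ∈ ws, p.1 < D.nroots)
    (hdom : (List.range D.nroots).all (fun a => Nat.blt a (D.nroots / 2) ||
      decide (0 ≤ (ws.map fun p => (p.2 : ℤ) * fpair D a p.1).sum)) = true)
    (hsimp : (List.range D.rank).all (fun q => if inL J q then ws.all (fun p => Int.beq' (fcartan D q p.1) 0)
      else decide (0 < (ws.map fun p => (p.2 : ℤ) * fcartan D q p.1).sum)) = true)
    {π : Equiv.Perm (Fin D.nroots)} (hπ : π ∈ g.weyl)
    (hfix : ∀ (p : ℕ × ℕ) (hp : p ∈ ws), π ⟨p.1, hlt p hp⟩ = ⟨p.1, hlt p hp⟩) :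
    π ∈ g.wJ {i | i ∈ J} := by
  obtain ⟨l, rfl⟩ := g.exists_wperm hπ
  clear hπ
  obtain ⟨φ, hφ⟩ : ∃ φ : Fin D.nroots → ℤ, ∀ a, φ a = (ws.map fun p => (p.2 : ℤ) * pair D a p.1).sum :=
    ⟨_, fun _ => rfl⟩
  have hh := half_eq' g
  have hpos : ∀ a : Fin D.nroots, half D ≤ a.val → 0 ≤ φ a := by
    intro a ha
    have := List.all_eq_true.1 hdom a (List.mem_range.2 a.2)
    simp only [Bool.or_eq_true, decide_eq_true_eq] at this
    rcases this with h | h
    · have : a.val + 1 ≤ D.nroots / 2 := Nat.le_of_ble_eq_true h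
      omega
    · rw [hφ]
      refine le_of_le_of_eq h (congrArg List.sum (List.map_congr_left fun p hp => ?_))
      rw [g.fpair_eq _ (hlt p hp)]
  have hsimp' : ∀ q : Fin D.rank, ((q : ℕ) ∈ J → ∀ p ∈ ws, D.cartan q p.1 = 0) ∧ ((q : ℕ) ∉ J → φ (g.sroot q) ≠ 0) := by
    intro q
    have := List.all_eq_true.1 hsimp q (List.mem_range.2 q.2)
    refine ⟨fun hq p hp => ?_, fun hq => ?_⟩
    · rw [if_pos ((inL_iff J q).2 hq), List.all_eq_true] at this
      have := this p hp
      rw [Int.beq'_eq] at this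
      rw [cartan_eq hl.pack q.2 (hlt p hp), this]
    · rw [if_neg (fun h => hq ((inL_iff J q).1 h)), decide_eq_true_eq] at this
      refine ne_of_gt (lt_of_lt_of_eq this ?_)
      rw [hφ]
      refine congrArg List.sum (List.map_congr_left fun p hp => ?_)
      rw [show ((g.sroot q : Fin D.nroots) : ℕ) = D.simple q from rfl, g.pair_simple q.2 (hlt p hp),
        cartan_eq hl.pack q.2 (hlt p hp)]
  have hrfix : ∀ q : Fin D.rank, (q : ℕ) ∈ J → ∀ (p : ℕ × ℕ) (hp : p ∈ ws),
      g.rperm q ⟨p.1, hlt p hp⟩ = ⟨p.1, hlt p hp⟩ := by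
    intro q hq p hp
    refine g.co_ext fun k hk => ?_
    rw [g.rperm_val, g.co_refl q.2 (hlt p hp) hk, (hsimp' q).1 hq p hp]
    simp
  induction' hn : l.length using Nat.strong_induction_on with n ih generalizing l
  by_cases hex : ∃ q : Fin D.rank, ((g.wperm l).symm (g.sroot q)).val < half D
  · obtain ⟨q, hneg⟩ := hex
    have h1 := hpos _ ((g.nroot_pos_iff _).2 hneg)
    have h2 : φ (g.sroot q) = φ ((g.wperm l).symm (g.sroot q)) := by
      rw [hφ, hφ]
      refine congrArg List.sum (List.map_congr_left fun p hp => ?_)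
      have := g.pair_wperm l ((g.wperm l).symm (g.sroot q)) ⟨p.1, hlt p hp⟩
      rw [Equiv.apply_symm_apply, hfix p hp] at this
      rw [this]
    have h3 : φ (g.nroot ((g.wperm l).symm (g.sroot q))) = - φ ((g.wperm l).symm (g.sroot q)) := by
      rw [hφ, hφ]
      simp only [g.pair_nroot, mul_neg]
      have key : ∀ (L : List (ℕ × ℕ)) (f : ℕ × ℕ → ℤ), (L.map fun p => -f p).sum = -(L.map f).sum := by
        intro L f
        induction L with
        | nil => simp
        | cons a L ihL => simp only [List.map_cons, List.sum_cons, ihL]; ring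
      exact key ws _
    have h4 := hpos _ (g.sroot_pos q)
    have hq : (q : ℕ) ∈ J := by
      by_contra hq
      exact (hsimp' q).2 hq (by omega)
    obtain ⟨j, hj, -, he⟩ := g.exists_exchange hneg
    have he' : g.rperm q * g.wperm l = g.wperm (l.take j ++ l.drop (j + 1)) := g.wperm_eraseIdx hj he
    have hlen : (l.take j ++ l.drop (j + 1)).length < n := by
      rw [← hn]; simp only [List.length_append, List.length_take, List.length_drop]; omega
    have hrec := ih _ hlen (l.take j ++ l.drop (j + 1))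
      (fun p hp => by rw [← he', Equiv.Perm.mul_apply, hfix p hp, hrfix q hq p hp]) rfl
    rw [← he'] at hrec
    have := mul_mem (Subgroup.subset_closure ⟨q, hq, rfl⟩ : g.rperm q ∈ g.wJ {i | i ∈ J}) hrec
    rwa [← mul_assoc, g.rperm_mul_self, one_mul] at this
  · push Not at hex
    have h1 : (g.wperm l)⁻¹ = 1 := by
      refine g.eq_one_of_pos (inv_mem (g.wperm_mem _)) fun a ha => ?_
      rw [← g.wperm_reverse]
      refine g.pos_of_simples (J := {i | i < D.rank}) l.reverse (fun q _ => ?_) ha (fun k hk hk' => absurd hk hk')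
      rw [g.wperm_reverse]
      exact hex q
    rw [inv_eq_one] at h1
    rw [h1]
    exact one_mem _

theorem stab_of_orbit {dat : LieData} {sd : StructData} (hl : LieChecks D dat) (hs : StructChecks D dat sd)
    {A : List ℕ} {k : ℕ} {O : List (List ℕ)} {nrm : List ℕ → List ℕ} (hA : ∀ a ∈ A, a < D.nroots)
    (hn : ∀ (f : ℕ → ℕ) (l : List ℕ), l.length = A.length → nrm ((nrm l).map f) = nrm (l.map f))
    (htake : ∀ l : List ℕ, l.length = A.length → (nrm l).take k = l.take k)
    (hmem : ∀ l : List ℕ, l.length = A.length → ∀ a, a ∈ nrm l ↔ a ∈ l)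
    (hO : orbitOK D sd nrm A k O = true) {π : Equiv.Perm (Fin D.nroots)} (hπ : π ∈ g.weyl)
    (h1 : ∀ (v : ℕ) (hv : v < D.nroots), v ∈ A.take k → (π ⟨v, hv⟩).val ∈ A)
    (h2 : ∀ v ∈ A.take k, ∃ (r : ℕ) (hr : r < D.nroots), r ∈ A ∧ (π ⟨r, hr⟩).val = v) :
    ∀ (v : ℕ) (hv : v < D.nroots), v ∈ A.take k → (π ⟨v, hv⟩).val = v := by
  simp only [orbitOK, Bool.and_eq_true, List.all_eq_true, anyR_eq, List.any_eq_true, eqL_iff, exists_eq_right',
    strictL_eq, allR_eq, Bool.or_eq_true, Bool.not_eq_true', inL_iff] at hO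
  obtain ⟨⟨hO0, hOc⟩, hOb⟩ := hO
  obtain ⟨f, hf⟩ : ∃ f : ℕ → ℕ, ∀ a (ha : a < D.nroots), f a = (π ⟨a, ha⟩).val :=
    ⟨fun a => if ha : a < D.nroots then (π ⟨a, ha⟩).val else a, fun a ha => dif_pos ha⟩
  obtain ⟨l, rfl⟩ := g.exists_wperm hπ
  have key : ∀ (m : List (Fin D.rank)) (e : ℕ → ℕ), (∀ a (ha : a < D.nroots), e a = (g.wperm m ⟨a, ha⟩).val) →
      nrm (A.map e) ∈ O := by
    intro m
    induction m with
    | nil =>
      intro e he
      rw [List.map_congr_left (f := e) (g := id) fun a ha => by rw [he a (hA a ha), g.wperm_nil]; rfl, List.map_id]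
      exact hO0
    | cons i m ih =>
      intro e he
      obtain ⟨e', he'⟩ : ∃ e' : ℕ → ℕ, ∀ a (ha : a < D.nroots), e' a = (g.wperm m ⟨a, ha⟩).val :=
        ⟨fun a => if ha : a < D.nroots then (g.wperm m ⟨a, ha⟩).val else a, fun a ha => dif_pos ha⟩
      have := hOc _ (ih e' he') i (by rw [upto_eq]; exact List.mem_range.2 i.2)
      rw [hn _ _ (by simp), List.map_map] at this
      rwa [List.map_congr_left (f := e) (g := refl sd i ∘ e') fun a ha => by
        rw [he a (hA a ha), g.wperm_cons, Equiv.Perm.mul_apply, g.rperm_tab hl hs, Function.comp, he' a (hA a ha)]]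
  have hO' := key l f hf
  intro v hv hvk
  rcases hOb _ hO' with h | h
  · exfalso
    rw [Bool.and_eq_false_iff] at h
    rcases h with h | h <;> simp only [List.all_eq_false, inL_iff] at h <;> obtain ⟨a, ha, hna⟩ := h <;> apply hna
    · rw [htake _ (by simp), ← List.map_take] at ha
      obtain ⟨b, hb, rfl⟩ := List.mem_map.1 ha
      rw [hf b (hA b (List.mem_of_mem_take hb))]
      exact h1 b _ hb
    · rw [hmem _ (by simp)]
      obtain ⟨r, hr, hrA, hre⟩ := h2 a ha
      exact List.mem_map.2 ⟨r, hrA, (hf r hr).trans hre⟩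
  · rw [htake _ (by simp), ← List.map_take] at h
    have := List.map_inj_left.1 (h.trans (List.map_id _).symm) v hvk
    rwa [hf v hv] at this

theorem commute_of_oneOK [CharP F 2] (hc : HasComm D) {r s k : ℕ} (hr : r < D.nroots) (hs : s < D.nroots)
    (h : oneOK D r s k = true) (t u : F) :
    g.xG s u * g.xG r t * (g.xG s u)⁻¹ = g.xG r t * g.xG k (u * t) := by
  simp only [oneOK, Bool.and_eq_true, Bool.not_eq_true'] at h
  obtain ⟨⟨hsr, hne⟩, hmatch⟩ := h
  have hsr' : r ≠ s := fun e => by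
    rw [e] at hsr
    have : Nat.beq s s = true := by rw [Nat.beq_eq]
    rw [this] at hsr; cases hsr
  have hne' : r ≠ D.neg s := fun e => by
    rw [g.neg_rev hs] at e
    have : Nat.beq r (fneg D s) = true := by rw [Nat.beq_eq, fneg]; omega
    rw [this] at hne
    cases hne
  rw [g.xG_conj hc hr hs hsr' hne', ← g.fterms_eq hs hr]
  congr 1
  obtain ⟨c, hc1⟩ : ∃ c, (fterms D s r).filter (fun c => !(Int.beq' (c.2.1 % 2) 0)) = [c] := by
    revert hmatch
    generalize (fterms D s r).filter (fun c => !(Int.beq' (c.2.1 % 2) 0)) = L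
    intro hmatch
    match L, hmatch with
    | [c], _ => exact ⟨c, rfl⟩
  rw [hc1] at hmatch
  simp only [Bool.and_eq_true, Nat.beq_eq] at hmatch
  obtain ⟨⟨hk, h1⟩, h2⟩ := hmatch
  have key : ∀ L : List (ℕ × ℤ × ℕ × ℕ), (L.map fun c => g.xG c.1 ((c.2.1 : F) * u ^ c.2.2.1 * t ^ c.2.2.2)).prod =
      ((L.filter fun c => !(Int.beq' (c.2.1 % 2) 0)).map
        fun c => g.xG c.1 (u ^ c.2.2.1 * t ^ c.2.2.2)).prod := by
    intro L
    induction L with
    | nil => rfl
    | cons a L ih =>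
      rw [List.map_cons, List.prod_cons, ih]
      by_cases hev : Int.beq' (a.2.1 % 2) 0 = true
      · rw [List.filter_cons_of_neg (by simp [hev])]
        rw [Int.beq'_eq] at hev
        rw [show ((a.2.1 : ℤ) : F) = 0 from (CharP.intCast_eq_zero_iff F 2 _).2 (Int.dvd_of_emod_eq_zero hev),
          zero_mul, zero_mul, g.xG_zero, one_mul]
      · rw [List.filter_cons_of_pos (by simp [hev]), List.map_cons, List.prod_cons]
        rw [Int.beq'_eq] at hev
        have hodd : ((a.2.1 : ℤ) : F) = 1 := by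
          have h1 : a.2.1 % 2 = 1 := by omega
          rw [← Int.emod_add_mul_ediv a.2.1 2, h1]
          push_cast
          rw [CharTwo.two_eq_zero, zero_mul, add_zero]
        rw [hodd, one_mul]
  rw [key, hc1]
  simp [hk, h1, h2]

/-- Reduction to the Borel subgroup. -/
theorem low_reduce [CharP F 2] (hc : HasComm D) {dat : LieData} {sd : StructData} (hl : LieChecks D dat)
    (hs : StructChecks D dat sd) {J vs A E : List ℕ} (hnd : vs.Nodup) (hok : lowOK D dat J vs A E = true)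
    (hW : ∀ π ∈ g.weyl, (∀ (v : ℕ) (hv : v < D.nroots), v ∈ vs → (π ⟨v, hv⟩).val ∈ A) →
      (∀ v ∈ vs, ∃ (r : ℕ) (hr : r < D.nroots), r ∈ A ∧ (π ⟨r, hr⟩).val = v) → π ∈ g.wJ {i | i ∈ J})
    {t : GL D.Idx F} (ht : t = (vs.map fun v => g.xG v (1 : F)).prod) :
    lowK D F J E ≤ D.group F ∧ (∀ x ∈ lowK D F J E, Commute x t) ∧
      ∀ x ∈ D.group F, Commute x t →
        ∃ y ∈ D.borelSubgroup F, Commute y t ∧ ∃ k ∈ lowK D F J E, x = y * k := by
  classical
  simp only [lowOK, Bool.and_eq_true, List.all_eq_true, allR_eq, Bool.or_eq_true, Bool.not_eq_true',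
    decide_eq_true_eq, inL_iff, Nat.blt, Nat.ble_eq] at hok
  obtain ⟨⟨⟨hA, hvA⟩, hU⟩, hJ⟩ := hok
  have hh := half_eq' g
  have hApos : ∀ r ∈ A, half D ≤ r ∧ r < D.nroots := fun r hr => by
    obtain ⟨⟨h1, h2⟩, -⟩ := hA r hr
    omega
  have hJr : ∀ j ∈ J, j < D.rank := fun j hj => by have := (hJ j hj).1; omega
  have hAc : ∀ r ∈ {r | r ∈ A}, r < D.nroots → ∀ r' ∈ {r | r ∈ A}, r' < D.nroots →
      ∀ a b : F, Commute (g.xG r a) (g.xG r' b) := fun r hr hrn r' hr' hrn' a b =>
    (commute_of_evenOK g hc hrn hrn' ((hA r hr).2 r' hr') a b).symm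
  have hU' : ∀ s, half D ≤ s → s < D.nroots →
      (s ∈ E ∨ ∀ v ∈ vs, evenOK D v s = true) ∧ (suppB D dat J s = false ∨ inL E s = false) ∧
        ∀ r ∈ A, moveOK D (A.filter fun x => !inL vs x) r s = true := by
    intro s hsp hsn
    have := hU s (by rw [upto_eq]; exact List.mem_range.2 hsn)
    rcases this with h | h
    · have : s + 1 ≤ D.nroots / 2 := h
      omega
    · exact ⟨h.1.1, h.1.2, h.2⟩
  have hcent : ∀ x ∈ lowK D F J E, Commute x t := by
    have hgen : ∀ s, s < D.nroots → (∀ v ∈ vs, evenOK D v s = true) → ∀ c : F,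
        g.xG s c ∈ Subgroup.centralizer {t} := by
      intro s hsn hev c
      refine Subgroup.mem_centralizer_singleton_iff.2 (Commute.eq ?_)
      rw [ht]
      refine Commute.list_prod_right _ _ fun y hy => ?_
      obtain ⟨v, hv, rfl⟩ := List.mem_map.1 hy
      exact commute_of_evenOK g hc (hApos v (hvA v hv)).2 hsn (hev v hv) 1 c
    have hle : lowK D F J E ≤ Subgroup.centralizer {t} := by
      refine sup_le (g.rootGen_le fun s hsS hsn c => hgen s hsn ?_ c) (g.rootGen_le fun s hsS hsn c => hgen s hsn ?_ c)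
      · exact (hU' s hsS.1 hsn).1.resolve_left hsS.2
      · obtain ⟨j, hj, rfl⟩ := hsS
        intro v hv
        rw [g.neg_rev (g.simple_lt (hJr j hj))]
        exact (hJ j hj).2 v hv
    exact fun x hx => Subgroup.mem_centralizer_singleton_iff.1 (hle hx)
  have hKG : lowK D F J E ≤ D.group F :=
    sup_le (g.rootGen_le fun _ _ hr c => g.xG_mem_group hr c) (g.rootGen_le fun _ _ hr c => g.xG_mem_group hr c)
  refine ⟨hKG, hcent, fun x hx hxt => ?_⟩
  -- `U` moves `t` inside `t · ⟨X_r : r ∈ A \ vs⟩`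
  obtain ⟨T, hT⟩ : ∃ T : Set ℕ, T = {r | r ∈ A ∧ r ∉ vs} := ⟨_, rfl⟩
  have hmove : ∀ y ∈ D.posUnipotent F, ∀ r ∈ A, ∀ c : F,
      (g.xG r c)⁻¹ * (y * g.xG r c * y⁻¹) ∈ rootGen D F T ∧
      (g.xG r c)⁻¹ * (y⁻¹ * g.xG r c * y) ∈ rootGen D F T := by
    intro y hy
    rw [g.posUnipotent_eq] at hy
    have hgen : ∀ s, half D ≤ s → s < D.nroots → ∀ r ∈ A, ∀ u c : F,
        (g.xG r c)⁻¹ * (g.xG s u * g.xG r c * (g.xG s u)⁻¹) ∈ rootGen D F T := by
      intro s hsp hsn r hrA u c
      have h := (hU' s hsp hsn).2.2 r hrA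
      simp only [moveOK, Bool.or_eq_true, Nat.beq_eq, Bool.and_eq_true, Bool.not_eq_true', List.all_eq_true,
        Int.beq'_eq, inL_iff, List.mem_filter] at h
      by_cases hrs : r = s
      · subst hrs
        rw [g.xG_add, g.xG_inv, g.xG_inv, g.xG_add, g.xG_add, show -c + (u + c + -u) = 0 by ring, g.xG_zero]
        exact one_mem _
      rcases h with h | ⟨hne, hterms⟩
      · exact absurd h.symm hrs
      have hne' : r ≠ D.neg s := fun e => by
        have := (g.neg_neg_iff hsn).2 hsp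
        have := (hApos r hrA).1
        omega
      rw [g.xG_conj hc (hApos r hrA).2 hsn hrs hne', inv_mul_cancel_left]
      refine Subgroup.list_prod_mem _ fun z hz => ?_
      obtain ⟨d, hd, rfl⟩ := List.mem_map.1 hz
      rw [← g.fterms_eq hsn (hApos r hrA).2] at hd
      rcases hterms d hd with h0 | ⟨h1, h2⟩
      · rw [show ((d.2.1 : ℤ) : F) = 0 from (CharP.intCast_eq_zero_iff F 2 _).2 (Int.dvd_of_emod_eq_zero h0),
          zero_mul, zero_mul, g.xG_zero]
        exact one_mem _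
      · refine g.mem_rootGen (hApos _ h1).2 (show d.1 ∈ T from hT ▸ ⟨h1, fun h3 => ?_⟩) _
        rw [← inL_iff] at h3
        simp [h3] at h2
    have hTA : ∀ r ∈ T, r ∈ A := fun r hr => by rw [hT] at hr; exact hr.1
    -- closure induction on `y`
    induction hy using Subgroup.closure_induction'' with
    | mem z hz =>
      obtain ⟨s, u, hsp, hsn, hz⟩ := hz
      rw [g.eq_xG hz]
      refine fun r hr c => ⟨hgen s hsp hsn r hr u c, ?_⟩
      have := hgen s hsp hsn r hr (-u) c
      rw [← g.xG_inv, inv_inv] at this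
      exact this
    | inv_mem z hz =>
      obtain ⟨s, u, hsp, hsn, hz⟩ := hz
      rw [g.eq_xG hz, g.xG_inv]
      refine fun r hr c => ⟨hgen s hsp hsn r hr (-u) c, ?_⟩
      have := hgen s hsp hsn r hr u c
      refine Eq.mp (congrArg (· ∈ rootGen D F T) ?_) this
      simp [g.xG_inv]
    | one => exact fun r _ c => ⟨by simp, by simp⟩
    | mul y z _ _ hy hz =>
      intro r hr c
      have hnorm : ∀ w ∈ rootGen D F T, y * w * y⁻¹ ∈ rootGen D F T ∧ z⁻¹ * w * z ∈ rootGen D F T := by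
        intro w hw
        have h1 : rootGen D F T ≤ (rootGen D F T).comap (MulAut.conj y).toMonoidHom :=
          g.rootGen_le fun k hk hkn d => by
            show y * g.xG k d * y⁻¹ ∈ rootGen D F T
            have := mul_mem (g.mem_rootGen hkn hk d) (hy k (hTA k hk) d).1
            rwa [mul_inv_cancel_left] at this
        have h2 : rootGen D F T ≤ (rootGen D F T).comap (MulAut.conj z⁻¹).toMonoidHom :=
          g.rootGen_le fun k hk hkn d => by
            show z⁻¹ * g.xG k d * z⁻¹⁻¹ ∈ rootGen D F T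
            rw [inv_inv]
            have := mul_mem (g.mem_rootGen hkn hk d) (hz k (hTA k hk) d).2
            rwa [mul_inv_cancel_left] at this
        have h3 : z⁻¹ * w * z⁻¹⁻¹ ∈ rootGen D F T := h2 hw
        rw [inv_inv] at h3
        exact ⟨h1 hw, h3⟩
      constructor
      · have h1 := mul_mem (hy r hr c).1 (hnorm _ (hz r hr c).1).1
        convert h1 using 1
        group
      · have h1 := mul_mem (hz r hr c).2 (hnorm _ (hy r hr c).2).2
        convert h1 using 1
        group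
  have hTc : ∀ z ∈ rootGen D F T, ∀ v ∈ vs, Commute z (g.xG v (1 : F)) := by
    intro z hz v hv
    refine Subgroup.mem_centralizer_singleton_iff.1 (g.rootGen_le (K := Subgroup.centralizer {g.xG v (1 : F)})
      (fun r hr hrn c => Subgroup.mem_centralizer_singleton_iff.2 ?_) hz)
    rw [hT] at hr
    exact (hAc r hr.1 hrn v (hvA v hv) (hApos v (hvA v hv)).2 c 1).eq
  have hmovet : ∀ y ∈ D.posUnipotent F, t⁻¹ * (y * t * y⁻¹) ∈ rootGen D F T := by
    intro y hy
    rw [ht]
    refine list_conj_mem _ _ y (fun a ha => ?_) (fun a ha z hz => ?_) <;>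
      obtain ⟨v, hv, rfl⟩ := List.mem_map.1 ha
    · exact (hmove y hy v (hvA v hv) 1).1
    · exact hTc z hz v hv
  obtain ⟨b, hb, n, hn, π, hπw, hπ, w, hw, rfl⟩ := g.exists_canonical hc hx
  obtain ⟨v, hv, h, hh, rfl⟩ := g.mem_borel.1 hb
  have hconj : v * h * n * w * t = t * (v * h * n * w) := hxt.eq
  have hwU := g.minus_le_pos π hw
  obtain ⟨e1, he1, hz1⟩ : ∃ e ∈ rootGen D F T, w * t * w⁻¹ = t * e :=
    ⟨_, hmovet w hwU, (mul_inv_cancel_left _ _).symm⟩
  obtain ⟨e2, he2, hz2⟩ : ∃ e ∈ rootGen D F T, v⁻¹ * t * v = t * e := by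
    refine ⟨_, hmovet v⁻¹ (inv_mem hv), ?_⟩
    rw [mul_inv_cancel_left, inv_inv]
  have he2' : h⁻¹ * e2 * h ∈ rootGen D F T := by
    have := (Subgroup.mem_normalizer_iff.1 (g.diagonal_le_normalizer_rootGen T (inv_mem hh)) e2).1 he2
    rwa [inv_inv] at this
  have hTpos : ∀ r ∈ T, half D ≤ r := fun r hr => by rw [hT] at hr; exact (hApos r hr.1).1
  have hTc' : ∀ r ∈ T, r < D.nroots → ∀ r' ∈ T, r' < D.nroots → ∀ a c : F, Commute (g.xG r a) (g.xG r' c) :=
    fun r hr hrn r' hr' hrn' => by rw [hT] at hr hr'; exact hAc r hr.1 hrn r' hr'.1 hrn'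
  obtain ⟨f1, hf1, rfl⟩ := exists_supported g hTpos hTc' he1
  obtain ⟨f2, hf2, hf2e⟩ := exists_supported g hTpos hTc' he2'
  have hvsA : ∀ r ∈ vs, r ∈ {r | r ∈ A} ∧ r < D.nroots := fun r hr => ⟨hvA r hr, (hApos r (hvA r hr)).2⟩
  have htx := xProd_list g hAc (fun r hr => (hApos r hr).1) (fun _ => (1 : F)) vs hnd hvsA
  rw [← ht] at htx
  choose χ hχ using fun r : Fin D.nroots => g.diagonal_conj_xG (F := F) (inv_mem hh) r.2 (1 : F)
  obtain ⟨cf, hcf⟩ : ∃ cf : ℕ → F, ∀ (r : ℕ) (hr : r < D.nroots), cf r = (χ ⟨r, hr⟩ : F) :=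
    ⟨fun r => if hr : r < D.nroots then (χ ⟨r, hr⟩ : F) else 0, fun r hr => dif_pos hr⟩
  have hth : h⁻¹ * t * h = g.xProd (fun k => if k ∈ vs then cf k else 0) (half D) := by
    rw [← xProd_list g hAc (fun r hr => (hApos r hr).1) cf vs hnd hvsA, ht,
      show h⁻¹ * (vs.map fun r => g.xG r (1 : F)).prod * h =
        MulAut.conj h⁻¹ (vs.map fun r => g.xG r (1 : F)).prod by simp, map_list_prod, List.map_map]
    refine congrArg List.prod (List.map_congr_left fun r hr => ?_)
    have := hχ ⟨r, (hvsA r hr).2⟩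
    rw [mul_one] at this
    rw [hcf r (hvsA r hr).2, ← this]
    simp
  have hTA : ∀ r, r ∉ {r | r ∈ A} → r ∉ T := fun r hr hrT => hr (by rw [hT] at hrT; exact hrT.1)
  obtain ⟨t1, ht1, ht1A, ht1v⟩ : ∃ t1 : ℕ → F, w * t * w⁻¹ = g.xProd t1 (half D) ∧
      (∀ r, r ∉ A → t1 r = 0) ∧ ∀ r ∈ vs, t1 r = 1 := by
    refine ⟨fun k => (if k ∈ vs then 1 else 0) + f1 k, ?_, fun r hr => ?_, fun r hr => ?_⟩
    · rw [hz1, htx, xProd_add g {r | r ∈ A} hAc (fun r hr => if_neg fun e => hr (hvA r e)) (fun r hr => hf1 r (hTA r hr))]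
    · simp [hf1 r (hTA r hr), show r ∉ vs from fun e => hr (hvA r e)]
    · simp [hr, hf1 r (by rw [hT]; exact fun e => e.2 hr)]
  obtain ⟨t2, ht2, ht2A, ht2v⟩ : ∃ t2 : ℕ → F, h⁻¹ * (v⁻¹ * t * v) * h = g.xProd t2 (half D) ∧
      (∀ r, r ∉ A → t2 r = 0) ∧ ∀ r ∈ vs, t2 r ≠ 0 := by
    refine ⟨fun k => (if k ∈ vs then cf k else 0) + f2 k, ?_, fun r hr => ?_, fun r hr => ?_⟩
    · rw [hz2, show h⁻¹ * (t * e2) * h = (h⁻¹ * t * h) * (h⁻¹ * e2 * h) by group, hth, hf2e,
        xProd_add g {r | r ∈ A} hAc (fun r hr => if_neg fun e => hr (hvA r e)) (fun r hr => hf2 r (hTA r hr))]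
    · simp [hf2 r (hTA r hr), show r ∉ vs from fun e => hr (hvA r e)]
    · simp [hr, hf2 r (by rw [hT]; exact fun e => e.2 hr), hcf r (hvsA r hr).2]
  have hmain : n * g.xProd t1 (half D) * n⁻¹ = g.xProd t2 (half D) := by
    rw [← ht1, ← ht2]
    calc n * (w * t * w⁻¹) * n⁻¹ = h⁻¹ * v⁻¹ * (v * h * n * w * t) * (n * w)⁻¹ := by group
      _ = h⁻¹ * v⁻¹ * (t * (v * h * n * w)) * (n * w)⁻¹ := by rw [hconj]
      _ = _ := by group
  have hbr := fun r (hr : r ∈ A) => (hApos r hr)
  obtain ⟨hfwd, hbwd⟩ := perm_of_conj g hπ (A := A) hbr hAc ht1A ht2A hmain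
  have hπJ : π ∈ g.wJ {i | i ∈ J} := hW π hπw
    (fun r hr hrv => hfwd r hr (hvA r hrv) (by rw [ht1v r hrv]; exact one_ne_zero))
    (fun r hrv => hbwd r (hvA r hrv) (ht2v r hrv))
  obtain ⟨l, hl', hlπ⟩ := g.exists_wperm_J hπJ
  have hnotE : ∀ a : Fin D.nroots, half D ≤ a.val → g.SuppIn {i | i ∈ J} a → (a : ℕ) ∉ E := by
    intro a ha hsupp hE
    rcases (hU' a ha a.2).2.1 with h1 | h1
    · rw [(g.suppB_iff hl hs J a).2 hsupp] at h1; cases h1
    · rw [(inL_iff E a).2 hE] at h1; cases h1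
  have hwK : w ∈ lowK D F J E := by
    refine Subgroup.mem_sup_left (g.rootGen_le (fun r hr hrn c => g.mem_rootGen hrn ?_ c) hw)
    obtain ⟨hrn', hrp, hneg⟩ := hr
    refine (⟨hrp, hnotE ⟨r, hrn⟩ hrp ?_⟩ : half D ≤ r ∧ r ∉ E)
    by_contra hns
    have := g.pos_of_not_supp hπJ (a := ⟨r, hrn⟩) hrp hns
    omega
  have hsimpK : ∀ j ∈ J, ∀ c : Fˣ, g.nG (D.simple j) c ∈ lowK D F J E := by
    intro j hj c
    have hjr := hJr j hj
    have h1 : ∀ d : F, g.xG (D.simple j) d ∈ lowK D F J E := fun d => Subgroup.mem_sup_left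
      (g.mem_rootGen (g.simple_lt hjr) (⟨g.simple_pos hjr, hnotE (g.sroot ⟨j, hjr⟩) (g.sroot_pos _)
        (g.suppIn_sroot ⟨j, hjr⟩ hj)⟩ : half D ≤ D.simple j ∧ D.simple j ∉ E) d)
    rw [Good.nG]
    exact mul_mem (mul_mem (h1 _) (Subgroup.mem_sup_right (g.mem_rootGen (g.neg_lt (g.simple_lt hjr))
      (show _ ∈ {s | ∃ i ∈ J, s = D.neg (D.simple i)} from ⟨j, hj, rfl⟩) _))) (h1 _)
  have hlK : g.wordN (F := F) l ∈ lowK D F J E := by
    clear hlπ
    induction l with
    | nil => exact one_mem _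
    | cons i l ih =>
      rw [g.wordN_cons]
      exact mul_mem (hsimpK _ (hl' i (by simp)) 1) (ih fun k hk => hl' k (List.mem_cons_of_mem _ hk))
  have hdiag : (g.wordN l)⁻¹ * n ∈ D.diagonalSubgroup F := by
    have h1 : g.rootAct ⟨(g.wordN l)⁻¹ * n, mul_mem (inv_mem (g.wordN_mem l)) hn⟩ = 1 := by
      refine Subtype.ext (g.rootAct_eq ?_)
      have h2 := g.acts_mul (g.acts_inv (g.acts_wordN (F := F) l)) hπ
      rwa [hlπ, inv_mul_cancel] at h2
    have h2 : (⟨(g.wordN l)⁻¹ * n, mul_mem (inv_mem (g.wordN_mem l)) hn⟩ : ↥(D.monomialSubgroup F)) ∈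
        (g.rootAct (F := F)).ker := h1
    rw [g.rootAct_ker] at h2
    exact h2
  refine ⟨v * (h * (g.wordN l * ((g.wordN l)⁻¹ * n) * (g.wordN l)⁻¹)),
    g.mem_borel.2 ⟨v, hv, _, mul_mem hh (g.diag_conj (g.wordN_mem l) hdiag), rfl⟩, ?_,
    g.wordN l * w, mul_mem hlK hwK, by group⟩
  have h1 := hxt.mul_left (hcent _ (mul_mem hlK hwK)).inv_left
  refine Eq.mp (congrArg (fun y => Commute y t) ?_) h1
  group

end CfsgLib.Classical.ChevFix
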