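import Mathlib
import Cfsg.Agent.Lib.Classical.ChevLowCent
import Cfsg.Agent.Lib.KnownA.Chev.Basic

/-!
The two classes of involutions of G2 in characteristic two.
-/

set_option autoImplicit false

namespace CfsgLib.Classical.ChevFix

open Cfsg.Lie Matrix CfsgLib.Chev

universe u

variable {F : Type u} [Field F] [CharP F 2]

/-- Conjugate in the group of type G2. -/
def Conj2 (x y : GL chevG2.Idx F) : Prop := ∃ h ∈ chevG2.group F, h * x * h⁻¹ = y

theorem Conj2.refl (x : GL chevG2.Idx F) : Conj2 x x := ⟨1, one_mem _, by group⟩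

theorem Conj2.trans {x y z : GL chevG2.Idx F} : Conj2 x y → Conj2 y z → Conj2 x z := by
  rintro ⟨h, hh, rfl⟩ ⟨k, hk, rfl⟩
  exact ⟨k * h, mul_mem hk hh, by group⟩

/-- Conjugation by a root element is a step. -/
theorem conj2_step {r : ℕ} (hr : r < chevG2.nroots) (u : F) {x y : GL chevG2.Idx F}
    (h : MulAut.conj (goodG2.xG r u) x = y) : Conj2 x y :=
  ⟨_, goodG2.xG_mem_group hr u, h⟩

theorem g2_facts : chevG2.nroots = 12 ∧ half chevG2 = 6 ∧ chevG2.rank = 2 := by decide +kernel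

theorem conjTerms {r s : ℕ} (hr : r < chevG2.nroots) (hs : s < chevG2.nroots) (hne : r ≠ s)
    (hneg : r ≠ fneg chevG2 s) (L : List (ℕ × ℤ × ℕ × ℕ)) (hL : fterms chevG2 s r = L) (u t : F) :
    MulAut.conj (goodG2.xG s u) (goodG2.xG r t) =
      goodG2.xG r t * (L.map fun c => goodG2.xG c.1 ((c.2.1 : F) * u ^ c.2.2.1 * t ^ c.2.2.2)).prod := by
  rw [MulAut.conj_apply, goodG2.xG_conj (hasComm_of_mem (by simp)) hr hs hne
    (by rwa [goodG2.neg_rev hs, ← fneg]), ← goodG2.fterms_eq hs hr, hL]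

theorem conjId {r s : ℕ} (hr : r < chevG2.nroots) (hs : s < chevG2.nroots)
    (h : evenOK chevG2 r s = true) (u t : F) :
    MulAut.conj (goodG2.xG s u) (goodG2.xG r t) = goodG2.xG r t := by
  rw [MulAut.conj_apply, (commute_of_evenOK goodG2 (hasComm_of_mem (by simp)) hr hs h t u).eq,
    mul_inv_cancel_right]

theorem comm2 {r s : ℕ} (hr : r < chevG2.nroots) (hs : s < chevG2.nroots)
    (h : evenOK chevG2 r s = true) (u t : F) : goodG2.xG s u * goodG2.xG r t = goodG2.xG r t * goodG2.xG s u :=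
  (commute_of_evenOK goodG2 (hasComm_of_mem (by simp)) hr hs h t u).eq

theorem two_zero : (2 : F) = 0 := CharTwo.two_eq_zero

theorem three_one : (3 : F) = 1 := by
  rw [show (3 : F) = 2 + 1 by norm_num, two_zero, zero_add]

theorem c6_7 (u t : F) : MulAut.conj (goodG2.xG 6 u) (goodG2.xG 7 t) =
    goodG2.xG 7 t * (goodG2.xG 8 (u * t) * (goodG2.xG 9 (u * t ^ 2) * goodG2.xG 10 (u * t ^ 3))) := by
  rw [conjTerms (by decide) (by decide) (by decide) (by decide) [(8, 1, 1, 1), (9, 1, 1, 2), (10, -1, 1, 3), (11, -2, 2, 3)]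
    (by decide +kernel)]
  simp [two_zero, CharTwo.neg_eq, goodG2.xG_zero, mul_assoc]

theorem c7_6 (u t : F) : MulAut.conj (goodG2.xG 7 u) (goodG2.xG 6 t) =
    goodG2.xG 6 t * (goodG2.xG 8 (u * t) * (goodG2.xG 9 (u ^ 2 * t) * (goodG2.xG 10 (u ^ 3 * t) *
      goodG2.xG 11 (u ^ 3 * t ^ 2)))) := by
  rw [conjTerms (by decide) (by decide) (by decide) (by decide) [(8, -1, 1, 1), (9, 1, 2, 1), (10, 1, 3, 1), (11, 1, 3, 2)]
    (by decide +kernel)]
  simp [CharTwo.neg_eq, mul_assoc]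

theorem c8_7 (u t : F) : MulAut.conj (goodG2.xG 8 u) (goodG2.xG 7 t) =
    goodG2.xG 7 t * (goodG2.xG 11 (u ^ 2 * t) * goodG2.xG 10 (u * t ^ 2)) := by
  rw [conjTerms (by decide) (by decide) (by decide) (by decide) [(9, 2, 1, 1), (11, 3, 2, 1), (10, -3, 1, 2)]
    (by decide +kernel)]
  simp [two_zero, three_one, CharTwo.neg_eq, goodG2.xG_zero, mul_assoc]

theorem c7_8 (u t : F) : MulAut.conj (goodG2.xG 7 u) (goodG2.xG 8 t) =
    goodG2.xG 8 t * (goodG2.xG 10 (u ^ 2 * t) * goodG2.xG 11 (u * t ^ 2)) := by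
  rw [conjTerms (by decide) (by decide) (by decide) (by decide) [(9, -2, 1, 1), (10, -3, 2, 1), (11, 3, 1, 2)]
    (by decide +kernel)]
  simp [two_zero, three_one, CharTwo.neg_eq, goodG2.xG_zero, mul_assoc]

theorem c9_7 (u t : F) : MulAut.conj (goodG2.xG 9 u) (goodG2.xG 7 t) = goodG2.xG 7 t * goodG2.xG 10 (u * t) := by
  rw [conjTerms (by decide) (by decide) (by decide) (by decide) [(10, -3, 1, 1)] (by decide +kernel)]
  simp [three_one, CharTwo.neg_eq]

theorem c7_9 (u t : F) : MulAut.conj (goodG2.xG 7 u) (goodG2.xG 9 t) = goodG2.xG 9 t * goodG2.xG 10 (u * t) := by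
  rw [conjTerms (by decide) (by decide) (by decide) (by decide) [(10, 3, 1, 1)] (by decide +kernel)]
  simp [three_one]

theorem c8_9 (u t : F) : MulAut.conj (goodG2.xG 8 u) (goodG2.xG 9 t) = goodG2.xG 9 t * goodG2.xG 11 (u * t) := by
  rw [conjTerms (by decide) (by decide) (by decide) (by decide) [(11, 3, 1, 1)] (by decide +kernel)]
  simp [three_one]

theorem c6_10 (u t : F) : MulAut.conj (goodG2.xG 6 u) (goodG2.xG 10 t) = goodG2.xG 10 t * goodG2.xG 11 (u * t) := by
  rw [conjTerms (by decide) (by decide) (by decide) (by decide) [(11, 1, 1, 1)] (by decide +kernel)]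
  simp

theorem c10_6 (u t : F) : MulAut.conj (goodG2.xG 10 u) (goodG2.xG 6 t) = goodG2.xG 6 t * goodG2.xG 11 (u * t) := by
  rw [conjTerms (by decide) (by decide) (by decide) (by decide) [(11, -1, 1, 1)] (by decide +kernel)]
  simp [CharTwo.neg_eq]

theorem c4_9 (u t : F) : MulAut.conj (goodG2.xG 4 u) (goodG2.xG 9 t) =
    goodG2.xG 9 t * (goodG2.xG 6 (u ^ 2 * t) * goodG2.xG 11 (u * t ^ 2)) := by
  rw [conjTerms (by decide) (by decide) (by decide) (by decide) [(8, -2, 1, 1), (6, 3, 2, 1), (11, -3, 1, 2)]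
    (by decide +kernel)]
  simp [two_zero, three_one, CharTwo.neg_eq, goodG2.xG_zero, mul_assoc]

theorem ici9_decomp {R : GL chevG2.Idx F} (hR : R ∈ rootGen chevG2 F (Set.Ici 9)) :
    ∃ d e f : F, R = goodG2.xG 9 d * (goodG2.xG 10 e * goodG2.xG 11 f) := by
  have hc : HasComm chevG2 := hasComm_of_mem (by simp)
  obtain ⟨h12, h6, -⟩ := g2_facts
  obtain ⟨d, y, hy, rfl⟩ := goodG2.Ici_step hc (m := 9) (by omega) (by omega) hR
  obtain ⟨e, z, hz, rfl⟩ := goodG2.Ici_step hc (m := 10) (by omega) (by omega) hy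
  obtain ⟨f, w, hw, rfl⟩ := goodG2.Ici_step hc (m := 11) (by omega) (by omega) hz
  rw [goodG2.Ici_empty (show chevG2.nroots ≤ 11 + 1 by omega), Subgroup.mem_bot] at hw
  exact ⟨d, e, f, by rw [hw, mul_one]⟩

theorem coef10_eq_zero {e : F} {z : GL chevG2.Idx F} (hz : z ∈ rootGen chevG2 F (Set.Ici 11))
    (h : goodG2.xG 10 e * z = 1) : e = 0 := by
  obtain ⟨h12, h6, -⟩ := g2_facts
  refine (goodG2.Ici_unique (m := 10) (b := (0 : F)) (by omega) (by omega) hz (one_mem _) ?_).1
  rw [h, goodG2.xG_zero, one_mul]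

theorem coef11_eq_zero {e : F} (h : goodG2.xG 11 e = 1) : e = 0 :=
  (goodG2.x_eq_one_iff (r := 11) (by decide) e).1 (congrArg Units.val h)

theorem m11 (f : F) : goodG2.xG 11 f ∈ rootGen chevG2 F (Set.Ici 11) :=
  goodG2.mem_rootGen (by decide) (le_refl 11 : 11 ∈ Set.Ici 11) f

variable [Fintype F]

theorem exists_sqrt (a : F) : ∃ u : F, u ^ 2 = a := by
  obtain ⟨u, hu⟩ := FiniteField.isSquare_of_char_two (ringChar.eq F 2) a
  exact ⟨u, by rw [hu, sq]⟩

/-- Involutions with leading coordinate at the short fundamental root. -/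
theorem seven_case {b : F} (hb : b ≠ 0) (d e f : F)
    (hsq : (goodG2.xG 7 b * (goodG2.xG 9 d * (goodG2.xG 10 e * goodG2.xG 11 f))) *
      (goodG2.xG 7 b * (goodG2.xG 9 d * (goodG2.xG 10 e * goodG2.xG 11 f))) = 1) :
    Conj2 (goodG2.xG 7 b * (goodG2.xG 9 d * (goodG2.xG 10 e * goodG2.xG 11 f))) (goodG2.xG 7 b) := by
  have hd : d = 0 := by
    have e1 : goodG2.xG 9 d * (goodG2.xG 10 e * goodG2.xG 11 f) * goodG2.xG 7 b =
        goodG2.xG 7 b * (goodG2.xG 9 d * (goodG2.xG 10 (b * d) * (goodG2.xG 10 e * goodG2.xG 11 f))) := by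
      have h : ∀ z, goodG2.xG 7 b * z = MulAut.conj (goodG2.xG 7 b) z * goodG2.xG 7 b := fun z => by
        rw [MulAut.conj_apply, inv_mul_cancel_right]
      rw [h, map_mul, map_mul, map_mul, c7_9, conjId (r := 10) (by decide) (by decide) (by decide +kernel),
        conjId (r := 10) (by decide) (by decide) (by decide +kernel),
        conjId (r := 11) (by decide) (by decide) (by decide +kernel)]
      congr 1
      rw [mul_assoc, ← mul_assoc (goodG2.xG 10 (b * d)), goodG2.xG_add, CharTwo.add_self_eq_zero, goodG2.xG_zero,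
        one_mul]
    rw [show ∀ x R : GL chevG2.Idx F, x * R * (x * R) = x * (R * x) * R from fun x R => by group, e1,
      ← mul_assoc (goodG2.xG 7 b) (goodG2.xG 7 b), goodG2.xG_add, CharTwo.add_self_eq_zero, goodG2.xG_zero,
      one_mul] at hsq
    have h2 : goodG2.xG 10 (b * d + e + e) * goodG2.xG 11 (f + f) = 1 := by
      rw [← hsq, ← goodG2.xG_add, ← goodG2.xG_add, ← goodG2.xG_add]
      have c1 := comm2 (F := F) (r := 9) (s := 10) (by decide) (by decide) (by decide +kernel)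
      have c2 := comm2 (F := F) (r := 9) (s := 11) (by decide) (by decide) (by decide +kernel)
      have c3 := comm2 (F := F) (r := 10) (s := 11) (by decide) (by decide) (by decide +kernel)
      calc goodG2.xG 10 (b * d) * goodG2.xG 10 e * goodG2.xG 10 e * (goodG2.xG 11 f * goodG2.xG 11 f)
          = goodG2.xG 10 (b * d) * goodG2.xG 10 e * (goodG2.xG 11 f * goodG2.xG 10 e) * goodG2.xG 11 f := by
            rw [c3]; simp only [mul_assoc]
        _ = goodG2.xG 9 (d + d) * (goodG2.xG 10 (b * d) * goodG2.xG 10 e * (goodG2.xG 11 f * goodG2.xG 10 e) *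
              goodG2.xG 11 f) := by
            rw [CharTwo.add_self_eq_zero, goodG2.xG_zero, one_mul]
        _ = goodG2.xG 9 d * (goodG2.xG 10 (b * d) * (goodG2.xG 10 e * goodG2.xG 11 f)) *
              (goodG2.xG 9 d * (goodG2.xG 10 e * goodG2.xG 11 f)) := by
            rw [← goodG2.xG_add]
            have hcomm : ∀ z, Commute (goodG2.xG 9 d) z → ∀ A B : GL chevG2.Idx F,
                goodG2.xG 9 d * z * (goodG2.xG 9 d * B) * A = goodG2.xG 9 d * goodG2.xG 9 d * (z * B * A) :=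
              fun z hz A B => by
                rw [mul_assoc (goodG2.xG 9 d) z, ← mul_assoc z, ← hz.eq]
                group
            have h9 : Commute (goodG2.xG 9 d) (goodG2.xG 10 (b * d) * (goodG2.xG 10 e * goodG2.xG 11 f)) :=
              Commute.mul_right (c1 _ _).symm (Commute.mul_right (c1 _ _).symm (c2 _ _).symm)
            have := hcomm _ h9 1 (goodG2.xG 10 e * goodG2.xG 11 f)
            simp only [mul_one] at this
            rw [this]
            simp only [mul_assoc]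
    rw [CharTwo.add_self_eq_zero f, goodG2.xG_zero, mul_one, add_assoc, CharTwo.add_self_eq_zero, add_zero] at h2
    have h3 := coef10_eq_zero (one_mem _) ((mul_one (goodG2.xG 10 (b * d))).trans h2)
    exact (mul_eq_zero.1 h3).resolve_left hb
  subst hd
  rw [goodG2.xG_zero, one_mul]
  obtain ⟨u, hu⟩ := exists_sqrt (f / b)
  obtain ⟨w, hw⟩ : ∃ w : F, w * b = e + u * b ^ 2 := ⟨(e + u * b ^ 2) / b, div_mul_cancel₀ _ hb⟩
  refine (conj2_step (r := 8) (by decide) u rfl).trans (conj2_step (r := 9) (by decide) w ?_)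
  simp only [map_mul, c8_7, conjId (r := 10) (s := 8) (by decide) (by decide) (by decide +kernel),
    conjId (r := 11) (s := 8) (by decide) (by decide) (by decide +kernel), c9_7,
    conjId (r := 10) (s := 9) (by decide) (by decide) (by decide +kernel),
    conjId (r := 11) (s := 9) (by decide) (by decide) (by decide +kernel),
    hu, div_mul_cancel₀ _ hb, hw]
  rw [show ∀ x A B C E G : GL chevG2.Idx F, x * A * (B * C) * (E * G) = x * (A * ((B * C) * (E * G))) from
    fun x A B C E G => by group]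
  have c3 := comm2 (F := F) (r := 10) (s := 11) (by decide) (by decide) (by decide +kernel)
  rw [c3, show ∀ A B C E G : GL chevG2.Idx F, A * (B * C * (E * G)) = A * B * (C * E) * G from
    fun A B C E G => by group, c3, ← mul_assoc (goodG2.xG 10 _ * goodG2.xG 10 _), goodG2.xG_add, goodG2.xG_add,
    mul_assoc (goodG2.xG 10 _), goodG2.xG_add, CharTwo.add_self_eq_zero f, goodG2.xG_zero, mul_one]
  rw [show e + u * b ^ 2 + u * b ^ 2 + e = 0 by linear_combination (e + u * b ^ 2) * two_zero (F := F),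
    goodG2.xG_zero, mul_one]

/-- Involutions with leading coordinate at the long fundamental root. -/
theorem six_case {a : F} (ha : a ≠ 0) (d e f : F)
    (hsq : (goodG2.xG 6 a * (goodG2.xG 9 d * (goodG2.xG 10 e * goodG2.xG 11 f))) *
      (goodG2.xG 6 a * (goodG2.xG 9 d * (goodG2.xG 10 e * goodG2.xG 11 f))) = 1) :
    Conj2 (goodG2.xG 6 a * (goodG2.xG 9 d * (goodG2.xG 10 e * goodG2.xG 11 f))) (goodG2.xG 6 a) ∨
      d ≠ 0 ∧ Conj2 (goodG2.xG 6 a * (goodG2.xG 9 d * (goodG2.xG 10 e * goodG2.xG 11 f))) (goodG2.xG 9 d) := by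
  have c69 := comm2 (F := F) (r := 9) (s := 6) (by decide) (by decide) (by decide +kernel)
  have c611 := comm2 (F := F) (r := 11) (s := 6) (by decide) (by decide) (by decide +kernel)
  have c910 := comm2 (F := F) (r := 9) (s := 10) (by decide) (by decide) (by decide +kernel)
  have c911 := comm2 (F := F) (r := 9) (s := 11) (by decide) (by decide) (by decide +kernel)
  have c1011 := comm2 (F := F) (r := 10) (s := 11) (by decide) (by decide) (by decide +kernel)
  have he : e = 0 := by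
    have e1 : goodG2.xG 10 e * goodG2.xG 6 a = goodG2.xG 6 a * goodG2.xG 10 e * goodG2.xG 11 (e * a) := by
      have := c10_6 e a
      rw [MulAut.conj_apply, mul_inv_eq_iff_eq_mul] at this
      rw [this, mul_assoc, c1011 (e * a) e, ← mul_assoc]
    have h2 : goodG2.xG 10 (e + e) * goodG2.xG 11 (e * a + f + f) = 1 := by
      rw [← hsq, ← goodG2.xG_add, ← goodG2.xG_add, ← goodG2.xG_add]
      calc goodG2.xG 10 e * goodG2.xG 10 e * (goodG2.xG 11 (e * a) * goodG2.xG 11 f * goodG2.xG 11 f)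
          = goodG2.xG 9 d * goodG2.xG 9 d * (goodG2.xG 10 e * goodG2.xG 10 e) *
              (goodG2.xG 11 (e * a) * goodG2.xG 11 f * goodG2.xG 11 f) := by
            rw [goodG2.xG_add (r := 9), CharTwo.add_self_eq_zero, goodG2.xG_zero, one_mul]
        _ = goodG2.xG 6 a * goodG2.xG 6 a * (goodG2.xG 9 d * goodG2.xG 9 d * (goodG2.xG 10 e * goodG2.xG 10 e) *
              (goodG2.xG 11 (e * a) * goodG2.xG 11 f * goodG2.xG 11 f)) := by
            rw [goodG2.xG_add (r := 6), CharTwo.add_self_eq_zero, goodG2.xG_zero, one_mul]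
        _ = _ := by
            have s1 : goodG2.xG 9 d * (goodG2.xG 10 e * goodG2.xG 11 f) * goodG2.xG 6 a =
                goodG2.xG 6 a * (goodG2.xG 9 d * (goodG2.xG 10 e * (goodG2.xG 11 (e * a) * goodG2.xG 11 f))) := by
              calc _ = goodG2.xG 9 d * (goodG2.xG 10 e * (goodG2.xG 11 f * goodG2.xG 6 a)) := by simp only [mul_assoc]
                _ = goodG2.xG 9 d * (goodG2.xG 10 e * goodG2.xG 6 a * goodG2.xG 11 f) := by
                  rw [← c611]; simp only [mul_assoc]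
                _ = goodG2.xG 9 d * goodG2.xG 6 a * goodG2.xG 10 e * (goodG2.xG 11 (e * a) * goodG2.xG 11 f) := by
                  rw [e1]; simp only [mul_assoc]
                _ = _ := by rw [← c69]; simp only [mul_assoc]
            rw [show ∀ x R : GL chevG2.Idx F, x * R * (x * R) = x * (R * x) * R from fun x R => by group, s1]
            have h9 : Commute (goodG2.xG 10 e * (goodG2.xG 11 (e * a) * goodG2.xG 11 f)) (goodG2.xG 9 d) :=
              Commute.mul_left (c910 _ _) (Commute.mul_left (c911 _ _) (c911 _ _))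
            have h10 : Commute (goodG2.xG 11 (e * a) * goodG2.xG 11 f) (goodG2.xG 10 e) :=
              Commute.mul_left (c1011 _ _) (c1011 _ _)
            have k1 : ∀ z w : GL chevG2.Idx F, Commute z (goodG2.xG 9 d) →
                goodG2.xG 9 d * z * (goodG2.xG 9 d * w) = goodG2.xG 9 d * goodG2.xG 9 d * (z * w) := fun z w hz => by
              rw [mul_assoc (goodG2.xG 9 d) z, ← mul_assoc z, hz.eq]; group
            calc _ = goodG2.xG 6 a * goodG2.xG 6 a * (goodG2.xG 9 d * goodG2.xG 9 d *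
                  (goodG2.xG 10 e * ((goodG2.xG 11 (e * a) * goodG2.xG 11 f) * goodG2.xG 10 e) * goodG2.xG 11 f)) := by
                  rw [h10.eq]; simp only [mul_assoc]
              _ = goodG2.xG 6 a * goodG2.xG 6 a * (goodG2.xG 9 d *
                    (goodG2.xG 10 e * (goodG2.xG 11 (e * a) * goodG2.xG 11 f)) *
                    (goodG2.xG 9 d * (goodG2.xG 10 e * goodG2.xG 11 f))) := by
                  rw [k1 _ _ h9]; simp only [mul_assoc]
              _ = _ := by simp only [mul_assoc]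
    rw [CharTwo.add_self_eq_zero, goodG2.xG_zero, one_mul, add_assoc, CharTwo.add_self_eq_zero, add_zero] at h2
    exact (mul_eq_zero.1 (coef11_eq_zero h2)).resolve_right ha
  subst he
  rw [goodG2.xG_zero, one_mul]
  have hkill : ∀ g' : F, Conj2 (goodG2.xG 6 a * (goodG2.xG 9 d * goodG2.xG 11 f))
      (goodG2.xG 6 a * (goodG2.xG 9 d * goodG2.xG 11 g')) := by
    intro g'
    refine conj2_step (r := 10) (by decide) ((f + g') / a) ?_
    rw [map_mul, map_mul, c10_6, conjId (r := 9) (by decide) (by decide) (by decide +kernel),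
      conjId (r := 11) (by decide) (by decide) (by decide +kernel), div_mul_cancel₀ _ ha,
      mul_assoc, ← mul_assoc (goodG2.xG 11 (f + g')), c911, mul_assoc (goodG2.xG 9 d), goodG2.xG_add,
      show f + g' + f = g' by linear_combination f * two_zero (F := F)]
  by_cases hd : d = 0
  · subst hd
    left
    have := hkill 0
    simpa [goodG2.xG_zero] using this
  · right
    refine ⟨hd, ?_⟩
    obtain ⟨u, hu⟩ := exists_sqrt (a / d)
    refine (hkill (u * d ^ 2)).trans ?_
    obtain ⟨h, hh, he⟩ := conj2_step (r := 4) (by decide) u (rfl : MulAut.conj (goodG2.xG 4 u) (goodG2.xG 9 d) = _)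
    have he' : h * goodG2.xG 9 d * h⁻¹ = goodG2.xG 6 a * (goodG2.xG 9 d * goodG2.xG 11 (u * d ^ 2)) := by
      rw [he, c4_9, hu, div_mul_cancel₀ _ hd, ← mul_assoc, ← c69, mul_assoc]
    exact ⟨h⁻¹, inv_mem hh, by rw [← he']; group⟩

/-- Every involution is conjugate to a root element of a positive root. -/
theorem invol_conj_root {v : GL chevG2.Idx F} (hv : v ∈ chevG2.posUnipotent F) (hv1 : v ≠ 1) (hv2 : v * v = 1) :
    ∃ (r : ℕ) (c : F), r ∈ [6, 7, 9, 10, 11] ∧ c ≠ 0 ∧ Conj2 v (goodG2.xG r c) := by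
  have hc : HasComm chevG2 := hasComm_of_mem (by simp)
  obtain ⟨h12, h6, -⟩ := g2_facts
  rw [goodG2.posUnipotent_eq, h6] at hv
  obtain ⟨a, y, hy, rfl⟩ := goodG2.Ici_step hc (m := 6) (by omega) (by omega) hv
  obtain ⟨b, z, hz, rfl⟩ := goodG2.Ici_step hc (m := 7) (by omega) (by omega) hy
  obtain ⟨c, R, hR, rfl⟩ := goodG2.Ici_step hc (m := 8) (by omega) (by omega) hz
  have hN : ∀ r, half chevG2 ≤ r → r < chevG2.nroots → ∀ (t : F) (z : GL chevG2.Idx F),
      z ∈ rootGen chevG2 F (Set.Ici 9) → MulAut.conj (goodG2.xG r t) z ∈ rootGen chevG2 F (Set.Ici 9) := by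
    intro r hr hr' t z hz
    exact (Subgroup.mem_normalizer_iff.1 (goodG2.pos_le_normalizer hc (m := 9) (by omega)
      (goodG2.xG_mem_posUnipotent ((goodG2.isPosRoot_iff r).2 ⟨hr, hr'⟩) t)) z).1 hz
  have hR9 : ∀ r ∈ [9, 10, 11], ∀ t : F, goodG2.xG r t ∈ rootGen chevG2 F (Set.Ici 9) := by
    intro r hr t
    simp only [List.mem_cons, List.not_mem_nil, or_false] at hr
    exact goodG2.mem_rootGen (by omega) (show 9 ≤ r by omega) t
  have hsq : ∀ {x : GL chevG2.Idx F}, Conj2 (goodG2.xG 6 a * (goodG2.xG 7 b * (goodG2.xG 8 c * R))) x →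
      x * x = 1 := by
    rintro x ⟨h, -, rfl⟩
    rw [show h * _ * h⁻¹ * (h * _ * h⁻¹) = h * (goodG2.xG 6 a * (goodG2.xG 7 b * (goodG2.xG 8 c * R)) *
      (goodG2.xG 6 a * (goodG2.xG 7 b * (goodG2.xG 8 c * R)))) * h⁻¹ by group, hv2]
    group
  -- the product of the two fundamental coordinates vanishes
  have hab : a = 0 ∨ b = 0 := by
    rw [← mul_eq_zero]
    have sw : ∀ x z : GL chevG2.Idx F, z * x = x * (x⁻¹ * z * x) := fun x z => by group
    obtain ⟨K, hK⟩ : ∃ K, K = rootGen chevG2 F (Set.Ici 9) := ⟨_, rfl⟩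
    have hcj : ∀ r, half chevG2 ≤ r → r < chevG2.nroots → ∀ (t : F) z, z ∈ K →
        (goodG2.xG r t)⁻¹ * z * goodG2.xG r t ∈ K := by
      intro r hr hr' t z hz
      have := hN r hr hr' (-t) z (hK ▸ hz)
      rw [MulAut.conj_apply, ← goodG2.xG_inv, inv_inv] at this
      exact hK ▸ this
    rw [← hK] at hR
    obtain ⟨R1, hR1, e1⟩ : ∃ R1 ∈ K, R * goodG2.xG 6 a = goodG2.xG 6 a * R1 :=
      ⟨_, hcj 6 (by omega) (by omega) a R hR, sw _ _⟩
    obtain ⟨R2, hR2, e2⟩ : ∃ R2 ∈ K, R1 * goodG2.xG 7 b = goodG2.xG 7 b * R2 :=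
      ⟨_, hcj 7 (by omega) (by omega) b R1 hR1, sw _ _⟩
    obtain ⟨R3, hR3, e3⟩ : ∃ R3 ∈ K, R2 * goodG2.xG 8 c = goodG2.xG 8 c * R3 :=
      ⟨_, hcj 8 (by omega) (by omega) c R2 hR2, sw _ _⟩
    obtain ⟨R4, hR4, e4⟩ : ∃ R4 ∈ K, goodG2.xG 8 c * goodG2.xG 7 b = goodG2.xG 7 b * goodG2.xG 8 c * R4 := by
      refine ⟨(goodG2.xG 8 c)⁻¹ * (goodG2.xG 11 (c ^ 2 * b) * goodG2.xG 10 (c * b ^ 2)) * goodG2.xG 8 c,
        hcj 8 (by omega) (by omega) c _ (hK ▸ mul_mem (hR9 11 (by simp) _) (hR9 10 (by simp) _)), ?_⟩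
      have := c8_7 c b
      rw [MulAut.conj_apply, mul_inv_eq_iff_eq_mul] at this
      rw [this]
      group
    obtain ⟨R5, hR5, e5⟩ : ∃ R5 ∈ K, goodG2.xG 7 b * goodG2.xG 6 a * goodG2.xG 7 b =
        goodG2.xG 6 a * goodG2.xG 8 (b * a) * R5 := by
      refine ⟨goodG2.xG 9 (b ^ 2 * a) * (goodG2.xG 10 (b ^ 3 * a) * goodG2.xG 11 (b ^ 3 * a ^ 2)),
        hK ▸ mul_mem (hR9 9 (by simp) _) (mul_mem (hR9 10 (by simp) _) (hR9 11 (by simp) _)), ?_⟩
      have := c7_6 b a
      rw [MulAut.conj_apply, goodG2.xG_inv, CharTwo.neg_eq] at this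
      rw [this]
      simp only [mul_assoc]
    obtain ⟨R6, hR6, e6⟩ : ∃ R6 ∈ K, R5 * goodG2.xG 8 c = goodG2.xG 8 c * R6 :=
      ⟨_, hcj 8 (by omega) (by omega) c R5 hR5, sw _ _⟩
    obtain ⟨R7, hR7, e7⟩ : ∃ R7 ∈ K, R4 * goodG2.xG 8 c = goodG2.xG 8 c * R7 :=
      ⟨_, hcj 8 (by omega) (by omega) c R4 hR4, sw _ _⟩
    obtain ⟨R8, hR8, e8⟩ : ∃ R8 ∈ K, R6 * goodG2.xG 8 c = goodG2.xG 8 c * R8 :=
      ⟨_, hcj 8 (by omega) (by omega) c R6 hR6, sw _ _⟩
    have e86 := comm2 (F := F) (r := 6) (s := 8) (by decide) (by decide) (by decide +kernel) c a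
    have key : goodG2.xG 6 a * (goodG2.xG 7 b * (goodG2.xG 8 c * R)) *
        (goodG2.xG 6 a * (goodG2.xG 7 b * (goodG2.xG 8 c * R))) =
        goodG2.xG 6 a * goodG2.xG 6 a * (goodG2.xG 8 (b * a) * goodG2.xG 8 c * goodG2.xG 8 c) *
          (R8 * R7 * R3 * R) :=
      calc _ = goodG2.xG 6 a * goodG2.xG 7 b * goodG2.xG 8 c * (R * goodG2.xG 6 a) * goodG2.xG 7 b * goodG2.xG 8 c * R := by
            simp only [mul_assoc]
        _ = goodG2.xG 6 a * goodG2.xG 7 b * (goodG2.xG 8 c * goodG2.xG 6 a) * (R1 * goodG2.xG 7 b) * goodG2.xG 8 c * R := by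
            rw [e1]; simp only [mul_assoc]
        _ = goodG2.xG 6 a * goodG2.xG 7 b * goodG2.xG 6 a * (goodG2.xG 8 c * goodG2.xG 7 b) * (R2 * goodG2.xG 8 c) * R := by
            rw [e86, e2]; simp only [mul_assoc]
        _ = goodG2.xG 6 a * (goodG2.xG 7 b * goodG2.xG 6 a * goodG2.xG 7 b) * goodG2.xG 8 c *
              (R4 * goodG2.xG 8 c) * R3 * R := by
            rw [e4, e3]; simp only [mul_assoc]
        _ = goodG2.xG 6 a * goodG2.xG 6 a * goodG2.xG 8 (b * a) * (R5 * goodG2.xG 8 c) * goodG2.xG 8 c * R7 * R3 * R := by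
            rw [e5, e7]; simp only [mul_assoc]
        _ = goodG2.xG 6 a * goodG2.xG 6 a * goodG2.xG 8 (b * a) * goodG2.xG 8 c * (R6 * goodG2.xG 8 c) * R7 * R3 * R := by
            rw [e6]; simp only [mul_assoc]
        _ = _ := by rw [e8]; simp only [mul_assoc]
    rw [key, goodG2.xG_add, CharTwo.add_self_eq_zero, goodG2.xG_zero, one_mul, goodG2.xG_add, goodG2.xG_add,
      add_assoc, CharTwo.add_self_eq_zero, add_zero] at hv2
    have hmem : R8 * R7 * R3 * R ∈ rootGen chevG2 F (Set.Ici (8 + 1)) :=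
      hK ▸ mul_mem (mul_mem (mul_mem hR8 hR7) hR3) hR
    have := (goodG2.Ici_unique (m := 8) (b := (0 : F)) (by omega) (by omega) hmem (one_mem _)
      (by rw [hv2, goodG2.xG_zero, one_mul])).1
    rwa [mul_comm] at this
  by_cases hb : b = 0
  · subst hb
    rw [goodG2.xG_zero, one_mul] at hv1 hv2 hsq ⊢
    by_cases ha : a = 0
    · subst ha
      rw [goodG2.xG_zero, one_mul] at hv1 hv2 hsq ⊢
      obtain ⟨d, e, f, rfl⟩ := ici9_decomp hR
      by_cases hc0 : c = 0
      · subst hc0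
        rw [goodG2.xG_zero, one_mul] at hv1 ⊢
        by_cases hd : d = 0
        · subst hd
          rw [goodG2.xG_zero, one_mul] at hv1 ⊢
          by_cases he : e = 0
          · subst he
            rw [goodG2.xG_zero, one_mul] at hv1 ⊢
            exact ⟨11, f, by simp, fun h => hv1 (by rw [h, goodG2.xG_zero]), Conj2.refl _⟩
          · refine ⟨10, e, by simp, he, conj2_step (r := 6) (by decide) (f / e) ?_⟩
            rw [map_mul, c6_10, conjId (r := 11) (by decide) (by decide) (by decide +kernel), div_mul_cancel₀ _ he,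
              mul_assoc, goodG2.xG_add, CharTwo.add_self_eq_zero, goodG2.xG_zero, mul_one]
        · refine ⟨9, d, by simp, hd, (conj2_step (r := 7) (by decide) (e / d) rfl).trans
            (conj2_step (r := 8) (by decide) (f / d) ?_)⟩
          simp only [map_mul, c7_9, conjId (r := 10) (s := 7) (by decide) (by decide) (by decide +kernel),
            conjId (r := 11) (s := 7) (by decide) (by decide) (by decide +kernel), c8_9,
            conjId (r := 10) (s := 8) (by decide) (by decide) (by decide +kernel),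
            conjId (r := 11) (s := 8) (by decide) (by decide) (by decide +kernel), div_mul_cancel₀ _ hd]
          rw [mul_assoc (goodG2.xG 9 d * goodG2.xG 11 f), ← mul_assoc (goodG2.xG 10 e) (goodG2.xG 10 e),
            goodG2.xG_add, CharTwo.add_self_eq_zero, goodG2.xG_zero, one_mul, mul_assoc, goodG2.xG_add,
            CharTwo.add_self_eq_zero, goodG2.xG_zero, mul_one]
      · -- a Weyl element moves the short root `a + b` to `a`
        have hn : goodG2.nI (F := F) ⟨1, by decide⟩ ∈ chevG2.group F :=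
          goodG2.monomial_le_group (goodG2.nI_mem _)
        have hact := goodG2.acts_nI (F := F) ⟨1, by decide⟩
        have hperm : ∀ r : Fin chevG2.nroots, r.val ∈ [8, 9, 10, 11] →
            (goodG2.rperm ⟨1, by decide⟩ r).val = nth 0 [7, 9, 11, 10] (r.val - 8) := by
          intro r hr
          rw [goodG2.rperm_tab checksG2 structChecksG2]
          revert r
          decide +kernel
        obtain ⟨k8, h8⟩ := hact ⟨8, by decide⟩
        obtain ⟨k9, h9⟩ := hact ⟨9, by decide⟩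
        obtain ⟨k10, h10⟩ := hact ⟨10, by decide⟩
        obtain ⟨k11, h11⟩ := hact ⟨11, by decide⟩
        simp only [hperm ⟨8, by decide⟩ (by simp), hperm ⟨9, by decide⟩ (by simp),
          hperm ⟨10, by decide⟩ (by simp), hperm ⟨11, by decide⟩ (by simp)] at h8 h9 h10 h11
        have he : Conj2 (goodG2.xG 8 c * (goodG2.xG 9 d * (goodG2.xG 10 e * goodG2.xG 11 f)))
            (goodG2.xG 7 (k8 * c) * (goodG2.xG 9 (k9 * d) * (goodG2.xG 10 (k11 * f) * goodG2.xG 11 (k10 * e)))) := by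
          refine ⟨_, hn, ?_⟩
          rw [← comm2 (r := 10) (s := 11) (by decide) (by decide) (by decide +kernel)]
          rw [show ∀ n A B C E : GL chevG2.Idx F, n * (A * (B * (C * E))) * n⁻¹ =
            (n * A * n⁻¹) * ((n * B * n⁻¹) * ((n * C * n⁻¹) * (n * E * n⁻¹))) from fun n A B C E => by group,
            h8 c, h9 d, h10 e, h11 f]
          rfl
        have hne : (k8 : F) * c ≠ 0 := mul_ne_zero k8.ne_zero hc0
        exact ⟨7, _, by simp, hne, he.trans (seven_case hne _ _ _ (hsq he))⟩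
    · obtain ⟨R', hR', he⟩ : ∃ R' ∈ rootGen chevG2 F (Set.Ici 9),
          MulAut.conj (goodG2.xG 7 (c / a)) (goodG2.xG 6 a * (goodG2.xG 8 c * R)) = goodG2.xG 6 a * R' := by
        refine ⟨?_, ?_, ?_⟩
        rotate_left 2
        · rw [map_mul, map_mul, c7_6, c7_8, div_mul_cancel₀ _ ha]
          rw [show ∀ x A B C E H P Q S : GL chevG2.Idx F, x * (A * (B * (C * E))) * ((H * (P * Q)) * S) =
            x * ((A * H) * ((H⁻¹ * (B * (C * E)) * H) * (P * Q * S))) from fun x A B C E H P Q S => by group,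
            goodG2.xG_add, CharTwo.add_self_eq_zero, goodG2.xG_zero, one_mul]
        · refine mul_mem ?_ (mul_mem (mul_mem (hR9 10 (by simp) _) (hR9 11 (by simp) _))
            (hN 7 (by omega) (by omega) _ R hR))
          have := hN 8 (by omega) (by omega) (-c) _
            (mul_mem (hR9 9 (by simp) ((c / a) ^ 2 * a)) (mul_mem (hR9 10 (by simp) ((c / a) ^ 3 * a))
              (hR9 11 (by simp) ((c / a) ^ 3 * a ^ 2))))
          rwa [MulAut.conj_apply, ← goodG2.xG_inv, inv_inv] at this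
      obtain ⟨d, e, f, rfl⟩ := ici9_decomp hR'
      have h1 : Conj2 _ _ := conj2_step (r := 7) (by decide) (c / a) he
      rcases six_case ha d e f (hsq h1) with h2 | ⟨hd, h2⟩
      · exact ⟨6, a, by simp, ha, h1.trans h2⟩
      · exact ⟨9, d, by simp, hd, h1.trans h2⟩
  · obtain rfl : a = 0 := hab.resolve_right hb
    rw [goodG2.xG_zero, one_mul] at hsq ⊢
    obtain ⟨R', hR', he⟩ : ∃ R' ∈ rootGen chevG2 F (Set.Ici 9),
        MulAut.conj (goodG2.xG 6 (c / b)) (goodG2.xG 7 b * (goodG2.xG 8 c * R)) = goodG2.xG 7 b * R' := by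
      refine ⟨?_, ?_, ?_⟩
      rotate_left 2
      · rw [map_mul, map_mul, c6_7, conjId (r := 8) (by decide) (by decide) (by decide +kernel),
          div_mul_cancel₀ _ hb]
        rw [show ∀ x A B C H S : GL chevG2.Idx F, x * (A * (B * C)) * (H * S) =
          x * ((A * H) * ((H⁻¹ * (B * C) * H) * S)) from fun x A B C H S => by group,
          goodG2.xG_add, CharTwo.add_self_eq_zero, goodG2.xG_zero, one_mul]
      · refine mul_mem ?_ (hN 6 (by omega) (by omega) _ R hR)
        have := hN 8 (by omega) (by omega) (-c) _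
          (mul_mem (hR9 9 (by simp) (c / b * b ^ 2)) (hR9 10 (by simp) (c / b * b ^ 3)))
        rwa [MulAut.conj_apply, ← goodG2.xG_inv, inv_inv] at this
    obtain ⟨d, e, f, rfl⟩ := ici9_decomp hR'
    have h1 : Conj2 _ _ := conj2_step (r := 6) (by decide) (c / b) he
    exact ⟨7, b, by simp, hb, h1.trans (seven_case hb d e f (hsq h1))⟩

/-- Conjugating a root element by a fundamental Weyl element. -/
theorem conj2_weyl (i : Fin chevG2.rank) {r k : ℕ} (hr : r < chevG2.nroots) (hk : refl sdataG2 i r = k)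
    {c : F} (hc : c ≠ 0) : ∃ c' : F, c' ≠ 0 ∧ Conj2 (goodG2.xG r c) (goodG2.xG k c') := by
  obtain ⟨u, hu⟩ := goodG2.acts_nI (F := F) i ⟨r, hr⟩
  refine ⟨u * c, mul_ne_zero u.ne_zero hc, _, goodG2.monomial_le_group (goodG2.nI_mem i), ?_⟩
  have := hu c
  rw [goodG2.rperm_tab checksG2 structChecksG2] at this
  rw [← hk]
  exact this

theorem root_conj_rep {r : ℕ} (hr : r ∈ [6, 7, 9, 10, 11]) {c : F} (hc : c ≠ 0) :
    Conj2 (goodG2.xG r c) (goodG2.xG 11 1) ∨ Conj2 (goodG2.xG r c) (goodG2.xG 9 1) := by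
  obtain ⟨h12, -, h2⟩ := g2_facts
  have scale : ∀ (k : ℕ) (i : Fin chevG2.rank), k < chevG2.nroots → chevG2.cartan i k = 1 →
      ∀ d : F, d ≠ 0 → Conj2 (goodG2.xG k d) (goodG2.xG k 1) := by
    intro k i hk hi d hd
    refine ⟨torHom chevG2 F (Pi.mulSingle i (Units.mk0 d hd)⁻¹),
      goodG2.diagonal_le_group (goodG2.torHom_mem _), ?_⟩
    rw [goodG2.torHom_conj_xG _ hk]
    congr 1
    rw [torHom_char goodG2 (Pi.mulSingle i (Units.mk0 d hd)⁻¹) hi fun j hj => Or.inl (Pi.mulSingle_eq_of_ne hj _),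
      Pi.mulSingle_eq_same]
    simp [hd]
  have s11 := scale 11 ⟨1, by decide⟩ (by omega) (by decide +kernel)
  have s9 := scale 9 ⟨0, by decide⟩ (by omega) (by decide +kernel)
  simp only [List.mem_cons, List.not_mem_nil, or_false] at hr
  rcases hr with rfl | rfl | rfl | rfl | rfl
  · left
    obtain ⟨d, hd, e1⟩ := conj2_weyl (F := F) ⟨0, by decide⟩ (r := 6) (k := 10) (by omega) (by decide +kernel) hc
    obtain ⟨d', hd', e2⟩ := conj2_weyl (F := F) ⟨1, by decide⟩ (r := 10) (k := 11) (by omega) (by decide +kernel) hd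
    exact (e1.trans e2).trans (s11 d' hd')
  · right
    obtain ⟨d, hd, e1⟩ := conj2_weyl (F := F) ⟨1, by decide⟩ (r := 7) (k := 8) (by omega) (by decide +kernel) hc
    obtain ⟨d', hd', e2⟩ := conj2_weyl (F := F) ⟨0, by decide⟩ (r := 8) (k := 9) (by omega) (by decide +kernel) hd
    exact (e1.trans e2).trans (s9 d' hd')
  · exact Or.inr (s9 c hc)
  · left
    obtain ⟨d, hd, e1⟩ := conj2_weyl (F := F) ⟨1, by decide⟩ (r := 10) (k := 11) (by omega) (by decide +kernel) hc
    exact e1.trans (s11 d hd)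
  · exact Or.inl (s11 c hc)

/-- Every involution is conjugate to one of the two representatives. -/
theorem involution_classes {x : GL chevG2.Idx F} (hx : x ∈ chevG2.group F) (ho : orderOf x = 2) :
    Conj2 x (goodG2.xG 11 1) ∨ Conj2 x (goodG2.xG 9 1) := by
  haveI : Fact (Nat.Prime 2) := ⟨Nat.prime_two⟩
  have hc : HasComm chevG2 := hasComm_of_mem (by simp)
  have hx2 : x * x = 1 := by rw [← sq, ← ho, pow_orderOf_eq_one]
  obtain ⟨P, hP⟩ := CfsgLib.KnownA.Chev.exists_sylow_posUnipotent goodG2 (F := F) hc 2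
  obtain ⟨xx, hxx⟩ : ∃ xx : ↥(chevG2.group F), xx = ⟨x, hx⟩ := ⟨_, rfl⟩
  have hzp : IsPGroup 2 (Subgroup.zpowers xx) :=
    IsPGroup.of_card (n := 1) (by rw [Nat.card_zpowers, pow_one, ← Subgroup.orderOf_coe, hxx]; exact ho)
  obtain ⟨Q, hQ⟩ := hzp.exists_le_sylow
  obtain ⟨k, hk⟩ := MulAction.exists_smul_eq (↥(chevG2.group F)) Q P
  have hmem : k * xx * k⁻¹ ∈ (P : Subgroup ↥(chevG2.group F)) := by
    rw [← hk, Sylow.coe_subgroup_smul]
    exact ⟨xx, hQ (Subgroup.mem_zpowers _), rfl⟩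
  rw [hP, Subgroup.mem_subgroupOf, Subgroup.coe_mul, Subgroup.coe_mul, Subgroup.coe_inv, hxx] at hmem
  have h1 : Conj2 x ((k : GL chevG2.Idx F) * x * (k : GL chevG2.Idx F)⁻¹) := ⟨k, k.2, rfl⟩
  have hne : x ≠ 1 := fun h => by rw [h, orderOf_one] at ho; omega
  obtain ⟨r, c, hr, hc0, h2⟩ := invol_conj_root hmem (fun h => hne (conj_eq_one_iff.1 h)) (by
    rw [show ∀ k : GL chevG2.Idx F, k * x * k⁻¹ * (k * x * k⁻¹) = k * (x * x) * k⁻¹ from fun k => by group, hx2]
    group)
  rcases root_conj_rep hr hc0 with h3 | h3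
  · exact Or.inl ((h1.trans h2).trans h3)
  · exact Or.inr ((h1.trans h2).trans h3)

theorem long_not_conj_short : ¬ Conj2 (goodG2.xG 11 (1 : F)) (goodG2.xG 9 (1 : F)) := by
  rintro ⟨x, hx, he⟩
  have hc : HasComm chevG2 := hasComm_of_mem (by simp)
  obtain ⟨h12, h6, -⟩ := g2_facts
  obtain ⟨b, hb, n, hn, π, hπw, hπ, w, hw, rfl⟩ := goodG2.exists_canonical hc hx
  obtain ⟨v, hv, h, hh, rfl⟩ := goodG2.mem_borel.1 hb
  have hcomm : ∀ y ∈ chevG2.posUnipotent F, ∀ t : F, Commute y (goodG2.xG 11 t) := fun y hy t =>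
    commute_parK goodG2 hc (J := []) (by simp) (by omega) (by decide +kernel) t (Subgroup.mem_sup_left hy)
  obtain ⟨c, hcc⟩ := hπ ⟨11, by omega⟩
  obtain ⟨d, hd⟩ := goodG2.diagonal_conj_xG (F := F) hh (π ⟨11, by omega⟩).2 ((c : F) * 1)
  have hw' := hcomm w (goodG2.minus_le_pos π hw) 1
  have he' : v * goodG2.xG (π ⟨11, by omega⟩).val ((d : F) * ((c : F) * 1)) * v⁻¹ = goodG2.xG 9 1 := by
    rw [← hd, ← hcc 1, ← he]
    calc v * (h * (n * goodG2.xG 11 1 * n⁻¹) * h⁻¹) * v⁻¹
        = v * h * n * (goodG2.xG 11 1 * w) * w⁻¹ * n⁻¹ * h⁻¹ * v⁻¹ := by group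
      _ = v * h * n * (w * goodG2.xG 11 1) * w⁻¹ * n⁻¹ * h⁻¹ * v⁻¹ := by rw [hw'.eq]
      _ = _ := by group
  have hlong : ∀ (l : List (Fin chevG2.rank)),
      (goodG2.wperm l ⟨11, by omega⟩).val ∈ [0, 1, 5, 6, 10, 11] := by
    intro l
    induction l with
    | nil => simp [Good.wperm_nil]
    | cons i l ih =>
      rw [goodG2.wperm_cons, Equiv.Perm.mul_apply, goodG2.rperm_tab checksG2 structChecksG2]
      have key : ∀ i : Fin chevG2.rank, ∀ a ∈ [0, 1, 5, 6, 10, 11], refl sdataG2 i a ∈ [0, 1, 5, 6, 10, 11] := by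
        decide +kernel
      exact key i _ ih
  obtain ⟨l, hl⟩ := goodG2.exists_wperm hπw
  have hmem := hlong l
  rw [hl] at hmem
  obtain ⟨r, hr⟩ : ∃ r, r = (π ⟨11, by omega⟩).val := ⟨_, rfl⟩
  rw [← hr] at he' hmem
  have hrn : r < chevG2.nroots := hr ▸ (π ⟨11, by omega⟩).2
  have hne : (d : F) * ((c : F) * 1) ≠ 0 := by simp
  by_cases hrp : r < half chevG2
  · have h2 : goodG2.xG r ((d : F) * ((c : F) * 1)) = v⁻¹ * goodG2.xG 9 1 * v := by rw [← he']; group
    have h3 : goodG2.xG r ((d : F) * ((c : F) * 1)) ∈ chevG2.borelSubgroup F ⊓ chevG2.negUnipotent F := by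
      refine Subgroup.mem_inf.2 ⟨h2 ▸ mul_mem (mul_mem (inv_mem (Subgroup.mem_sup_left hv)) ?_)
        (Subgroup.mem_sup_left hv), goodG2.xG_mem_negUnipotent ((goodG2.isNegRoot_iff _).2 hrp) _⟩
      exact Subgroup.mem_sup_left (goodG2.xG_mem_posUnipotent ((goodG2.isPosRoot_iff _).2 ⟨by omega, by omega⟩) _)
    rw [goodG2.borel_inf_neg, Subgroup.mem_bot] at h3
    exact hne ((goodG2.x_eq_one_iff hrn _).1 (congrArg Units.val h3))
  · have hK : ∀ m, half chevG2 ≤ m → ∀ t : F, r < chevG2.nroots → m ≤ r →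
        v * goodG2.xG r t * v⁻¹ ∈ rootGen chevG2 F (Set.Ici m) := fun m hm t hr' hmr =>
      (Subgroup.mem_normalizer_iff.1 (goodG2.pos_le_normalizer hc hm hv) _).1 (goodG2.mem_rootGen hr' hmr t)
    simp only [List.mem_cons, List.not_mem_nil, or_false] at hmem
    rcases (show r = 6 ∨ r = 10 ∨ r = 11 by omega) with h6' | h10 | h10
    · subst h6'
      have h4 : goodG2.xG 6 ((d : F) * ((c : F) * 1)) ∈ rootGen chevG2 F (Set.Ici 9) := by
        rw [show goodG2.xG 6 ((d : F) * ((c : F) * 1)) = v⁻¹ * goodG2.xG 9 1 * v⁻¹⁻¹ by rw [← he']; group]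
        exact (Subgroup.mem_normalizer_iff.1 (goodG2.pos_le_normalizer hc (m := 9) (by omega) (inv_mem hv)) _).1
          (goodG2.mem_rootGen (by omega) (le_refl 9 : 9 ∈ Set.Ici 9) _)
      exact hne (goodG2.Ici_unique (m := 6) (b := (0 : F)) (y := 1) (by omega) (by omega) (one_mem _)
        (goodG2.rootGen_mono (fun k hk _ => le_trans (by omega : 6 + 1 ≤ 9) hk) h4)
        (by rw [goodG2.xG_zero, one_mul, mul_one])).1
    all_goals
      have h4 := hK 10 (by omega) ((d : F) * ((c : F) * 1)) hrn (by omega)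
      rw [he'] at h4
      refine one_ne_zero (α := F) ((goodG2.Ici_unique (m := 9) (b := (0 : F)) (by omega) (by omega)
        (one_mem _) h4 ?_).1)
      rw [goodG2.xG_zero, one_mul, mul_one]

end CfsgLib.Classical.ChevFix
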