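import Mathlib
import Cfsg.Agent.Lib.Classical.ChevFieldFix
import Cfsg.Agent.Lib.Chev.Simple

/-!
The centraliser and the normaliser of a group between a finite Chevalley group and the fixed points of a field map.
-/

set_option autoImplicit false

namespace CfsgLib.Classical.ChevFix

open Cfsg.Lie Matrix CfsgLib.Chev

universe u

variable {D : ChevalleyDatum} (g : Good D) {F : Type u} [Field F]

include g

/-- The subgroup generated by the root elements with coordinate fixed by `f`. -/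
def rootFix (f : F →+* F) : Subgroup (GL D.Idx F) :=
  Subgroup.closure {x | ∃ (r : ℕ) (t : F), r < D.nroots ∧ f t = t ∧ x = g.xG r t}

theorem xG_mem_rootFix {f : F →+* F} {r : ℕ} (hr : r < D.nroots) {t : F} (ht : f t = t) :
    g.xG r t ∈ rootFix g f :=
  Subgroup.subset_closure ⟨r, t, hr, ht, rfl⟩

theorem rootFix_le (f : F →+* F) {K : Subgroup (GL D.Idx F)}
    (h : ∀ r < D.nroots, ∀ t : F, f t = t → g.xG r t ∈ K) : rootFix g f ≤ K := by
  refine (Subgroup.closure_le _).2 ?_
  rintro x ⟨r, t, hr, ht, rfl⟩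
  exact h r hr t ht

/-- An element of the group commuting with all root elements `x_r(1)` is trivial. -/
theorem eq_one_of_commute (hc : HasComm D) {x : GL D.Idx F} (hx : x ∈ D.group F)
    (h : ∀ r < D.nroots, Commute x (g.xG r (1 : F))) : x = 1 := by
  obtain ⟨b, hb, n, hn, π, hπw, hπ, u, hu, rfl⟩ := g.exists_canonical hc hx
  have hplus : ∀ a : Fin D.nroots, half D ≤ a.val → half D ≤ (π a).val := by
    intro a ha
    by_contra hneg
    have hmem : g.xG a (1 : F) ∈ rootGen D F (minusSet π) :=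
      g.mem_rootGen a.2 (show (a : ℕ) ∈ minusSet π from ⟨a.2, ha, Nat.not_le.1 hneg⟩) 1
    have hxb : g.xG a (1 : F) * b ∈ D.borelSubgroup F :=
      mul_mem (Subgroup.mem_sup_left (g.xG_mem_posUnipotent ((g.isPosRoot_iff _).2 ⟨ha, a.2⟩) 1)) hb
    have he : g.xG a (1 : F) * b * n * u = b * n * (u * g.xG a 1) :=
      calc g.xG a (1 : F) * b * n * u = g.xG a 1 * (b * n * u) := by simp only [mul_assoc]
        _ = b * n * u * g.xG a 1 := (h a a.2).eq.symm
        _ = b * n * (u * g.xG a 1) := mul_assoc _ _ _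
    obtain ⟨-, e2⟩ := g.canonical_unique hxb hb hπ hu (mul_mem hu hmem) he
    have h1 : g.xG a (1 : F) = 1 := left_eq_mul.1 e2
    exact one_ne_zero ((g.x_eq_one_iff a.2 _).1 (congrArg Units.val h1))
  have hπ1 : π = 1 := g.eq_one_of_pos hπw hplus
  have hu1 : u = 1 := by
    have : rootGen D F (minusSet π) ≤ ⊥ := g.rootGen_le fun r hr _ t => by
      obtain ⟨h1, h2, h3⟩ := hr
      have := hplus ⟨r, h1⟩ h2
      omega
    exact Subgroup.mem_bot.1 (this hu)
  subst hu1
  simp only [mul_one] at h ⊢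
  have hnH : n ∈ D.diagonalSubgroup F := by
    have h1 : (⟨n, hn⟩ : ↥(D.monomialSubgroup F)) ∈ (g.rootAct (F := F)).ker :=
      Subtype.ext ((g.rootAct_eq (x := ⟨n, hn⟩) hπ).trans hπ1)
    rw [g.rootAct_ker] at h1
    exact h1
  obtain ⟨v, hv, t, ht, hbn⟩ := g.mem_borel.1 (mul_mem hb (Subgroup.mem_sup_right hnH) :
    b * n ∈ D.borelSubgroup F)
  rw [← hbn] at h ⊢
  have hxn : ∀ r < D.nroots, ∀ e : F, (e = 1 ∨ e = -1) → Commute (v * t) (g.xG r e) := by
    intro r hr e he
    rcases he with rfl | rfl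
    · exact h r hr
    · rw [← g.xG_inv]; exact (h r hr).inv_right
  have hnI : ∀ i : Fin D.rank, Commute (v * t) (g.nI i) := fun i => by
    have hs := g.simple_lt i.2
    rw [Good.nI, Good.nG]
    exact ((hxn _ hs _ (Or.inl (by simp))).mul_right (hxn _ (g.neg_lt hs) _ (Or.inr (by simp)))).mul_right
      (hxn _ hs _ (Or.inl (by simp)))
  obtain ⟨l, hl⟩ := g.exists_longest
  have hw : Commute (v * t) (g.wordN (F := F) l) := by
    clear hl
    induction l with
    | nil => rw [g.wordN_nil]; exact Commute.one_right _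
    | cons i l ih => rw [g.wordN_cons]; exact (hnI i).mul_right ih
  have hvneg : g.wordN l * v * (g.wordN l)⁻¹ ∈ D.negUnipotent F := by
    rw [g.negUnipotent_eq]
    refine g.conj_rootGen (g.acts_wordN l) (S := Set.Ici (half D)) (fun s hs => hl s hs) ?_
    rw [g.posUnipotent_eq] at hv
    exact Subgroup.mem_map_of_mem (MulAut.conj (g.wordN l)).toMonoidHom hv
  have hv1 : v = 1 := by
    have e : g.wordN l * v * (g.wordN l)⁻¹ = v * t * (g.wordN l * t * (g.wordN l)⁻¹)⁻¹ :=
      calc g.wordN l * v * (g.wordN l)⁻¹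
          = g.wordN l * (v * t) * (g.wordN l)⁻¹ * (g.wordN l * t * (g.wordN l)⁻¹)⁻¹ := by group
        _ = _ := by rw [← hw.eq, mul_inv_cancel_right]
    have h2 : g.wordN l * v * (g.wordN l)⁻¹ ∈ D.borelSubgroup F ⊓ D.negUnipotent F := by
      refine Subgroup.mem_inf.2 ⟨?_, hvneg⟩
      rw [e]
      exact mul_mem (g.mem_borel.2 ⟨v, hv, t, ht, rfl⟩)
        (inv_mem (Subgroup.mem_sup_right (g.diag_conj (g.wordN_mem l) ht)))
    rw [g.borel_inf_neg, Subgroup.mem_bot, conj_eq_one_iff] at h2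
    exact h2
  subst hv1
  simp only [one_mul] at h ⊢
  refine g.diagonal_eq_one_of_central ht fun r hr s => ?_
  obtain ⟨c, rfl⟩ := (g.diagonal_eq_range (F := F) ▸ ht : t ∈ (torHom D F).range)
  have h1 := g.torHom_conj_xG c hr (1 : F)
  rw [(h r hr).eq, mul_inv_cancel_right] at h1
  rw [g.torHom_conj_xG c hr s]
  congr 1
  have hx : (1 : F) = ((∏ i : Fin D.rank, c i ^ D.cartan i r : Fˣ) : F) * 1 := by
    by_contra hne
    have h2 : g.xG r (((∏ i : Fin D.rank, c i ^ D.cartan i r : Fˣ) : F) * 1 + -1) = 1 := by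
      rw [← g.xG_add, ← h1, g.xG_add, add_neg_cancel, g.xG_zero]
    have h3 := (g.x_eq_one_iff hr _).1 (congrArg Units.val h2)
    exact hne (eq_of_sub_eq_zero (by rw [sub_eq_add_neg]; exact h3)).symm
  rw [mul_one] at hx
  rw [← hx, one_mul]

/-- A fixed element is a product of root elements with fixed coordinates and a fixed element of the torus. -/
theorem fixed_decomp (hc : HasComm D) (f : F →+* F) {x : GL D.Idx F} (hxG : x ∈ D.group F)
    (hxf : Matrix.GeneralLinearGroup.map f x = x) :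
    ∃ a ∈ rootFix g f, ∃ h ∈ D.diagonalSubgroup F, Matrix.GeneralLinearGroup.map f h = h ∧
      ∃ c ∈ rootFix g f, x = a * h * c := by
  have hnG : ∀ r < D.nroots, ∀ c : Fˣ, f (c : F) = c → g.nG r c ∈ rootFix g f := fun r hr c hcc => by
    rw [Good.nG]
    refine mul_mem (mul_mem (xG_mem_rootFix g hr hcc) (xG_mem_rootFix g (g.neg_lt hr) ?_)) (xG_mem_rootFix g hr hcc)
    rw [map_neg, Units.val_inv_eq_inv_val, map_inv₀, hcc]
  have hword : ∀ l : List (Fin D.rank), g.wordN (F := F) l ∈ rootFix g f ∧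
      Matrix.GeneralLinearGroup.map f (g.wordN (F := F) l) = g.wordN l := by
    intro l
    induction l with
    | nil => rw [g.wordN_nil]; exact ⟨one_mem _, map_one _⟩
    | cons i l ih =>
      rw [g.wordN_cons]
      refine ⟨mul_mem (hnG _ (g.simple_lt i.2) 1 (by simp)) ih.1, ?_⟩
      rw [map_mul, ih.2]
      congr 1
      have hs := g.simple_lt i.2
      rw [Good.nI, Good.nG, map_mul, map_mul, map_xG g f hs, map_xG g f (g.neg_lt hs), map_neg]
      simp
  have hUfix : ∀ u ∈ rootGen D F (Set.Ici (half D)), Matrix.GeneralLinearGroup.map f u = u →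
      u ∈ rootFix g f := by
    intro u hu hfu
    obtain ⟨t, rfl⟩ := g.exists_xProd hc le_rfl hu
    have hmap : Matrix.GeneralLinearGroup.map f (g.xProd t (half D)) = g.xProd (fun r => f (t r)) (half D) := by
      rw [Good.xProd, Good.xProd, map_list_prod, List.map_map]
      refine congrArg List.prod (List.map_congr_left fun r hr => ?_)
      rw [List.mem_range'_1] at hr
      exact map_xG g f (by omega) _
    rw [hmap] at hfu
    rw [Good.xProd]
    refine Subgroup.list_prod_mem _ fun y hy => ?_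
    obtain ⟨r, hr, rfl⟩ := List.mem_map.1 hy
    rw [List.mem_range'_1] at hr
    exact xG_mem_rootFix g (by omega) (g.xProd_inj le_rfl hfu hr.1 (by omega))
  obtain ⟨b, hb, n, hn, π, -, hπ, u, hu, rfl⟩ := g.exists_canonical hc hxG
  obtain ⟨l, hl⟩ := g.exists_wordN hn
  obtain ⟨w, hw⟩ : ∃ w, w = g.wordN (F := F) l := ⟨_, rfl⟩
  rw [← hw] at hl
  have hwπ : g.Acts w π := by
    have h1 := g.acts_mul hπ (g.acts_inv (g.acts_diagonal hl))
    rwa [inv_one, mul_one, _root_.mul_inv_rev, inv_inv, ← mul_assoc, mul_inv_cancel, one_mul] at h1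
  obtain ⟨b', hb'mem, hb'⟩ : ∃ b' ∈ D.borelSubgroup F, b * n * u = b' * w * u := by
    refine ⟨b * (w * (w⁻¹ * n) * w⁻¹), mul_mem hb (Subgroup.mem_sup_right (g.diag_conj (hw ▸ g.wordN_mem l) hl)),
      ?_⟩
    group
  rw [hb'] at hxf ⊢
  rw [map_mul, map_mul, hw, (hword l).2, ← hw] at hxf
  obtain ⟨v, hv, h, hh, rfl⟩ := g.mem_borel.1 hb'mem
  have hh' : Matrix.GeneralLinearGroup.map f h ∈ D.diagonalSubgroup F := by
    rw [g.diagonal_eq_range] at hh ⊢
    obtain ⟨c, rfl⟩ := hh
    exact ⟨_, (map_torHom f c).symm⟩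
  have hv' : Matrix.GeneralLinearGroup.map f v ∈ D.posUnipotent F := by
    rw [g.posUnipotent_eq] at hv ⊢
    exact map_rootGen g f hv
  rw [map_mul] at hxf
  obtain ⟨e1, e2⟩ := g.canonical_unique (g.mem_borel.2 ⟨_, hv', _, hh', rfl⟩)
    (g.mem_borel.2 ⟨v, hv, _, hh, rfl⟩) hwπ (map_rootGen g f hu) hu hxf
  have e3 : v⁻¹ * Matrix.GeneralLinearGroup.map f v ∈ D.posUnipotent F ⊓ D.diagonalSubgroup F := by
    refine Subgroup.mem_inf.2 ⟨mul_mem (inv_mem hv) hv', ?_⟩
    rw [show v⁻¹ * Matrix.GeneralLinearGroup.map f v = h * (Matrix.GeneralLinearGroup.map f h)⁻¹ by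
      rw [eq_mul_inv_iff_mul_eq, mul_assoc, e1, inv_mul_cancel_left]]
    exact mul_mem hh (inv_mem hh')
  rw [g.pos_inf_diagonal, Subgroup.mem_bot, inv_mul_eq_one] at e3
  rw [← e3] at e1
  refine ⟨v, hUfix v (by rwa [← g.posUnipotent_eq]) e3.symm, h, hh, mul_left_cancel e1, w * u,
    mul_mem (hw ▸ (hword l).1) (hUfix u ?_ e2), by rw [mul_assoc]⟩
  rw [← g.posUnipotent_eq]
  exact g.minus_le_pos π hu

/-- Between the group over the fixed field and the fixed points, subgroups are normal in the fixed points. -/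
theorem conj_mem_of_fixed (hc : HasComm D) (f : F →+* F) {K : Subgroup (GL D.Idx F)} (hK : K ≤ D.group F)
    (hL : rootFix g f ≤ K) (hfix : ∀ y ∈ K, Matrix.GeneralLinearGroup.map f y = y) {x : GL D.Idx F}
    (hxG : x ∈ D.group F) (hxf : Matrix.GeneralLinearGroup.map f x = x) {y : GL D.Idx F} (hy : y ∈ K) :
    x * y * x⁻¹ ∈ K := by
  obtain ⟨a, ha, h, hh, hhf, c, hc', rfl⟩ := fixed_decomp g hc f hxG hxf
  have hconj : ∀ t ∈ D.diagonalSubgroup F, Matrix.GeneralLinearGroup.map f t = t →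
      ∀ z ∈ rootFix g f, t * z * t⁻¹ ∈ rootFix g f := by
    intro t ht htf z hz
    refine rootFix_le g f (K := (rootFix g f).comap (MulAut.conj t).toMonoidHom) (fun r hr s hs => ?_) hz
    obtain ⟨e, he⟩ := g.diagonal_conj_xG ht hr s
    show t * g.xG r s * t⁻¹ ∈ rootFix g f
    rw [he]
    refine xG_mem_rootFix g hr ?_
    have h1 : g.xG r (f ((e : F) * s)) = g.xG r ((e : F) * s) := by
      rw [← map_xG g f hr, ← he, map_mul, map_mul, map_inv, htf, map_xG g f hr, hs]
    by_contra hne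
    have h2 : g.xG r (f ((e : F) * s) + -((e : F) * s)) = 1 := by
      rw [← g.xG_add, h1, g.xG_add, add_neg_cancel, g.xG_zero]
    exact hne (eq_of_sub_eq_zero (by rw [sub_eq_add_neg]; exact (g.x_eq_one_iff hr _).1 (congrArg Units.val h2)))
  obtain ⟨z, hz⟩ : ∃ z, z = c * y * c⁻¹ := ⟨_, rfl⟩
  have hzK : z ∈ K := hz ▸ mul_mem (mul_mem (hL hc') hy) (inv_mem (hL hc'))
  obtain ⟨a', ha', h', hh', -, c', hc'', hz'⟩ := fixed_decomp g hc f (hK hzK) (hfix z hzK)
  have hh'K : h' ∈ K := by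
    have : h' = a'⁻¹ * z * c'⁻¹ := by rw [hz']; group
    rw [this]
    exact mul_mem (mul_mem (inv_mem (hL ha')) hzK) (inv_mem (hL hc''))
  have hkey : h * z * h⁻¹ ∈ K := by
    rw [show h * z * h⁻¹ = (h * a' * h⁻¹) * (h * h' * h⁻¹) * (h * c' * h⁻¹) by rw [hz']; group,
      g.diagonal_comm hh hh', mul_inv_cancel_right]
    exact mul_mem (mul_mem (hL (hconj h hh hhf a' ha')) hh'K) (hL (hconj h hh hhf c' hc''))
  rw [show a * h * c * y * (a * h * c)⁻¹ = a * (h * z * h⁻¹) * a⁻¹ by rw [hz]; group]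
  exact mul_mem (mul_mem (hL ha) hkey) (inv_mem (hL ha))

/-- The centraliser is trivial and the normaliser consists of the fixed points. -/
theorem centralizer_normalizer (hc : HasComm D) (f : F →+* F) (K : Subgroup (GL D.Idx F)) (hK : K ≤ D.group F)
    (hL : rootFix g f ≤ K) (hfix : ∀ y ∈ K, Matrix.GeneralLinearGroup.map f y = y) :
    D.group F ⊓ Subgroup.centralizer (K : Set (GL D.Idx F)) = ⊥ ∧
    ∀ x ∈ D.group F, x ∈ Subgroup.normalizer (K : Set (GL D.Idx F)) ↔ Matrix.GeneralLinearGroup.map f x = x := by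
  have hcent : ∀ x ∈ D.group F, x ∈ Subgroup.centralizer (K : Set (GL D.Idx F)) → x = 1 := fun x hx hxc =>
    eq_one_of_commute g hc hx fun r hr =>
      ((Subgroup.mem_centralizer_iff.1 hxc) _ (hL (xG_mem_rootFix g hr (map_one f)))).symm
  have hfG : ∀ x ∈ D.group F, Matrix.GeneralLinearGroup.map f x ∈ D.group F := by
    intro x hx
    refine g.group_le (K := (D.group F).comap (Matrix.GeneralLinearGroup.map f)) (fun r hr t => ?_) hx
    rw [Subgroup.mem_comap, map_xG g f hr]
    exact g.xG_mem_group hr _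
  refine ⟨(Subgroup.eq_bot_iff_forall _).2 fun x hx => hcent x hx.1 hx.2, fun x hx => ⟨fun hn => ?_, fun hxf => ?_⟩⟩
  · refine (inv_mul_eq_one.1 (hcent _ (mul_mem (inv_mem hx) (hfG x hx)) ?_)).symm
    rw [Subgroup.mem_centralizer_iff]
    intro y hy
    have h1 := hfix _ ((Subgroup.mem_normalizer_iff.1 hn y).1 hy)
    rw [map_mul, map_mul, map_inv, hfix y hy, mul_inv_eq_iff_eq_mul] at h1
    rw [mul_assoc x⁻¹, h1]
    group
  · rw [Subgroup.mem_normalizer_iff]
    refine fun y => ⟨fun hy => conj_mem_of_fixed g hc f hK hL hfix hx hxf hy, fun hy => ?_⟩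
    have := conj_mem_of_fixed g hc f hK hL hfix (x := x⁻¹) (inv_mem hx) (by rw [map_inv, hxf]) hy
    simpa [mul_assoc] using this

end CfsgLib.Classical.ChevFix
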