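import Mathlib
import Cfsg.Agent.Lib.Chev.Bruhat
import Cfsg.Agent.Lib.Chev.Good
import Cfsg.Agent.Lib.Chev.CommGood

/-!
Two conjugates of the highest root subgroup.
-/

set_option autoImplicit false

namespace CfsgLib.Classical.ChevFix

open Cfsg.Lie Matrix CfsgLib.Chev

universe u

/-- The check for one negative long root. -/
noncomputable def pairOK (D : ChevalleyDatum) (r : ℕ) : Bool :=
  let S := (D.nroots - 1) :: (fterms D r (D.nroots - 1)).map Prod.fst
  S.all fun t => decide (D.nroots / 2 ≤ t) && !(Nat.beq t (fneg D r)) &&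
    (fterms D r t).all fun c => S.any fun x => Nat.beq x c.1

/-- The check on the orbit of the highest root. -/
noncomputable def longOK (D : ChevalleyDatum) (sd : StructData) (long : ℕ → Bool) : Bool :=
  long (D.nroots - 1) && allR (fun r => !(long r) ||
    (allR (fun i => long (refl sd i r)) (upto D.rank) &&
      (decide (D.nroots / 2 ≤ r) || Nat.beq r 0 || pairOK D r))) (upto D.nroots)

variable {D : ChevalleyDatum} (g : Good D) {F : Type u} [Field F]

include g

theorem half_eq : half D = D.nroots / 2 := by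
  have := g.nroots_eq
  omega

theorem conj_pair_two_group [Fintype F] [CharP F 2] (hc : HasComm D) {dat : LieData} {sd : StructData}
    (hl : LieChecks D dat) (hs : StructChecks D dat sd) {long : ℕ → Bool} (hok : longOK D sd long = true)
    {x : GL D.Idx F} (hx : x ∈ D.group F) :
    IsPGroup 2 ↥(D.rootSubgroup F (D.nroots - 1) ⊔ (D.rootSubgroup F (D.nroots - 1)).map (MulAut.conj x).toMonoidHom) ∨
    ∃ h ∈ D.group F, (D.rootSubgroup F (D.nroots - 1) ⊔
      (D.rootSubgroup F (D.nroots - 1)).map (MulAut.conj x).toMonoidHom).map (MulAut.conj h).toMonoidHom =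
      D.rootSubgroup F (D.nroots - 1) ⊔ D.rootSubgroup F 0 := by
  classical
  have hn := g.nroots_eq
  obtain ⟨top, htop⟩ : ∃ top, top = D.nroots - 1 := ⟨_, rfl⟩
  have htn : top < D.nroots := by omega
  have htp : half D ≤ top := by omega
  rw [← htop]
  -- the highest root subgroup is normal in `B`
  have hXeq : D.rootSubgroup F top = rootGen D F (Set.Ici top) := by
    refine le_antisymm (fun y hy => ?_) (g.rootGen_le fun r hr hr' t => ?_)
    · obtain ⟨t, rfl⟩ := g.mem_rootSubgroup.1 hy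
      exact g.mem_rootGen htn (le_refl top : top ∈ Set.Ici top) t
    · obtain rfl : r = top := le_antisymm (by omega) hr
      exact g.xG_mem_rootSubgroup _ t
  have hBX : D.borelSubgroup F ≤ Subgroup.normalizer (D.rootSubgroup F top : Set (GL D.Idx F)) := by
    rw [hXeq]
    exact sup_le (g.pos_le_normalizer hc htp) (g.diagonal_le_normalizer_rootGen _)
  have hfix : ∀ b ∈ D.borelSubgroup F, (D.rootSubgroup F top).map (MulAut.conj b).toMonoidHom =
      D.rootSubgroup F top := fun b hb => by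
    refine le_antisymm ?_ fun y hy => ⟨b⁻¹ * y * b, ?_, by simp [mul_assoc]⟩
    · rintro _ ⟨y, hy, rfl⟩
      exact (Subgroup.mem_normalizer_iff.1 (hBX hb) y).1 hy
    · have := (Subgroup.mem_normalizer_iff.1 (hBX (inv_mem hb)) y).1 hy
      rwa [inv_inv] at this
  obtain ⟨b, hb, n, hnm, π, hπw, hπ, u, hu, rfl⟩ := g.exists_canonical hc hx
  obtain ⟨r, hr⟩ : ∃ r : ℕ, r = (π ⟨top, htn⟩).val := ⟨_, rfl⟩
  have hnX : (D.rootSubgroup F top).map (MulAut.conj n).toMonoidHom = D.rootSubgroup F r := by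
    obtain ⟨c, hc'⟩ := hπ ⟨top, htn⟩
    refine le_antisymm ?_ fun y hy => ?_
    · rintro _ ⟨y, hy, rfl⟩
      obtain ⟨t, rfl⟩ := g.mem_rootSubgroup.1 hy
      show n * g.xG top t * n⁻¹ ∈ _
      rw [show n * g.xG top t * n⁻¹ = g.xG (π ⟨top, htn⟩) ((c : F) * t) from hc' t, hr]
      exact g.xG_mem_rootSubgroup _ _
    · obtain ⟨t, rfl⟩ := g.mem_rootSubgroup.1 hy
      refine ⟨g.xG top (((c⁻¹ : Fˣ) : F) * t), g.xG_mem_rootSubgroup _ _, ?_⟩
      show n * g.xG top _ * n⁻¹ = _
      rw [show n * g.xG top (((c⁻¹ : Fˣ) : F) * t) * n⁻¹ = g.xG (π ⟨top, htn⟩) ((c : F) * (((c⁻¹ : Fˣ) : F) * t))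
        from hc' _, hr, ← mul_assoc, Units.mul_inv, one_mul]
  have huB : u ∈ D.borelSubgroup F := Subgroup.mem_sup_left (g.minus_le_pos π hu)
  have hP : D.rootSubgroup F top ⊔ (D.rootSubgroup F top).map (MulAut.conj (b * n * u)).toMonoidHom =
      (D.rootSubgroup F top ⊔ D.rootSubgroup F r).map (MulAut.conj b).toMonoidHom := by
    rw [Subgroup.map_sup, hfix b hb, ← hnX, Subgroup.map_map]
    congr 1
    conv_rhs => rw [← hfix u huB, Subgroup.map_map]
    congr 1
    exact MonoidHom.ext fun y => by simp [mul_assoc]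
  rw [hP]
  -- the orbit
  have hall := Bool.and_eq_true_iff.1 hok
  have hlong : long top = true := htop ▸ hall.1
  have hstep : ∀ a : Fin D.nroots, long a = true → (∀ i : Fin D.rank, long (g.rperm i a) = true) ∧
      (half D ≤ a.val ∨ a.val = 0 ∨ pairOK D a = true) := by
    intro a ha
    have h1 := allR_upto hall.2 a.2
    simp only [Bool.or_eq_true, Bool.and_eq_true, ha, Bool.not_true, Bool.false_eq_true, false_or,
      decide_eq_true_eq, Nat.beq_eq] at h1
    refine ⟨fun i => ?_, ?_⟩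
    · rw [g.rperm_val, (StructChecks.refl_facts hl hs i.2 a.2).1]
      exact allR_upto h1.1 i.2
    · rw [half_eq g]; tauto
  obtain ⟨l, rfl⟩ := g.exists_wperm hπw
  have hrlong : ∀ l' : List (Fin D.rank), long (g.wperm l' ⟨top, htn⟩) = true := by
    intro l'
    induction l' with
    | nil => rw [g.wperm_nil]; exact hlong
    | cons i l' ih => rw [g.wperm_cons]; exact (hstep _ ih).1 i
  obtain ⟨-, hcase⟩ := hstep (g.wperm l ⟨top, htn⟩) (hrlong l)
  rw [← hr] at hcase
  have hrn : r < D.nroots := hr ▸ Fin.isLt _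
  obtain ⟨k, -, hk⟩ := FiniteField.card F 2
  have hU : IsPGroup 2 ↥(D.posUnipotent F) :=
    IsPGroup.of_card (n := k * (D.nroots / 2)) (by rw [g.card_posUnipotent hc, hk, ← pow_mul])
  have hXU : ∀ s, half D ≤ s → s < D.nroots → D.rootSubgroup F s ≤ D.posUnipotent F := fun s hs1 hs2 y hy => by
    obtain ⟨t, rfl⟩ := g.mem_rootSubgroup.1 hy
    exact g.xG_mem_posUnipotent ((g.isPosRoot_iff s).2 ⟨hs1, hs2⟩) t
  rcases eq_or_ne r 0 with h0 | h0
  · refine Or.inr ⟨b⁻¹, inv_mem (g.borel_le_group hb), ?_⟩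
    rw [Subgroup.map_map, h0]
    conv_rhs => rw [← Subgroup.map_id (D.rootSubgroup F top ⊔ D.rootSubgroup F 0)]
    congr 1
    exact MonoidHom.ext fun y => by simp [mul_assoc]
  refine Or.inl (IsPGroup.map ?_ _)
  rcases hcase with hpos | hbad | hpair
  · exact hU.to_le (sup_le (hXU top htp htn) (hXU r hpos hrn))
  · exact absurd hbad h0
  by_cases hpos : half D ≤ r
  · exact hU.to_le (sup_le (hXU top htp htn) (hXU r hpos hrn))
  simp only [pairOK, List.all_eq_true, Bool.and_eq_true, decide_eq_true_eq, Bool.not_eq_true', List.any_eq_true,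
    Nat.beq_eq] at hpair
  obtain ⟨S, hS⟩ : ∃ S : List ℕ, S = (D.nroots - 1) :: (fterms D r (D.nroots - 1)).map Prod.fst := ⟨_, rfl⟩
  rw [← hS] at hpair
  have htS : top ∈ S := by rw [hS, htop]; exact List.mem_cons_self ..
  have hSlt : ∀ t ∈ S, t < D.nroots := fun t ht => by
    rw [hS, ← htop, List.mem_cons, List.mem_map] at ht
    rcases ht with rfl | ⟨c, hc', rfl⟩
    · exact htn
    · exact g.fterms_lt hrn htn c hc'
  have hnorm : D.rootSubgroup F r ≤ Subgroup.normalizer (rootGen D F {t | t ∈ S} : Set (GL D.Idx F)) := by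
    refine g.le_normalizer_of_conj fun t htS' ht v w => ?_
    obtain ⟨⟨htp', htne⟩, hterms⟩ := hpair t htS'
    have hne1 : t ≠ r := by rw [half_eq g] at hpos; omega
    have hne2 : t ≠ D.neg r := by
      rw [neg_eq g.lie.pack hrn]
      intro h
      rw [h] at htne
      simp at htne
    rw [g.xG_conj hc ht hrn hne1 hne2]
    refine mul_mem (g.mem_rootGen ht htS' v) (Subgroup.list_prod_mem _ fun y hy => ?_)
    obtain ⟨c, hc', rfl⟩ := List.mem_map.1 hy
    rw [← g.fterms_eq hrn ht] at hc'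
    obtain ⟨z, hz, hzc⟩ := hterms c hc'
    exact g.mem_rootGen (g.fterms_lt hrn ht c hc') (show c.1 ∈ {t | t ∈ S} from hzc ▸ hz) _
  have hKU : rootGen D F {t | t ∈ S} ≤ D.posUnipotent F :=
    g.rootGen_le fun t htS' ht v =>
      g.xG_mem_posUnipotent ((g.isPosRoot_iff t).2 ⟨by rw [half_eq g]; exact (hpair t htS').1.1, ht⟩) v
  have hXr : IsPGroup 2 ↥(D.rootSubgroup F r) := by
    rintro ⟨y, hy⟩
    obtain ⟨t, rfl⟩ := g.mem_rootSubgroup.1 hy
    refine ⟨1, Subtype.ext ?_⟩
    show g.xG r t ^ (2 ^ 1) = 1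
    rw [pow_one, sq, g.xG_add, CharTwo.add_self_eq_zero, g.xG_zero]
  refine (IsPGroup.to_sup_of_normal_right' hXr (hU.to_le hKU) hnorm).to_le (sup_le ?_ le_sup_left)
  intro y hy
  obtain ⟨t, rfl⟩ := g.mem_rootSubgroup.1 hy
  exact Subgroup.mem_sup_right (g.mem_rootGen htn (show top ∈ {t | t ∈ S} from htS) t)

omit g

set_option maxRecDepth 100000

/-- The long roots of G2. -/
noncomputable def longG2 (r : ℕ) : Bool :=
  Nat.beq r 0 || Nat.beq r 1 || Nat.beq r 5 || Nat.beq r 6 || Nat.beq r 10 || Nat.beq r 11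

theorem longOK_G2 : longOK chevG2 sdataG2 longG2 = true := by decide +kernel

theorem longOK_D4 : longOK chevD4 sdataD4 (fun _ => true) = true := by decide +kernel

theorem longOK_E6 : longOK chevE6 sdataE6 (fun _ => true) = true := by decide +kernel

theorem longOK_E7 : longOK chevE7 sdataE7 (fun _ => true) = true := by decide +kernel

theorem longOK_E8 : longOK chevE8 sdataE8 (fun _ => true) = true := by decide +kernel

end CfsgLib.Classical.ChevFix
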