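import Mathlib
import Cfsg.Agent.Lib.Classical.ChevLowCent
import Cfsg.Agent.Lib.Chev.Good
import Cfsg.Agent.Lib.Chev.CommGood

/-!
Centralisers of the involutions x₃₉(1)x₄₅(1) of F4 and x₉(1) of G2 in characteristic two.
-/

set_option autoImplicit false

namespace CfsgLib.Classical.ChevFix

open Cfsg.Lie Matrix CfsgLib.Chev

universe u

/-- Sort the two last pairs. -/
def nrmF : List ℕ → List ℕ
  | [a, b, c, d, e, f] => [a, b, min c d, max c d, min e f, max e f]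
  | l => l

/-- Images of the six roots of F4. -/
def orbF : List (List ℕ) := [
    [3,15,7,8,0,1],[3,16,7,9,0,2],[3,17,7,10,1,2],[3,21,8,11,0,4],[3,22,8,12,1,4],
    [3,23,9,11,0,5],[3,24,10,12,1,6],[3,25,9,13,2,5],[3,26,10,13,2,6],[3,30,11,14,4,5],
    [3,31,12,14,4,6],[3,32,13,14,5,6],[7,4,3,8,0,1],[7,5,3,9,0,2],[7,6,3,10,1,2],
    [7,21,8,18,0,15],[7,22,8,19,1,15],[7,23,9,18,0,16],[7,24,10,19,1,17],[7,25,9,20,2,16],
    [7,26,10,20,2,17],[7,41,18,33,15,16],[7,42,19,33,15,17],[7,43,20,33,16,17],[8,2,3,7,0,1],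
    [8,5,3,11,0,4],[8,6,3,12,1,4],[8,16,7,18,0,15],[8,17,7,19,1,15],[8,23,11,18,0,21],
    [8,24,12,19,1,22],[8,30,11,27,4,21],[8,31,12,27,4,22],[8,41,18,34,15,21],[8,42,19,34,15,22],
    [8,45,27,34,21,22],[9,1,3,7,0,2],[9,4,3,11,0,5],[9,6,3,13,2,5],[9,15,7,18,0,16],
    [9,17,7,20,2,16],[9,21,11,18,0,23],[9,26,13,20,2,25],[9,30,11,28,5,23],[9,32,13,28,5,25],
    [9,41,18,35,16,23],[9,43,20,35,16,25],[9,46,28,35,23,25],[10,0,3,7,1,2],[10,4,3,12,1,6],
    [10,5,3,13,2,6],[10,15,7,19,1,17],[10,16,7,20,2,17],[10,22,12,19,1,24],[10,25,13,20,2,26],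
    [10,31,12,29,6,24],[10,32,13,29,6,26],[10,42,19,36,17,24],[10,43,20,36,17,26],[10,47,29,36,24,26],
    [11,1,3,8,0,4],[11,2,3,9,0,5],[11,6,3,14,4,5],[11,15,8,18,0,21],[11,16,9,18,0,23],
    [11,22,8,27,4,21],[11,25,9,28,5,23],[11,31,14,27,4,30],[11,32,14,28,5,30],[11,41,18,37,21,23],
    [11,45,27,37,21,30],[11,46,28,37,23,30],[12,0,3,8,1,4],[12,2,3,10,1,6],[12,5,3,14,4,6],
    [12,15,8,19,1,22],[12,17,10,19,1,24],[12,21,8,27,4,22],[12,26,10,29,6,24],[12,30,14,27,4,31],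
    [12,32,14,29,6,31],[12,42,19,38,22,24],[12,45,27,38,22,31],[12,47,29,38,24,31],[13,0,3,9,2,5],
    [13,1,3,10,2,6],[13,4,3,14,5,6],[13,16,9,20,2,25],[13,17,10,20,2,26],[13,23,9,28,5,25],
    [13,24,10,29,6,26],[13,30,14,28,5,32],[13,31,14,29,6,32],[13,43,20,39,25,26],[13,46,28,39,25,32],
    [13,47,29,39,26,32],[14,0,3,11,4,5],[14,1,3,12,4,6],[14,2,3,13,5,6],[14,21,11,27,4,30],
    [14,22,12,27,4,31],[14,23,11,28,5,30],[14,24,12,29,6,31],[14,25,13,28,5,32],[14,26,13,29,6,32],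
    [14,45,27,40,30,31],[14,46,28,40,30,32],[14,47,29,40,31,32],[18,1,7,8,0,15],[18,2,7,9,0,16],
    [18,4,8,11,0,21],[18,5,9,11,0,23],[18,17,7,33,15,16],[18,22,8,34,15,21],[18,25,9,35,16,23],
    [18,30,11,37,21,23],[18,42,33,34,15,41],[18,43,33,35,16,41],[18,45,34,37,21,41],[18,46,35,37,23,41],
    [19,0,7,8,1,15],[19,2,7,10,1,17],[19,4,8,12,1,22],[19,6,10,12,1,24],[19,16,7,33,15,17],
    [19,21,8,34,15,22],[19,26,10,36,17,24],[19,31,12,38,22,24],[19,41,33,34,15,42],[19,43,33,36,17,42],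
    [19,45,34,38,22,42],[19,47,36,38,24,42],[20,0,7,9,2,16],[20,1,7,10,2,17],[20,5,9,13,2,25],
    [20,6,10,13,2,26],[20,15,7,33,16,17],[20,23,9,35,16,25],[20,24,10,36,17,26],[20,32,13,39,25,26],
    [20,41,33,35,16,43],[20,42,33,36,17,43],[20,46,35,39,25,43],[20,47,36,39,26,43],[27,0,8,11,4,21],
    [27,1,8,12,4,22],[27,5,11,14,4,30],[27,6,12,14,4,31],[27,15,8,34,21,22],[27,23,11,37,21,30],
    [27,24,12,38,22,31],[27,32,14,40,30,31],[27,41,34,37,21,45],[27,42,34,38,22,45],[27,46,37,40,30,45],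
    [27,47,38,40,31,45],[28,0,9,11,5,23],[28,2,9,13,5,25],[28,4,11,14,5,30],[28,6,13,14,5,32],
    [28,16,9,35,23,25],[28,21,11,37,23,30],[28,26,13,39,25,32],[28,31,14,40,30,32],[28,41,35,37,23,46],
    [28,43,35,39,25,46],[28,45,37,40,30,46],[28,47,39,40,32,46],[29,1,10,12,6,24],[29,2,10,13,6,26],
    [29,4,12,14,6,31],[29,5,13,14,6,32],[29,17,10,36,24,26],[29,22,12,38,24,31],[29,25,13,39,26,32],
    [29,30,14,40,31,32],[29,42,36,38,24,47],[29,43,36,39,26,47],[29,45,38,40,31,47],[29,46,39,40,32,47],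
    [33,0,7,18,15,16],[33,1,7,19,15,17],[33,2,7,20,16,17],[33,21,18,34,15,41],[33,22,19,34,15,42],
    [33,23,18,35,16,41],[33,24,19,36,17,42],[33,25,20,35,16,43],[33,26,20,36,17,43],[33,45,34,44,41,42],
    [33,46,35,44,41,43],[33,47,36,44,42,43],[34,0,8,18,15,21],[34,1,8,19,15,22],[34,4,8,27,21,22],
    [34,16,18,33,15,41],[34,17,19,33,15,42],[34,23,18,37,21,41],[34,24,19,38,22,42],[34,30,27,37,21,45],
    [34,31,27,38,22,45],[34,43,33,44,41,42],[34,46,37,44,41,45],[34,47,38,44,42,45],[35,0,9,18,16,23],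
    [35,2,9,20,16,25],[35,5,9,28,23,25],[35,15,18,33,16,41],[35,17,20,33,16,43],[35,21,18,37,23,41],
    [35,26,20,39,25,43],[35,30,28,37,23,46],[35,32,28,39,25,46],[35,42,33,44,41,43],[35,45,37,44,41,46],
    [35,47,39,44,43,46],[36,1,10,19,17,24],[36,2,10,20,17,26],[36,6,10,29,24,26],[36,15,19,33,17,42],
    [36,16,20,33,17,43],[36,22,19,38,24,42],[36,25,20,39,26,43],[36,31,29,38,24,47],[36,32,29,39,26,47],
    [36,41,33,44,42,43],[36,45,38,44,42,47],[36,46,39,44,43,47],[37,0,11,18,21,23],[37,4,11,27,21,30],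
    [37,5,11,28,23,30],[37,15,18,34,21,41],[37,16,18,35,23,41],[37,22,27,34,21,45],[37,25,28,35,23,46],
    [37,31,27,40,30,45],[37,32,28,40,30,46],[37,42,34,44,41,45],[37,43,35,44,41,46],[37,47,40,44,45,46],
    [38,1,12,19,22,24],[38,4,12,27,22,31],[38,6,12,29,24,31],[38,15,19,34,22,42],[38,17,19,36,24,42],
    [38,21,27,34,22,45],[38,26,29,36,24,47],[38,30,27,40,31,45],[38,32,29,40,31,47],[38,41,34,44,42,45],
    [38,43,36,44,42,47],[38,46,40,44,45,47],[39,2,13,20,25,26],[39,5,13,28,25,32],[39,6,13,29,26,32],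
    [39,16,20,35,25,43],[39,17,20,36,26,43],[39,23,28,35,25,46],[39,24,29,36,26,47],[39,30,28,40,32,46],
    [39,31,29,40,32,47],[39,41,35,44,43,46],[39,42,36,44,43,47],[39,45,40,44,46,47],[40,4,14,27,30,31],
    [40,5,14,28,30,32],[40,6,14,29,31,32],[40,21,27,37,30,45],[40,22,27,38,31,45],[40,23,28,37,30,46],
    [40,24,29,38,31,47],[40,25,28,39,32,46],[40,26,29,39,32,47],[40,41,37,44,45,46],[40,42,38,44,45,47],
    [40,43,39,44,46,47],[44,15,33,34,41,42],[44,16,33,35,41,43],[44,17,33,36,42,43],[44,21,34,37,41,45],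
    [44,22,34,38,42,45],[44,23,35,37,41,46],[44,24,36,38,42,47],[44,25,35,39,43,46],[44,26,36,39,43,47],
    [44,30,37,40,45,46],[44,31,38,40,45,47],[44,32,39,40,46,47]]

/-- Images of the three roots of G2. -/
def orbG : List (List ℕ) := [[2,0,1],[2,1,0],[3,0,5],[3,5,0],[4,1,6],[4,6,1],[7,5,10],[7,10,5],[8,6,11],[8,11,6],[9,10,11],[9,11,10]]

theorem nrmF_map (f : ℕ → ℕ) : ∀ l : List ℕ, l.length = 6 → nrmF ((nrmF l).map f) = nrmF (l.map f)
  | [a, b, c, d, e, k], _ => by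
    simp only [nrmF, List.map_cons, List.map_nil]
    rcases le_total c d with h1 | h1 <;> rcases le_total e k with h2 | h2 <;>
      simp [h1, h2, min_comm, max_comm]

theorem nrmF_take : ∀ l : List ℕ, l.length = 6 → (nrmF l).take 2 = l.take 2
  | [_, _, _, _, _, _], _ => rfl

theorem nrmF_mem : ∀ l : List ℕ, l.length = 6 → ∀ a, a ∈ nrmF l ↔ a ∈ l
  | [a, b, c, d, e, k], _ => fun x => by
    simp only [nrmF, List.mem_cons, List.not_mem_nil, or_false]
    rcases le_total c d with h1 | h1 <;> rcases le_total e k with h2 | h2 <;> simp [h1, h2] <;> tauto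

theorem orbF_ok : orbitOK chevF4 sdataF4 nrmF [39, 45, 40, 44, 46, 47] 2 orbF = true := by decide +kernel

theorem orbG_ok : orbitOK chevG2 sdataG2 id [9, 10, 11] 1 orbG = true := by decide +kernel

theorem hWF : ∀ π ∈ goodF4.weyl,
    (∀ (v : ℕ) (hv : v < chevF4.nroots), v ∈ [39, 45] → (π ⟨v, hv⟩).val ∈ [39, 45, 40, 44, 46, 47]) →
    (∀ v ∈ [39, 45], ∃ (r : ℕ) (hr : r < chevF4.nroots),
      r ∈ [39, 45, 40, 44, 46, 47] ∧ (π ⟨r, hr⟩).val = v) → π ∈ goodF4.wJ {i | i ∈ [0, 3]} := by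
  intro π hπ h1 h2
  have hfix := stab_of_orbit goodF4 checksF4 structChecksF4 (A := [39, 45, 40, 44, 46, 47]) (k := 2)
    (nrm := nrmF) (by decide +kernel) nrmF_map nrmF_take nrmF_mem
    orbF_ok hπ h1 h2
  refine mem_of_fix_many goodF4 checksF4 structChecksF4 (ws := [(39, 3), (45, 2)]) (by decide +kernel)
    (by decide +kernel) (by decide +kernel) hπ fun p hp => Fin.ext (hfix _ _ ?_)
  simp only [List.mem_cons, List.not_mem_nil, or_false] at hp
  rcases hp with rfl | rfl <;> simp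

theorem hWG : ∀ π ∈ goodG2.weyl,
    (∀ (v : ℕ) (hv : v < chevG2.nroots), v ∈ [9] → (π ⟨v, hv⟩).val ∈ [9, 10, 11]) →
    (∀ v ∈ [9], ∃ (r : ℕ) (hr : r < chevG2.nroots), r ∈ [9, 10, 11] ∧ (π ⟨r, hr⟩).val = v) →
      π ∈ goodG2.wJ {i | i ∈ [1]} := by
  intro π hπ h1 h2
  have hfix := stab_of_orbit goodG2 checksG2 structChecksG2 (A := [9, 10, 11]) (k := 1) (by decide +kernel) (nrm := id) (fun _ _ _ => rfl)
    (fun _ _ => rfl) (fun _ _ _ => Iff.rfl) orbG_ok hπ h1 h2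
  refine mem_of_fix_many goodG2 checksG2 structChecksG2 (ws := [(9, 1)]) (by decide +kernel)
    (by decide +kernel) (by decide +kernel) hπ fun p hp => Fin.ext (hfix _ _ ?_)
  simp only [List.mem_cons, List.not_mem_nil, or_false] at hp
  subst hp; simp

variable {F : Type u} [Field F] [CharP F 2]

theorem conjF {r s : ℕ} (hr : r < chevF4.nroots) (hs : s < chevF4.nroots) (h : evenOK chevF4 r s = true) (u t : F) :
    MulAut.conj (goodF4.xG s u) (goodF4.xG r t) = goodF4.xG r t := by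
  rw [MulAut.conj_apply, (commute_of_evenOK goodF4 (hasComm_of_mem (by simp)) hr hs h t u).eq, mul_inv_cancel_right]

theorem conjF' {r s : ℕ} (hr : r < chevF4.nroots) (hs : s < chevF4.nroots) (k : ℕ)
    (h : oneOK chevF4 r s k = true) (u t : F) :
    MulAut.conj (goodF4.xG s u) (goodF4.xG r t) = goodF4.xG r t * goodF4.xG k (u * t) := by
  rw [MulAut.conj_apply]
  exact commute_of_oneOK goodF4 (hasComm_of_mem (by simp)) hr hs h t u

theorem conjG {r s : ℕ} (hr : r < chevG2.nroots) (hs : s < chevG2.nroots) (h : evenOK chevG2 r s = true) (u t : F) :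
    MulAut.conj (goodG2.xG s u) (goodG2.xG r t) = goodG2.xG r t := by
  rw [MulAut.conj_apply, (commute_of_evenOK goodG2 (hasComm_of_mem (by simp)) hr hs h t u).eq, mul_inv_cancel_right]

theorem conjG' {r s : ℕ} (hr : r < chevG2.nroots) (hs : s < chevG2.nroots) (k : ℕ)
    (h : oneOK chevG2 r s k = true) (u t : F) :
    MulAut.conj (goodG2.xG s u) (goodG2.xG r t) = goodG2.xG r t * goodG2.xG k (u * t) := by
  rw [MulAut.conj_apply]
  exact commute_of_oneOK goodG2 (hasComm_of_mem (by simp)) hr hs h t u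

end CfsgLib.Classical.ChevFix
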