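import Mathlib
import Cfsg.Agent.Lib.Classical.ChevLowInst

/-!
The Borel part of the centraliser of x₃₉(1)x₄₅(1) in F4.
-/

set_option autoImplicit false

namespace CfsgLib.Classical.ChevFix

open Cfsg.Lie Matrix CfsgLib.Chev

universe u

variable {F : Type u} [Field F] [CharP F 2]

theorem conj_mul_apply {G : Type*} [Group G] (a b x : G) :
    MulAut.conj (a * b) x = MulAut.conj a (MulAut.conj b x) := by
  simp [MulAut.conj_apply, mul_assoc]

theorem borelF {y : GL chevF4.Idx F} (hy : y ∈ chevF4.borelSubgroup F)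
    (hyt : Commute y (goodF4.xG 39 (1 : F) * goodF4.xG 45 (1 : F))) :
    y ∈ lowK chevF4 F [0, 3] [27, 25, 34, 26] := by
  have hc : HasComm chevF4 := hasComm_of_mem (by simp)
  have h48 : chevF4.nroots = 48 := by decide +kernel
  have h24 : half chevF4 = 24 := by decide +kernel
  obtain ⟨v, hv, h, hh, rfl⟩ := goodF4.mem_borel.1 hy
  rw [goodF4.diagonal_eq_range] at hh
  obtain ⟨c, rfl⟩ := hh
  rw [goodF4.posUnipotent_eq] at hv
  obtain ⟨T, rfl⟩ := goodF4.exists_xProd hc le_rfl hv
  obtain ⟨R, hR, R', hR', hTR⟩ : ∃ R ∈ rootGen chevF4 F (Set.Icc 28 32), ∃ R' ∈ rootGen chevF4 F (Set.Ici 35),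
      goodF4.xProd T (half chevF4) = goodF4.xG 24 (T 24) * goodF4.xG 25 (T 25) * goodF4.xG 26 (T 26) *
        goodF4.xG 27 (T 27) * R * goodF4.xG 33 (T 33) * goodF4.xG 34 (T 34) * R' := by
    refine ⟨goodF4.xG 28 (T 28) * goodF4.xG 29 (T 29) * goodF4.xG 30 (T 30) * goodF4.xG 31 (T 31) * goodF4.xG 32 (T 32),
      ?_, goodF4.xProd T 35, goodF4.xProd_mem _ _, ?_⟩
    · refine mul_mem (mul_mem (mul_mem (mul_mem ?_ ?_) ?_) ?_) ?_ <;>
        exact goodF4.mem_rootGen (S := Set.Icc 28 32) (by omega) (Set.mem_Icc.2 ⟨by omega, by omega⟩) _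
    · rw [h24, goodF4.xProd_succ T (m := 24) (by omega), goodF4.xProd_succ T (m := 25) (by omega),
        goodF4.xProd_succ T (m := 26) (by omega), goodF4.xProd_succ T (m := 27) (by omega),
        goodF4.xProd_succ T (m := 28) (by omega), goodF4.xProd_succ T (m := 29) (by omega),
        goodF4.xProd_succ T (m := 30) (by omega), goodF4.xProd_succ T (m := 31) (by omega),
        goodF4.xProd_succ T (m := 32) (by omega), goodF4.xProd_succ T (m := 33) (by omega),
        goodF4.xProd_succ T (m := 34) (by omega)]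
      simp only [mul_assoc]
  have hS : ∀ (S : Set ℕ) (Q : GL chevF4.Idx F), Q ∈ rootGen chevF4 F S → ∀ (r : ℕ) (a : F), r < chevF4.nroots →
      (∀ s ∈ S, s < chevF4.nroots → evenOK chevF4 r s = true) →
        MulAut.conj Q (goodF4.xG r a) = goodF4.xG r a := by
    intro S Q hQ r a hr hev
    have hQ' : Q ∈ Subgroup.centralizer {goodF4.xG r a} :=
      goodF4.rootGen_le (fun s hs hsn u => Subgroup.mem_centralizer_singleton_iff.2
        (commute_of_evenOK goodF4 hc hr hsn (hev s hs hsn) a u).eq) hQ
    rw [MulAut.conj_apply, Subgroup.mem_centralizer_singleton_iff.1 hQ', mul_inv_cancel_right]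
  have hin : ∀ r, (List.range 48).all (fun s => Nat.blt s 28 || evenOK chevF4 r s || (Nat.blt 32 s && Nat.blt s 35)) = true →
      r < chevF4.nroots → (∀ a : F, MulAut.conj R (goodF4.xG r a) = goodF4.xG r a) ∧
        ∀ a : F, MulAut.conj R' (goodF4.xG r a) = goodF4.xG r a := by
    intro r hev hr
    simp only [List.all_eq_true, List.mem_range, Bool.or_eq_true, Bool.and_eq_true, Nat.blt, Nat.ble_eq] at hev
    refine ⟨fun a => hS _ R hR r a hr fun s hs hsn => ?_, fun a => hS _ R' hR' r a hr fun s hs hsn => ?_⟩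
    · have h1 : 28 ≤ s ∧ s ≤ 32 := hs
      rcases hev s (by omega) with (h | h) | h
      · omega
      · exact h
      · omega
    · have h1 : 35 ≤ s := hs
      rcases hev s (by omega) with (h | h) | h
      · omega
      · exact h
      · omega
  obtain ⟨χ, hχd⟩ : ∃ χ : ℕ → Fˣ, ∀ r, χ r = ∏ i : Fin chevF4.rank, c i ^ chevF4.cartan i r := ⟨_, fun _ => rfl⟩
  have hχ : ∀ r < chevF4.nroots, MulAut.conj (torHom chevF4 F c) (goodF4.xG r (1 : F)) = goodF4.xG r (χ r : F) :=
    fun r hr => by rw [MulAut.conj_apply, goodF4.torHom_conj_xG c hr, hχd, mul_one]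
  have hmain : goodF4.xG 39 (1 : F) * goodF4.xG 45 (1 : F) =
      goodF4.xG 39 (χ 39 : F) * goodF4.xG 40 (T 27 * χ 39) * goodF4.xG 44 (T 34 * χ 39) *
      (goodF4.xG 45 (χ 45 : F) * (goodF4.xG 46 (T 25 * χ 45) * goodF4.xG 47 (T 24 * (T 25 * χ 45))) *
        goodF4.xG 47 (T 26 * χ 45)) := by
    calc goodF4.xG 39 (1 : F) * goodF4.xG 45 (1 : F)
        = MulAut.conj (goodF4.xProd T (half chevF4) * torHom chevF4 F c) (goodF4.xG 39 (1 : F) * goodF4.xG 45 (1 : F)) := by
          rw [MulAut.conj_apply, hyt.eq, mul_inv_cancel_right]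
      _ = _ := by
        have e39 := hin 39 (by decide +kernel) (by omega)
        have e45 := hin 45 (by decide +kernel) (by omega)
        have e44 := hin 44 (by decide +kernel) (by omega)
        rw [hTR]
        simp only [conj_mul_apply]
        simp only [map_mul, hχ 39 (by omega), hχ 45 (by omega), e39.2, e45.2,
          conjF' (show 39 < chevF4.nroots by omega) (show 34 < chevF4.nroots by omega) 44 (by decide +kernel),
          conjF (show 45 < chevF4.nroots by omega) (show 34 < chevF4.nroots by omega) (by decide +kernel),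
          conjF (show 39 < chevF4.nroots by omega) (show 33 < chevF4.nroots by omega) (by decide +kernel),
          conjF (show 44 < chevF4.nroots by omega) (show 33 < chevF4.nroots by omega) (by decide +kernel),
          conjF (show 45 < chevF4.nroots by omega) (show 33 < chevF4.nroots by omega) (by decide +kernel),
          e39.1, e44.1, e45.1,
          conjF' (show 39 < chevF4.nroots by omega) (show 27 < chevF4.nroots by omega) 40 (by decide +kernel),
          conjF (show 44 < chevF4.nroots by omega) (show 27 < chevF4.nroots by omega) (by decide +kernel),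
          conjF (show 45 < chevF4.nroots by omega) (show 27 < chevF4.nroots by omega) (by decide +kernel),
          conjF (show 39 < chevF4.nroots by omega) (show 26 < chevF4.nroots by omega) (by decide +kernel),
          conjF (show 40 < chevF4.nroots by omega) (show 26 < chevF4.nroots by omega) (by decide +kernel),
          conjF (show 44 < chevF4.nroots by omega) (show 26 < chevF4.nroots by omega) (by decide +kernel),
          conjF' (show 45 < chevF4.nroots by omega) (show 26 < chevF4.nroots by omega) 47 (by decide +kernel),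
          conjF (show 39 < chevF4.nroots by omega) (show 25 < chevF4.nroots by omega) (by decide +kernel),
          conjF (show 40 < chevF4.nroots by omega) (show 25 < chevF4.nroots by omega) (by decide +kernel),
          conjF (show 44 < chevF4.nroots by omega) (show 25 < chevF4.nroots by omega) (by decide +kernel),
          conjF (show 47 < chevF4.nroots by omega) (show 25 < chevF4.nroots by omega) (by decide +kernel),
          conjF' (show 45 < chevF4.nroots by omega) (show 25 < chevF4.nroots by omega) 46 (by decide +kernel),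
          conjF (show 39 < chevF4.nroots by omega) (show 24 < chevF4.nroots by omega) (by decide +kernel),
          conjF (show 40 < chevF4.nroots by omega) (show 24 < chevF4.nroots by omega) (by decide +kernel),
          conjF (show 44 < chevF4.nroots by omega) (show 24 < chevF4.nroots by omega) (by decide +kernel),
          conjF (show 45 < chevF4.nroots by omega) (show 24 < chevF4.nroots by omega) (by decide +kernel),
          conjF (show 47 < chevF4.nroots by omega) (show 24 < chevF4.nroots by omega) (by decide +kernel),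
          conjF' (show 46 < chevF4.nroots by omega) (show 24 < chevF4.nroots by omega) 47 (by decide +kernel)]
  obtain ⟨S, hSd⟩ : ∃ S : Set ℕ, S = {r | r ∈ [39, 40, 44, 45, 46, 47]} := ⟨_, rfl⟩
  have hSok : ([39, 40, 44, 45, 46, 47].all fun r => [39, 40, 44, 45, 46, 47].all fun r' => evenOK chevF4 r r') = true := by
    decide +kernel
  simp only [List.all_eq_true] at hSok
  have hSc : ∀ r ∈ S, r < chevF4.nroots → ∀ r' ∈ S, r' < chevF4.nroots →
      ∀ a b : F, Commute (goodF4.xG r a) (goodF4.xG r' b) := fun r hr hrn r' hr' hrn' a b => by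
    rw [hSd] at hr hr'
    exact (commute_of_evenOK goodF4 hc hrn hrn' (hSok r hr r' hr') a b).symm
  have hSpos : ∀ r ∈ S, half chevF4 ≤ r := fun r hr => by
    rw [hSd] at hr
    simp only [Set.mem_ofPred_eq, List.mem_cons, List.not_mem_nil, or_false] at hr
    omega
  obtain ⟨f, hf⟩ : ∃ f : ℕ → F, f = fun r => if r = 39 then (χ 39 : F) else if r = 40 then T 27 * χ 39 else
      if r = 44 then T 34 * χ 39 else if r = 45 then (χ 45 : F) else if r = 46 then T 25 * χ 45 else
      T 24 * (T 25 * χ 45) + T 26 * χ 45 := ⟨_, rfl⟩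
  have hmem6 : ∀ r ∈ [39, 40, 44, 45, 46, 47], r ∈ S ∧ r < chevF4.nroots := fun r hr => by
    refine ⟨hSd ▸ hr, ?_⟩
    simp only [List.mem_cons, List.not_mem_nil, or_false] at hr
    omega
  have hlist := xProd_list goodF4 hSc hSpos f [39, 40, 44, 45, 46, 47] (by simp) hmem6
  have hlist1 := xProd_list goodF4 hSc hSpos (fun r => if r = 39 ∨ r = 45 then (1 : F) else 0)
    [39, 40, 44, 45, 46, 47] (by simp) hmem6
  simp [hf, goodF4.xG_zero] at hlist hlist1
  rw [← goodF4.xG_add] at hlist
  have heq := hlist1.symm.trans (hmain.trans ((by simp only [mul_assoc] : goodF4.xG 39 (χ 39 : F) * goodF4.xG 40 (T 27 * χ 39) * goodF4.xG 44 (T 34 * χ 39) *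
      (goodF4.xG 45 (χ 45 : F) * (goodF4.xG 46 (T 25 * χ 45) * goodF4.xG 47 (T 24 * (T 25 * χ 45))) *
        goodF4.xG 47 (T 26 * χ 45)) = goodF4.xG 39 (χ 39 : F) * (goodF4.xG 40 (T 27 * χ 39) *
        (goodF4.xG 44 (T 34 * χ 39) * (goodF4.xG 45 (χ 45 : F) * (goodF4.xG 46 (T 25 * χ 45) *
        (goodF4.xG 47 (T 24 * (T 25 * χ 45)) * goodF4.xG 47 (T 26 * χ 45))))))).trans hlist))
  have hat : ∀ r ∈ [39, 40, 44, 45, 46, 47], _ = _ := fun r hr =>
    goodF4.xProd_inj le_rfl heq (hSpos r (hmem6 r hr).1) (hmem6 r hr).2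
  have e39 := hat 39 (by simp)
  have e40 := hat 40 (by simp)
  have e44 := hat 44 (by simp)
  have e45 := hat 45 (by simp)
  have e46 := hat 46 (by simp)
  have e47 := hat 47 (by simp)
  simp at e39 e40 e44 e45 e46 e47
  simp [e46] at e47
  have hK : ∀ s, 24 ≤ s → s ≠ 27 → s ≠ 25 → s ≠ 34 → s ≠ 26 → s < chevF4.nroots → ∀ a : F,
      goodF4.xG s a ∈ lowK chevF4 F [0, 3] [27, 25, 34, 26] := by
    intro s h1 h2 h3 h4 h5 hsn a
    refine Subgroup.mem_sup_left (goodF4.mem_rootGen hsn
      (show half chevF4 ≤ s ∧ s ∉ [27, 25, 34, 26] from ?_) a)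
    simp only [List.mem_cons, List.not_mem_nil, or_false]
    omega
  rw [hTR, e40, e44, e46, e47]
  simp only [goodF4.xG_zero, mul_one]
  refine mul_mem (mul_mem (mul_mem (mul_mem (hK 24 (by omega) (by omega) (by omega) (by omega) (by omega) (by omega) _)
    (goodF4.rootGen_le (fun s hs hsn a => hK s ?_ ?_ ?_ ?_ ?_ hsn a) hR))
    (hK 33 (by omega) (by omega) (by omega) (by omega) (by omega) (by omega) _))
    (goodF4.rootGen_le (fun s hs hsn a => hK s ?_ ?_ ?_ ?_ ?_ hsn a) hR')) ?_
  iterate 5 (have h1 : 28 ≤ s ∧ s ≤ 32 := hs; omega)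
  iterate 5 (have h1 : 35 ≤ s := hs; omega)
  rw [← Finset.univ_prod_mulSingle c]
  refine Subgroup.mem_comap.1 (Subgroup.prod_mem
    ((lowK chevF4 F [0, 3] [27, 25, 34, 26]).comap (torHom chevF4 F)) fun i _ => ?_)
  rw [Subgroup.mem_comap, goodF4.torHom_single, goodF4.hG_eq (goodF4.simple_lt i.2)]
  have hnK : ∀ j ∈ [0, 3], ∀ u : Fˣ, goodF4.nG (chevF4.simple j) u ∈ lowK chevF4 F [0, 3] [27, 25, 34, 26] := by
    intro j hj u
    have hjr : j < chevF4.rank := by
      have : chevF4.rank = 4 := by decide +kernel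
      simp only [List.mem_cons, List.not_mem_nil, or_false] at hj
      omega
    have hsj : chevF4.simple j = 33 ∨ chevF4.simple j = 24 := by
      simp only [List.mem_cons, List.not_mem_nil, or_false] at hj
      rcases hj with rfl | rfl
      · left; decide +kernel
      · right; decide +kernel
    rw [Good.nG]
    exact mul_mem (mul_mem (hK _ (by omega) (by omega) (by omega) (by omega) (by omega) (goodF4.simple_lt hjr) _)
      (Subgroup.mem_sup_right (goodF4.mem_rootGen (goodF4.neg_lt (goodF4.simple_lt hjr))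
        (show _ ∈ {s | ∃ i ∈ [0, 3], s = chevF4.neg (chevF4.simple i)} from ⟨j, hj, rfl⟩) _)))
      (hK _ (by omega) (by omega) (by omega) (by omega) (by omega) (goodF4.simple_lt hjr) _)
  by_cases hiJ : (i : ℕ) ∈ [0, 3]
  · exact mul_mem (hnK _ hiJ _) (hnK _ hiJ _)
  have h4 : chevF4.rank = 4 := by decide +kernel
  have hc1 : c i = 1 := by
    have hA : ∀ r, χ r = c ⟨0, by omega⟩ ^ chevF4.cartan 0 r * c ⟨1, by omega⟩ ^ chevF4.cartan 1 r *
        c ⟨2, by omega⟩ ^ chevF4.cartan 2 r * c ⟨3, by omega⟩ ^ chevF4.cartan 3 r := fun r => by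
      rw [hχd]
      exact Fin.prod_univ_four (fun i : Fin 4 => c ⟨i.val, by omega⟩ ^ chevF4.cartan i r)
    have a39 := hA 39
    have a45 := hA 45
    rw [show χ 39 = 1 from Units.ext e39.symm, show chevF4.cartan 0 39 = 0 by decide +kernel,
      show chevF4.cartan 1 39 = -1 by decide +kernel, show chevF4.cartan 2 39 = 1 by decide +kernel,
      show chevF4.cartan 3 39 = 0 by decide +kernel] at a39
    rw [show χ 45 = 1 from Units.ext e45.symm, show chevF4.cartan 0 45 = 0 by decide +kernel,
      show chevF4.cartan 1 45 = 2 by decide +kernel, show chevF4.cartan 2 45 = -1 by decide +kernel,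
      show chevF4.cartan 3 45 = 0 by decide +kernel] at a45
    simp only [_root_.zpow_zero, zpow_one, _root_.zpow_neg, one_mul, mul_one] at a39 a45
    have h12 : c ⟨2, by omega⟩ = c ⟨1, by omega⟩ := (inv_mul_eq_one.1 a39.symm).symm
    rw [h12, show (2 : ℤ) = 1 + 1 by rfl, _root_.zpow_add, zpow_one, mul_inv_cancel_right] at a45
    obtain ⟨i, hi⟩ := i
    simp only [List.mem_cons, List.not_mem_nil, or_false] at hiJ
    obtain rfl | rfl : i = 1 ∨ i = 2 := by omega
    · exact a45.symm
    · exact h12.trans a45.symm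
  rw [hc1, ← goodF4.hG_eq (goodF4.simple_lt i.2), map_one]
  exact one_mem _

end CfsgLib.Classical.ChevFix
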