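import Mathlib
import Cfsg.Agent.Lib.Classical.ChevLowInst

/-!
The Borel part of the centraliser of x₉(1) in G2.
-/

set_option autoImplicit false

namespace CfsgLib.Classical.ChevFix

open Cfsg.Lie Matrix CfsgLib.Chev

universe u

variable {F : Type u} [Field F] [CharP F 2]

theorem borelG {y : GL chevG2.Idx F} (hy : y ∈ chevG2.borelSubgroup F) (hyt : Commute y (goodG2.xG 9 (1 : F))) :
    y ∈ lowK chevG2 F [1] [7, 8] := by
  have hc : HasComm chevG2 := hasComm_of_mem (by simp)
  obtain ⟨v, hv, h, hh, rfl⟩ := goodG2.mem_borel.1 hy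
  rw [goodG2.diagonal_eq_range] at hh
  obtain ⟨c, rfl⟩ := hh
  rw [goodG2.posUnipotent_eq] at hv
  obtain ⟨T, rfl⟩ := goodG2.exists_xProd hc le_rfl hv
  obtain ⟨R, hR, hTR⟩ : ∃ R ∈ rootGen chevG2 F (Set.Ici 9),
      goodG2.xProd T (half chevG2) = goodG2.xG 6 (T 6) * goodG2.xG 7 (T 7) * goodG2.xG 8 (T 8) * R := by
    refine ⟨goodG2.xProd T 9, goodG2.xProd_mem _ _, ?_⟩
    rw [show half chevG2 = 6 by decide +kernel, goodG2.xProd_succ T (by decide +kernel),
      goodG2.xProd_succ T (m := 6 + 1) (by decide +kernel), goodG2.xProd_succ T (m := 6 + 1 + 1) (by decide +kernel)]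
    simp only [mul_assoc]
  have hRc : ∀ r a, (evenOK chevG2 r 9 && evenOK chevG2 r 10 && evenOK chevG2 r 11) = true → r < chevG2.nroots →
      MulAut.conj R (goodG2.xG r a) = goodG2.xG r (a : F) := by
    intro r a hev hr
    simp only [Bool.and_eq_true] at hev
    rw [MulAut.conj_apply]
    have hR' : R ∈ Subgroup.centralizer {goodG2.xG r a} :=
      goodG2.rootGen_le (fun s hs hsn u => Subgroup.mem_centralizer_singleton_iff.2 (by
        have h12 : chevG2.nroots = 12 := by decide +kernel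
        have hs' : 9 ≤ s := hs
        rcases (show s = 9 ∨ s = 10 ∨ s = 11 by omega) with rfl | rfl | rfl
        exacts [(commute_of_evenOK goodG2 hc hr hsn hev.1.1 a u).eq, (commute_of_evenOK goodG2 hc hr hsn hev.1.2 a u).eq,
          (commute_of_evenOK goodG2 hc hr hsn hev.2 a u).eq])) hR
    rw [Subgroup.mem_centralizer_singleton_iff.1 hR', mul_inv_cancel_right]
  have hχ := goodG2.torHom_conj_xG c (show 9 < chevG2.nroots by decide +kernel) (1 : F)
  obtain ⟨χ, hχd⟩ : ∃ χ, χ = (∏ i : Fin chevG2.rank, c i ^ chevG2.cartan i 9 : Fˣ) := ⟨_, rfl⟩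
  rw [← hχd, mul_one] at hχ
  have hmain : goodG2.xG 9 (1 : F) = goodG2.xG 9 (χ : F) * goodG2.xG 10 (T 7 * χ) *
      (goodG2.xG 11 (T 6 * (T 7 * χ)) * goodG2.xG 11 (T 8 * χ)) := by
    calc goodG2.xG 9 (1 : F)
        = goodG2.xProd T (half chevG2) * torHom chevG2 F c * goodG2.xG 9 (1 : F) *
          (goodG2.xProd T (half chevG2) * torHom chevG2 F c)⁻¹ := by rw [hyt.eq, mul_inv_cancel_right]
      _ = MulAut.conj (goodG2.xG 6 (T 6)) (MulAut.conj (goodG2.xG 7 (T 7)) (MulAut.conj (goodG2.xG 8 (T 8))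
          (MulAut.conj R (goodG2.xG 9 (χ : F))))) := by
        rw [← hχ, hTR]; simp only [MulAut.conj_apply]; group
      _ = _ := by
        rw [hRc 9 _ (by decide +kernel) (by decide +kernel), conjG' (by decide +kernel) (by decide +kernel) 11 (by decide +kernel),
          map_mul, conjG' (by decide +kernel) (by decide +kernel) 10 (by decide +kernel),
          conjG (r := 11) (by decide +kernel) (by decide +kernel) (by decide +kernel),
          map_mul, map_mul, conjG (r := 9) (by decide +kernel) (by decide +kernel) (by decide +kernel),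
          conjG' (r := 10) (by decide +kernel) (by decide +kernel) 11 (by decide +kernel),
          conjG (r := 11) (by decide +kernel) (by decide +kernel) (by decide +kernel)]
        simp only [mul_assoc]
  rw [mul_assoc, goodG2.xG_add] at hmain
  have h9 : half chevG2 ≤ 9 := by decide +kernel
  have hm1 : goodG2.xG 10 (T 7 * χ) * goodG2.xG 11 (T 6 * (T 7 * χ) + T 8 * χ) ∈ rootGen chevG2 F (Set.Ici 10) :=
    mul_mem (goodG2.mem_rootGen (by decide +kernel) (show 10 ≤ 10 by omega) _)
      (goodG2.mem_rootGen (by decide +kernel) (show 10 ≤ 11 by omega) _)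
  rw [← mul_one (goodG2.xG 9 (1 : F))] at hmain
  obtain ⟨hχ1, hrest⟩ := goodG2.Ici_unique h9 (by decide +kernel) (one_mem _) hm1 hmain
  have hrest' : goodG2.xG 10 (0 : F) * 1 =
      goodG2.xG 10 (T 7 * χ) * goodG2.xG 11 (T 6 * (T 7 * χ) + T 8 * χ) := by
    rw [goodG2.xG_zero, one_mul, ← hrest]
  obtain ⟨h7, h8⟩ := goodG2.Ici_unique (show half chevG2 ≤ 10 by decide +kernel) (by decide +kernel) (one_mem _)
    (goodG2.mem_rootGen (by decide +kernel) (show 11 ≤ 11 by omega) _) hrest'
  rw [← hχ1, mul_one] at h7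
  rw [← hχ1, mul_one, ← h7, mul_zero, zero_add, mul_one] at h8
  have h8' : T 8 = 0 := (goodG2.x_eq_one_iff (r := 11) (by decide +kernel) _).1 (congrArg Units.val h8.symm)
  rw [hTR, ← h7, h8', goodG2.xG_zero, goodG2.xG_zero, mul_one, mul_one]
  have hK : ∀ s, (6 = s ∨ 9 ≤ s) → s < chevG2.nroots → ∀ a : F, goodG2.xG s a ∈ lowK chevG2 F [1] [7, 8] := by
    intro s hs hsn a
    refine Subgroup.mem_sup_left (goodG2.mem_rootGen hsn (show half chevG2 ≤ s ∧ s ∉ [7, 8] from ?_) a)
    have : half chevG2 = 6 := by decide +kernel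
    simp only [List.mem_cons, List.not_mem_nil, or_false]
    omega
  have hK5 : ∀ a : F, goodG2.xG 5 a ∈ lowK chevG2 F [1] [7, 8] := fun a =>
    Subgroup.mem_sup_right (goodG2.mem_rootGen (by decide +kernel)
      (show 5 ∈ {s | ∃ j ∈ [1], s = chevG2.neg (chevG2.simple j)} from ⟨1, by simp, by decide +kernel⟩) a)
  have hn : ∀ u : Fˣ, goodG2.nG 6 u ∈ lowK chevG2 F [1] [7, 8] := fun u => by
    rw [Good.nG, show chevG2.neg 6 = 5 by decide +kernel]
    exact mul_mem (mul_mem (hK 6 (by simp) (by decide +kernel) _) (hK5 _)) (hK 6 (by simp) (by decide +kernel) _)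
  refine mul_mem (mul_mem (hK 6 (by simp) (by decide +kernel) _)
    (goodG2.rootGen_le (fun s hs hsn a => hK s (Or.inr hs) hsn a) hR)) ?_
  rw [← Finset.univ_prod_mulSingle c]
  refine Subgroup.mem_comap.1 (Subgroup.prod_mem ((lowK chevG2 F [1] [7, 8]).comap (torHom chevG2 F)) fun i _ => ?_)
  rw [Subgroup.mem_comap, goodG2.torHom_single, goodG2.hG_eq (goodG2.simple_lt i.2)]
  have h2 : chevG2.rank = 2 := by decide +kernel
  obtain ⟨i, hi⟩ := i
  obtain rfl | rfl : i = 0 ∨ i = 1 := by omega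
  · have hc0 : c ⟨0, hi⟩ = 1 := by
      have := torHom_char goodG2 c (v := 9) (i₀ := ⟨0, hi⟩) (show chevG2.cartan 0 9 = 1 by decide +kernel) (fun j hj => Or.inr (by
        obtain ⟨j, hj'⟩ := j
        obtain rfl : j = 1 := by
          have : j ≠ 0 := fun e => hj (Fin.ext e)
          omega
        show chevG2.cartan 1 9 = 0
        decide +kernel))
      rw [← this, ← hχd]
      exact Units.ext hχ1.symm
    rw [hc0, ← goodG2.hG_eq (goodG2.simple_lt hi), map_one]
    exact one_mem _
  · rw [show chevG2.simple 1 = 6 by decide +kernel]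
    exact mul_mem (hn _) (hn _)

end CfsgLib.Classical.ChevFix
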