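import Mathlib
import Cfsg.Agent.Lib.Classical.ChevLowCent
import Cfsg.Agent.Lib.Chev.Good
import Cfsg.Agent.Lib.Chev.CommGood

/-!
The centraliser of x₄₇(1)x₄₄(1) in F4 in characteristic two.
-/

set_option autoImplicit false

namespace CfsgLib.Classical.ChevFix

open Cfsg.Lie Matrix CfsgLib.Chev

universe u

/-- Images of the highest long and short roots. -/
def orbW : List (List ℕ) := [
    [0,3],[0,7],[0,8],[0,9],[0,11],[0,18],[1,3],[1,7],[1,8],[1,10],
    [1,12],[1,19],[2,3],[2,7],[2,9],[2,10],[2,13],[2,20],[4,3],[4,8],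
    [4,11],[4,12],[4,14],[4,27],[5,3],[5,9],[5,11],[5,13],[5,14],[5,28],
    [6,3],[6,10],[6,12],[6,13],[6,14],[6,29],[15,7],[15,8],[15,18],[15,19],
    [15,33],[15,34],[16,7],[16,9],[16,18],[16,20],[16,33],[16,35],[17,7],[17,10],
    [17,19],[17,20],[17,33],[17,36],[21,8],[21,11],[21,18],[21,27],[21,34],[21,37],
    [22,8],[22,12],[22,19],[22,27],[22,34],[22,38],[23,9],[23,11],[23,18],[23,28],
    [23,35],[23,37],[24,10],[24,12],[24,19],[24,29],[24,36],[24,38],[25,9],[25,13],
    [25,20],[25,28],[25,35],[25,39],[26,10],[26,13],[26,20],[26,29],[26,36],[26,39],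
    [30,11],[30,14],[30,27],[30,28],[30,37],[30,40],[31,12],[31,14],[31,27],[31,29],
    [31,38],[31,40],[32,13],[32,14],[32,28],[32,29],[32,39],[32,40],[41,18],[41,33],
    [41,34],[41,35],[41,37],[41,44],[42,19],[42,33],[42,34],[42,36],[42,38],[42,44],
    [43,20],[43,33],[43,35],[43,36],[43,39],[43,44],[45,27],[45,34],[45,37],[45,38],
    [45,40],[45,44],[46,28],[46,35],[46,37],[46,39],[46,40],[46,44],[47,29],[47,36],
    [47,38],[47,39],[47,40],[47,44]]

theorem orbW_ok : orbitOK chevF4 sdataF4 id [47, 44] 2 orbW = true := by decide +kernel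

variable {F : Type u} [Field F] [CharP F 2]

theorem centralizer_pair :
    chevF4.group F ⊓ Subgroup.centralizer {goodF4.xG 47 (1 : F) * goodF4.xG 44 (1 : F)} = parK chevF4 F [1, 2] := by
  have hc : HasComm chevF4 := hasComm_of_mem (by simp)
  have h48 : chevF4.nroots = 48 := by decide +kernel
  have h4 : chevF4.rank = 4 := by decide +kernel
  have h24 : half chevF4 = 24 := by decide +kernel
  have hJ : ∀ j ∈ [1, 2], j < chevF4.rank := by
    intro j hj; simp only [List.mem_cons, List.not_mem_nil, or_false] at hj; omega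
  have hA : ∀ r ∈ [47, 44], half chevF4 ≤ r ∧ r < chevF4.nroots := by
    intro r hr; simp only [List.mem_cons, List.not_mem_nil, or_false] at hr; omega
  have hAc : ∀ r ∈ {r | r ∈ [47, 44]}, r < chevF4.nroots → ∀ r' ∈ {r | r ∈ [47, 44]}, r' < chevF4.nroots →
      ∀ a b : F, Commute (goodF4.xG r a) (goodF4.xG r' b) := by
    have hev : ([47, 44].all fun r => [47, 44].all fun r' => evenOK chevF4 r r') = true := by decide +kernel
    simp only [List.all_eq_true] at hev
    exact fun r hr hrn r' hr' hrn' a b => (commute_of_evenOK goodF4 hc hrn hrn' (hev r hr r' hr') a b).symm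
  have hlist : ∀ e : ℕ → F, goodF4.xG 47 (e 47) * goodF4.xG 44 (e 44) =
      goodF4.xProd (fun k => if k ∈ [47, 44] then e k else 0) (half chevF4) := by
    intro e
    have := xProd_list goodF4 hAc (fun r hr => (hA r hr).1) e [47, 44] (by simp) (fun r hr => ⟨hr, (hA r hr).2⟩)
    rw [← this]
    simp
  have hscale : ∀ c : Fin chevF4.rank → Fˣ,
      torHom chevF4 F c * (goodF4.xG 47 (1 : F) * goodF4.xG 44 (1 : F)) * (torHom chevF4 F c)⁻¹ =
        goodF4.xProd (fun k => if k ∈ [47, 44] then
          ((∏ i : Fin chevF4.rank, c i ^ chevF4.cartan i k : Fˣ) : F) else 0) (half chevF4) := by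
    intro c
    rw [← hlist]
    rw [show torHom chevF4 F c * (goodF4.xG 47 (1 : F) * goodF4.xG 44 (1 : F)) * (torHom chevF4 F c)⁻¹ =
      torHom chevF4 F c * goodF4.xG 47 (1 : F) * (torHom chevF4 F c)⁻¹ *
        (torHom chevF4 F c * goodF4.xG 44 (1 : F) * (torHom chevF4 F c)⁻¹) by group,
      goodF4.torHom_conj_xG c (by omega), goodF4.torHom_conj_xG c (by omega), mul_one, mul_one]
  have hone : goodF4.xG 47 (1 : F) * goodF4.xG 44 (1 : F) =
      goodF4.xProd (fun k => if k ∈ [47, 44] then (1 : F) else 0) (half chevF4) := hlist fun _ => 1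
  refine centralizer_eq goodF4 hc hJ (fun x hx => ?_) ?_ ?_
  · exact (commute_parK goodF4 hc hJ (by omega) (by decide +kernel) 1 hx).mul_right
      (commute_parK goodF4 hc hJ (by omega) (by decide +kernel) 1 hx)
  · rintro n π hπw hπ ⟨h, hh, he⟩
    rw [goodF4.diagonal_eq_range] at hh
    obtain ⟨c, rfl⟩ := hh
    rw [hscale, hone] at he
    obtain ⟨hf, hb⟩ := perm_of_conj goodF4 hπ (A := [47, 44]) hA hAc (fun r hr => if_neg hr) (fun r hr => if_neg hr) he
    have hfix := stab_of_orbit goodF4 checksF4 structChecksF4 (A := [47, 44]) (k := 2) (nrm := id)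
      (fun a ha => (hA a ha).2) (fun _ _ _ => rfl) (fun _ _ => rfl) (fun _ _ _ => Iff.rfl) orbW_ok hπw
      (fun v hv hvk => hf v hv hvk (by rw [if_pos (show v ∈ [47, 44] from hvk)]; exact one_ne_zero))
      (fun v hvk => hb v hvk (by rw [if_pos (show v ∈ [47, 44] from hvk)]; exact Units.ne_zero _))
    refine mem_of_fix_many goodF4 checksF4 structChecksF4 (ws := [(47, 1), (44, 1)]) (by decide +kernel)
      (by decide +kernel) (by decide +kernel) hπw fun p hp => Fin.ext (hfix _ _ ?_)
    simp only [List.mem_cons, List.not_mem_nil, or_false] at hp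
    rcases hp with rfl | rfl <;> simp
  · intro c hct
    have he := hscale c
    rw [hct.eq, mul_inv_cancel_right, hone] at he
    have h47 := goodF4.xProd_inj le_rfl he (r := 47) (by omega) (by omega)
    have h44 := goodF4.xProd_inj le_rfl he (r := 44) (by omega) (by omega)
    simp only [List.mem_cons, true_or, or_true, if_true] at h47 h44
    refine torHom_mem_parK goodF4 hJ c fun i hi => ?_
    obtain ⟨i, hi'⟩ := i
    simp only [List.mem_cons, List.not_mem_nil, or_false] at hi
    have hall : ([0, 1, 2, 3].all fun j => Nat.beq j 3 || Int.beq' (fcartan chevF4 j 47) 0) = true ∧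
        ([0, 1, 2, 3].all fun j => Nat.beq j 0 || Int.beq' (fcartan chevF4 j 44) 0) = true := by decide +kernel
    simp only [List.all_eq_true, Bool.or_eq_true, Nat.beq_eq, Int.beq'_eq] at hall
    obtain rfl | rfl : i = 0 ∨ i = 3 := by omega
    · rw [torHom_char goodF4 c (i₀ := ⟨0, hi'⟩) (show chevF4.cartan 0 44 = 1 by decide +kernel) fun j hj => Or.inr (by
        rw [cartan_eq checksF4.pack j.2 (by omega)]
        refine (hall.2 j (by have := j.2; simp; omega)).resolve_left fun e => hj (Fin.ext e))] at h44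
      exact Units.ext h44.symm
    · rw [torHom_char goodF4 c (i₀ := ⟨3, hi'⟩) (show chevF4.cartan 3 47 = 1 by decide +kernel) fun j hj => Or.inr (by
        rw [cartan_eq checksF4.pack j.2 (by omega)]
        refine (hall.1 j (by have := j.2; simp; omega)).resolve_left fun e => hj (Fin.ext e))] at h47
      exact Units.ext h47.symm

end CfsgLib.Classical.ChevFix
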