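import Mathlib
import Cfsg.Agent.Lib.Invol.Dihedral

/-!
Small quotient groups: homomorphisms onto groups of order two, four and eight with prescribed kernel.
-/

set_option autoImplicit false

namespace CfsgLib.Classical

/-- A homomorphism onto an image group with prescribed kernel. -/
theorem exists_map_hom {S X A : Type*} [Group S] [Group X] [Group A] (f : S →* X) (H N : Subgroup S)
    (hker : f.ker ≤ N) (ψ : H →* A) (hψ : Function.Surjective ψ)
    (hk : ψ.ker = N.subgroupOf H) :
    ∃ φ : ↥(H.map f) →* A, Function.Surjective φ ∧ φ.ker = (N.map f).subgroupOf (H.map f) := by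
  have hle : (f.subgroupMap H).ker ≤ ψ.ker := fun x hx => by
    rw [hk, Subgroup.mem_subgroupOf]
    exact hker (congrArg Subtype.val hx)
  have hs := f.subgroupMap_surjective H
  let φ := (f.subgroupMap H).liftOfSurjective hs ⟨ψ, hle⟩
  have hφ : ∀ x, φ (f.subgroupMap H x) = ψ x := fun x =>
    MonoidHom.liftOfRightInverse_comp_apply _ _ (Function.rightInverse_surjInv hs) ⟨ψ, hle⟩ x
  refine ⟨φ, fun a => ?_, ?_⟩
  · obtain ⟨x, hx⟩ := hψ a
    exact ⟨_, (hφ x).trans hx⟩
  · ext y
    obtain ⟨x, rfl⟩ := hs y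
    rw [MonoidHom.mem_ker, hφ, ← MonoidHom.mem_ker, hk, Subgroup.mem_subgroupOf, Subgroup.mem_subgroupOf]
    constructor
    · exact fun h => ⟨x.1, h, rfl⟩
    · rintro ⟨y, hy, e⟩
      have h : y⁻¹ * x.1 ∈ f.ker := by
        rw [MonoidHom.mem_ker, map_mul, map_inv, e]
        exact inv_mul_cancel _
      have := N.mul_mem hy (hker h)
      rwa [mul_inv_cancel_left] at this

/-- A homomorphism to `ZMod 2` with the kernel of a homomorphism to a group of order two. -/
theorem exists_sign {G M : Type*} [Group G] [Group M] (h : Nat.card M = 2) (δ : G →* M) :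
    ∃ ε : G →* Multiplicative (ZMod 2), ∀ g, ε g = 1 ↔ δ g = 1 := by
  have : IsCyclic M := isCyclic_of_prime_card (p := 2) h
  let e : M ≃* Multiplicative (ZMod 2) := mulEquivOfCyclicCardEq (by simp [h])
  exact ⟨e.toMonoidHom.comp δ, fun g => by simp⟩

/-- A group of order eight with a non-central involution is dihedral. -/
theorem nonempty_equiv_dihedral_four {G : Type*} [Group G] (h : Nat.card G = 8) {s : G} (hs : s * s = 1)
    (hnc : ∃ g, g * s ≠ s * g) : Nonempty (G ≃* DihedralGroup 4) := by
  classical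
  have : Finite G := Nat.finite_of_card_ne_zero (by omega)
  have hs2 : orderOf s = 2 := orderOf_eq_prime (by rw [sq, hs]) fun e => by
    obtain ⟨g, hg⟩ := hnc
    exact hg (by rw [e, mul_one, one_mul])
  have hcomm : ¬ ∀ x y : G, x * y = y * x := fun hall => hnc.elim fun g hg => hg (hall g s)
  obtain ⟨r, hr⟩ : ∃ r : G, orderOf r = 4 := by
    by_contra hne
    have hsq : ∀ x : G, x * x = 1 := fun x => by
      have hd : orderOf x ∣ 2 ^ 3 := by
        rw [show (2 : ℕ) ^ 3 = Nat.card G by rw [h]; norm_num]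
        exact orderOf_dvd_natCard x
      obtain ⟨k, hk, hkx⟩ := (Nat.dvd_prime_pow Nat.prime_two).1 hd
      rcases (show k ≤ 1 ∨ k = 2 ∨ k = 3 by omega) with hk1 | rfl | rfl
      · rw [← sq, ← orderOf_dvd_iff_pow_eq_one, hkx]
        exact pow_dvd_pow 2 hk1 |>.trans (dvd_of_eq (pow_one 2))
      · exact absurd ⟨x, hkx⟩ hne
      · exfalso
        have hc : IsCyclic G := isCyclic_of_orderOf_eq_card x (by rw [hkx, h]; norm_num)
        exact hcomm fun a b => by
          obtain ⟨g, hg⟩ := hc.exists_generator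
          obtain ⟨i, rfl⟩ := Subgroup.mem_zpowers_iff.1 (hg a)
          obtain ⟨j, rfl⟩ := Subgroup.mem_zpowers_iff.1 (hg b)
          rw [← zpow_add, ← zpow_add, add_comm]
    refine hcomm fun x y => ?_
    have hinv : ∀ z : G, z⁻¹ = z := fun z => inv_eq_of_mul_eq_one_right (hsq z)
    calc x * y = (x * y)⁻¹ := (hinv _).symm
      _ = y * x := by rw [mul_inv_rev, hinv, hinv]
  have hidx : (Subgroup.zpowers r).index = 2 := by
    have := Subgroup.card_mul_index (Subgroup.zpowers r)
    rw [Nat.card_zpowers, hr, h] at this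
    omega
  have hn := Subgroup.normal_of_index_eq_two hidx
  have hgen : ∀ a : G, a ∉ Subgroup.zpowers r → ∀ b : G, ∃ c ∈ Subgroup.zpowers r, b = c ∨ b = c * a := by
    intro a ha b
    by_cases hb : b ∈ Subgroup.zpowers r
    · exact ⟨b, hb, Or.inl rfl⟩
    · refine ⟨b * a⁻¹, (Subgroup.mul_mem_iff_of_index_two hidx).2 ?_, Or.inr (by group)⟩
      simp [hb, ha]
  have hconj : ∀ g : G, g * r * g⁻¹ = r ∨ g * r * g⁻¹ = r⁻¹ := by
    intro g
    have hmem := hn.conj_mem r (Subgroup.mem_zpowers r) g
    have hord : orderOf (g * r * g⁻¹) = 4 :=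
      (orderOf_injective (MulAut.conj g).toMonoidHom (MulAut.conj g).injective r).trans hr
    rw [← mem_powers_iff_mem_zpowers, mem_powers_iff_mem_range_orderOf, hr] at hmem
    simp only [Finset.mem_image, Finset.mem_range] at hmem
    obtain ⟨k, hk, hke⟩ := hmem
    rw [← hke] at hord ⊢
    rw [orderOf_pow, hr] at hord
    interval_cases k
    · norm_num at hord
    · exact Or.inl (pow_one r)
    · norm_num at hord
    · exact Or.inr (eq_inv_of_mul_eq_one_left (by
        rw [← pow_succ, show 3 + 1 = orderOf r by rw [hr], pow_orderOf_eq_one]))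
  have hnot : s ∉ Subgroup.zpowers r := by
    intro hmem
    rw [← mem_powers_iff_mem_zpowers, mem_powers_iff_mem_range_orderOf, hr] at hmem
    simp only [Finset.mem_image, Finset.mem_range] at hmem
    obtain ⟨k, hk, hke⟩ := hmem
    have hk2 : k = 2 := by
      rw [← hke, orderOf_pow, hr] at hs2
      interval_cases k <;> first | rfl | (norm_num at hs2)
    subst hk2
    obtain ⟨g, hg⟩ := hnc
    refine hg ?_
    have hc : g * s * g⁻¹ = s := by
      rw [← hke, ← conj_pow]
      rcases hconj g with e | e <;> rw [e]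
      rw [inv_pow, inv_eq_iff_mul_eq_one, ← pow_add, show 2 + 2 = orderOf r by rw [hr], pow_orderOf_eq_one]
    calc g * s = g * s * g⁻¹ * g := by group
      _ = s * g := by rw [hc]
  have hsr : s * r * s⁻¹ = r⁻¹ := by
    rcases hconj s with e | e
    · exfalso
      have hsr : Commute s r := by
        show s * r = r * s
        calc s * r = s * r * s⁻¹ * s := by group
          _ = r * s := by rw [e]
      obtain ⟨g, hg⟩ := hnc
      obtain ⟨c, hc, rfl | rfl⟩ := hgen s hnot g
      · obtain ⟨i, rfl⟩ := Subgroup.mem_zpowers_iff.1 hc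
        exact hg ((hsr.zpow_right i).symm)
      · obtain ⟨i, rfl⟩ := Subgroup.mem_zpowers_iff.1 hc
        exact hg (((hsr.zpow_right i).symm.mul_left (Commute.refl s)))
    · exact e
  have hnz : NeZero 4 := ⟨by norm_num⟩
  obtain ⟨e⟩ := CfsgLib.Invol.exists_mulEquiv_dihedral hr hs2 hsr hnot
  have htop : Subgroup.closure ({r, s} : Set G) = ⊤ := by
    rw [eq_top_iff]
    intro b _
    have hr' : Subgroup.zpowers r ≤ Subgroup.closure ({r, s} : Set G) :=
      Subgroup.zpowers_le.2 (Subgroup.subset_closure (by simp))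
    obtain ⟨c, hc, rfl | rfl⟩ := hgen s hnot b
    · exact hr' hc
    · exact mul_mem (hr' hc) (Subgroup.subset_closure (by simp))
  exact ⟨(((MulEquiv.subgroupCongr htop).trans Subgroup.topEquiv).symm).trans e⟩

end CfsgLib.Classical
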