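import Cfsg.Agent.Lib.Classical.StdQuad
import Cfsg.Agent.Lib.Geom.Symp
import Cfsg.Agent.Lib.Geom.OrthMatrix

/-!
# `O_{2m+1}(q) ≅ Sp_{2m}(q)` in characteristic two
-/

namespace CfsgLib.Classical

open CfsgLib.Geom QuadraticMap

set_option linter.unusedSectionVars false

variable {F : Type*} [Field F] [CharP F 2] (m : ℕ)

/-- The hyperplane part. -/
def oddPr : (Unit ⊕ (Fin m ⊕ Fin m) → F) →ₗ[F] (Fin m ⊕ Fin m → F) := LinearMap.funLeft F F Sum.inr

/-- The hyperplane. -/
def oddInj : (Fin m ⊕ Fin m → F) →ₗ[F] (Unit ⊕ (Fin m ⊕ Fin m) → F) where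
  toFun x := Sum.elim (fun _ => 0) x
  map_add' x y := funext fun i => by rcases i with i | i <;> simp
  map_smul' c x := funext fun i => by rcases i with i | i <;> simp

variable {m}

theorem sympBilin_eq_polar (u v : Unit ⊕ (Fin m ⊕ Fin m) → F) :
    sympBilin m F (oddPr m u) (oddPr m v) = polar (qfOdd m F) u v := by
  rw [sympBilin_apply, sympForm_eq_sum, polar_qfOdd, CharTwo.two_eq_zero, zero_mul, zero_mul, zero_add]
  refine Finset.sum_congr rfl fun i _ => ?_
  simp only [oddPr, LinearMap.funLeft_apply, CharTwo.sub_eq_add]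
  ring

theorem qfOdd_split (v : Unit ⊕ (Fin m ⊕ Fin m) → F) :
    qfOdd m F v = v (.inl ()) ^ 2 + qfOdd m F (oddInj m (oddPr m v)) := by
  simp [qfOdd_apply, Cfsg.quadFormOdd, oddInj, oddPr]

theorem oddPr_inj (x : Fin m ⊕ Fin m → F) : oddPr m (oddInj m x) = x := rfl

theorem eq_of_oddPr {v : Unit ⊕ (Fin m ⊕ Fin m) → F} (h : oddPr m v = 0) :
    v = v (.inl ()) • Pi.single (.inl ()) 1 := by
  funext i
  rcases i with i | i
  · simp
  · simpa [oddPr] using congrFun h i

/-- Isometries fix the radical vector. -/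
theorem quadIsom_fix_radical (g : quadIsoms (qfOdd m F)) :
    g.1 (Pi.single (.inl ()) 1) = Pi.single (.inl ()) 1 := by
  have hpr : oddPr m (g.1 (Pi.single (.inl ()) 1)) = 0 := by
    refine sympBilin_sep (F := F) _ fun y => ?_
    rw [← oddPr_inj y, ← g.1.apply_symm_apply (oddInj m y), sympBilin_eq_polar, polar_quadIsom g.2,
      polar_qfOdd, CharTwo.two_eq_zero]
    simp
  have h := eq_of_oddPr hpr
  have hq := mem_quadIsoms.1 g.2 (Pi.single (.inl ()) 1)
  rw [h] at hq ⊢
  generalize g.1 (Pi.single (.inl ()) 1) (.inl ()) = c at hq ⊢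
  have hc : c ^ 2 = 1 := by simpa [qfOdd_apply, Cfsg.quadFormOdd] using hq
  have hc2 : (c - 1) ^ 2 = 0 := by rw [CharTwo.sub_eq_add, CharTwo.add_sq, hc, one_pow, CharTwo.add_self_eq_zero]
  rw [sub_eq_zero.1 (pow_eq_zero_iff two_ne_zero |>.1 hc2), one_smul]

theorem oddPr_quadIsom (g : quadIsoms (qfOdd m F)) (v : Unit ⊕ (Fin m ⊕ Fin m) → F) :
    oddPr m (g.1 v) = oddPr m (g.1 (oddInj m (oddPr m v))) := by
  have h : v - oddInj m (oddPr m v) = v (.inl ()) • Pi.single (.inl ()) 1 := by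
    funext i
    rcases i with i | i <;> simp [oddInj, oddPr]
  rw [← sub_eq_zero, ← map_sub, ← map_sub, h, map_smul, quadIsom_fix_radical, map_smul]
  funext i
  simp [oddPr]

/-- Restriction of an isometry to the hyperplane modulo the radical. -/
noncomputable def oddRes (g : quadIsoms (qfOdd m F)) :
    (Fin m ⊕ Fin m → F) ≃ₗ[F] (Fin m ⊕ Fin m → F) :=
  LinearEquiv.ofLinearMap (oddPr m ∘ₗ g.1.toLinearMap ∘ₗ oddInj m)
    (oddPr m ∘ₗ (g⁻¹).1.toLinearMap ∘ₗ oddInj m)
    (LinearMap.ext fun x => by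
      show oddPr m (g.1 (oddInj m (oddPr m ((g⁻¹).1 (oddInj m x))))) = x
      rw [← oddPr_quadIsom, ← LinearEquiv.mul_apply, ← Subgroup.coe_mul, mul_inv_cancel]
      rfl)
    (LinearMap.ext fun x => by
      show oddPr m ((g⁻¹).1 (oddInj m (oddPr m (g.1 (oddInj m x))))) = x
      rw [← oddPr_quadIsom, ← LinearEquiv.mul_apply, ← Subgroup.coe_mul, inv_mul_cancel]
      rfl)

theorem oddRes_apply (g : quadIsoms (qfOdd m F)) (x : Fin m ⊕ Fin m → F) :
    oddRes g x = oddPr m (g.1 (oddInj m x)) := rfl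

variable (m F) in
/-- `O_{2m+1} → Sp_{2m}`. -/
noncomputable def oddHom : quadIsoms (qfOdd m F) →* formIsoms (sympBilin m F) where
  toFun g := ⟨oddRes g, mem_formIsoms.2 fun u v => by
    rw [oddRes_apply, oddRes_apply, sympBilin_eq_polar, polar_quadIsom g.2, ← sympBilin_eq_polar,
      oddPr_inj, oddPr_inj]⟩
  map_one' := Subtype.ext (LinearEquiv.ext fun _ => rfl)
  map_mul' g h := Subtype.ext (LinearEquiv.ext fun x => by
    show oddPr m (g.1 (h.1 (oddInj m x))) = oddPr m (g.1 (oddInj m (oddPr m (h.1 (oddInj m x)))))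
    exact oddPr_quadIsom g _)

theorem oddHom_injective : Function.Injective (oddHom F m) := by
  refine (injective_iff_map_eq_one _).2 fun g hg => Subtype.ext (LinearEquiv.ext fun v => ?_)
  have hg' : ∀ x, oddPr m (g.1 (oddInj m x)) = x := fun x => by
    have := congrArg (fun e => e.1 x) hg
    simpa [oddHom, oddRes_apply] using this
  show g.1 v = v
  have h0 : oddPr m (g.1 v - v) = 0 := by rw [map_sub, oddPr_quadIsom, hg', sub_self]
  rw [← sub_eq_zero, eq_of_oddPr h0]
  have hq := mem_quadIsoms.1 g.2 v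
  rw [qfOdd_split v, qfOdd_split (g.1 v), oddPr_quadIsom, hg', add_left_inj] at hq
  have h1 : (g.1 v (.inl ()) - v (.inl ())) ^ 2 = 0 := by
    rw [CharTwo.sub_eq_add, CharTwo.add_sq, hq, CharTwo.add_self_eq_zero]
  rw [Pi.sub_apply, pow_eq_zero_iff two_ne_zero |>.1 h1, zero_smul]

theorem oddHom_surjective [Finite F] : Function.Surjective (oddHom F m) := by
  have : PerfectRing F 2 := PerfectRing.ofFiniteOfIsReduced 2 F
  intro A
  let f : (Fin m ⊕ Fin m → F) → F := fun x => qfOdd m F (oddInj m x) + qfOdd m F (oddInj m (A.1 x))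
  have hA : ∀ x y, polar (qfOdd m F) (oddInj m (A.1 x)) (oddInj m (A.1 y)) =
      polar (qfOdd m F) (oddInj m x) (oddInj m y) := fun x y => by
    rw [← sympBilin_eq_polar, ← sympBilin_eq_polar, oddPr_inj, oddPr_inj, oddPr_inj, oddPr_inj]
    exact mem_formIsoms.1 A.2 x y
  have hadd : ∀ x y, f (x + y) = f x + f y := fun x y => by
    have h := hA x y
    simp only [f, map_add]
    rw [QuadraticMap.map_add (qfOdd m F), QuadraticMap.map_add (qfOdd m F), h]
    linear_combination (polar (qfOdd m F) (oddInj m x) (oddInj m y)) * (CharTwo.two_eq_zero (R := F))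
  have hsmul : ∀ (c : F) x, f (c • x) = c ^ 2 * f x := fun c x => by
    simp only [f, map_smul, QuadraticMap.map_smul, smul_eq_mul]; ring
  let lam : (Fin m ⊕ Fin m → F) →ₗ[F] F :=
    { toFun := fun x => (frobeniusEquiv F 2).symm (f x)
      map_add' := fun x y => by rw [hadd, map_add]
      map_smul' := fun c x => by
        rw [hsmul, map_mul, RingHom.id_apply, smul_eq_mul]
        congr 1
        exact (frobeniusEquiv F 2).injective (by rw [RingEquiv.apply_symm_apply, frobeniusEquiv_apply, frobenius_def]) }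
  have hlam : ∀ x, lam x ^ 2 = f x := fun x => by
    show ((frobeniusEquiv F 2).symm (f x)) ^ 2 = f x
    rw [← frobenius_def, frobenius_apply_frobeniusEquiv_symm]
  let T : (Unit ⊕ (Fin m ⊕ Fin m) → F) →ₗ[F] (Unit ⊕ (Fin m ⊕ Fin m) → F) :=
    oddInj m ∘ₗ A.1.toLinearMap ∘ₗ oddPr m +
      ((LinearMap.proj (Sum.inl ()) : (Unit ⊕ (Fin m ⊕ Fin m) → F) →ₗ[F] F) + lam ∘ₗ oddPr m).smulRight (Pi.single (.inl ()) 1)
  have hT1 : ∀ v, oddPr m (T v) = A.1 (oddPr m v) := fun v => by
    funext i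
    simp [T, oddPr, oddInj]
  have hT2 : ∀ v, T v (.inl ()) = v (.inl ()) + lam (oddPr m v) := fun v => by
    simp [T, oddInj]
  have hTinj : Function.Injective T := (injective_iff_map_eq_zero T).2 fun v hv => by
    have h1 := hT1 v
    rw [hv, map_zero] at h1
    have h2 : oddPr m v = 0 := A.1.injective (by rw [map_zero]; exact h1.symm)
    have h3 := hT2 v
    rw [hv, h2, map_zero, add_zero] at h3
    rw [eq_of_oddPr h2, ← h3, Pi.zero_apply, zero_smul]
  have hTQ : ∀ v, qfOdd m F (T v) = qfOdd m F v := fun v => by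
    rw [qfOdd_split (T v), hT1, hT2, qfOdd_split v, CharTwo.add_sq, hlam]
    simp only [f]
    linear_combination (qfOdd m F (oddInj m (A.1 (oddPr m v)))) * (CharTwo.two_eq_zero (R := F))
  refine ⟨⟨LinearEquiv.ofBijective T ⟨hTinj, LinearMap.injective_iff_surjective.1 hTinj⟩,
    mem_quadIsoms.2 hTQ⟩, Subtype.ext (LinearEquiv.ext fun x => ?_)⟩
  show oddPr m (T (oddInj m x)) = A.1 x
  rw [hT1, oddPr_inj]

theorem isometryGroup_odd_two_equiv [Finite F] :
    Nonempty (Cfsg.isometryGroup F (Cfsg.quadFormOdd m F) ≃* Matrix.symplecticGroup (Fin m) F) := by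
  have e := (orEquiv (qfOdd m F)).symm.trans
    ((MulEquiv.ofBijective (oddHom F m) ⟨oddHom_injective, oddHom_surjective⟩).trans (spEquiv m F))
  rw [show (⇑(qfOdd m F)) = Cfsg.quadFormOdd m F from funext fun v => qfOdd_apply m v] at e
  exact ⟨e⟩

end CfsgLib.Classical
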