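import Mathlib
import Cfsg.Agent.Lib.Classical.GraphFormClass
import Cfsg.Agent.Lib.Classical.StdQuad
import Cfsg.Agent.Lib.Classical.OrthOmega

/-!
The standard symmetric and alternating matrices and the classes of forms they represent.
-/

set_option autoImplicit false
set_option linter.unusedSectionVars false

namespace CfsgLib.Classical.GraphForm

open Matrix CfsgLib.Geom
open QuadraticMap (polar)

variable {F : Type*} [Field F] {ι : Type} [Fintype ι] [DecidableEq ι]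

/-- The polar matrix of a quadratic form. -/
noncomputable def gram (Q : QuadraticForm F (ι → F)) : Matrix ι ι F := LinearMap.toMatrix₂' F Q.polarBilin

theorem gram_transpose (Q : QuadraticForm F (ι → F)) : (gram Q)ᵀ = gram Q :=
  Matrix.ext fun i j => by
    rw [transpose_apply, gram, LinearMap.toMatrix₂'_apply, LinearMap.toMatrix₂'_apply,
      QuadraticMap.polarBilin_apply_apply, QuadraticMap.polarBilin_apply_apply, QuadraticMap.polar_comm]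

theorem isUnit_gram (Q : QuadraticForm F (ι → F)) (hQ : ∀ x, (∀ y, polar Q x y = 0) → x = 0) :
    IsUnit (gram Q) := by
  rw [isUnit_iff_isUnit_det, isUnit_iff_ne_zero, ← nondegenerate_iff_det_ne_zero]
  exact LinearMap.nondegenerate_toMatrix₂'_iff.2
    ⟨fun u hu => hQ u hu, fun u hu => hQ u fun y => by rw [QuadraticMap.polar_comm]; exact hu y⟩

theorem J_isAlt (m : ℕ) : IsAlt (Matrix.J (Fin m) F) :=
  ⟨Matrix.J_transpose (Fin m) F, fun i => by rcases i with i | i <;> simp [Matrix.J]⟩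

theorem J_isUnit (m : ℕ) : IsUnit (Matrix.J (Fin m) F) := by
  rw [isUnit_iff_isUnit_det]
  exact Matrix.isUnit_det_J (Fin m) F

theorem isAlt_reindex {κ : Type} [Fintype κ] [DecidableEq κ] (e : ι ≃ κ) {B : Matrix ι ι F} (hB : IsAlt B) :
    IsAlt (Matrix.reindex e e B) :=
  ⟨by rw [transpose_reindex, hB.1]; rfl, fun i => hB.2 _⟩

theorem not_isAlt_of_sym (h2 : (2 : F) ≠ 0) [Nonempty ι] {B : Matrix ι ι F} (hB : Bᵀ = B) (hu : IsUnit B) :
    ¬ IsAlt B := fun h => by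
  have h0 : B = 0 := Matrix.ext fun i j => by
    have := congrFun (congrFun (hB.symm.trans h.1) i) j
    rw [Matrix.neg_apply] at this
    exact (mul_eq_zero.1 (show (2 : F) * B i j = 0 by linear_combination this)).resolve_left h2
  exact hu.ne_zero h0

theorem isUnit_reindex {κ : Type} [Fintype κ] [DecidableEq κ] (e : ι ≃ κ) {B : Matrix ι ι F} (hB : IsUnit B) :
    IsUnit (Matrix.reindex e e B) :=
  hB.map (Matrix.reindexAlgEquiv F F e)

theorem sym_reindex {κ : Type} [Fintype κ] [DecidableEq κ] (e : ι ≃ κ) {B : Matrix ι ι F} (hB : Bᵀ = B) :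
    (Matrix.reindex e e B)ᵀ = Matrix.reindex e e B := by rw [transpose_reindex, hB]

variable [Fintype F]

/-- The three classes of forms in even dimension and odd characteristic. -/
theorem classify_even {n m : ℕ} (hm : 1 ≤ m) (hnm : n = 2 * m) (h2 : (2 : F) ≠ 0) {a b : F}
    (hab : ∀ z₁ z₂ : F, z₁ ^ 2 + a * z₁ * z₂ + b * z₂ ^ 2 = 0 → z₁ = 0 ∧ z₂ = 0) :
    ∃ B₁ B₂ B₃ : Matrix (Fin n) (Fin n) F,
      (IsAlt B₁ ∧ IsUnit B₁) ∧ (B₂ᵀ = B₂ ∧ IsUnit B₂) ∧ (B₃ᵀ = B₃ ∧ IsUnit B₃) ∧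
      ¬ FormCongr B₁ B₂ ∧ ¬ FormCongr B₁ B₃ ∧ ¬ FormCongr B₂ B₃ ∧
      (∀ B, IsForm B → IsUnit B → FormCongr B₁ B ∨ FormCongr B₂ B ∨ FormCongr B₃ B) ∧
      (∀ B : Matrix (Fin n) (Fin n) F, Bᵀ = B → IsUnit B → IsSquare ((-1) ^ m * B.det) → FormCongr B₂ B) ∧
      (∀ B : Matrix (Fin n) (Fin n) F, Bᵀ = B → IsUnit B → ¬ IsSquare ((-1) ^ m * B.det) → FormCongr B₃ B) ∧
      Nonempty (Cfsg.projQuot (formSim B₁) ≃* Cfsg.PGSp m F) ∧
      Nonempty (Cfsg.projQuot (formSim B₂) ≃* Cfsg.PGO F (Cfsg.quadFormPlus m F)) ∧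
      Nonempty (Cfsg.projQuot (formSim B₃) ≃* Cfsg.PGO F (Cfsg.quadFormMinus (m - 1) F a b)) := by
  obtain ⟨k, rfl⟩ : ∃ k, m = k + 1 := ⟨m - 1, by omega⟩
  subst hnm
  have : Nonempty (Fin (2 * (k + 1))) := ⟨⟨0, by omega⟩⟩
  obtain ⟨e₁⟩ : Nonempty (Fin (k + 1) ⊕ Fin (k + 1) ≃ Fin (2 * (k + 1))) :=
    ⟨finSumFinEquiv.trans (finCongr (by omega))⟩
  obtain ⟨e₃⟩ : Nonempty ((Fin k ⊕ Fin k) ⊕ Fin 2 ≃ Fin (2 * (k + 1))) :=
    ⟨(Equiv.sumCongr finSumFinEquiv (Equiv.refl _)).trans (finSumFinEquiv.trans (finCongr (by omega)))⟩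
  obtain ⟨B₁, hB₁⟩ : ∃ B, B = Matrix.reindex e₁ e₁ (Matrix.J (Fin (k + 1)) F) := ⟨_, rfl⟩
  obtain ⟨B₂, hB₂⟩ : ∃ B, B = Matrix.reindex e₁ e₁ (gram (plusForm (k + 1) F)) := ⟨_, rfl⟩
  obtain ⟨B₃, hB₃⟩ : ∃ B, B = Matrix.reindex e₃ e₃ (gram (minusForm k F a b)) := ⟨_, rfl⟩
  have h1 : IsAlt B₁ ∧ IsUnit B₁ := hB₁ ▸ ⟨isAlt_reindex e₁ (J_isAlt _), isUnit_reindex e₁ (J_isUnit _)⟩
  have hd2 : B₂.det = (-1) ^ (k + 1) := by
    rw [hB₂, det_reindex_self, gram, plusForm_disc]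
  have hd3 : B₃.det = (-1) ^ k * (4 * b - a * a) := by
    rw [hB₃, det_reindex_self, gram, minusForm_disc]
  have hdisc : (4 : F) * b - a * a ≠ 0 := fun h =>
    not_isSquare_disc h2 a b hab ⟨0, by linear_combination -h⟩
  have h2' : B₂ᵀ = B₂ ∧ IsUnit B₂ := ⟨hB₂ ▸ sym_reindex e₁ (gram_transpose _), by
    rw [isUnit_iff_isUnit_det, hd2]; exact IsUnit.pow _ isUnit_one.neg⟩
  have h3' : B₃ᵀ = B₃ ∧ IsUnit B₃ := ⟨hB₃ ▸ sym_reindex e₃ (gram_transpose _), by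
    rw [isUnit_iff_isUnit_det, hd3]; exact (IsUnit.pow _ isUnit_one.neg).mul (Ne.isUnit hdisc)⟩
  have hns : ¬ IsSquare ((-1) ^ (k + 1) * B₃.det) := fun ⟨r, hr⟩ =>
    not_isSquare_disc h2 a b hab ⟨r, by
      rw [← hr, hd3, pow_succ, mul_comm ((-1 : F) ^ k) (-1), mul_assoc, ← mul_assoc ((-1 : F) ^ k),
        ← mul_pow, neg_one_mul (-1 : F), neg_neg, one_pow]
      ring⟩
  have hc2 : ∀ B : Matrix (Fin (2 * (k + 1))) (Fin (2 * (k + 1))) F, Bᵀ = B → IsUnit B → IsSquare ((-1) ^ (k + 1) * B.det) →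
      FormCongr B₂ B := fun B hB hu hsq => by
    obtain ⟨P, hP⟩ := sym_congr h2 hB hu h2'.1 h2'.2 (by rw [hd2, mul_comm]; exact hsq)
    exact ⟨P, 1, by rw [hP, Units.val_one, one_smul]⟩
  have hc3 : ∀ B : Matrix (Fin (2 * (k + 1))) (Fin (2 * (k + 1))) F, Bᵀ = B → IsUnit B → ¬ IsSquare ((-1) ^ (k + 1) * B.det) →
      FormCongr B₃ B := fun B hB hu hsq => by
    obtain ⟨P, hP⟩ := sym_congr h2 hB hu h3'.1 h3'.2 (by
      have := isSquare_mul_of_not _ _ hsq hns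
      rwa [mul_mul_mul_comm, ← mul_pow, neg_one_mul (-1 : F), neg_neg, one_pow, one_mul] at this)
    exact ⟨P, 1, by rw [hP, Units.val_one, one_smul]⟩
  refine ⟨B₁, B₂, B₃, h1, h2', h3', fun h => not_isAlt_of_sym h2 h2'.1 h2'.2 (isAlt_congr h h1.1),
    fun h => not_isAlt_of_sym h2 h3'.1 h3'.2 (isAlt_congr h h1.1), fun h => ?_, fun B hB hu => ?_, hc2, hc3, ?_, ?_, ?_⟩
  · obtain ⟨P, c, hP⟩ := h
    have hdet := det_of_congr hP
    refine hns ⟨P.1.det / (c : F) ^ (k + 1), ?_⟩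
    rw [hd2, Fintype.card_fin] at hdet
    rw [show (c : F) ^ (2 * (k + 1)) = (c : F) ^ (k + 1) * (c : F) ^ (k + 1) by rw [two_mul, pow_add]] at hdet
    have hc0 : (c : F) ^ (k + 1) ≠ 0 := pow_ne_zero _ c.ne_zero
    have hss : ((-1 : F) ^ (k + 1)) * (-1) ^ (k + 1) = 1 := by rw [← mul_pow, neg_one_mul, neg_neg, one_pow]
    rw [div_mul_div_comm, eq_div_iff (mul_ne_zero hc0 hc0)]
    linear_combination (-((-1 : F) ^ (k + 1))) * hdet + (P.1.det * P.1.det) * hss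
  · rcases (isForm_iff B).1 hB with h | ⟨h, -⟩
    · obtain ⟨P, hP⟩ := alt_congr h hu h1.1 h1.2
      exact Or.inl ⟨P, 1, by rw [hP, Units.val_one, one_smul]⟩
    · by_cases hsq : IsSquare ((-1) ^ (k + 1) * B.det)
      · exact Or.inr (Or.inl (hc2 B h hu hsq))
      · exact Or.inr (Or.inr (hc3 B h hu hsq))
  · obtain ⟨φ⟩ := formSim_reindex e₁ (Matrix.J (Fin (k + 1)) F)
    show Nonempty (_ ≃* Cfsg.projQuot (Cfsg.GSp (k + 1) F))
    rw [gSp_eq, hB₁]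
    exact ⟨φ.symm⟩
  · obtain ⟨φ⟩ := formSim_reindex e₁ (gram (plusForm (k + 1) F))
    show Nonempty (_ ≃* Cfsg.projQuot (Cfsg.Geo.quadSimilarityGroup (F := F) (Cfsg.quadFormPlus (k + 1) F)))
    rw [← plusForm_coe, quadSim_eq _ h2, hB₂]
    exact ⟨φ.symm⟩
  · obtain ⟨φ⟩ := formSim_reindex e₃ (gram (minusForm k F a b))
    show Nonempty (_ ≃* Cfsg.projQuot (Cfsg.Geo.quadSimilarityGroup (F := F) (Cfsg.quadFormMinus (k + 1 - 1) F a b)))
    rw [Nat.add_sub_cancel, ← minusForm_coe, quadSim_eq _ h2, hB₃]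
    exact ⟨φ.symm⟩

/-- In odd dimension and odd characteristic there is one class of forms. -/
theorem classify_odd {n m : ℕ} (hnm : n = 2 * m + 1) (h2 : (2 : F) ≠ 0) :
    ∃ B₀ : Matrix (Fin n) (Fin n) F, B₀ᵀ = B₀ ∧ IsUnit B₀ ∧
      (∀ B, IsForm B → IsUnit B → FormCongr B₀ B) ∧
      Nonempty (Cfsg.projQuot (formSim B₀) ≃* Cfsg.PGO F (Cfsg.quadFormOdd m F)) := by
  subst hnm
  obtain ⟨e⟩ : Nonempty (Unit ⊕ (Fin m ⊕ Fin m) ≃ Fin (2 * m + 1)) :=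
    Fintype.card_eq.1 (by simp; omega)
  have hu0 := isUnit_reindex e (isUnit_gram _ (qfOdd_sep (F := F) h2 m))
  refine ⟨_, sym_reindex e (gram_transpose (qfOdd m F)), hu0, fun B hB hu => ?_, ?_⟩
  · have hBs : Bᵀ = B := by
      rcases (isForm_iff B).1 hB with h | h
      · exact absurd (even_card_of_alt h hu) (by rw [Fintype.card_fin]; simp)
      · exact h.1
    obtain ⟨B₀, hB₀⟩ : ∃ B₀, B₀ = Matrix.reindex e e (gram (qfOdd m F)) := ⟨_, rfl⟩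
    rw [← hB₀] at hu0 ⊢
    obtain ⟨c, hc⟩ : ∃ c : Fˣ, (c : F) = B.det * B₀.det :=
      ⟨(((isUnit_iff_isUnit_det _).1 hu).mul ((isUnit_iff_isUnit_det _).1 hu0)).unit, rfl⟩
    obtain ⟨P, hP⟩ := sym_congr h2 (B := (c : F) • B) (by rw [transpose_smul, hBs])
      (by rw [isUnit_iff_isUnit_det, det_smul]; exact (c.isUnit.pow _).mul ((isUnit_iff_isUnit_det _).1 hu))
      (hB₀ ▸ sym_reindex e (gram_transpose _)) hu0
      ⟨(c : F) ^ m * c, by rw [det_smul, Fintype.card_fin, mul_assoc, ← hc]; ring⟩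
    exact ⟨P, c, hP⟩
  · obtain ⟨φ⟩ := formSim_reindex e (gram (qfOdd m F))
    show Nonempty (_ ≃* Cfsg.projQuot (Cfsg.Geo.quadSimilarityGroup (F := F) (Cfsg.quadFormOdd m F)))
    rw [← qfOdd_coe, quadSim_eq _ h2]
    exact ⟨φ.symm⟩

end CfsgLib.Classical.GraphForm
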