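import Mathlib
import Cfsg.Prelude.Def_ClassicalGeometry
import Cfsg.Agent.Lib.Classical.GraphFormStd

/-!
Symmetric matrices in characteristic two: the symplectic group, the centraliser of a transvection, and the
orthogonal group in odd dimension.
-/

set_option autoImplicit false
set_option linter.unusedSectionVars false

namespace CfsgLib.Classical.GraphForm

open Matrix CfsgLib.Geom
open QuadraticMap (polar)

variable {F : Type*} [Field F] {ι : Type} [Fintype ι] [DecidableEq ι]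

/-- The matrices fixing the form. -/
def formIsom (B : Matrix ι ι F) : Subgroup (GL ι F) where
  carrier := {x | x.1ᵀ * B * x.1 = B}
  one_mem' := by simp
  mul_mem' := by
    intro x y (hx : _ = B) (hy : _ = B)
    show _ = B
    calc (x * y).1ᵀ * B * (x * y).1 = y.1ᵀ * (x.1ᵀ * B * x.1) * y.1 := by
          rw [Units.val_mul, transpose_mul]; simp only [Matrix.mul_assoc]
      _ = B := by rw [hx, hy]
  inv_mem' := by
    intro x (hx : _ = B)
    show _ = B
    conv_lhs => arg 1; arg 2; rw [← hx]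
    rw [← Matrix.mul_assoc, ← Matrix.mul_assoc, ← transpose_mul, Units.mul_inv, transpose_one, Matrix.one_mul,
      Matrix.mul_assoc, Units.mul_inv, Matrix.mul_one]

theorem mem_formIsom {B : Matrix ι ι F} {x : GL ι F} : x ∈ formIsom B ↔ x.1ᵀ * B * x.1 = B := Iff.rfl

theorem formIsom_le (B : Matrix ι ι F) : formIsom B ≤ formSim B :=
  fun x hx => ⟨1, by rw [Units.val_one, one_smul]; exact hx⟩

variable [Finite F] (h2 : (2 : F) = 0)

include h2 in
theorem projQuot_formIsom [Nonempty ι] {B : Matrix ι ι F} (hu : IsUnit B) :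
    Nonempty (Cfsg.projQuot (formSim B) ≃* formIsom B) := by
  haveI : CharP F 2 := CharTwo.of_one_ne_zero_of_two_eq_zero one_ne_zero h2
  refine ⟨(MulEquiv.ofBijective
    ((QuotientGroup.mk' _).comp (Subgroup.inclusion (formIsom_le B)))
    ⟨(injective_iff_map_eq_one _).2 fun x hx => ?_, fun y => ?_⟩).symm⟩
  · obtain ⟨c, hc⟩ := (Cfsg.Geo.mem_scalars_iff _).1 ((QuotientGroup.eq_one_iff (Subgroup.inclusion (formIsom_le B) x)).1 hx)
    have hc' : x.1.1 = (c : F) • 1 := hc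
    have h := (mem_formIsom.1 x.2)
    rw [hc', transpose_smul, transpose_one, smul_mul, Matrix.one_mul, mul_smul_comm, Matrix.mul_one, smul_smul] at h
    have h1 : ((c : F) * c - 1) • B = 0 := by rw [sub_smul, h, one_smul, sub_self]
    have h2' : (c : F) ^ 2 = 1 ^ 2 := by
      rw [one_pow, sq]
      exact sub_eq_zero.1 ((smul_eq_zero.1 h1).resolve_right hu.ne_zero)
    refine Subtype.ext (Units.ext ?_)
    rw [hc', CharTwo.sq_inj.1 h2', one_smul]
    rfl
  · obtain ⟨⟨x, c, hc⟩, rfl⟩ := QuotientGroup.mk_surjective y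
    obtain ⟨s, hs⟩ := isSquare_of_two_eq_zero h2 (c : F)
    have hs0 : s ≠ 0 := fun h => c.ne_zero (by rw [hs, h, mul_zero])
    obtain ⟨z, hz⟩ : ∃ z : GL ι F, z.1 = s⁻¹ • x.1 :=
      ⟨GeneralLinearGroup.scalar ι (Units.mk0 s⁻¹ (inv_ne_zero hs0)) * x, by
        simp [Matrix.smul_eq_diagonal_mul]⟩
    refine ⟨⟨z, ?_⟩, QuotientGroup.eq.2 ((Cfsg.Geo.mem_scalars_iff _).2 ⟨Units.mk0 s hs0, ?_⟩)⟩
    · rw [mem_formIsom, hz, transpose_smul, smul_mul, mul_smul_comm, smul_mul, hc, smul_smul, smul_smul, hs]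
      rw [show s⁻¹ * s⁻¹ * (s * s) = 1 by field_simp, one_smul]
    · have h1 : x.1 = s • z.1 := by rw [hz, smul_smul, mul_inv_cancel₀ hs0, one_smul]
      show (z⁻¹).1 * x.1 = _
      rw [h1, mul_smul_comm, Units.inv_mul, Units.val_mk0]

theorem formIsom_reindex {κ : Type} [Fintype κ] [DecidableEq κ] (e : ι ≃ κ) (B : Matrix ι ι F) :
    Nonempty (formIsom B ≃* formIsom (Matrix.reindex e e B)) := by
  refine ⟨((glReindex e).subgroupMap (formIsom B)).trans (MulEquiv.subgroupCongr ?_)⟩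
  ext x
  obtain ⟨y, rfl⟩ := (glReindex e).surjective x
  refine (Subgroup.mem_map_iff_mem (glReindex e).injective).trans ?_
  have h : (glReindex e y).1ᵀ * Matrix.reindex e e B * (glReindex e y).1 =
      Matrix.reindex e e (y.1ᵀ * B * y.1) := by
    rw [glReindex_val, transpose_reindex]
    exact ((map_mul (Matrix.reindexAlgEquiv F F e) _ _).trans
      (congrArg (· * _) (map_mul (Matrix.reindexAlgEquiv F F e) _ _))).symm
  rw [mem_formIsom, mem_formIsom, h]
  exact (Matrix.reindex e e).injective.eq_iff.symm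

noncomputable def formIsomJ (m : ℕ) :
    formIsom (Matrix.J (Fin m) F) ≃* Matrix.symplecticGroup (Fin m) F :=
  MulEquiv.ofBijective
    ({ toFun := fun x => ⟨x.1.1, SymplecticGroup.mem_iff'.2 x.2⟩
       map_one' := rfl
       map_mul' := fun x y => rfl } : formIsom (Matrix.J (Fin m) F) →* Matrix.symplecticGroup (Fin m) F)
    ⟨fun x y h => Subtype.ext (Units.ext (congrArg Subtype.val h)), fun A =>
      ⟨⟨((isUnit_iff_isUnit_det _).2 (SymplecticGroup.symplectic_det A.2)).unit,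
        SymplecticGroup.mem_iff'.1 A.2⟩, Subtype.ext rfl⟩⟩

theorem formIsomJ_coe (m : ℕ) (x : formIsom (Matrix.J (Fin m) F)) :
    (formIsomJ m x : Matrix (Fin m ⊕ Fin m) (Fin m ⊕ Fin m) F) = x.1.1 := rfl

include h2 in
theorem classify_two_even {n m : ℕ} (hm : 1 ≤ m) (hnm : n = 2 * m) :
    ∃ (B₁ B₃ : Matrix (Fin n) (Fin n) F) (t : Matrix.symplecticGroup (Fin m) F),
      Cfsg.IsTransvection (t : Matrix (Fin m ⊕ Fin m) (Fin m ⊕ Fin m) F) ∧
      (IsAlt B₁ ∧ IsUnit B₁) ∧ (B₃ᵀ = B₃ ∧ IsUnit B₃) ∧ ¬ FormCongr B₁ B₃ ∧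
      (∀ B, IsForm B → IsUnit B → FormCongr B₁ B ∨ FormCongr B₃ B) ∧
      Nonempty (Cfsg.projQuot (formSim B₁) ≃* Matrix.symplecticGroup (Fin m) F) ∧
      Nonempty (Cfsg.projQuot (formSim B₃) ≃*
        Subgroup.centralizer ({t} : Set (Matrix.symplecticGroup (Fin m) F))) := by
  subst hnm
  haveI : CharP F 2 := CharTwo.of_one_ne_zero_of_two_eq_zero one_ne_zero h2
  haveI : Nonempty (Fin (2 * m)) := ⟨⟨0, by omega⟩⟩
  obtain ⟨e⟩ : Nonempty (Fin m ⊕ Fin m ≃ Fin (2 * m)) := ⟨finSumFinEquiv.trans (finCongr (by omega))⟩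
  obtain ⟨J, hJ⟩ : ∃ J, J = Matrix.J (Fin m) F := ⟨_, rfl⟩
  obtain ⟨i0, hi0⟩ : ∃ i0 : Fin m ⊕ Fin m, i0 = Sum.inl ⟨0, hm⟩ := ⟨_, rfl⟩
  obtain ⟨j0, hj0⟩ : ∃ j0 : Fin m ⊕ Fin m, j0 = Sum.inr ⟨0, hm⟩ := ⟨_, rfl⟩
  obtain ⟨w, hw⟩ : ∃ w : Fin m ⊕ Fin m → F, w = Pi.single i0 1 := ⟨_, rfl⟩
  obtain ⟨l, hl⟩ : ∃ l : Fin m ⊕ Fin m → F, l = J *ᵥ w := ⟨_, rfl⟩
  have hJalt : ∀ v, v ⬝ᵥ J *ᵥ v = 0 := fun v => by
    rw [hJ, ← Matrix.toBilin'_apply']; exact toBilin'_alt (J_isAlt m) v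
  have hneg : ∀ x : F, -x = x := CharTwo.neg_eq
  have hJT : Jᵀ = J := by
    rw [hJ, Matrix.J_transpose]; exact Matrix.ext fun i j => hneg _
  have hJswap : ∀ u v, u ⬝ᵥ J *ᵥ v = v ⬝ᵥ J *ᵥ u := fun u v => by
    rw [dotProduct_comm, dotProduct_mulVec, ← mulVec_transpose, hJT, dotProduct_comm]
  have hJu : IsUnit J := hJ ▸ J_isUnit m
  have hlw : l ⬝ᵥ w = 0 := by rw [hl, dotProduct_comm]; exact hJalt w
  have hlj : l j0 = 1 := by
    rw [hl, hw, mulVec_single_one, hJ, hi0, hj0]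
    simp [Matrix.J]
  obtain ⟨C, hC⟩ : ∃ C, C = J + vecMulVec l l := ⟨_, rfl⟩
  have hCv : ∀ v, C *ᵥ v = J *ᵥ v + (l ⬝ᵥ v) • l := fun v => by
    rw [hC, add_mulVec, vecMulVec_mulVec]
    congr 1
    ext i
    simp [mul_comm]
  have hCT : Cᵀ = C := by rw [hC, transpose_add, hJT, transpose_vecMulVec]
  have hCu : IsUnit C := by
    refine Matrix.mulVec_injective_iff_isUnit.1 fun u v huv => sub_eq_zero.1 ?_
    have h0 : C *ᵥ (u - v) = 0 := by rw [mulVec_sub]; exact sub_eq_zero.2 huv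
    obtain ⟨d, hd⟩ : ∃ d, d = u - v := ⟨_, rfl⟩
    rw [← hd] at h0 ⊢
    rw [hCv, hl, ← mulVec_smul, ← mulVec_add] at h0
    have h1 := Matrix.mulVec_injective_of_isUnit hJu (h0.trans (mulVec_zero J).symm)
    have h2 : l ⬝ᵥ d = 0 := by
      have := congrArg (l ⬝ᵥ ·) h1
      simp only [dotProduct_add, dotProduct_smul, hlw, smul_zero, add_zero, dotProduct_zero] at this
      exact this
    rw [← hl, h2, zero_smul, add_zero] at h1
    exact h1
  have hCna : ¬ IsAlt C := fun h => by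
    have := h.2 j0
    rw [hC, Matrix.add_apply, vecMulVec_apply, hlj, hJ, (J_isAlt m).2, zero_add, mul_one] at this
    exact one_ne_zero this
  obtain ⟨T, hT⟩ : ∃ T, T = (1 : Matrix (Fin m ⊕ Fin m) (Fin m ⊕ Fin m) F) + vecMulVec w l := ⟨_, rfl⟩
  have hTv : ∀ v, T *ᵥ v = v + (l ⬝ᵥ v) • w := fun v => by
    rw [hT, add_mulVec, one_mulVec, vecMulVec_mulVec]
    congr 1
    ext i
    simp [mul_comm]
  have hTm : T ∈ Matrix.symplecticGroup (Fin m) F := by
    rw [mem_symplecticGroup_iff_form]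
    intro u v
    simp only [Cfsg.sympForm, ← hJ, hTv, mulVec_add, mulVec_smul, add_dotProduct, dotProduct_add, smul_dotProduct,
      dotProduct_smul, ← hl, smul_eq_mul]
    rw [hJalt w |> fun h => (show w ⬝ᵥ l = 0 by rw [hl]; exact h),
      show w ⬝ᵥ J *ᵥ v = l ⬝ᵥ v by rw [hJswap, hl, dotProduct_comm], dotProduct_comm u l]
    linear_combination (l ⬝ᵥ u) * (l ⬝ᵥ v) * h2
  have hTt : Cfsg.IsTransvection T := by
    rw [Cfsg.IsTransvection, hT, add_sub_cancel_left]
    refine ⟨le_antisymm (rank_vecMulVec_le _ _) (Nat.one_le_iff_ne_zero.2 fun h => ?_), ?_⟩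
    · have h0 : LinearMap.range (vecMulVec w l).mulVecLin = ⊥ := Submodule.finrank_eq_zero.1 h
      have := congrFun (LinearMap.congr_fun (LinearMap.range_eq_bot.1 h0) (Pi.single j0 1)) i0
      rw [mulVecLin_apply, mulVec_single_one] at this
      simp [vecMulVec_apply, hw, hlj] at this
    · ext i j
      rw [Matrix.mul_apply]
      simp only [vecMulVec_apply]
      rw [Finset.sum_congr rfl fun k _ => show w i * l k * (w k * l j) = w i * l j * (l k * w k) by ring,
        ← Finset.mul_sum, show ∑ k, l k * w k = l ⬝ᵥ w from rfl, hlw, mul_zero, Matrix.zero_apply]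
  refine ⟨Matrix.reindex e e J, Matrix.reindex e e C, ⟨T, hTm⟩, hTt,
    ⟨isAlt_reindex e (hJ ▸ J_isAlt m), isUnit_reindex e hJu⟩, ⟨sym_reindex e hCT, isUnit_reindex e hCu⟩,
    fun h => hCna ?_, fun B hB hu => ?_, ?_, ?_⟩
  · obtain ⟨hs, hd⟩ := isAlt_congr h (isAlt_reindex e (hJ ▸ J_isAlt m))
    exact ⟨hCT.trans (Matrix.ext fun i j => (hneg _).symm), fun i => by simpa using hd (e i)⟩
  · rcases (isForm_iff B).1 hB with h | ⟨h, hn⟩
    · obtain ⟨P, hP⟩ := alt_congr h hu (isAlt_reindex e (hJ ▸ J_isAlt m)) (isUnit_reindex e hJu)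
      exact Or.inl ⟨P, 1, by rw [hP, Units.val_one, one_smul]⟩
    · obtain ⟨P, hP⟩ := sym_congr_two h2 h hu hn (sym_reindex e hCT) (isUnit_reindex e hCu)
        (fun ha => hCna ⟨hCT.trans (Matrix.ext fun i j => (hneg _).symm), fun i => by simpa using ha.2 (e i)⟩)
      exact Or.inr ⟨P, 1, by rw [hP, Units.val_one, one_smul]⟩
  · obtain ⟨φ⟩ := projQuot_formIsom h2 (isUnit_reindex e hJu)
    obtain ⟨ψ⟩ := formIsom_reindex e J
    obtain ⟨χ, hχ⟩ : ∃ χ, χ = formIsomJ (F := F) m := ⟨_, rfl⟩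
    subst hJ
    exact ⟨φ.trans (ψ.symm.trans χ)⟩
  · obtain ⟨φ⟩ := projQuot_formIsom h2 (isUnit_reindex e hCu)
    obtain ⟨ψ⟩ := formIsom_reindex e C
    suffices Nonempty (formIsom C ≃* Subgroup.centralizer ({⟨T, hTm⟩} : Set (Matrix.symplecticGroup (Fin m) F))) by
      obtain ⟨χ⟩ := this
      exact ⟨φ.trans (ψ.symm.trans χ)⟩
    have hquad : ∀ v, v ⬝ᵥ C *ᵥ v = (l ⬝ᵥ v) ^ 2 := fun v => by
      rw [hCv, dotProduct_add, hJalt, dotProduct_smul, dotProduct_comm v l, zero_add, smul_eq_mul, sq]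
    have key : ∀ x : Matrix (Fin m ⊕ Fin m) (Fin m ⊕ Fin m) F, xᵀ * C * x = C ↔
        xᵀ * J * x = J ∧ x * T = T * x := by
      intro x
      have hexp : xᵀ * C * x = xᵀ * J * x + vecMulVec (xᵀ *ᵥ l) (xᵀ *ᵥ l) := by
        rw [hC, Matrix.mul_add, Matrix.add_mul]
        congr 1
        rw [mul_vecMulVec, vecMulVec_mul, ← mulVec_transpose]
      have hcomm : x * T = T * x ↔ vecMulVec (x *ᵥ w) l = vecMulVec w (xᵀ *ᵥ l) := by
        rw [hT, Matrix.mul_add, Matrix.add_mul, Matrix.mul_one, Matrix.one_mul, mul_vecMulVec, vecMulVec_mul,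
          ← mulVec_transpose, add_right_inj]
      constructor
      · intro h
        have hxl : xᵀ *ᵥ l = l := by
          funext i
          have h1 := hquad (x *ᵥ Pi.single i 1)
          rw [dot_conj, h, hquad] at h1
          have h2 := CharTwo.sq_inj.1 h1
          rw [dotProduct_mulVec, ← mulVec_transpose, dotProduct_single, mul_one, dotProduct_single, mul_one] at h2
          exact h2.symm
        have hJx : xᵀ * J * x = J := by
          rw [hexp, hxl, hC] at h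
          exact add_right_cancel h
        refine ⟨hJx, hcomm.2 ?_⟩
        have hx : IsUnit xᵀ := by
          have hd := congrArg Matrix.det hJx
          rw [det_mul, det_mul] at hd
          rw [isUnit_iff_isUnit_det, isUnit_iff_ne_zero]
          intro h0
          rw [h0, zero_mul, zero_mul] at hd
          exact ((isUnit_iff_isUnit_det _).1 hJu).ne_zero hd.symm
        have h1 : xᵀ *ᵥ (J *ᵥ (x *ᵥ w)) = xᵀ *ᵥ (J *ᵥ w) := by
          rw [mulVec_mulVec, mulVec_mulVec, hJx, ← hl, hxl]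
        rw [Matrix.mulVec_injective_of_isUnit hJu (Matrix.mulVec_injective_of_isUnit hx h1), hxl]
      · rintro ⟨hJx, hc⟩
        rw [hcomm] at hc
        have hxw : ∀ i, (x *ᵥ w) i = w i * (xᵀ *ᵥ l) j0 := fun i => by
          have := congrFun (congrFun hc i) j0
          rwa [vecMulVec_apply, vecMulVec_apply, hlj, mul_one] at this
        obtain ⟨a, ha⟩ : ∃ a, a = (xᵀ *ᵥ l) j0 := ⟨_, rfl⟩
        have hxl : xᵀ *ᵥ l = a • l := funext fun j => by
          have h1 := congrFun (congrFun hc i0) j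
          rw [vecMulVec_apply, vecMulVec_apply, hxw i0, ← ha] at h1
          rw [Pi.smul_apply, smul_eq_mul]
          simpa [hw] using h1.symm
        have hxw' : x *ᵥ w = a • w := funext fun i => by rw [hxw, ← ha, Pi.smul_apply, smul_eq_mul, mul_comm]
        have h1 : l = (a * a) • l := by
          conv_lhs => rw [hl, ← hJx, ← mulVec_mulVec, hxw', mulVec_smul, ← mulVec_mulVec, ← hl, hxl, smul_smul]
        have h2 : a ^ 2 = 1 ^ 2 := by
          have := congrFun h1 j0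
          rw [Pi.smul_apply, smul_eq_mul, hlj, mul_one] at this
          rw [sq, one_pow]; exact this.symm
        rw [hexp, hJx, hxl, CharTwo.sq_inj.1 h2, one_smul, hC]
    obtain ⟨χ, hχ⟩ : ∃ χ, χ = formIsomJ (F := F) m := ⟨_, rfl⟩
    refine ⟨(MulEquiv.subgroupCongr ?_).trans
      ((χ.subgroupMap ((formIsom C).subgroupOf (formIsom (Matrix.J (Fin m) F)))).symm.trans
        (Subgroup.subgroupOfEquivOfLe (show formIsom C ≤ formIsom (Matrix.J (Fin m) F) from fun x hx =>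
          hJ ▸ ((key x.1).1 hx).1))) |>.symm⟩
    ext A
    constructor
    · intro hA
      refine ⟨χ.symm A, ?_, χ.apply_symm_apply A⟩
      have hA' := Subgroup.mem_centralizer_singleton_iff.1 hA
      show (χ.symm A).1.1ᵀ * C * (χ.symm A).1.1 = C
      refine (key _).2 ⟨hJ ▸ (χ.symm A).2, ?_⟩
      have h1 : A.1 = (χ.symm A).1.1 := by
        conv_lhs => rw [← χ.apply_symm_apply A, hχ]
        rw [formIsomJ_coe, hχ]
      rw [← h1]
      exact congrArg Subtype.val hA'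
    · rintro ⟨x, hx, rfl⟩
      refine Subgroup.mem_centralizer_singleton_iff.2 (Subtype.ext ?_)
      show (χ x).1 * T = T * (χ x).1
      rw [hχ, formIsomJ_coe]
      exact ((key x.1.1).1 hx).2

end CfsgLib.Classical.GraphForm
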