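import Mathlib
import Cfsg.Agent.Lib.Classical.GraphFormStd
import Cfsg.Agent.Lib.Classical.GraphFormTwo
import Cfsg.Agent.Lib.Classical.OrthOrder
import Cfsg.Agent.Lib.Classical.AltOrder
import Cfsg.Agent.Lib.Classical.SLTwoTori

/-!
In odd characteristic the projective conformal orthogonal groups differ in order from the symplectic one.
-/

set_option autoImplicit false
set_option linter.unusedSectionVars false

namespace CfsgLib.Classical.GraphForm

open Matrix CfsgLib.Geom
open QuadraticMap (polar)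

variable {F : Type*} [Field F] [Fintype F] {ι : Type} [Fintype ι] [DecidableEq ι]

theorem card_projQuot_formSim [Nonempty ι] {B : Matrix ι ι F} (hu : IsUnit B)
    (hc : ∀ c : Fˣ, ∃ x : GL ι F, x.1ᵀ * B * x.1 = (c : F) • B) :
    Nat.card (Cfsg.projQuot (formSim B)) = Nat.card (formIsom B) := by
  classical
  haveI : Finite (GL ι F) := inferInstance
  choose μ hμ using fun x : formSim B => mem_formSim.1 x.2
  have huniq : ∀ {a b : F}, a • B = b • B → a = b := fun {a b} h => sub_eq_zero.1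
    ((smul_eq_zero.1 (show (a - b) • B = 0 by rw [sub_smul, h, sub_self])).resolve_right hu.ne_zero)
  let φ : formSim B →* Fˣ := MonoidHom.mk' μ fun x y => Units.ext (huniq (by
    rw [← hμ, Units.val_mul]
    calc (x * y).1.1ᵀ * B * (x * y).1.1 = y.1.1ᵀ * (x.1.1ᵀ * B * x.1.1) * y.1.1 := by
          rw [Subgroup.coe_mul, Units.val_mul, transpose_mul]; simp only [Matrix.mul_assoc]
      _ = _ := by rw [hμ x, mul_smul_comm, smul_mul, hμ y, smul_smul]))
  have hker : φ.ker = (formIsom B).subgroupOf (formSim B) := by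
    ext x
    rw [MonoidHom.mem_ker, Subgroup.mem_subgroupOf, mem_formIsom]
    constructor
    · intro h
      rw [hμ x, show μ x = 1 from h, Units.val_one, one_smul]
    · intro h
      exact Units.ext (huniq (by rw [← hμ x, h, Units.val_one, one_smul]) : ((μ x : Fˣ) : F) = ((1 : Fˣ) : F))
  have hsurj : Function.Surjective φ := fun c => by
    obtain ⟨x, hx⟩ := hc c
    exact ⟨⟨x, c, hx⟩, Units.ext (huniq ((hμ ⟨x, c, hx⟩).symm.trans hx))⟩
  have h1 := φ.ker.card_mul_index
  rw [Subgroup.index_ker, MonoidHom.range_eq_top.2 hsurj, Subgroup.card_top, hker,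
    Nat.card_congr (Subgroup.subgroupOfEquivOfLe (formIsom_le B)).toEquiv] at h1
  have hS : Cfsg.Geo.scalars ι F ≤ formSim B := fun x hx => by
    obtain ⟨a, ha⟩ := (Cfsg.Geo.mem_scalars_iff x).1 hx
    exact ⟨a * a, by rw [ha, transpose_smul, transpose_one, smul_mul, Matrix.one_mul, mul_smul_comm, Matrix.mul_one,
      smul_smul, Units.val_mul]⟩
  have hcardS : Nat.card ((Cfsg.Geo.scalars ι F).subgroupOf (formSim B)) = Nat.card Fˣ := by
    rw [Nat.card_congr (Subgroup.subgroupOfEquivOfLe hS).toEquiv, Cfsg.Geo.scalars]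
    exact (Nat.card_congr (MonoidHom.ofInjective
      (Units.map_injective (f := (Matrix.scalar ι : F →+* Matrix ι ι F).toMonoidHom)
        (Matrix.scalar ι : F →+* Matrix ι ι F).injective)).toEquiv).symm
  have h2 := ((Cfsg.Geo.scalars ι F).subgroupOf (formSim B)).card_mul_index
  rw [hcardS, ← h1, mul_comm] at h2
  exact mul_right_cancel₀ (Nat.card_pos (α := Fˣ)).ne' h2

theorem card_formIsom_gram (h2 : (2 : F) ≠ 0) (Q : QuadraticForm F (ι → F)) :
    Nat.card (formIsom (gram Q)) = Nat.card (quadIsoms Q) := by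
  rw [Nat.card_congr (orEquiv Q).toEquiv]
  have h : Cfsg.isometryGroup F (⇑Q) = formIsom (gram Q) := by
    ext x
    rw [mem_isometryGroup_iff]
    refine ⟨fun h => ext_dot fun u v => ?_, fun h v => mul_left_cancel₀ h2 ?_⟩
    · rw [← dot_conj, gram, ← polar_eq_dot, ← polar_eq_dot]
      simp only [polar, ← mulVec_add, h]
    · have h1 : ∀ u, (2 : F) * Q u = polar Q u u := fun u => by
        rw [QuadraticMap.polar_self, two_nsmul, two_mul]
      rw [h1, h1, polar_eq_dot, polar_eq_dot, dot_conj]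
      exact congrArg (fun M : Matrix ι ι F => v ⬝ᵥ M *ᵥ v) h
  rw [h]

theorem sym_not_pgsp {n m : ℕ} (hm : 2 ≤ m) (hnm : n = 2 * m) (h2 : (2 : F) ≠ 0)
    {B : Matrix (Fin n) (Fin n) F} (hB : Bᵀ = B) (hu : IsUnit B) :
    ¬ Nonempty (Cfsg.projQuot (formSim B) ≃* Cfsg.PGSp m F) := by
  rintro ⟨φ⟩
  obtain ⟨a, b, hab⟩ := exists_anisotropic_binary (F := F)
  obtain ⟨k, rfl⟩ : ∃ k, m = k + 1 := ⟨m - 1, by omega⟩
  obtain ⟨B₁, B₂, B₃, h1, -, -, -, -, -, -, hc2, hc3, ⟨ψ₁⟩, ⟨ψ₂⟩, ⟨ψ₃⟩⟩ :=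
    classify_even (F := F) (n := n) (m := k + 1) (by omega) hnm h2 hab
  have hJ : Nat.card (Cfsg.PGSp (k + 1) F) = Nat.card (formIsom (Matrix.J (Fin (k + 1)) F)) := by
    show Nat.card (Cfsg.projQuot (Cfsg.GSp (k + 1) F)) = _
    rw [gSp_eq]
    exact card_projQuot_formSim (J_isUnit _)
      fun c => form_congr_smul (Or.inr (J_isAlt _).1) (J_isUnit _) c (k := k + 1) (by simp [two_mul])
  have hsp : Nat.card (formIsom (Matrix.J (Fin (k + 1)) F)) = Fintype.card F ^ ((k + 1) ^ 2) *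
      ∏ i ∈ Finset.range (k + 1), (Fintype.card F ^ (2 * (i + 1)) - 1) := by
    rw [Nat.card_congr (formIsomJ (k + 1)).toEquiv, ← Nat.card_congr (spEquiv (k + 1) F).toEquiv]
    exact card_formIsoms_alt _ sympBilin_self sympBilin_sep _ (by simp [two_mul])
  have hq : 3 ≤ Fintype.card F := by
    by_contra hlt
    have h1 := Fintype.one_lt_card (α := F)
    have h3 : ((Fintype.card F : ℕ) : F) = 0 := Nat.cast_card_eq_zero F
    rw [show Fintype.card F = 2 by omega, Nat.cast_two] at h3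
    exact h2 h3
  obtain ⟨A, hA⟩ : ∃ A, Fintype.card F ^ (k + 1) = A + 1 :=
    ⟨_, (Nat.sub_add_cancel (Nat.one_le_pow _ _ Fintype.card_pos)).symm⟩
  have hA2 : 3 ≤ A + 1 := hA ▸ le_trans hq (Nat.le_self_pow (by omega) _)
  have hprod : 0 < ∏ i ∈ Finset.range k, (Fintype.card F ^ (2 * (i + 1)) - 1) :=
    Finset.prod_pos fun i _ => Nat.sub_pos_of_lt (Nat.one_lt_pow (by omega) (by omega))
  have hqk : 0 < Fintype.card F ^ ((k + 1) * k) := pow_pos Fintype.card_pos _
  have key : ∀ (x : ℕ), Nat.card (Cfsg.PGSp (k + 1) F) =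
      2 * Fintype.card F ^ ((k + 1) * k) * x * ∏ i ∈ Finset.range k, (Fintype.card F ^ (2 * (i + 1)) - 1) →
      (A + 1) * (A * (A + 2)) = 2 * x := by
    intro x hx
    rw [hJ, hsp, Finset.prod_range_succ, show (k + 1) ^ 2 = (k + 1) * k + (k + 1) by ring, pow_add, hA,
      show Fintype.card F ^ (2 * (k + 1)) - 1 = A * (A + 2) from
        Nat.sub_eq_of_eq_add (by rw [mul_comm 2, pow_mul, hA]; ring)] at hx
    refine mul_left_cancel₀ (mul_ne_zero hqk.ne' hprod.ne') ?_
    linear_combination hx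
  have hsim : ∀ {B' : Matrix (Fin n) (Fin n) F}, FormCongr B' B →
      Nonempty (Cfsg.projQuot (formSim B') ≃* Cfsg.PGSp (k + 1) F) := fun hc => by
    obtain ⟨χ⟩ := formSim_congr hc
    exact ⟨χ.symm.trans φ⟩
  by_cases hsq : IsSquare ((-1) ^ (k + 1) * B.det)
  · obtain ⟨χ⟩ := hsim (hc2 B hB hu hsq)
    have h0 : Nat.card (Cfsg.PGSp (k + 1) F) =
        Nat.card (Cfsg.PGO F (Cfsg.quadFormPlus (k + 1) F)) :=
      Nat.card_congr (χ.symm.trans ψ₂).toEquiv
    have hp : Nat.card (Cfsg.PGO F (Cfsg.quadFormPlus (k + 1) F)) = Nat.card (quadIsoms (qfPlus (k + 1) F)) := by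
      show Nat.card (Cfsg.projQuot (Cfsg.Geo.quadSimilarityGroup (F := F) (Cfsg.quadFormPlus (k + 1) F))) = _
      rw [← qfPlus_coe, quadSim_eq _ h2, ← card_formIsom_gram h2]
      exact card_projQuot_formSim (isUnit_gram _ (qfPlus_sep _))
        fun c => form_congr_smul (Or.inl (gram_transpose _)) (isUnit_gram _ (qfPlus_sep _)) c (k := k + 1)
          (by simp [two_mul])
    rw [hp, card_qfPlus_isoms, hA, Nat.add_sub_cancel] at h0
    have := key A h0
    have h3 : (A + 1) * (A + 2) = 2 := Nat.eq_of_mul_eq_mul_left (by omega : 0 < A) (by linear_combination this)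
    nlinarith
  · obtain ⟨χ⟩ := hsim (hc3 B hB hu hsq)
    have h0 : Nat.card (Cfsg.PGSp (k + 1) F) =
        Nat.card (Cfsg.PGO F (Cfsg.quadFormMinus (k + 1 - 1) F a b)) :=
      Nat.card_congr (χ.symm.trans ψ₃).toEquiv
    have hp : Nat.card (Cfsg.PGO F (Cfsg.quadFormMinus k F a b)) = Nat.card (quadIsoms (qfMinus k F a b)) := by
      show Nat.card (Cfsg.projQuot (Cfsg.Geo.quadSimilarityGroup (F := F) (Cfsg.quadFormMinus k F a b))) = _
      rw [← qfMinus_coe, quadSim_eq _ h2, ← card_formIsom_gram h2]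
      exact card_projQuot_formSim (isUnit_gram _ (qfMinus_sep _ hab))
        fun c => form_congr_smul (Or.inl (gram_transpose _)) (isUnit_gram _ (qfMinus_sep _ hab)) c (k := k + 1)
          (by simp; omega)
    rw [Nat.add_sub_cancel, hp, card_qfMinus_isoms hab, hA] at h0
    have := key (A + 2) (by rw [h0])
    have h3 : (A + 1) * A = 2 := Nat.eq_of_mul_eq_mul_left (by omega : 0 < A + 2) (by linear_combination this)
    nlinarith

end CfsgLib.Classical.GraphForm
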