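import Mathlib
import Cfsg.Agent.Lib.Classical.GraphFormTwo

/-!
Symmetric matrices of odd size in characteristic two and the odd-dimensional conformal orthogonal group.
-/

set_option autoImplicit false
set_option linter.unusedSectionVars false

namespace CfsgLib.Classical.GraphForm

open Matrix CfsgLib.Geom
open QuadraticMap (polar)

variable {F : Type*} [Field F] [Finite F] {m : ℕ} (h2 : (2 : F) = 0)

/-- `1 ⊕ J`. -/
def oddForm (m : ℕ) (F : Type*) [Field F] : Matrix (Unit ⊕ (Fin m ⊕ Fin m)) (Unit ⊕ (Fin m ⊕ Fin m)) F :=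
  Matrix.fromBlocks 1 0 0 (Matrix.J (Fin m) F)

include h2

theorem polar_oddForm (u v : Unit ⊕ (Fin m ⊕ Fin m) → F) :
    polar (qfOdd m F) u v = (u ∘ Sum.inr) ⬝ᵥ Matrix.J (Fin m) F *ᵥ (v ∘ Sum.inr) := by
  rw [polar_qfOdd, ← show Cfsg.sympForm m F (u ∘ Sum.inr) (v ∘ Sum.inr) = (u ∘ Sum.inr) ⬝ᵥ Matrix.J (Fin m) F *ᵥ (v ∘ Sum.inr) from rfl, sympForm_eq_sum, h2,
    zero_mul, zero_mul, zero_add]
  refine Finset.sum_congr rfl fun i _ => ?_
  simp only [Function.comp]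
  linear_combination (u (.inr (.inl i)) * v (.inr (.inr i))) * h2

theorem oddForm_quad (v : Unit ⊕ (Fin m ⊕ Fin m) → F) :
    v ⬝ᵥ oddForm m F *ᵥ v = v (.inl ()) ^ 2 := by
  rw [oddForm, fromBlocks_mulVec]
  simp only [dotProduct, Fintype.sum_sum_type, Sum.elim_inl, Sum.elim_inr, one_mulVec, zero_mulVec, add_zero,
    zero_add]
  have h := toBilin'_alt (J_isAlt (F := F) m) (v ∘ Sum.inr)
  rw [Matrix.toBilin'_apply', dotProduct] at h
  simp only [Fintype.sum_sum_type, Function.comp] at h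
  simp only [Finset.univ_unique, Finset.sum_singleton, Function.comp, PUnit.default_eq_unit]
  linear_combination h

theorem oddForm_transpose : (oddForm m F)ᵀ = oddForm m F := by
  haveI : CharP F 2 := CharTwo.of_one_ne_zero_of_two_eq_zero one_ne_zero h2
  rw [oddForm, fromBlocks_transpose, transpose_one, transpose_zero, transpose_zero, Matrix.J_transpose]
  congr 1
  exact Matrix.ext fun i j => CharTwo.neg_eq _

theorem oddForm_isUnit : IsUnit (oddForm m F) := by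
  rw [isUnit_iff_isUnit_det, oddForm, det_fromBlocks_zero₂₁, det_one, one_mul]
  exact Matrix.isUnit_det_J (Fin m) F

theorem oddForm_not_alt : ¬ IsAlt (oddForm m F) := fun h => by
  have := h.2 (.inl ())
  simp [oddForm] at this

/-- A similitude of the odd quadratic form is block upper triangular. -/
theorem qfOdd_sim_blocks {g : GL (Unit ⊕ (Fin m ⊕ Fin m)) F} {c : F}
    (hg : ∀ v, qfOdd m F (g.1 *ᵥ v) = c * qfOdd m F v) :
    g.1.toBlocks₂₁ = 0 ∧ (g.1.toBlocks₁₁ () ()) ^ 2 = c ∧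
      (g.1.toBlocks₂₂)ᵀ * Matrix.J (Fin m) F * g.1.toBlocks₂₂ = c • Matrix.J (Fin m) F := by
  have hpol : ∀ u v, polar (qfOdd m F) (g.1 *ᵥ u) (g.1 *ᵥ v) = c * polar (qfOdd m F) u v := fun u v => by
    simp only [polar, ← mulVec_add, hg]; ring
  have hrad : (g.1 *ᵥ Pi.single (.inl ()) 1) ∘ Sum.inr = 0 := by
    refine sympBilin_sep _ fun y => ?_
    obtain ⟨v, hv⟩ : ∃ v, g.1 *ᵥ v = Sum.elim (0 : Unit → F) y := Matrix.mulVec_surjective_iff_isUnit.2 g.isUnit _
    have h := hpol (Pi.single (.inl ()) 1) v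
    rw [hv, polar_oddForm h2, polar_oddForm h2 (Pi.single (.inl ()) 1)] at h
    rw [sympBilin_apply]
    show _ ⬝ᵥ _ = _
    rw [show (Sum.elim (0 : Unit → F) y : Unit ⊕ (Fin m ⊕ Fin m) → F) ∘ Sum.inr = y from rfl,
      show (Pi.single (.inl ()) 1 : Unit ⊕ (Fin m ⊕ Fin m) → F) ∘ Sum.inr = 0 from funext fun i => by simp,
      zero_dotProduct, mul_zero] at h
    exact h
  have h21 : g.1.toBlocks₂₁ = 0 := Matrix.ext fun i j => by
    have := congrFun hrad i
    simpa [mulVec_single_one, toBlocks₂₁] using this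
  refine ⟨h21, ?_, ext_dot fun u v => ?_⟩
  · have h := hg (Pi.single (.inl ()) 1)
    rw [qfOdd_apply, qfOdd_apply, Cfsg.quadFormOdd, Cfsg.quadFormOdd] at h
    rw [Finset.sum_eq_zero fun i _ => by
      rw [show (g.1 *ᵥ Pi.single (.inl ()) 1) (.inr (.inl i)) = 0 from congrFun hrad (.inl i), zero_mul]] at h
    simpa [mulVec_single_one, toBlocks₁₁] using h
  · have h := hpol (Sum.elim (0 : Unit → F) u) (Sum.elim (0 : Unit → F) v)
    rw [polar_oddForm h2, polar_oddForm h2 (Sum.elim (0 : Unit → F) u)] at h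
    have e : ∀ u : Fin m ⊕ Fin m → F, (g.1 *ᵥ (Sum.elim (0 : Unit → F) u)) ∘ Sum.inr = g.1.toBlocks₂₂ *ᵥ u := fun u => by
      conv_lhs => rw [← fromBlocks_toBlocks g.1, fromBlocks_mulVec]
      rw [h21]
      funext i
      simp [Function.comp]
    rw [e, e, dot_conj] at h
    rw [dot_smul]
    exact h

theorem quadSim_odd_iso :
    Nonempty (Cfsg.PGO F (Cfsg.quadFormOdd m F) ≃* Cfsg.projQuot (formSim (oddForm m F))) := by
  haveI : CharP F 2 := CharTwo.of_one_ne_zero_of_two_eq_zero one_ne_zero h2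
  obtain ⟨Q, hQ⟩ : ∃ Q, Q = Cfsg.Geo.quadSimilarityGroup (F := F) (Cfsg.quadFormOdd m F) := ⟨_, rfl⟩
  show Nonempty (Cfsg.projQuot (Cfsg.Geo.quadSimilarityGroup (F := F) (Cfsg.quadFormOdd m F)) ≃* _)
  have hblk : ∀ g ∈ Cfsg.Geo.quadSimilarityGroup (F := F) (Cfsg.quadFormOdd m F), ∃ x ∈ formSim (oddForm m F),
      x.1 = fromBlocks g.1.toBlocks₁₁ 0 0 g.1.toBlocks₂₂ ∧ g.1.toBlocks₂₁ = 0 := by
    rintro g ⟨c, hg⟩
    obtain ⟨h21, hs, hS⟩ := qfOdd_sim_blocks h2 (g := g) (c := (c : F)) fun v => by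
      rw [qfOdd_apply, qfOdd_apply]; exact hg v
    have hdet : IsUnit (fromBlocks g.1.toBlocks₁₁ 0 0 g.1.toBlocks₂₂).det := by
      have := (isUnit_iff_isUnit_det _).1 g.isUnit
      rw [← fromBlocks_toBlocks g.1, h21, det_fromBlocks_zero₂₁] at this
      rwa [det_fromBlocks_zero₂₁]
    refine ⟨((isUnit_iff_isUnit_det _).2 hdet).unit, ⟨c, ?_⟩, rfl, h21⟩
    rw [IsUnit.unit_spec, oddForm, fromBlocks_transpose, fromBlocks_multiply, fromBlocks_multiply, fromBlocks_smul]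
    simp only [transpose_zero, Matrix.zero_mul, Matrix.mul_zero, add_zero, zero_add, Matrix.mul_one, smul_zero, hS]
    congr 1
    ext i j
    rw [Matrix.mul_apply]
    simp only [transpose_apply, Finset.univ_unique, Finset.sum_singleton, Matrix.smul_apply,
      Matrix.one_apply, PUnit.default_eq_unit, if_true, smul_eq_mul, mul_one]
    rw [← hs, sq]
  choose f hfm hfv h21 using hblk
  let φ : Cfsg.Geo.quadSimilarityGroup (F := F) (Cfsg.quadFormOdd m F) →* formSim (oddForm m F) :=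
    MonoidHom.mk' (fun g => ⟨f g.1 g.2, hfm _ _⟩) fun g h => Subtype.ext (Units.ext (by
      show (f (g * h).1 (g * h).2).1 = (f g.1 g.2).1 * (f h.1 h.2).1
      rw [hfv, hfv, hfv, fromBlocks_multiply]
      have h1 : (g * h).1.1 = fromBlocks
          (g.1.1.toBlocks₁₁ * h.1.1.toBlocks₁₁ + g.1.1.toBlocks₁₂ * h.1.1.toBlocks₂₁)
          (g.1.1.toBlocks₁₁ * h.1.1.toBlocks₁₂ + g.1.1.toBlocks₁₂ * h.1.1.toBlocks₂₂)
          (g.1.1.toBlocks₂₁ * h.1.1.toBlocks₁₁ + g.1.1.toBlocks₂₂ * h.1.1.toBlocks₂₁)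
          (g.1.1.toBlocks₂₁ * h.1.1.toBlocks₁₂ + g.1.1.toBlocks₂₂ * h.1.1.toBlocks₂₂) := by
        rw [← fromBlocks_multiply, fromBlocks_toBlocks, fromBlocks_toBlocks]
        rfl
      rw [h1, toBlocks_fromBlocks₁₁, toBlocks_fromBlocks₂₂, h21 g.1 g.2, h21 h.1 h.2]
      simp))
  have hφv : ∀ g, (φ g).1.1 = fromBlocks g.1.1.toBlocks₁₁ 0 0 g.1.1.toBlocks₂₂ := fun g => hfv g.1 g.2
  obtain ⟨ψ, hψ⟩ : ∃ ψ, ψ = (QuotientGroup.mk' ((Cfsg.Geo.scalars _ F).subgroupOf (formSim (oddForm m F)))).comp φ :=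
    ⟨_, rfl⟩
  have hker : ψ.ker = (Cfsg.Geo.scalars _ F).subgroupOf (Cfsg.Geo.quadSimilarityGroup (F := F) (Cfsg.quadFormOdd m F)) := by
    ext g
    rw [MonoidHom.mem_ker, hψ, MonoidHom.comp_apply, QuotientGroup.mk'_apply, QuotientGroup.eq_one_iff,
      Subgroup.mem_subgroupOf, Subgroup.mem_subgroupOf, Cfsg.Geo.mem_scalars_iff, Cfsg.Geo.mem_scalars_iff]
    constructor
    · rintro ⟨a, ha⟩
      refine ⟨a, ?_⟩
      rw [hφv, ← fromBlocks_one, fromBlocks_smul, fromBlocks_inj] at ha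
      obtain ⟨h11, -, -, h22⟩ := ha
      obtain ⟨c, hg⟩ := g.2
      obtain ⟨-, hs, -⟩ := qfOdd_sim_blocks h2 (g := g.1) (c := (c : F)) fun v => by
        rw [qfOdd_apply, qfOdd_apply]; exact hg v
      have hs' : (c : F) = (a : F) ^ 2 := by rw [← hs, h11]; simp
      have h12 : g.1.1.toBlocks₁₂ = 0 := Matrix.ext fun i j => by
        obtain ⟨y, hy⟩ : ∃ y : Fin m ⊕ Fin m → F, y = Pi.single j 1 := ⟨_, rfl⟩
        have he : g.1.1 *ᵥ Sum.elim (0 : Unit → F) y = Sum.elim (g.1.1.toBlocks₁₂ *ᵥ y) ((a : F) • y) := by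
          conv_lhs => rw [← fromBlocks_toBlocks g.1.1, fromBlocks_mulVec, h22, h21 g.1 g.2]
          simp [smul_mulVec]
        have h := hg (Sum.elim (0 : Unit → F) y)
        rw [he, hs', Cfsg.quadFormOdd, Cfsg.quadFormOdd] at h
        simp only [Sum.elim_inl, Sum.elim_inr, Pi.zero_apply, Pi.smul_apply, smul_eq_mul] at h
        rw [zero_pow two_ne_zero, zero_add, Finset.mul_sum,
          Finset.sum_congr rfl fun i _ => show (a : F) * y (.inl i) * ((a : F) * y (.inr i)) =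
            (a : F) ^ 2 * (y (.inl i) * y (.inr i)) by ring, add_eq_right] at h
        have h1 := pow_eq_zero_iff two_ne_zero |>.1 h
        rwa [hy, mulVec_single_one] at h1
      refine (fromBlocks_toBlocks g.1.1).symm.trans ?_
      rw [h11, h12, h21 g.1 g.2, h22, show (1 : Matrix (Unit ⊕ (Fin m ⊕ Fin m)) (Unit ⊕ (Fin m ⊕ Fin m)) F) =
        fromBlocks 1 0 0 1 from fromBlocks_one.symm, fromBlocks_smul]
      simp
    · rintro ⟨a, ha⟩
      refine ⟨a, ?_⟩
      rw [hφv, ha, ← fromBlocks_one, fromBlocks_smul, toBlocks_fromBlocks₁₁, toBlocks_fromBlocks₂₂]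
      simp
  have hsurj : Function.Surjective ψ := fun y => by
    obtain ⟨⟨x, c, hx⟩, rfl⟩ := QuotientGroup.mk_surjective y
    obtain ⟨s, hs⟩ := isSquare_of_two_eq_zero h2 (c : F)
    have hrow : ∀ v : Unit ⊕ (Fin m ⊕ Fin m) → F, (x.1 *ᵥ v) (.inl ()) = s * v (.inl ()) := fun v => by
      refine CharTwo.sq_inj.1 ?_
      rw [← oddForm_quad h2, dot_conj, hx, dot_smul, oddForm_quad h2, hs]
      ring
    have h11 : x.1.toBlocks₁₁ = Matrix.diagonal fun _ => s := Matrix.ext fun i j => by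
      have := hrow (Pi.single (.inl j) 1)
      simpa [mulVec_single_one, toBlocks₁₁] using this
    have h12 : x.1.toBlocks₁₂ = 0 := Matrix.ext fun i j => by
      have := hrow (Pi.single (.inr j) 1)
      simpa [mulVec_single_one, toBlocks₁₂] using this
    have hs0 : s ≠ 0 := fun h => c.ne_zero (by rw [hs, h, mul_zero])
    have hxT : x.1ᵀ * oddForm m F * x.1 = (c : F) • oddForm m F := hx
    have h21' : x.1.toBlocks₂₁ = 0 ∧ (x.1.toBlocks₂₂)ᵀ * Matrix.J (Fin m) F * x.1.toBlocks₂₂ = (c : F) • Matrix.J (Fin m) F := by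
      rw [← fromBlocks_toBlocks x.1, oddForm, fromBlocks_transpose, fromBlocks_multiply, fromBlocks_multiply,
        fromBlocks_smul, fromBlocks_inj, h12] at hxT
      obtain ⟨-, -, e21, e22⟩ := hxT
      simp only [transpose_zero, Matrix.zero_mul, Matrix.mul_zero, add_zero, zero_add, smul_zero] at e21 e22
      refine ⟨?_, e22⟩
      have hu : IsUnit ((x.1.toBlocks₂₂)ᵀ * Matrix.J (Fin m) F) := by
        have h1 := congrArg Matrix.det e22
        rw [det_mul, det_smul] at h1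
        rw [isUnit_iff_isUnit_det]
        exact isUnit_of_mul_isUnit_left (h1 ▸ (c.isUnit.pow _).mul (Matrix.isUnit_det_J (Fin m) F))
      rw [← Matrix.nonsing_inv_mul_cancel_left _ x.1.toBlocks₂₁ ((isUnit_iff_isUnit_det _).1 hu), e21, Matrix.mul_zero]
    obtain ⟨h21', hS⟩ := h21'
    obtain ⟨S, hSd⟩ : ∃ S, S = x.1.toBlocks₂₂ := ⟨_, rfl⟩
    rw [← hSd] at hS
    obtain ⟨qy, hqy⟩ : ∃ qy : (Fin m ⊕ Fin m → F) → F, ∀ y, qy y = ∑ i, y (.inl i) * y (.inr i) :=
      ⟨_, fun _ => rfl⟩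
    choose r hr using fun y => isSquare_of_two_eq_zero h2 ((c : F) * qy y + qy (S *ᵥ y))
    have hr2 : ∀ y, r y ^ 2 = (c : F) * qy y + qy (S *ᵥ y) := fun y => by rw [sq]; exact (hr y).symm
    have hqadd : ∀ u v, qy (u + v) = qy u + qy v + u ⬝ᵥ Matrix.J (Fin m) F *ᵥ v := fun u v => by
      rw [← show Cfsg.sympForm m F u v = u ⬝ᵥ Matrix.J (Fin m) F *ᵥ v from rfl, sympForm_eq_sum, hqy, hqy, hqy, ← Finset.sum_add_distrib,
        ← Finset.sum_add_distrib]
      refine Finset.sum_congr rfl fun i _ => ?_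
      simp only [Pi.add_apply]
      linear_combination (u (.inl i) * v (.inr i)) * h2
    have hqsmul : ∀ (t : F) u, qy (t • u) = t ^ 2 * qy u := fun t u => by
      rw [hqy, hqy, Finset.mul_sum]
      exact Finset.sum_congr rfl fun i _ => by simp only [Pi.smul_apply, smul_eq_mul]; ring
    let R : (Fin m ⊕ Fin m → F) →ₗ[F] F :=
      { toFun := r
        map_add' := fun u v => CharTwo.sq_inj.1 (by
          rw [CharTwo.add_sq, hr2, hr2, hr2, mulVec_add, hqadd, hqadd, dot_conj, hS, dot_smul]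
          linear_combination ((c : F) * (u ⬝ᵥ Matrix.J (Fin m) F *ᵥ v)) * h2)
        map_smul' := fun t u => CharTwo.sq_inj.1 (by
          rw [RingHom.id_apply, smul_eq_mul, mul_pow, hr2, hr2, mulVec_smul, hqsmul, hqsmul]; ring) }
    obtain ⟨M, hM⟩ : ∃ M : Matrix Unit (Fin m ⊕ Fin m) F, ∀ y, (M *ᵥ y) () = r y :=
      ⟨LinearMap.toMatrix' (LinearMap.pi fun _ => R), fun y => by rw [LinearMap.toMatrix'_mulVec]; rfl⟩
    obtain ⟨G, hG⟩ : ∃ G, G = fromBlocks (Matrix.diagonal fun _ : Unit => s) M 0 S := ⟨_, rfl⟩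
    have hGu : IsUnit G := by
      have h1 := (isUnit_iff_isUnit_det _).1 x.isUnit
      rw [← fromBlocks_toBlocks x.1, h11, h21', det_fromBlocks_zero₂₁, ← hSd] at h1
      rwa [isUnit_iff_isUnit_det, hG, det_fromBlocks_zero₂₁]
    refine ⟨⟨hGu.unit, c, fun v => ?_⟩, ?_⟩
    · rw [IsUnit.unit_spec, hG, fromBlocks_mulVec, Cfsg.quadFormOdd, Cfsg.quadFormOdd, ← hqy fun i => v (.inr i)]
      simp only [Sum.elim_inl, Sum.elim_inr, zero_mulVec, zero_add, Pi.add_apply, mulVec_diagonal, hM]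
      rw [← hqy, CharTwo.add_sq, hr2, mul_pow, hs]
      simp only [Function.comp_def]
      linear_combination (qy (S *ᵥ fun i => v (.inr i))) * h2
    · rw [hψ, MonoidHom.comp_apply, QuotientGroup.mk'_apply]
      refine congrArg _ (Subtype.ext (Units.ext ?_))
      rw [hφv]
      show fromBlocks G.toBlocks₁₁ 0 0 G.toBlocks₂₂ = x.1
      rw [hG, toBlocks_fromBlocks₁₁, toBlocks_fromBlocks₂₂]
      conv_rhs => rw [← fromBlocks_toBlocks x.1, h11, h12, h21', ← hSd]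
  exact ⟨(QuotientGroup.quotientMulEquivOfEq hker.symm).trans (QuotientGroup.quotientKerEquivOfSurjective ψ hsurj)⟩

theorem classify_two_odd {n : ℕ} (hnm : n = 2 * m + 1) :
    ∃ B₀ : Matrix (Fin n) (Fin n) F, B₀ᵀ = B₀ ∧ IsUnit B₀ ∧
      (∀ B, IsForm B → IsUnit B → FormCongr B₀ B) ∧
      Nonempty (Cfsg.projQuot (formSim B₀) ≃* Cfsg.PGO F (Cfsg.quadFormOdd m F)) := by
  subst hnm
  obtain ⟨e⟩ : Nonempty (Unit ⊕ (Fin m ⊕ Fin m) ≃ Fin (2 * m + 1)) :=
    Fintype.card_eq.1 (by simp; omega)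
  obtain ⟨B₀, hB₀⟩ : ∃ B₀, B₀ = Matrix.reindex e e (oddForm m F) := ⟨_, rfl⟩
  have hs : B₀ᵀ = B₀ := hB₀ ▸ sym_reindex e (oddForm_transpose h2)
  have hu₀ : IsUnit B₀ := hB₀ ▸ isUnit_reindex e (oddForm_isUnit h2)
  have hn : ∀ {B : Matrix (Fin (2 * m + 1)) (Fin (2 * m + 1)) F}, IsUnit B → ¬ IsAlt B := fun {B} hu ha => by
    have := even_card_of_alt ha hu
    simp at this
  refine ⟨B₀, hs, hu₀, fun B hB hu => ?_, ?_⟩
  · rcases (isForm_iff B).1 hB with h | h
    · exact absurd h (hn hu)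
    · obtain ⟨P, hP⟩ := sym_congr_two h2 h.1 hu h.2 hs hu₀ (hn hu₀)
      exact ⟨P, 1, by rw [hP, Units.val_one, one_smul]⟩
  · obtain ⟨φ⟩ := formSim_reindex e (oddForm m F)
    obtain ⟨ψ⟩ := quadSim_odd_iso (m := m) h2
    subst hB₀
    exact ⟨φ.symm.trans ψ.symm⟩

end CfsgLib.Classical.GraphForm
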