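import Mathlib
import Cfsg.Agent.Lib.Classical.GraphPSUMain
import Cfsg.Agent.Lib.Classical.GraphFormStd

/-!
The splitting numbers of the classes of involutory graph automorphisms of `PSU_n(q)`.
-/

set_option autoImplicit false
set_option linter.unusedSectionVars false

namespace CfsgLib.Classical.GraphForm

open Matrix CfsgLib.KnownC CfsgLib.Geom

theorem gcd_two_mul_of_odd {k N : ℕ} (hN : Odd N) : Nat.gcd (2 * k) N = Nat.gcd k N :=
  Nat.Coprime.gcd_mul_left_cancel k (Nat.coprime_two_left.2 hN)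

variable {n q : ℕ} {F : Type*} [Field F] [Fintype F] (hF : Fintype.card F = q ^ 2)
variable {F₀ : Type*} [Field F₀] [Fintype F₀] (h₀ : Fintype.card F₀ = q)
variable {ι : F₀ →+* F} (hι : ∀ x, frobQ hF x = x ↔ ∃ a, ι a = x)

include h₀ in
theorem odd_iff_two_ne_zero : Odd q ↔ (2 : F₀) ≠ 0 := by
  refine ⟨fun h => CfsgLib.Classical.two_ne_zero_of_odd (by rwa [h₀]), fun h2 => ?_⟩
  by_contra hq
  obtain ⟨p, _⟩ := CharP.exists F₀
  obtain ⟨f, hp, hf⟩ := FiniteField.card F₀ p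
  rw [Nat.not_odd_iff_even, ← h₀, hf, Nat.even_pow] at hq
  obtain rfl : p = 2 := (Nat.prime_dvd_prime_iff_eq Nat.prime_two hp).1 (even_iff_two_dvd.1 hq.1) |>.symm
  exact h2 (CharP.cast_eq_zero F₀ 2)

variable [NeZero n] (hn : 3 ≤ n) (h32 : ¬ (n = 3 ∧ q = 2)) {γ : MulAut (Cfsg.PSU n F q)}
variable {B : Matrix (Fin n) (Fin n) F₀} {h : GL (Fin n) F} {w : F}
variable (hu : IsUnit B) (hd : PSUData hF ι γ B h w)

include hι

theorem mem_normOne_of {u : Fˣ} {c : F} (hc : frobQ hF c = c) (hN : (u : F) * frobQ hF u * c = 1) (y : Fˣ)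
    (hy : (y : F) = (u : F) * (u : F) * c) : y ∈ normOne F q := by
  rw [mem_normOne_iff hF, MonoidHom.mem_ker]
  refine Units.ext ?_
  rw [unitNorm_two _ (orderOf_frobQ hF), hy, map_mul, map_mul, hc, Units.val_one]
  linear_combination ((u : F) * frobQ hF u * c + 1) * hN

theorem exists_of_normOne (v : normOne F q) :
    ∃ (u : Fˣ) (c : F₀ˣ), (u : F) * frobQ hF u * ι c = 1 ∧ (v.1 : F) = (u : F) * u * ι c := by
  obtain ⟨u, hu⟩ : v.1 ∈ (unitTwist (frobQ hF)).range := by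
    rw [← unitNorm_ker, ← mem_normOne_iff hF]; exact v.2
  have hτu : frobQ hF (u : F) ≠ 0 := (map_ne_zero _).2 u.ne_zero
  have hne : (u : F) * frobQ hF u ≠ 0 := mul_ne_zero u.ne_zero hτu
  obtain ⟨c, hc⟩ := (hι ((u : F) * frobQ hF u)⁻¹).1 (by
    rw [map_inv₀, map_mul, frobQ_frobQ, mul_comm])
  have hc0 : c ≠ 0 := fun h0 => inv_ne_zero hne (by rw [← hc, h0, map_zero])
  refine ⟨u, Units.mk0 c hc0, by rw [Units.val_mk0, hc, mul_inv_cancel₀ hne], ?_⟩
  rw [← hu, coe_unitTwist, Units.val_mk0, hc]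
  field_simp

include hn h32 hu hd

theorem split_odd {k : ℕ} (hk : n = 2 * k + 1) :
    Cfsg.splitClassCount (Cfsg.inndiagPSU n F q) (Cfsg.Inn (Cfsg.PSU n F q)) γ = Nat.gcd n (q + 1) := by
  rw [split_count hF hι hn h32 hu hd (powMonoidHom n : normOne F q →* normOne F q).range ?_ ?_,
    IsCyclic.index_powMonoidHom_range, card_normOne hF, Nat.gcd_comm (q + 1) n, Nat.gcd_self]
  · intro v u x c hx hN hv
    obtain ⟨s, hs, hdet⟩ := det_sim_odd hu (by rw [Fintype.card_fin, hk]) hx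
    have hy : u * Units.map ι.toMonoidHom s ∈ normOne F q := by
      rw [mem_normOne_iff hF, MonoidHom.mem_ker]
      refine Units.ext ?_
      rw [unitNorm_two _ (orderOf_frobQ hF), Units.val_mul, Units.coe_map, Units.val_one]
      show (u : F) * ι s * frobQ hF ((u : F) * ι s) = 1
      rw [map_mul, (hι _).2 ⟨_, rfl⟩, ← hN, ← hs, Units.val_mul, map_mul]
      ring
    refine ⟨⟨_, hy⟩, Subtype.ext (Units.ext ?_)⟩
    show ((u * Units.map ι.toMonoidHom s) ^ n : Fˣ).val = (v.1 : F)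
    rw [hv, hdet, map_pow, Units.val_pow_eq_pow_val, Units.val_mul, Units.coe_map, mul_pow, hk]
    rfl
  · rintro _ ⟨y, rfl⟩
    refine ⟨y.1, 1, 1, by simp, ?_, by simp⟩
    have h1 := (mem_normOne_iff hF y.1).1 y.2
    rw [MonoidHom.mem_ker] at h1
    rw [← unitNorm_two _ (orderOf_frobQ hF), h1]
    simp

theorem split_plus {k : ℕ} (hk : n = 2 * k) (hB : IsForm B) (hcase : IsAlt B ∨ (2 : F₀) = 0) :
    Cfsg.splitClassCount (Cfsg.inndiagPSU n F q) (Cfsg.Inn (Cfsg.PSU n F q)) γ = Nat.gcd k (q + 1) := by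
  rw [split_count hF hι hn h32 hu hd (powMonoidHom k : normOne F q →* normOne F q).range ?_ ?_,
    IsCyclic.index_powMonoidHom_range, card_normOne hF]
  · rw [Nat.gcd_comm (q + 1) k, hk]
    exact Nat.gcd_eq_right (Nat.gcd_dvd_gcd_of_dvd_left _ (dvd_mul_left k 2))
  · intro v u x c hx hN hv
    have hdet := det_sim_of_alt_or_two hu hcase (by rw [Fintype.card_fin, hk]) c.ne_zero hx
    refine ⟨⟨u * u * Units.map ι.toMonoidHom c,
      mem_normOne_of hF hι ((hι _).2 ⟨_, rfl⟩) hN _ (by simp)⟩, Subtype.ext (Units.ext ?_)⟩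
    show ((u * u * Units.map ι.toMonoidHom c) ^ k : Fˣ).val = (v.1 : F)
    rw [hv, hdet, map_pow, Units.val_pow_eq_pow_val, Units.val_mul, Units.val_mul, Units.coe_map, hk, pow_mul, sq,
      ← mul_pow]
    rfl
  · rintro _ ⟨y, rfl⟩
    obtain ⟨u, c, hN, hy⟩ := exists_of_normOne hF hι y
    obtain ⟨x, hx⟩ := form_congr_smul hB hu c (k := k) (by rw [Fintype.card_fin, hk])
    refine ⟨u, x, c, hx, hN, ?_⟩
    show ((y.1 ^ k : Fˣ) : F) = _
    rw [Units.val_pow_eq_pow_val, hy, det_sim_of_alt_or_two hu hcase (by rw [Fintype.card_fin, hk]) c.ne_zero hx,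
      map_pow, hk, pow_mul, sq, ← mul_pow]

include h₀ in
theorem split_sym {k : ℕ} (hk : n = 2 * k) (hB : Bᵀ = B) (h2 : (2 : F₀) ≠ 0) :
    Cfsg.splitClassCount (Cfsg.inndiagPSU n F q) (Cfsg.Inn (Cfsg.PSU n F q)) γ = Nat.gcd n (q + 1) / 2 := by
  obtain ⟨N, hN2⟩ : ∃ N, q + 1 = 2 * N := by
    obtain ⟨r, hr⟩ := (odd_iff_two_ne_zero h₀).2 h2
    exact ⟨r + 1, by omega⟩
  have h2F : (-1 : F) ≠ 1 := fun e => h2 (ι.injective (by rw [map_ofNat, map_zero]; linear_combination -e))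
  have hsign : ∀ z : Fˣ, (z : F) * z = 1 ↔ ∃ hz : z ∈ normOne F q,
      (⟨z, hz⟩ : normOne F q) ∈ (powMonoidHom N : normOne F q →* normOne F q).range := by
    intro z
    constructor
    · intro hz
      have hzz : z * z = 1 := Units.ext (by rw [Units.val_mul, hz, Units.val_one])
      have hzN : z ∈ normOne F q := by
        refine MonoidHom.mem_ker.2 ?_
        rw [powMonoidHom_apply, hN2, pow_mul, sq, hzz, one_pow]
      refine ⟨hzN, ?_⟩
      obtain ⟨g, hg⟩ := IsCyclic.exists_generator (α := normOne F q)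
      obtain ⟨j, hj⟩ := mem_powers_iff_mem_zpowers.2 (hg ⟨z, hzN⟩)
      simp only at hj
      have hord : orderOf g = q + 1 := by rw [orderOf_eq_card_of_forall_mem_zpowers hg, card_normOne hF]
      have h1 : g ^ (j * 2) = 1 := by rw [pow_mul, hj, sq]; exact Subtype.ext hzz
      rw [← orderOf_dvd_iff_pow_eq_one, hord, hN2, mul_comm j] at h1
      obtain ⟨i, rfl⟩ := Nat.dvd_of_mul_dvd_mul_left two_pos h1
      exact ⟨g ^ i, by rw [powMonoidHom_apply, ← pow_mul, mul_comm, hj]⟩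
    · rintro ⟨hz, y, hy⟩
      have h1 : y ^ (q + 1) = 1 := by rw [← card_normOne hF]; exact pow_card_eq_one'
      have h2' : (⟨z, hz⟩ : normOne F q) * ⟨z, hz⟩ = 1 := by
        rw [← hy, powMonoidHom_apply, ← pow_add, ← two_mul, ← hN2, h1]
      exact congrArg (fun t : normOne F q => ((t.1 : Fˣ) : F)) h2'
  have hval : (Nat.gcd n (q + 1)) / 2 = Nat.gcd k N := by
    rw [hk, hN2, Nat.gcd_mul_left, Nat.mul_div_cancel_left _ two_pos]
  rw [split_count hF hι hn h32 hu hd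
    ((powMonoidHom k : normOne F q →* normOne F q).range ⊔ (powMonoidHom N : normOne F q →* normOne F q).range) ?_ ?_,
    index_sup_of_isCyclic, IsCyclic.index_powMonoidHom_range, IsCyclic.index_powMonoidHom_range, card_normOne hF, hval]
  · rw [hk, hN2, Nat.gcd_mul_left, Nat.gcd_comm (2 * N) k, Nat.gcd_eq_right (dvd_mul_left N 2)]
    have hle : Nat.gcd (Nat.gcd k (2 * N)) N = Nat.gcd k N := by
      rw [Nat.gcd_assoc, Nat.gcd_comm (2 * N) N, Nat.gcd_eq_left (dvd_mul_left N 2)]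
    rw [hle, Nat.gcd_eq_right (dvd_mul_left _ 2)]
  · intro v u x c hx hN hv
    obtain ⟨y, hy⟩ : ∃ y : normOne F q, (y.1 : F) = (u : F) * u * ι c :=
      ⟨⟨u * u * Units.map ι.toMonoidHom c, mem_normOne_of hF hι ((hι _).2 ⟨_, rfl⟩) hN _ (by simp)⟩, by simp⟩
    rw [show v = y ^ k * (y ^ k)⁻¹ * v by rw [mul_inv_cancel, one_mul]]
    rw [mul_assoc]
    refine Subgroup.mul_mem_sup ⟨y, rfl⟩ ?_
    obtain ⟨z, hz⟩ : ∃ z, z = (y ^ k)⁻¹ * v := ⟨_, rfl⟩
    rw [← hz]
    have hzv : (z.1 : F) * z.1 = 1 := by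
      have e : (z.1 : F) = ((y.1 : F) ^ k)⁻¹ * (v.1 : F) := by
        rw [hz]
        simp
      rw [e, hy, hv, show (u : F) ^ n = ((u : F) * u) ^ k by rw [hk, pow_mul, sq]]
      have hc0 : ι (c : F₀) ≠ 0 := (map_ne_zero ι).2 c.ne_zero
      have := u.ne_zero
      rcases det_sim_cases hu (by rw [Fintype.card_fin, hk]) hx with d | d <;>
        rw [d] <;> simp only [map_neg, map_pow, mul_pow] <;> field_simp
    obtain ⟨_, hr⟩ := (hsign z.1).1 hzv
    exact hr
  · intro v hv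
    obtain ⟨a, ⟨y, rfl⟩, b, hb, rfl⟩ := Subgroup.mem_sup.1 hv
    have hbb := (hsign b.1).2 ⟨b.2, hb⟩
    obtain ⟨u, c, hN, hy⟩ := exists_of_normOne hF hι y
    rcases mul_self_eq_one_iff.1 hbb with e | e
    · obtain ⟨x, hx⟩ := form_congr_smul (Or.inl hB) hu c (k := k) (by rw [Fintype.card_fin, hk])
      rcases det_sim_cases hu (by rw [Fintype.card_fin, hk]) hx with d | d
      · refine ⟨u, x, c, hx, hN, ?_⟩
        show ((y.1 ^ k * b.1 : Fˣ) : F) = _
        rw [Units.val_mul, Units.val_pow_eq_pow_val, hy, e, d, map_pow, hk, pow_mul, sq, mul_one, ← mul_pow]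
      · obtain ⟨x', hx', d'⟩ := exists_sim_neg h2 hB hu (k := k) (by rw [Fintype.card_fin, hk]) 1
        haveI : Nonempty (Fin n) := ⟨⟨0, by omega⟩⟩
        refine ⟨u, x * x', c, ?_, hN, ?_⟩
        · rw [Units.val_mul, transpose_mul, ← Matrix.mul_assoc, Matrix.mul_assoc x'.1ᵀ x.1ᵀ B,
            Matrix.mul_assoc x'.1ᵀ (x.1ᵀ * B) x.1, hx, mul_smul_comm, smul_mul, hx', Units.val_one, one_smul]
        · show ((y.1 ^ k * b.1 : Fˣ) : F) = _
          rw [Units.val_mul, Units.val_pow_eq_pow_val, hy, e, Units.val_mul, det_mul, d, d', Units.val_one, one_pow,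
            mul_neg, neg_mul, neg_neg, mul_one, mul_one, map_pow, hk, pow_mul, sq, ← mul_pow]
    · obtain ⟨x, hx, d⟩ := exists_sim_neg h2 hB hu (k := k) (by rw [Fintype.card_fin, hk]) c
      refine ⟨u, x, c, hx, hN, ?_⟩
      show ((y.1 ^ k * b.1 : Fˣ) : F) = _
      rw [Units.val_mul, Units.val_pow_eq_pow_val, hy, e, d, map_neg, map_pow, hk, pow_mul, sq, mul_neg, mul_neg,
        mul_one, ← mul_pow]

end CfsgLib.Classical.GraphForm
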