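import Mathlib
import Cfsg.Agent.Lib.Classical.GraphPSUSplit
import Cfsg.Agent.Lib.Classical.GraphFormTwoOdd
import Cfsg.Agent.Lib.Classical.GraphFormCard
import Cfsg.Agent.Lib.Classical.SLTwoTori

/-!
The classes of involutory graph automorphisms of `PSU_n(q)`.
-/

set_option autoImplicit false
set_option linter.unusedSectionVars false

namespace CfsgLib.Classical.GraphForm

open Matrix CfsgLib.KnownC CfsgLib.Geom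

variable {F₀ : Type*} [Field F₀] [Fintype F₀]

theorem classify_odd_any {n m : ℕ} (hnm : n = 2 * m + 1) :
    ∃ B₀ : Matrix (Fin n) (Fin n) F₀, B₀ᵀ = B₀ ∧ IsUnit B₀ ∧
      (∀ B, IsForm B → IsUnit B → FormCongr B₀ B) ∧
      Nonempty (Cfsg.projQuot (formSim B₀) ≃* Cfsg.PGO F₀ (Cfsg.quadFormOdd m F₀)) := by
  by_cases h2 : (2 : F₀) = 0
  · exact classify_two_odd h2 hnm
  · exact classify_odd hnm h2

/-- An alternating matrix has centraliser type `PGSp`. -/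
theorem alt_iso_pgsp {n m : ℕ} (hm : 1 ≤ m) (hnm : n = 2 * m) (h2 : (2 : F₀) ≠ 0) {B : Matrix (Fin n) (Fin n) F₀}
    (hB : IsAlt B) (hu : IsUnit B) : Nonempty (Cfsg.projQuot (formSim B) ≃* Cfsg.PGSp m F₀) := by
  obtain ⟨a, b, hab⟩ := exists_anisotropic_binary (F := F₀)
  obtain ⟨B₁, B₂, B₃, h1, -, -, -, -, -, -, -, -, ⟨ψ⟩, -, -⟩ := classify_even (F := F₀) hm hnm h2 hab
  obtain ⟨P, hP⟩ := alt_congr hB hu h1.1 h1.2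
  obtain ⟨χ⟩ := formSim_congr (B := B₁) (B' := B) ⟨P, 1, by rw [hP, Units.val_one, one_smul]⟩
  exact ⟨χ.trans ψ⟩

variable {n q : ℕ} {F : Type*} [Field F] [Fintype F] (hF : Fintype.card F = q ^ 2)
variable (h₀ : Fintype.card F₀ = q)

include hF h₀

theorem psu_graph_odd [NeZero n] (hn : 3 ≤ n) (h32 : ¬ (n = 3 ∧ q = 2)) {m : ℕ} (hnm : n = 2 * m + 1)
    {γ γ' : MulAut (Cfsg.PSU n F q)} (hγ : Cfsg.IsGraphAutClassPSU γ) (hγ2 : orderOf γ = 2)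
    (hγ' : Cfsg.IsGraphAutClassPSU γ') (hγ'2 : orderOf γ' = 2) :
    Nonempty (↥(Cfsg.inndiagPSU n F q ⊓ Subgroup.centralizer {γ}) ≃* Cfsg.PGO F₀ (Cfsg.quadFormOdd m F₀)) ∧
      Cfsg.IsConjUnder (Cfsg.inndiagPSU n F q) γ γ' := by
  obtain ⟨ι, hι⟩ := exists_fixed_field (F₀ := F₀) hF h₀
  obtain ⟨B, h, w, hB, hu, hd⟩ := exists_data hF hι hn h32 hγ hγ2
  obtain ⟨B', h', w', hB', hu', hd'⟩ := exists_data hF hι hn h32 hγ' hγ'2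
  obtain ⟨B₀, -, -, hc, ⟨ψ⟩⟩ := classify_odd_any (F₀ := F₀) hnm
  obtain ⟨φ⟩ := centralizer_iso hF hι hn h32 hu hd
  obtain ⟨χ⟩ := formSim_congr (hc B hB hu)
  exact ⟨⟨φ.trans (χ.trans ψ)⟩, (conj_iff_congr hF hι hn h32 hu hd' hd).2 ((hc B' hB' hu').symm.trans (hc B hB hu))⟩

theorem psu_graph_even [NeZero n] (hn : 3 ≤ n) (h32 : ¬ (n = 3 ∧ q = 2)) {m : ℕ} (hm : 1 ≤ m) (hnm : n = 2 * m)
    (h2 : (2 : F₀) ≠ 0) :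
    ∃ (γ₁ γ₂ γ₃ : MulAut (Cfsg.PSU n F q)) (a b : F₀), (∀ z₁ z₂ : F₀, z₁ ^ 2 + a * z₁ * z₂ + b * z₂ ^ 2 = 0 → z₁ = 0 ∧ z₂ = 0) ∧
      Cfsg.IsGraphAutClassPSU γ₁ ∧ orderOf γ₁ = 2 ∧ Cfsg.IsGraphAutClassPSU γ₂ ∧ orderOf γ₂ = 2 ∧
      Cfsg.IsGraphAutClassPSU γ₃ ∧ orderOf γ₃ = 2 ∧
      ¬ Cfsg.IsConjUnder (Cfsg.inndiagPSU n F q) γ₁ γ₂ ∧ ¬ Cfsg.IsConjUnder (Cfsg.inndiagPSU n F q) γ₁ γ₃ ∧
      ¬ Cfsg.IsConjUnder (Cfsg.inndiagPSU n F q) γ₂ γ₃ ∧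
      (∀ γ : MulAut (Cfsg.PSU n F q), Cfsg.IsGraphAutClassPSU γ → orderOf γ = 2 →
        Cfsg.IsConjUnder (Cfsg.inndiagPSU n F q) γ₁ γ ∨ Cfsg.IsConjUnder (Cfsg.inndiagPSU n F q) γ₂ γ ∨
          Cfsg.IsConjUnder (Cfsg.inndiagPSU n F q) γ₃ γ) ∧
      Nonempty (↥(Cfsg.inndiagPSU n F q ⊓ Subgroup.centralizer {γ₁}) ≃* Cfsg.PGSp m F₀) ∧
      Nonempty (↥(Cfsg.inndiagPSU n F q ⊓ Subgroup.centralizer {γ₂}) ≃* Cfsg.PGO F₀ (Cfsg.quadFormPlus m F₀)) ∧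
      Nonempty (↥(Cfsg.inndiagPSU n F q ⊓ Subgroup.centralizer {γ₃}) ≃* Cfsg.PGO F₀ (Cfsg.quadFormMinus (m - 1) F₀ a b)) := by
  obtain ⟨ι, hι⟩ := exists_fixed_field (F₀ := F₀) hF h₀
  obtain ⟨a, b, hab⟩ := exists_anisotropic_binary (F := F₀)
  obtain ⟨B₁, B₂, B₃, h1, hb2, h3, n12, n13, n23, hall, -, -, ⟨ψ₁⟩, ⟨ψ₂⟩, ⟨ψ₃⟩⟩ :=
    classify_even (F := F₀) hm hnm h2 hab
  obtain ⟨γ₁, g₁, w₁, e₁, o₁, d₁⟩ := exists_graph hF hι hn h32 (Or.inr h1.1.1) h1.2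
  obtain ⟨γ₂, g₂, w₂, e₂, o₂, d₂⟩ := exists_graph hF hι hn h32 (Or.inl hb2.1) hb2.2
  obtain ⟨γ₃, g₃, w₃, e₃, o₃, d₃⟩ := exists_graph hF hι hn h32 (Or.inl h3.1) h3.2
  obtain ⟨φ₁⟩ := centralizer_iso hF hι hn h32 h1.2 d₁
  obtain ⟨φ₂⟩ := centralizer_iso hF hι hn h32 hb2.2 d₂
  obtain ⟨φ₃⟩ := centralizer_iso hF hι hn h32 h3.2 d₃
  refine ⟨γ₁, γ₂, γ₃, a, b, hab, e₁, o₁, e₂, o₂, e₃, o₃,
    fun c => n12 ((conj_iff_congr hF hι hn h32 h1.2 d₂ d₁).1 c).symm,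
    fun c => n13 ((conj_iff_congr hF hι hn h32 h1.2 d₃ d₁).1 c).symm,
    fun c => n23 ((conj_iff_congr hF hι hn h32 hb2.2 d₃ d₂).1 c).symm,
    fun γ hγ hγ2 => ?_, ⟨φ₁.trans ψ₁⟩, ⟨φ₂.trans ψ₂⟩, ⟨φ₃.trans ψ₃⟩⟩
  obtain ⟨B, h, w, hB, hu, hd⟩ := exists_data hF hι hn h32 hγ hγ2
  rcases hall B hB hu with c | c | c
  · exact Or.inl ((conj_iff_congr hF hι hn h32 h1.2 hd d₁).2 c.symm)
  · exact Or.inr (Or.inl ((conj_iff_congr hF hι hn h32 hb2.2 hd d₂).2 c.symm))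
  · exact Or.inr (Or.inr ((conj_iff_congr hF hι hn h32 h3.2 hd d₃).2 c.symm))

theorem psu_graph_two [NeZero n] (hn : 3 ≤ n) (h32 : ¬ (n = 3 ∧ q = 2)) {m : ℕ} (hm : 1 ≤ m) (hnm : n = 2 * m)
    (h2 : (2 : F₀) = 0) :
    ∃ (γ₁ γ₃ : MulAut (Cfsg.PSU n F q)) (t : ↥(Matrix.symplecticGroup (Fin m) F₀)),
      Cfsg.IsTransvection (t : Matrix (Fin m ⊕ Fin m) (Fin m ⊕ Fin m) F₀) ∧
      Cfsg.IsGraphAutClassPSU γ₁ ∧ orderOf γ₁ = 2 ∧ Cfsg.IsGraphAutClassPSU γ₃ ∧ orderOf γ₃ = 2 ∧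
      ¬ Cfsg.IsConjUnder (Cfsg.inndiagPSU n F q) γ₁ γ₃ ∧
      (∀ γ : MulAut (Cfsg.PSU n F q), Cfsg.IsGraphAutClassPSU γ → orderOf γ = 2 →
        Cfsg.IsConjUnder (Cfsg.inndiagPSU n F q) γ₁ γ ∨ Cfsg.IsConjUnder (Cfsg.inndiagPSU n F q) γ₃ γ) ∧
      Nonempty (↥(Cfsg.inndiagPSU n F q ⊓ Subgroup.centralizer {γ₁}) ≃* ↥(Matrix.symplecticGroup (Fin m) F₀)) ∧
      Nonempty (↥(Cfsg.inndiagPSU n F q ⊓ Subgroup.centralizer {γ₃}) ≃*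
        ↥(Subgroup.centralizer ({t} : Set ↥(Matrix.symplecticGroup (Fin m) F₀)))) := by
  obtain ⟨ι, hι⟩ := exists_fixed_field (F₀ := F₀) hF h₀
  obtain ⟨B₁, B₃, t, ht, h1, h3, n13, hall, ⟨ψ₁⟩, ⟨ψ₃⟩⟩ := classify_two_even (F := F₀) h2 hm hnm
  obtain ⟨γ₁, g₁, w₁, e₁, o₁, d₁⟩ := exists_graph hF hι hn h32 (Or.inr h1.1.1) h1.2
  obtain ⟨γ₃, g₃, w₃, e₃, o₃, d₃⟩ := exists_graph hF hι hn h32 (Or.inl h3.1) h3.2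
  obtain ⟨φ₁⟩ := centralizer_iso hF hι hn h32 h1.2 d₁
  obtain ⟨φ₃⟩ := centralizer_iso hF hι hn h32 h3.2 d₃
  refine ⟨γ₁, γ₃, t, ht, e₁, o₁, e₃, o₃, fun c => n13 ((conj_iff_congr hF hι hn h32 h1.2 d₃ d₁).1 c).symm,
    fun γ hγ hγ2 => ?_, ⟨φ₁.trans ψ₁⟩, ⟨φ₃.trans ψ₃⟩⟩
  obtain ⟨B, h, w, hB, hu, hd⟩ := exists_data hF hι hn h32 hγ hγ2
  rcases hall B hB hu with c | c
  · exact Or.inl ((conj_iff_congr hF hι hn h32 h1.2 hd d₁).2 c.symm)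
  · exact Or.inr ((conj_iff_congr hF hι hn h32 h3.2 hd d₃).2 c.symm)

theorem psu_graph_split [NeZero n] (hn : 3 ≤ n) (h32 : ¬ (n = 3 ∧ q = 2)) {γ : MulAut (Cfsg.PSU n F q)}
    (hγ : Cfsg.IsGraphAutClassPSU γ) (hγ2 : orderOf γ = 2) :
    ((Even n ∧ Odd q ∧ Nonempty (↥(Cfsg.inndiagPSU n F q ⊓ Subgroup.centralizer {γ}) ≃* Cfsg.PGSp (n / 2) F₀)) →
      Cfsg.splitClassCount (Cfsg.inndiagPSU n F q) (Cfsg.Inn (Cfsg.PSU n F q)) γ = Nat.gcd (n / 2) (q + 1)) ∧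
    ((Even n ∧ Odd q ∧ ¬ Nonempty (↥(Cfsg.inndiagPSU n F q ⊓ Subgroup.centralizer {γ}) ≃* Cfsg.PGSp (n / 2) F₀)) →
      Cfsg.splitClassCount (Cfsg.inndiagPSU n F q) (Cfsg.Inn (Cfsg.PSU n F q)) γ = Nat.gcd n (q + 1) / 2) ∧
    (¬ (Even n ∧ Odd q) →
      Cfsg.splitClassCount (Cfsg.inndiagPSU n F q) (Cfsg.Inn (Cfsg.PSU n F q)) γ = Nat.gcd n (q + 1)) := by
  obtain ⟨ι, hι⟩ := exists_fixed_field (F₀ := F₀) hF h₀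
  obtain ⟨B, h, w, hB, hu, hd⟩ := exists_data hF hι hn h32 hγ hγ2
  obtain ⟨φ⟩ := centralizer_iso hF hι hn h32 hu hd
  rcases Nat.even_or_odd n with hev | hod
  swap
  · obtain ⟨k, hk⟩ := hod
    have hne : ¬ Even n := Nat.not_even_iff_odd.2 ⟨k, hk⟩
    exact ⟨fun e => absurd e.1 hne, fun e => absurd e.1 hne, fun _ => split_odd hF hι hn h32 hu hd hk⟩
  obtain ⟨k, hk⟩ : ∃ k, n = 2 * k := ⟨n / 2, (Nat.two_mul_div_two_of_even hev).symm⟩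
  have hk2 : n / 2 = k := by omega
  by_cases h2 : (2 : F₀) = 0
  · have hq : ¬ Odd q := fun e => (odd_iff_two_ne_zero h₀).1 e h2
    refine ⟨fun e => absurd e.2.1 hq, fun e => absurd e.2.1 hq, fun _ => ?_⟩
    rw [split_plus hF hι hn h32 hu hd hk hB (Or.inr h2), hk]
    exact (gcd_two_mul_of_odd (Nat.not_odd_iff_even.1 hq).add_one).symm
  have hq : Odd q := (odd_iff_two_ne_zero h₀).2 h2
  rw [hk2]
  rcases (isForm_iff B).1 hB with ha | ⟨hs, -⟩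
  · obtain ⟨χ⟩ := alt_iso_pgsp (m := k) (by omega) hk h2 ha hu
    exact ⟨fun _ => split_plus hF hι hn h32 hu hd hk hB (Or.inl ha), fun e => absurd ⟨φ.trans χ⟩ e.2.2,
      fun e => absurd ⟨hev, hq⟩ e⟩
  · refine ⟨fun e => ?_, fun _ => split_sym hF h₀ hι hn h32 hu hd hk hs h2, fun e => absurd ⟨hev, hq⟩ e⟩
    obtain ⟨χ⟩ := e.2.2
    exact absurd ⟨φ.symm.trans χ⟩ (sym_not_pgsp (m := k) (by omega) hk h2 hs hu)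

theorem psu_frob_centralizer [NeZero n] (hn : 3 ≤ n) (h32 : ¬ (n = 3 ∧ q = 2)) {m : ℕ} (hm : 1 ≤ m) (hnm : n = 2 * m)
    (hmev : Even m) (h2 : (2 : F₀) ≠ 0) {φ : MulAut (Cfsg.PSU n F q)} (hφ : φ = psuSemiAut 1 (frobQ hF)) :
    Nonempty (↥(Cfsg.inndiagPSU n F q ⊓ Subgroup.centralizer {φ}) ≃* Cfsg.PGO F₀ (Cfsg.quadFormPlus m F₀)) := by
  obtain ⟨ι, hι⟩ := exists_fixed_field (F₀ := F₀) hF h₀
  obtain ⟨a, b, hab⟩ := exists_anisotropic_binary (F := F₀)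
  obtain ⟨B₁, B₂, B₃, -, hb2, -, -, -, -, -, hc2, -, -, ⟨ψ₂⟩, -⟩ := classify_even (F := F₀) hm hnm h2 hab
  have hd : PSUData hF ι φ (1 : Matrix (Fin n) (Fin n) F₀) 1 1 := by
    refine ⟨one_ne_zero, ?_, ?_, 1, 1, ?_, hφ⟩
    · rw [Units.val_one, mapτ_one, transpose_one, Matrix.one_mul, one_smul,
        Matrix.map_one _ (map_zero ι) (map_one ι)]
    · rw [map_one, transpose_one]
    · simp [mapτ_one]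
  obtain ⟨χ⟩ := centralizer_iso hF hι hn h32 isUnit_one hd
  obtain ⟨ρ⟩ := formSim_congr (hc2 1 transpose_one isUnit_one (by
    rw [det_one, mul_one]; exact hmev.isSquare_pow _))
  exact ⟨χ.trans (ρ.trans ψ₂)⟩

end CfsgLib.Classical.GraphForm
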