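import Mathlib
import Cfsg.Agent.Lib.Classical.GraphFormClass
import Cfsg.Agent.Lib.Classical.GraphPSUClasses
import Cfsg.Agent.Lib.KnownC.AutPSLField

/-!
Involutory graph automorphisms of `PSL_n(q)` and forms.
-/

set_option autoImplicit false
set_option linter.unusedSectionVars false

namespace CfsgLib.Classical.GraphForm

open Matrix CfsgLib.KnownC CfsgLib.Geom

variable {n : ℕ} {F : Type*} [Field F] [Fintype F]

/-- The automorphism `g ∘ inverse-transpose`. -/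
noncomputable def pslGraph (g : GL (Fin n) F) : MulAut (ProjectiveSpecialLinearGroup (Fin n) F) :=
  inndiagHom g * itAut

theorem glInvTrans_glInvTrans (g : GL (Fin n) F) : glInvTrans (glInvTrans g) = g :=
  Units.ext (transpose_transpose g.1)

theorem glInvTrans_mul (g h : GL (Fin n) F) : glInvTrans (g * h) = glInvTrans g * glInvTrans h :=
  Units.ext (by
    show ((g * h)⁻¹).1ᵀ = (g⁻¹).1ᵀ * (h⁻¹).1ᵀ
    rw [_root_.mul_inv_rev, Units.val_mul, transpose_mul])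

theorem center_iff_scalar (x : GL (Fin n) F) :
    x ∈ Subgroup.center (GL (Fin n) F) ↔ ∃ c : Fˣ, x.1 = (c : F) • 1 := by
  rw [Matrix.GeneralLinearGroup.center_eq_range_scalar, MonoidHom.mem_range]
  constructor
  · rintro ⟨c, rfl⟩
    exact ⟨c, by simp [Matrix.smul_one_eq_diagonal]⟩
  · rintro ⟨c, hc⟩
    exact ⟨c, Units.ext (by rw [hc]; simp [Matrix.smul_one_eq_diagonal])⟩

theorem inndiag_eq_smul (hn : 2 ≤ n) (g h : GL (Fin n) F) :
    inndiagHom g = inndiagHom h ↔ ∃ c : Fˣ, g.1 = (c : F) • h.1 := by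
  rw [inndiagHom_eq_iff hn, center_iff_scalar]
  constructor
  · rintro ⟨c, hc⟩
    refine ⟨c, ?_⟩
    calc g.1 = h.1 * ((h⁻¹ * g).1) := by rw [Units.val_mul, ← Matrix.mul_assoc, Units.mul_inv, Matrix.one_mul]
      _ = _ := by rw [hc, mul_smul_comm, Matrix.mul_one]
  · rintro ⟨c, hc⟩
    exact ⟨c, by rw [Units.val_mul, hc, mul_smul_comm, Units.inv_mul]⟩

theorem pslGraph_conj (hn : 2 ≤ n) (k g g' : GL (Fin n) F) :
    inndiagHom k * pslGraph g' * (inndiagHom k)⁻¹ = pslGraph g ↔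
      ∃ c : Fˣ, k.1 * g'.1 * k.1ᵀ = (c : F) • g.1 := by
  rw [pslGraph, pslGraph, ← map_inv, mul_assoc (inndiagHom k), mul_assoc (inndiagHom g'), itAut_mul_inndiag,
    ← mul_assoc, ← mul_assoc, ← map_mul, ← map_mul, mul_left_inj, inndiag_eq_smul hn]
  refine exists_congr fun c => Iff.of_eq ?_
  congr 1

theorem isGraph_iff (hn : 3 ≤ n) (γ : MulAut (ProjectiveSpecialLinearGroup (Fin n) F)) :
    Cfsg.IsGraphAutClassPSL γ ↔ ∃ g, γ = pslGraph g := by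
  constructor
  · rintro ⟨-, δ, ι, hδ, hι, rfl⟩
    obtain ⟨g, rfl⟩ := (isInnerDiagonalAutPSL_iff δ).1 hδ
    exact ⟨g, by rw [(isInverseTransposeAutPSL_iff ι).1 hι]; rfl⟩
  · rintro ⟨g, rfl⟩
    exact ⟨hn, _, _, (isInnerDiagonalAutPSL_iff _).2 ⟨g, rfl⟩, (isInverseTransposeAutPSL_iff _).2 rfl, rfl⟩

theorem orderOf_pslGraph (hn : 3 ≤ n) (g : GL (Fin n) F) : orderOf (pslGraph g) = 2 ↔ IsForm g.1 := by
  have hsq : pslGraph g ^ 2 = inndiagHom (g * glInvTrans g) := by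
    rw [sq, pslGraph, mul_assoc, ← mul_assoc itAut, itAut_mul_inndiag, mul_assoc, itAut_mul_self, mul_one, map_mul]
  have h1 : pslGraph g ^ 2 = 1 ↔ ∃ c : Fˣ, g.1 = (c : F) • g.1ᵀ := by
    rw [hsq, ← map_one inndiagHom, inndiag_eq_smul (by omega)]
    refine exists_congr fun c => ⟨fun h => ?_, fun h => ?_⟩
    · have h' : g.1 * (g⁻¹).1ᵀ = (c : F) • 1 := h
      have := congrArg (· * g.1ᵀ) h'
      simp only [Matrix.mul_assoc, smul_mul, Matrix.one_mul] at this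
      rwa [← transpose_mul, Units.mul_inv, transpose_one, Matrix.mul_one] at this
    · show g.1 * (g⁻¹).1ᵀ = (c : F) • 1
      conv_lhs => arg 1; rw [h]
      rw [smul_mul, ← transpose_mul, Units.inv_mul, transpose_one]
  constructor
  · intro h
    obtain ⟨c, hc⟩ := h1.1 (h ▸ pow_orderOf_eq_one _)
    have hct := congrArg Matrix.transpose hc
    rw [transpose_smul, transpose_transpose] at hct
    have hcc : (c : F) * c = 1 := by
      rw [hct, smul_smul] at hc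
      haveI : Nonempty (Fin n) := ⟨⟨0, by omega⟩⟩
      have h0 : ((c : F) * c - 1) • g.1 = 0 := by rw [sub_smul, ← hc, one_smul, sub_self]
      exact sub_eq_zero.1 ((smul_eq_zero.1 h0).resolve_right g.isUnit.ne_zero)
    rcases mul_self_eq_one_iff.1 hcc with e | e <;> rw [e] at hct
    · exact Or.inl (by rw [hct, one_smul])
    · exact Or.inr (by rw [hct, neg_one_smul])
  · intro h
    refine orderOf_eq_prime (h1.2 ?_) fun h2 => ?_
    · rcases h with e | e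
      · exact ⟨1, by rw [Units.val_one, one_smul, e]⟩
      · exact ⟨-1, by rw [Units.val_neg, Units.val_one, neg_one_smul, e, neg_neg]⟩
    · have h3 : (itAut : MulAut (ProjectiveSpecialLinearGroup (Fin n) F)) = semiAut g⁻¹ (RingEquiv.refl F) := by
        rw [pslGraph] at h2
        rw [← inndiagHom_apply, map_inv]
        exact eq_inv_of_mul_eq_one_right h2
      exact itAut_ne_semiAut hn g⁻¹ (RingEquiv.refl F) h3

theorem exists_data_psl (hn : 3 ≤ n) {γ : MulAut (ProjectiveSpecialLinearGroup (Fin n) F)}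
    (hγ : Cfsg.IsGraphAutClassPSL γ) (hγ2 : orderOf γ = 2) : ∃ g, γ = pslGraph g ∧ IsForm g.1 := by
  obtain ⟨g, rfl⟩ := (isGraph_iff hn γ).1 hγ
  exact ⟨g, rfl, (orderOf_pslGraph hn g).1 hγ2⟩

theorem exists_graph_psl (hn : 3 ≤ n) {B : Matrix (Fin n) (Fin n) F} (hB : IsForm B) (hu : IsUnit B) :
    ∃ g : GL (Fin n) F, g.1 = B ∧ Cfsg.IsGraphAutClassPSL (pslGraph g) ∧ orderOf (pslGraph g) = 2 :=
  ⟨hu.unit, rfl, (isGraph_iff hn _).2 ⟨_, rfl⟩, (orderOf_pslGraph hn _).2 hB⟩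

theorem conj_iff_congr_psl (hn : 2 ≤ n) (g g' : GL (Fin n) F) :
    Cfsg.IsConjUnder (Cfsg.inndiagPSL n F) (pslGraph g') (pslGraph g) ↔ FormCongr g'.1 g.1 := by
  rw [inndiagPSL_eq_range]
  constructor
  · rintro ⟨_, ⟨k, rfl⟩, hk⟩
    obtain ⟨c, hc⟩ := (pslGraph_conj hn k g g').1 hk.symm
    refine ⟨⟨k.1ᵀ, (k⁻¹).1ᵀ, by rw [← transpose_mul, Units.inv_mul, transpose_one],
      by rw [← transpose_mul, Units.mul_inv, transpose_one]⟩, c, ?_⟩
    show k.1ᵀᵀ * g'.1 * k.1ᵀ = _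
    rw [transpose_transpose, hc]
  · rintro ⟨P, c, hP⟩
    refine ⟨inndiagHom (glInvTrans P)⁻¹, ⟨_, rfl⟩, ((pslGraph_conj hn _ g g').2 ⟨c, ?_⟩).symm⟩
    show P.1ᵀ * g'.1 * P.1ᵀᵀ = _
    rw [transpose_transpose, hP]

theorem centralizer_psl (hn : 2 ≤ n) (g : GL (Fin n) F) :
    Nonempty (↥(Cfsg.inndiagPSL n F ⊓ Subgroup.centralizer {pslGraph g}) ≃* Cfsg.projQuot (formSim g.1)) ∧
      ∀ k : GL (Fin n) F, inndiagHom k ∈ Subgroup.centralizer {pslGraph g} ↔ glInvTrans k ∈ formSim g.1 := by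
  have hmem : ∀ k : GL (Fin n) F, inndiagHom k ∈ Subgroup.centralizer {pslGraph g} ↔
      glInvTrans k ∈ formSim g.1 := fun k => by
    rw [Subgroup.mem_centralizer_singleton_iff, ← inv_mem_iff (x := glInvTrans k), mem_formSim]
    rw [← mul_inv_eq_iff_eq_mul, pslGraph_conj hn]
    refine exists_congr fun c => Iff.of_eq ?_
    congr 1
  refine ⟨?_, hmem⟩
  obtain ⟨Θ, hΘ⟩ : ∃ Θ : formSim g.1 →* ↥(Cfsg.inndiagPSL n F ⊓ Subgroup.centralizer {pslGraph g}),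
      ∀ x, (Θ x).1 = inndiagHom (glInvTrans x.1) :=
    ⟨MonoidHom.mk' (fun x => ⟨inndiagHom (glInvTrans x.1), by rw [inndiagPSL_eq_range]; exact ⟨_, rfl⟩,
      (hmem _).2 (by rw [glInvTrans_glInvTrans]; exact x.2)⟩) fun x y => Subtype.ext (by
        show inndiagHom (glInvTrans (x * y).1) = inndiagHom _ * inndiagHom _
        rw [Subgroup.coe_mul, glInvTrans_mul, map_mul]), fun x => rfl⟩
  have hker : Θ.ker = (Cfsg.Geo.scalars (Fin n) F).subgroupOf (formSim g.1) := by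
    ext x
    rw [MonoidHom.mem_ker, Subgroup.mem_subgroupOf, Cfsg.Geo.mem_scalars_iff, Subtype.ext_iff, hΘ, Subgroup.coe_one,
      ← map_one inndiagHom, inndiag_eq_smul hn]
    constructor
    · rintro ⟨c, hc⟩
      refine ⟨c⁻¹, ?_⟩
      have h' : (x.1⁻¹).1ᵀ = (c : F) • 1 := hc
      have h1 := congrArg Matrix.transpose h'
      rw [transpose_transpose, transpose_smul, transpose_one] at h1
      have h2 := congrArg (x.1.1 * ·) h1
      simp only [Units.mul_inv, mul_smul_comm, Matrix.mul_one] at h2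
      rw [h2, smul_smul, Units.inv_mul, one_smul]
    · rintro ⟨c, hc⟩
      refine ⟨c⁻¹, ?_⟩
      show (x.1⁻¹).1ᵀ = ((c⁻¹ : Fˣ) : F) • 1
      have h2 : (x.1⁻¹).1 = ((c⁻¹ : Fˣ) : F) • 1 := by
        have h1 := Units.inv_mul x.1
        conv_lhs at h1 => arg 2; rw [hc]
        rw [mul_smul_comm, Matrix.mul_one] at h1
        rw [← h1, smul_smul, Units.inv_mul, one_smul]
      rw [h2, transpose_smul, transpose_one]
  have hsurj : Function.Surjective Θ := by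
    rintro ⟨y, hy⟩
    obtain ⟨k, rfl⟩ : ∃ k, inndiagHom k = y := by
      have := hy.1; rwa [SetLike.mem_coe, inndiagPSL_eq_range] at this
    exact ⟨⟨glInvTrans k, (hmem k).1 hy.2⟩, Subtype.ext ((hΘ _).trans (by rw [glInvTrans_glInvTrans]))⟩
  exact ⟨((QuotientGroup.quotientMulEquivOfEq hker.symm).trans
    (QuotientGroup.quotientKerEquivOfSurjective Θ hsurj)).symm⟩

theorem split_count_psl (hn : 2 ≤ n) (g : GL (Fin n) F) :
    Cfsg.splitClassCount (Cfsg.inndiagPSL n F) (Cfsg.Inn (ProjectiveSpecialLinearGroup (Fin n) F)) (pslGraph g) =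
      Nat.gcd n ((formSim g.1).map Matrix.GeneralLinearGroup.det).index := by
  obtain ⟨D, hD⟩ : ∃ D : Subgroup (GL (Fin n) F), D = (Subgroup.centralizer {pslGraph g}).comap inndiagHom :=
    ⟨_, rfl⟩
  rw [splitClassCount_eq_gcd hn _ D (by rw [hD, Subgroup.map_comap_eq, inndiagPSL_eq_range])]
  congr 2
  have hdet : ∀ k : GL (Fin n) F, Matrix.GeneralLinearGroup.det (glInvTrans k) =
      (Matrix.GeneralLinearGroup.det k)⁻¹ := fun k => by
    rw [← map_inv]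
    exact Units.ext (det_transpose _)
  have hmem := (centralizer_psl hn g).2
  ext v
  constructor
  · rintro ⟨k, hk, rfl⟩
    have hk' : inndiagHom k ∈ Subgroup.centralizer {pslGraph g} := by rw [hD] at hk; exact hk
    rw [← inv_mem_iff, ← hdet]
    exact ⟨_, (hmem k).1 hk', rfl⟩
  · rintro ⟨x, hx, rfl⟩
    rw [← inv_mem_iff, ← hdet]
    refine ⟨_, ?_, rfl⟩
    rw [hD]
    exact (hmem _).2 (by rw [glInvTrans_glInvTrans]; exact hx)

theorem mem_sign_range {G : Type*} [CommGroup G] [IsCyclic G] [Finite G] {N : ℕ} (hN : Nat.card G = 2 * N)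
    (z : G) : z * z = 1 ↔ z ∈ (powMonoidHom N : G →* G).range := by
  constructor
  · intro hz
    obtain ⟨g, hg⟩ := IsCyclic.exists_generator (α := G)
    obtain ⟨j, hj⟩ := mem_powers_iff_mem_zpowers.2 (hg z)
    simp only at hj
    have h1 : g ^ (j * 2) = 1 := by rw [pow_mul, hj, sq, hz]
    rw [← orderOf_dvd_iff_pow_eq_one, orderOf_eq_card_of_forall_mem_zpowers hg, hN, mul_comm j] at h1
    obtain ⟨i, rfl⟩ := Nat.dvd_of_mul_dvd_mul_left two_pos h1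
    exact ⟨g ^ i, by rw [powMonoidHom_apply, ← pow_mul, mul_comm, hj]⟩
  · rintro ⟨y, rfl⟩
    rw [powMonoidHom_apply, ← pow_add, ← two_mul, ← hN, pow_card_eq_one']

variable {g : GL (Fin n) F}

theorem det_map_odd {k : ℕ} (hk : n = 2 * k + 1) :
    (formSim g.1).map Matrix.GeneralLinearGroup.det = (powMonoidHom n : Fˣ →* Fˣ).range := by
  refine le_antisymm ?_ ?_
  · rintro _ ⟨x, ⟨c, hx⟩, rfl⟩
    obtain ⟨s, -, hs⟩ := det_sim_odd g.isUnit (by rw [Fintype.card_fin, hk]) hx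
    exact ⟨s, Units.ext (by
      rw [powMonoidHom_apply, Units.val_pow_eq_pow_val, show (s : F) ^ n = (s : F) ^ (2 * k + 1) by rw [hk], ← hs]; rfl)⟩
  · rintro _ ⟨s, rfl⟩
    refine ⟨GeneralLinearGroup.scalar (Fin n) s, ⟨s * s, ?_⟩, Units.ext ?_⟩
    · have hv : (GeneralLinearGroup.scalar (Fin n) s).1 = (s : F) • 1 := (smul_one_eq_diagonal _).symm
      rw [hv, transpose_smul, transpose_one, smul_mul, Matrix.one_mul, mul_smul_comm, Matrix.mul_one, smul_smul,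
        Units.val_mul]
    · show (GeneralLinearGroup.scalar (Fin n) s).1.det = _
      rw [show (GeneralLinearGroup.scalar (Fin n) s).1 = (s : F) • 1 from (smul_one_eq_diagonal _).symm, det_smul,
        det_one, mul_one, Fintype.card_fin]
      rfl

theorem det_map_plus {k : ℕ} (hk : n = 2 * k) (hB : IsForm g.1) (hcase : IsAlt g.1 ∨ (2 : F) = 0) :
    (formSim g.1).map Matrix.GeneralLinearGroup.det = (powMonoidHom k : Fˣ →* Fˣ).range := by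
  refine le_antisymm ?_ ?_
  · rintro _ ⟨x, ⟨c, hx⟩, rfl⟩
    exact ⟨c, Units.ext ((Units.val_pow_eq_pow_val c k).trans
      (det_sim_of_alt_or_two g.isUnit hcase (by rw [Fintype.card_fin, hk]) c.ne_zero hx).symm)⟩
  · rintro _ ⟨c, rfl⟩
    obtain ⟨x, hx⟩ := form_congr_smul hB g.isUnit c (k := k) (by rw [Fintype.card_fin, hk])
    refine ⟨x, ⟨c, hx⟩, Units.ext ?_⟩
    show x.1.det = ((c ^ k : Fˣ) : F)
    rw [Units.val_pow_eq_pow_val]
    exact det_sim_of_alt_or_two g.isUnit hcase (by rw [Fintype.card_fin, hk]) c.ne_zero hx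

theorem det_map_sym [NeZero n] {k N : ℕ} (hk : n = 2 * k) (hN : Nat.card Fˣ = 2 * N) (hB : g.1ᵀ = g.1)
    (h2 : (2 : F) ≠ 0) :
    (formSim g.1).map Matrix.GeneralLinearGroup.det =
      (powMonoidHom k : Fˣ →* Fˣ).range ⊔ (powMonoidHom N : Fˣ →* Fˣ).range := by
  refine le_antisymm ?_ (sup_le ?_ ?_)
  · rintro _ ⟨x, ⟨c, hx⟩, rfl⟩
    rw [show Matrix.GeneralLinearGroup.det x = c ^ k * ((c ^ k)⁻¹ * Matrix.GeneralLinearGroup.det x) by
      rw [mul_inv_cancel_left]]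
    refine Subgroup.mul_mem_sup ⟨c, rfl⟩ ((mem_sign_range hN _).1 (Units.ext ?_))
    rcases det_sim_cases g.isUnit (by rw [Fintype.card_fin, hk]) hx with d | d <;>
      simp only [Units.val_mul, Units.val_inv_eq_inv_val, Units.val_pow_eq_pow_val, Units.val_one,
        Matrix.GeneralLinearGroup.val_det_apply, d] <;>
      field_simp
  · rintro _ ⟨c, rfl⟩
    obtain ⟨x, hx⟩ := form_congr_smul (Or.inl hB) g.isUnit c (k := k) (by rw [Fintype.card_fin, hk])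
    rcases det_sim_cases g.isUnit (by rw [Fintype.card_fin, hk]) hx with d | d
    · exact ⟨x, ⟨c, hx⟩, Units.ext (by rw [powMonoidHom_apply, Units.val_pow_eq_pow_val]; exact d)⟩
    · obtain ⟨x', hx', d'⟩ := exists_sim_neg h2 hB g.isUnit (k := k) (by rw [Fintype.card_fin, hk]) 1
      refine ⟨x * x', (formSim g.1).mul_mem ⟨c, hx⟩ ⟨1, hx'⟩, Units.ext ?_⟩
      rw [powMonoidHom_apply, Units.val_pow_eq_pow_val]
      show (x.1 * x'.1).det = _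
      rw [det_mul, d, d', Units.val_one, one_pow, neg_mul_neg, mul_one]
  · rintro z hz
    have hzz := (mem_sign_range hN z).2 hz
    rcases mul_self_eq_one_iff.1 (show (z : F) * z = 1 by rw [← Units.val_mul, hzz, Units.val_one]) with e | e
    · exact ⟨1, one_mem _, by rw [map_one]; exact Units.ext e.symm⟩
    · obtain ⟨x, hx, d⟩ := exists_sim_neg h2 hB g.isUnit (k := k) (by rw [Fintype.card_fin, hk]) 1
      refine ⟨x, ⟨1, hx⟩, Units.ext ?_⟩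
      show x.1.det = _
      rw [d, e, Units.val_one, one_pow]

theorem psl_graph_split (hn : 3 ≤ n) {γ : MulAut (ProjectiveSpecialLinearGroup (Fin n) F)}
    (hγ : Cfsg.IsGraphAutClassPSL γ) (hγ2 : orderOf γ = 2) {p f : ℕ} [Fact p.Prime] (hF : Fintype.card F = p ^ f)
    (hf : 1 ≤ f) :
    ((Even n ∧ Odd p ∧ Nonempty (↥(Cfsg.inndiagPSL n F ⊓ Subgroup.centralizer {γ}) ≃* Cfsg.PGSp (n / 2) F)) →
      Cfsg.splitClassCount (Cfsg.inndiagPSL n F) (Cfsg.Inn (ProjectiveSpecialLinearGroup (Fin n) F)) γ =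
        Nat.gcd (n / 2) (p ^ f - 1)) ∧
    ((Even n ∧ Odd p ∧ ¬ Nonempty (↥(Cfsg.inndiagPSL n F ⊓ Subgroup.centralizer {γ}) ≃* Cfsg.PGSp (n / 2) F)) →
      Cfsg.splitClassCount (Cfsg.inndiagPSL n F) (Cfsg.Inn (ProjectiveSpecialLinearGroup (Fin n) F)) γ =
        Nat.gcd n (p ^ f - 1) / 2) ∧
    (¬ (Even n ∧ Odd p) →
      Cfsg.splitClassCount (Cfsg.inndiagPSL n F) (Cfsg.Inn (ProjectiveSpecialLinearGroup (Fin n) F)) γ =
        Nat.gcd n (p ^ f - 1)) := by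
  haveI : NeZero n := ⟨by omega⟩
  obtain ⟨g, rfl, hB⟩ := exists_data_psl hn hγ hγ2
  obtain ⟨⟨φ⟩, -⟩ := centralizer_psl (show 2 ≤ n by omega) g
  have hodd : Odd p ↔ (2 : F) ≠ 0 := by
    rw [← odd_iff_two_ne_zero hF, Nat.odd_pow_iff (by omega)]
  have hcard : Nat.card Fˣ = p ^ f - 1 := by rw [Nat.card_units, Nat.card_eq_fintype_card, hF]
  rw [split_count_psl (show 2 ≤ n by omega) g]
  rcases Nat.even_or_odd n with hev | hod
  swap
  · obtain ⟨k, hk⟩ := hod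
    have hne : ¬ Even n := Nat.not_even_iff_odd.2 ⟨k, hk⟩
    refine ⟨fun e => absurd e.1 hne, fun e => absurd e.1 hne, fun _ => ?_⟩
    rw [det_map_odd hk, IsCyclic.index_powMonoidHom_range, hcard, Nat.gcd_comm (p ^ f - 1) n,
      Nat.gcd_eq_right (Nat.gcd_dvd_left _ _)]
  obtain ⟨k, hk⟩ : ∃ k, n = 2 * k := ⟨n / 2, (Nat.two_mul_div_two_of_even hev).symm⟩
  have hk2 : n / 2 = k := by omega
  have hgk : Nat.gcd n (Nat.gcd (p ^ f - 1) k) = Nat.gcd k (p ^ f - 1) := by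
    rw [hk, Nat.gcd_comm (p ^ f - 1) k]
    exact Nat.gcd_eq_right ((Nat.gcd_dvd_left _ _).trans (dvd_mul_left k 2))
  by_cases h2 : (2 : F) = 0
  · have hq : ¬ Odd p := fun e => hodd.1 e h2
    refine ⟨fun e => absurd e.2.1 hq, fun e => absurd e.2.1 hq, fun _ => ?_⟩
    rw [det_map_plus hk hB (Or.inr h2), IsCyclic.index_powMonoidHom_range, hcard, hgk, hk]
    refine (gcd_two_mul_of_odd ?_).symm
    refine Nat.Even.sub_odd (Nat.one_le_pow _ _ (Fact.out : p.Prime).pos) ?_ odd_one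
    exact (Nat.not_odd_iff_even.1 hq).pow_of_ne_zero (by omega)
  have hq : Odd p := hodd.2 h2
  rw [hk2]
  rcases (isForm_iff g.1).1 hB with ha | ⟨hs, -⟩
  · obtain ⟨χ⟩ := alt_iso_pgsp (m := k) (by omega) hk h2 ha g.isUnit
    refine ⟨fun _ => ?_, fun e => absurd ⟨φ.trans χ⟩ e.2.2, fun e => absurd ⟨hev, hq⟩ e⟩
    rw [det_map_plus hk hB (Or.inl ha), IsCyclic.index_powMonoidHom_range, hcard, hgk]
  · refine ⟨fun e => ?_, fun _ => ?_, fun e => absurd ⟨hev, hq⟩ e⟩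
    · obtain ⟨χ⟩ := e.2.2
      exact absurd ⟨φ.symm.trans χ⟩ (sym_not_pgsp (m := k) (by omega) hk h2 hs g.isUnit)
    obtain ⟨N, hN⟩ : ∃ N, p ^ f - 1 = 2 * N := by
      obtain ⟨r, hr⟩ := (Odd.pow hq : Odd (p ^ f))
      exact ⟨r, by omega⟩
    rw [det_map_sym hk (hcard.trans hN) hs h2, index_sup_of_isCyclic, IsCyclic.index_powMonoidHom_range,
      IsCyclic.index_powMonoidHom_range, hcard, hN, hk, Nat.gcd_mul_left, Nat.mul_div_cancel_left _ two_pos,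
      Nat.gcd_eq_right (dvd_mul_left N 2), Nat.gcd_comm (2 * N) k, Nat.gcd_assoc,
      Nat.gcd_eq_right (dvd_mul_left N 2)]
    exact Nat.gcd_eq_right ((Nat.gcd_dvd_left _ _).trans (dvd_mul_left k 2))

theorem psl_graph_odd (hn : 3 ≤ n) {m : ℕ} (hnm : n = 2 * m + 1)
    {γ γ' : MulAut (ProjectiveSpecialLinearGroup (Fin n) F)} (hγ : Cfsg.IsGraphAutClassPSL γ) (hγ2 : orderOf γ = 2)
    (hγ' : Cfsg.IsGraphAutClassPSL γ') (hγ'2 : orderOf γ' = 2) :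
    Nonempty (↥(Cfsg.inndiagPSL n F ⊓ Subgroup.centralizer {γ}) ≃* Cfsg.PGO F (Cfsg.quadFormOdd m F)) ∧
      Cfsg.IsConjUnder (Cfsg.inndiagPSL n F) γ γ' := by
  obtain ⟨g, rfl, hB⟩ := exists_data_psl hn hγ hγ2
  obtain ⟨g', rfl, hB'⟩ := exists_data_psl hn hγ' hγ'2
  obtain ⟨B₀, -, -, hc, ⟨ψ⟩⟩ := classify_odd_any (F₀ := F) hnm
  obtain ⟨⟨φ⟩, -⟩ := centralizer_psl (show 2 ≤ n by omega) g
  obtain ⟨χ⟩ := formSim_congr (hc g.1 hB g.isUnit)
  exact ⟨⟨φ.trans (χ.trans ψ)⟩,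
    (conj_iff_congr_psl (by omega) g' g).2 ((hc _ hB g.isUnit).symm.trans (hc _ hB' g'.isUnit))⟩

theorem psl_graph_even (hn : 3 ≤ n) {m : ℕ} (hm : 1 ≤ m) (hnm : n = 2 * m) (h2 : (2 : F) ≠ 0) :
    ∃ (γ₁ γ₂ γ₃ : MulAut (ProjectiveSpecialLinearGroup (Fin n) F)) (a b : F),
      (∀ z₁ z₂ : F, z₁ ^ 2 + a * z₁ * z₂ + b * z₂ ^ 2 = 0 → z₁ = 0 ∧ z₂ = 0) ∧
      Cfsg.IsGraphAutClassPSL γ₁ ∧ orderOf γ₁ = 2 ∧ Cfsg.IsGraphAutClassPSL γ₂ ∧ orderOf γ₂ = 2 ∧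
      Cfsg.IsGraphAutClassPSL γ₃ ∧ orderOf γ₃ = 2 ∧
      ¬ Cfsg.IsConjUnder (Cfsg.inndiagPSL n F) γ₁ γ₂ ∧ ¬ Cfsg.IsConjUnder (Cfsg.inndiagPSL n F) γ₁ γ₃ ∧
      ¬ Cfsg.IsConjUnder (Cfsg.inndiagPSL n F) γ₂ γ₃ ∧
      (∀ γ : MulAut (ProjectiveSpecialLinearGroup (Fin n) F), Cfsg.IsGraphAutClassPSL γ → orderOf γ = 2 →
        Cfsg.IsConjUnder (Cfsg.inndiagPSL n F) γ₁ γ ∨ Cfsg.IsConjUnder (Cfsg.inndiagPSL n F) γ₂ γ ∨
          Cfsg.IsConjUnder (Cfsg.inndiagPSL n F) γ₃ γ) ∧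
      Nonempty (↥(Cfsg.inndiagPSL n F ⊓ Subgroup.centralizer {γ₁}) ≃* Cfsg.PGSp m F) ∧
      Nonempty (↥(Cfsg.inndiagPSL n F ⊓ Subgroup.centralizer {γ₂}) ≃* Cfsg.PGO F (Cfsg.quadFormPlus m F)) ∧
      Nonempty (↥(Cfsg.inndiagPSL n F ⊓ Subgroup.centralizer {γ₃}) ≃* Cfsg.PGO F (Cfsg.quadFormMinus (m - 1) F a b)) := by
  obtain ⟨a, b, hab⟩ := exists_anisotropic_binary (F := F)
  obtain ⟨B₁, B₂, B₃, h1, hb2, h3, n12, n13, n23, hall, -, -, ⟨ψ₁⟩, ⟨ψ₂⟩, ⟨ψ₃⟩⟩ :=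
    classify_even (F := F) hm hnm h2 hab
  obtain ⟨g₁, rfl, e₁, o₁⟩ := exists_graph_psl hn (Or.inr h1.1.1) h1.2
  obtain ⟨g₂, rfl, e₂, o₂⟩ := exists_graph_psl hn (Or.inl hb2.1) hb2.2
  obtain ⟨g₃, rfl, e₃, o₃⟩ := exists_graph_psl hn (Or.inl h3.1) h3.2
  obtain ⟨⟨φ₁⟩, -⟩ := centralizer_psl (show 2 ≤ n by omega) g₁
  obtain ⟨⟨φ₂⟩, -⟩ := centralizer_psl (show 2 ≤ n by omega) g₂
  obtain ⟨⟨φ₃⟩, -⟩ := centralizer_psl (show 2 ≤ n by omega) g₃
  refine ⟨_, _, _, a, b, hab, e₁, o₁, e₂, o₂, e₃, o₃,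
    fun c => n12 ((conj_iff_congr_psl (by omega) g₂ g₁).1 c),
    fun c => n13 ((conj_iff_congr_psl (by omega) g₃ g₁).1 c),
    fun c => n23 ((conj_iff_congr_psl (by omega) g₃ g₂).1 c),
    fun γ hγ hγ2 => ?_, ⟨φ₁.trans ψ₁⟩, ⟨φ₂.trans ψ₂⟩, ⟨φ₃.trans ψ₃⟩⟩
  obtain ⟨g, rfl, hB⟩ := exists_data_psl hn hγ hγ2
  rcases hall g.1 hB g.isUnit with c | c | c
  · exact Or.inl ((conj_iff_congr_psl (by omega) g g₁).2 c)
  · exact Or.inr (Or.inl ((conj_iff_congr_psl (by omega) g g₂).2 c))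
  · exact Or.inr (Or.inr ((conj_iff_congr_psl (by omega) g g₃).2 c))

theorem psl_graph_two (hn : 3 ≤ n) {m : ℕ} (hm : 1 ≤ m) (hnm : n = 2 * m) (h2 : (2 : F) = 0) :
    ∃ (γ₁ γ₃ : MulAut (ProjectiveSpecialLinearGroup (Fin n) F)) (t : ↥(Matrix.symplecticGroup (Fin m) F)),
      Cfsg.IsTransvection (t : Matrix (Fin m ⊕ Fin m) (Fin m ⊕ Fin m) F) ∧
      Cfsg.IsGraphAutClassPSL γ₁ ∧ orderOf γ₁ = 2 ∧ Cfsg.IsGraphAutClassPSL γ₃ ∧ orderOf γ₃ = 2 ∧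
      ¬ Cfsg.IsConjUnder (Cfsg.inndiagPSL n F) γ₁ γ₃ ∧
      (∀ γ : MulAut (ProjectiveSpecialLinearGroup (Fin n) F), Cfsg.IsGraphAutClassPSL γ → orderOf γ = 2 →
        Cfsg.IsConjUnder (Cfsg.inndiagPSL n F) γ₁ γ ∨ Cfsg.IsConjUnder (Cfsg.inndiagPSL n F) γ₃ γ) ∧
      Nonempty (↥(Cfsg.inndiagPSL n F ⊓ Subgroup.centralizer {γ₁}) ≃* ↥(Matrix.symplecticGroup (Fin m) F)) ∧
      Nonempty (↥(Cfsg.inndiagPSL n F ⊓ Subgroup.centralizer {γ₃}) ≃*
        ↥(Subgroup.centralizer ({t} : Set ↥(Matrix.symplecticGroup (Fin m) F)))) := by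
  obtain ⟨B₁, B₃, t, ht, h1, h3, n13, hall, ⟨ψ₁⟩, ⟨ψ₃⟩⟩ := classify_two_even (F := F) h2 hm hnm
  obtain ⟨g₁, rfl, e₁, o₁⟩ := exists_graph_psl hn (Or.inr h1.1.1) h1.2
  obtain ⟨g₃, rfl, e₃, o₃⟩ := exists_graph_psl hn (Or.inl h3.1) h3.2
  obtain ⟨⟨φ₁⟩, -⟩ := centralizer_psl (show 2 ≤ n by omega) g₁
  obtain ⟨⟨φ₃⟩, -⟩ := centralizer_psl (show 2 ≤ n by omega) g₃
  refine ⟨_, _, t, ht, e₁, o₁, e₃, o₃, fun c => n13 ((conj_iff_congr_psl (by omega) g₃ g₁).1 c),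
    fun γ hγ hγ2 => ?_, ⟨φ₁.trans ψ₁⟩, ⟨φ₃.trans ψ₃⟩⟩
  obtain ⟨g, rfl, hB⟩ := exists_data_psl hn hγ hγ2
  rcases hall g.1 hB g.isUnit with c | c
  · exact Or.inl ((conj_iff_congr_psl (by omega) g g₁).2 c)
  · exact Or.inr ((conj_iff_congr_psl (by omega) g g₃).2 c)

theorem psl_it_centralizer (hodd : Odd (Fintype.card F)) {m : ℕ} (hm : 2 ≤ m) (hnm : n = 2 * m)
    {ι : MulAut (ProjectiveSpecialLinearGroup (Fin n) F)} (hι : Cfsg.IsInverseTransposeAutPSL ι) :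
    (Even (n * (Fintype.card F - 1) / 4) →
      Nonempty (↥(Cfsg.inndiagPSL n F ⊓ Subgroup.centralizer {ι}) ≃* Cfsg.PGO F (Cfsg.quadFormPlus m F))) ∧
    (¬ Even (n * (Fintype.card F - 1) / 4) → ∃ a b : F,
      (∀ z₁ z₂ : F, z₁ ^ 2 + a * z₁ * z₂ + b * z₂ ^ 2 = 0 → z₁ = 0 ∧ z₂ = 0) ∧
        Nonempty (↥(Cfsg.inndiagPSL n F ⊓ Subgroup.centralizer {ι}) ≃*
          Cfsg.PGO F (Cfsg.quadFormMinus (m - 1) F a b))) := by
  have h2 : (2 : F) ≠ 0 := CfsgLib.Classical.two_ne_zero_of_odd hodd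
  have hι' : ι = pslGraph 1 := by
    rw [(isInverseTransposeAutPSL_iff ι).1 hι, pslGraph, map_one, one_mul]
  obtain ⟨a, b, hab⟩ := exists_anisotropic_binary (F := F)
  obtain ⟨B₁, B₂, B₃, -, -, -, -, -, -, -, hc2, hc3, -, ⟨ψ₂⟩, ⟨ψ₃⟩⟩ :=
    classify_even (F := F) (n := n) (show 1 ≤ m by omega) hnm h2 hab
  obtain ⟨⟨φ⟩, -⟩ := centralizer_psl (show 2 ≤ n by omega) (1 : GL (Fin n) F)
  obtain ⟨r, hr⟩ := hodd
  have he : Even (n * (Fintype.card F - 1) / 4) ↔ IsSquare ((-1 : F) ^ m * (1 : Matrix (Fin n) (Fin n) F).det) := by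
    rw [det_one, mul_one, hnm, hr, Nat.add_sub_cancel, show 2 * m * (2 * r) = m * r * 4 by ring,
      Nat.mul_div_cancel _ (by norm_num), Nat.even_mul]
    rcases Nat.even_or_odd m with hm' | hm'
    · exact iff_of_true (Or.inl hm') (hm'.isSquare_pow _)
    · rw [hm'.neg_one_pow, FiniteField.isSquare_neg_one_iff, hr]
      simp only [Nat.not_even_iff_odd.2 hm', false_or, Nat.even_iff]
      omega
  subst hι'
  refine ⟨fun h => ?_, fun h => ⟨a, b, hab, ?_⟩⟩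
  · obtain ⟨χ⟩ := formSim_congr (hc2 1 transpose_one isUnit_one (he.1 h))
    exact ⟨φ.trans (χ.trans ψ₂)⟩
  · obtain ⟨χ⟩ := formSim_congr (hc3 1 transpose_one isUnit_one fun h' => h (he.2 h'))
    exact ⟨φ.trans (χ.trans ψ₃)⟩

end CfsgLib.Classical.GraphForm
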