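import Mathlib
import Cfsg.Agent.Lib.Classical.HermOrder

/-!
Normal form of a self-adjoint square-zero map on a Hermitian space, and conjugacy of such maps.
-/

set_option autoImplicit false

namespace CfsgLib.Classical.HermInvol

open CfsgLib.Geom

variable {F V : Type*} [Field F] [AddCommGroup V] [Module F V] {σ : F →+* F}

/-- `u` is a hyperbolic frame of `N` in the form `B`. -/
structure Frame (B : V →ₛₗ[σ] V →ₗ[F] F) (N : V →ₗ[F] V) {k : ℕ} (u : Fin k → V) : Prop where
  pair : ∀ i j, B (N (u i)) (u j) = if i = j then 1 else 0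
  iso : ∀ i j, B (u i) (u j) = 0

/-- The hypotheses on the form and on the map. -/
structure Setup (B : V →ₛₗ[σ] V →ₗ[F] F) (N : V →ₗ[F] V) : Prop where
  conj : ∀ u v, σ (B u v) = B v u
  sep : ∀ x, (∀ y, B x y = 0) → x = 0
  invol : ∀ a, σ (σ a) = a
  ne_id : σ ≠ RingHom.id F
  norm_surj : ∀ a, σ a = a → ∃ l, σ l * l = a
  sq : ∀ v, N (N v) = 0
  adj : ∀ u v, B (N u) v = B u (N v)

variable {B : V →ₛₗ[σ] V →ₗ[F] F} {N : V →ₗ[F] V}

theorem Setup.NN (h : Setup B N) (u v : V) : B (N u) (N v) = 0 := by
  rw [h.adj, h.sq, map_zero]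

theorem Frame.pair' (h : Setup B N) {k : ℕ} {u : Fin k → V} (hu : Frame B N u) (i j : Fin k) :
    B (u i) (N (u j)) = if i = j then 1 else 0 := by
  rw [← h.adj, hu.pair]

/-- The frame together with its images. -/
def pairFam (N : V →ₗ[F] V) {k : ℕ} (u : Fin k → V) : Fin k ⊕ Fin k → V :=
  Sum.elim u (fun i => N (u i))

theorem Frame.gram {B' : V →ₛₗ[σ] V →ₗ[F] F} {N' : V →ₗ[F] V} (h : Setup B' N') {k : ℕ}
    {u : Fin k → V} (hu : Frame B' N' u) (i j : Fin k ⊕ Fin k) :
    B' (pairFam N' u i) (pairFam N' u j) =
      Sum.elim (fun a => Sum.elim (fun _ => 0) (fun b => if a = b then 1 else 0) j)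
        (fun a => Sum.elim (fun b => if a = b then 1 else 0) (fun _ => 0) j) i := by
  rcases i with i | i <;> rcases j with j | j <;>
    simp [pairFam, hu.iso, hu.pair, hu.pair' h, h.NN]

theorem Frame.independent (h : Setup B N) {k : ℕ} {u : Fin k → V} (hu : Frame B N u) :
    LinearIndependent F (pairFam N u) := by
  classical
  rw [Fintype.linearIndependent_iff]
  intro c hc i
  rcases i with i | i
  · have := congrArg (B (N (u i))) hc
    simpa [Fintype.sum_sum_type, pairFam, map_sum, map_smul, hu.pair, h.NN] using this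
  · have := congrArg (B (u i)) hc
    simpa [Fintype.sum_sum_type, pairFam, map_sum, map_smul, hu.iso, hu.pair' h] using this

theorem exists_frame [FiniteDimensional F V] (h : Setup B N) :
    ∀ k, k ≤ Module.finrank F (LinearMap.range N) → ∃ u : Fin k → V, Frame B N u := by
  classical
  intro k
  induction k with
  | zero => exact fun _ => ⟨Fin.elim0, ⟨fun i => i.elim0, fun i => i.elim0⟩⟩
  | succ k ih =>
    intro hk
    obtain ⟨u, hu⟩ := ih (by omega)
    have hne : ¬ LinearMap.range N ≤ Submodule.span F (Set.range fun i => N (u i)) := by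
      intro hle
      have h1 := Submodule.finrank_mono hle
      have h2 := finrank_range_le_card (R := F) (fun i => N (u i))
      rw [Fintype.card_fin] at h2
      change Set.finrank F (Set.range fun i => N (u i)) ≤ k at h2
      rw [Set.finrank] at h2
      omega
    have proj : ∀ v, ∀ i, B (N (u i)) (v - ∑ j, B (N (u j)) v • u j) = 0 := fun v i => by
      simp [map_sum, hu.pair]
    obtain ⟨v0, hv0, hv00⟩ : ∃ v, (∀ i, B (N (u i)) v = 0) ∧ B (N v) v ≠ 0 := by
      by_contra hcon
      push Not at hcon
      obtain ⟨r, hr⟩ : ∃ r, σ r ≠ r := by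
        by_contra hh
        push Not at hh
        exact h.ne_id (RingHom.ext hh)
      have pol : ∀ v w, (∀ i, B (N (u i)) v = 0) → (∀ i, B (N (u i)) w = 0) → B (N v) w = 0 := by
        intro v w hv hw
        have e : ∀ c : F, c * B (N v) w + σ c * B (N w) v = 0 := fun c => by
          have := hcon (v + c • w) (fun i => by simp [hv, hw])
          simp [hcon v hv, hcon w hw] at this
          linear_combination this
        have e1 := e 1
        rw [map_one, one_mul, one_mul] at e1
        have e2 : (r - σ r) * B (N v) w = 0 := by linear_combination e r - σ r * e1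
        exact (mul_eq_zero.1 e2).resolve_left (sub_ne_zero.2 (Ne.symm hr))
      have kill : ∀ v, (∀ i, B (N (u i)) v = 0) → N v = 0 := fun v hv => h.sep _ fun y => by
        have e0 : ∀ j, B (N v) (u j) = 0 := fun j => by
          rw [h.adj, ← h.conj, hv, map_zero]
        have := pol v (y - ∑ j, B (N (u j)) y • u j) hv (proj y)
        simpa [map_sub, map_sum, e0] using this
      refine hne ?_
      rintro _ ⟨v, rfl⟩
      have := kill _ (proj v)
      rw [map_sub, sub_eq_zero] at this
      rw [this, map_sum]
      exact Submodule.sum_mem _ fun j _ => by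
        rw [map_smul]; exact Submodule.smul_mem _ _ (Submodule.subset_span ⟨j, rfl⟩)
    have hfix : σ (B (N v0) v0)⁻¹ = (B (N v0) v0)⁻¹ := by
      rw [map_inv₀, h.conj, h.adj]
    obtain ⟨l, hl⟩ := h.norm_surj _ hfix
    -- scale
    set v1 := l • v0 with hv1
    have hv1p : ∀ i, B (N (u i)) v1 = 0 := fun i => by simp [hv1, hv0]
    have hv11 : B (N v1) v1 = 1 := by
      simp [hv1]
      rw [← mul_assoc, mul_comm l, hl, inv_mul_cancel₀ hv00]
    -- orthogonal to the old vectors
    set v2 := v1 - ∑ j, B (u j) v1 • N (u j) with hv2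
    have hNv2 : N v2 = N v1 := by simp [hv2, map_sum, h.sq]
    have hv2p : ∀ i, B (N (u i)) v2 = 0 := fun i => by simp [hv2, map_sum, hv1p, h.NN]
    have hv2o : ∀ i, B (u i) v2 = 0 := fun i => by simp [hv2, map_sum, hu.pair' h]
    have hv22 : B (N v2) v2 = 1 := by
      rw [hNv2, hv2]; simp [map_sum, h.NN, hv11]
    -- isotropic
    obtain ⟨t, ht⟩ : ∃ t, t + σ t = -B v2 v2 := by
      obtain ⟨s, hs⟩ := exists_trace_one h.ne_id h.invol
      refine ⟨-B v2 v2 * s, ?_⟩
      rw [map_mul, map_neg, h.conj, ← mul_add, hs, mul_one]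
    set v3 := v2 + t • N v2 with hv3
    have hNv3 : N v3 = N v2 := by simp [hv3, h.sq]
    have hv33 : B (N v3) v3 = 1 := by rw [hNv3, hv3]; simp [h.NN, hv22]
    have hv3p : ∀ i, B (N (u i)) v3 = 0 := fun i => by simp [hv3, hv2p, h.NN]
    have hv3o : ∀ i, B (u i) v3 = 0 := fun i => by
      simp [hv3, hv2o]; right; rw [← h.adj, hv2p]
    have hv3i : B v3 v3 = 0 := by
      have e1 : B v2 (N v2) = 1 := by rw [← h.adj, hv22]
      simp [hv3, e1, hv22, h.NN]
      linear_combination ht
    refine ⟨Fin.snoc u v3, ⟨fun i j => ?_, fun i j => ?_⟩⟩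
    · refine Fin.lastCases ?_ (fun i => ?_) i <;> refine Fin.lastCases ?_ (fun j => ?_) j <;>
        simp only [Fin.snoc_last, Fin.snoc_castSucc]
      · simpa using hv33
      · rw [if_neg (Fin.castSucc_lt_last j).ne', h.adj, ← h.conj, hv3p, map_zero]
      · rw [if_neg (Fin.castSucc_lt_last i).ne, hv3p]
      · simp [hu.pair, Fin.castSucc_inj]
    · refine Fin.lastCases ?_ (fun i => ?_) i <;> refine Fin.lastCases ?_ (fun j => ?_) j <;>
        simp only [Fin.snoc_last, Fin.snoc_castSucc]
      · exact hv3i
      · rw [← h.conj, hv3o, map_zero]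
      · exact hv3o i
      · exact hu.iso i j

/-- A full frame captures the image of `N`. -/
theorem Frame.span_eq [FiniteDimensional F V] (h : Setup B N) {k : ℕ} {u : Fin k → V}
    (hu : Frame B N u) (hk : k = Module.finrank F (LinearMap.range N)) :
    Submodule.span F (Set.range fun i => N (u i)) = LinearMap.range N := by
  refine Submodule.eq_of_le_of_finrank_le (Submodule.span_le.2 ?_) ?_
  · rintro _ ⟨i, rfl⟩; exact LinearMap.mem_range_self N _
  · have := finrank_span_eq_card ((hu.independent h).comp Sum.inr Sum.inr_injective)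
    rw [Fintype.card_fin] at this
    have e : (pairFam N u ∘ Sum.inr) = fun i => N (u i) := rfl
    rw [e] at this
    omega

/-- Two square-zero self-adjoint maps of the same rank are conjugate under the isometries. -/
theorem exists_conj [FiniteDimensional F V] {N' : V →ₗ[F] V} (h : Setup B N) (h' : Setup B N')
    (hr : Module.finrank F (LinearMap.range N) = Module.finrank F (LinearMap.range N')) :
    ∃ g ∈ formIsoms B, ∀ v, g (N v) = N' (g v) := by
  classical
  obtain ⟨u, hu⟩ := exists_frame h _ le_rfl
  obtain ⟨u', hu'⟩ := exists_frame h' (Module.finrank F (LinearMap.range N)) hr.le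
  let b := Module.Basis.span (hu.independent h)
  let φ : Submodule.span F (Set.range (pairFam N u)) →ₗ[F] V := b.constr F (pairFam N' u')
  have hb : ∀ i, φ (b i) = pairFam N' u' i := fun i => b.constr_basis F _ i
  have hinj : Function.Injective φ := by
    rw [← LinearMap.ker_eq_bot, LinearMap.ker_eq_bot']
    intro x hx
    rw [← b.sum_repr x] at hx ⊢
    simp only [map_sum, map_smul, hb] at hx
    have := Fintype.linearIndependent_iff.1 (hu'.independent h') _ hx
    simp [this]
  have hφ : ∀ x x', B (φ x) (φ x') = B x x' := by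
    intro x x'
    rw [← b.sum_repr x, ← b.sum_repr x']
    simp only [map_sum, map_smul, map_smulₛₗ, Submodule.coe_sum, Submodule.coe_smul,
      LinearMap.sum_apply, LinearMap.smul_apply, hb]
    refine Finset.sum_congr rfl fun j _ => congrArg _ (Finset.sum_congr rfl fun i _ => congrArg _ ?_)
    rw [hu'.gram h', show (b i : V) = pairFam N u i from by simp [b, Module.Basis.span_apply],
      show (b j : V) = pairFam N u j from by simp [b, Module.Basis.span_apply], hu.gram h]
  obtain ⟨g, hg, hgX⟩ := witt_hermitian h.invol (exists_trace_one h.ne_id h.invol) B h.conj h.sep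
    _ φ hinj hφ
  have hge : ∀ i, g (pairFam N u i) = pairFam N' u' i := fun i => by
    have := hgX (b i)
    rwa [hb, show (b i : V) = pairFam N u i from by simp [b, Module.Basis.span_apply]] at this
  refine ⟨g, hg, fun v => ?_⟩
  have hgv : ∀ i, B (N' (u' i)) (g v) = B (N (u i)) v := fun i => by
    have := hg (N (u i)) v
    rwa [show g (N (u i)) = N' (u' i) from hge (Sum.inr i)] at this
  -- coordinates of `N v`
  have key : ∀ (M : V →ₗ[F] V) (_ : Setup B M) (w : Fin (Module.finrank F (LinearMap.range N)) → V)
      (_ : Frame B M w)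
      (_ : Module.finrank F (LinearMap.range N) = Module.finrank F (LinearMap.range M)) (x : V),
      M x = ∑ i, B (M (w i)) x • M (w i) := by
    intro M hM w hw hk x
    have hx : M x ∈ Submodule.span F (Set.range fun i => M (w i)) := by
      rw [hw.span_eq hM hk]; exact LinearMap.mem_range_self M x
    obtain ⟨c, hc⟩ := (Submodule.mem_span_range_iff_exists_fun F).1 hx
    rw [← hc]
    refine Finset.sum_congr rfl fun i _ => congrArg (· • _) ?_
    have := congrArg (B (w i)) hc
    simp [map_sum, hw.pair' hM] at this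
    rw [this, ← hM.adj]
  rw [key N h u hu rfl v, key N' h' u' hu' hr (g v), map_sum]
  refine Finset.sum_congr rfl fun i _ => ?_
  rw [map_smul, hgv, show g (N (u i)) = N' (u' i) from hge (Sum.inr i)]

end CfsgLib.Classical.HermInvol
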