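import Mathlib
import Cfsg.Agent.Lib.Classical.GraphFormTwo
import Cfsg.Agent.Lib.Classical.GraphFormTwoOdd
import Cfsg.Agent.Lib.Classical.AltOrder
import Cfsg.Agent.Lib.Geom.Symp

/-!
Symmetric invertible matrices in characteristic two up to congruence, and the orders of their automorphism groups.
-/

set_option autoImplicit false

namespace CfsgLib.Classical.InvTwo

open Matrix CfsgLib.Classical.GraphForm

variable {F : Type*} [Field F]

/-- The matrices `P` with `P S Pᵀ = S`. -/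
abbrev Aut {s : ℕ} (S : Matrix (Fin s) (Fin s) F) : Type _ :=
  {P : GL (Fin s) F // P.1 * S * P.1ᵀ = S}

/-- `q^(k²) ∏ (q^(2i) - 1)`. -/
def spCard (q k : ℕ) : ℕ := q ^ (k ^ 2) * ∏ i : Fin k, (q ^ (2 * ((i : ℕ) + 1)) - 1)

theorem exists_transposeUnit {s : ℕ} (P : GL (Fin s) F) : ∃ R : GL (Fin s) F, R.1 = P.1ᵀ :=
  ⟨⟨P.1ᵀ, P⁻¹.1ᵀ, by rw [← transpose_mul, Units.inv_mul, transpose_one],
    by rw [← transpose_mul, Units.mul_inv, transpose_one]⟩, rfl⟩

theorem isAlt_iff (h2 : (2 : F) = 0) {s : ℕ} {S : Matrix (Fin s) (Fin s) F} (hS : Sᵀ = S) :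
    IsAlt S ↔ ∀ i, S i i = 0 := by
  refine ⟨fun h => h.2, fun h => ⟨hS.trans (Matrix.ext fun i j => ?_), h⟩⟩
  rw [Matrix.neg_apply]
  linear_combination (S i j) * h2

theorem one_not_alt {s : ℕ} (hs : 1 ≤ s) : ¬ IsAlt (1 : Matrix (Fin s) (Fin s) F) := fun h => by
  have := h.2 ⟨0, hs⟩
  simp at this

theorem exists_eq_mul_transpose [Finite F] (h2 : (2 : F) = 0) {s : ℕ} {S : Matrix (Fin s) (Fin s) F} (hS : Sᵀ = S)
    (hu : IsUnit S) (hna : ¬ ∀ i, S i i = 0) :
    1 ≤ s ∧ ∃ P : GL (Fin s) F, S = P.1 * P.1ᵀ := by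
  have hs : 1 ≤ s := by
    rcases Nat.eq_zero_or_pos s with rfl | h
    · exact absurd (fun i : Fin 0 => i.elim0) hna
    · exact h
  obtain ⟨P, hP⟩ := sym_congr_two h2 hS hu (fun h => hna h.2) transpose_one isUnit_one (one_not_alt hs)
  obtain ⟨R, hR⟩ := exists_transposeUnit P
  exact ⟨hs, R, by rw [hR, transpose_transpose, ← hP, Matrix.mul_one]⟩

theorem exists_congr_alt [Finite F] (h2 : (2 : F) = 0) {s : ℕ} {S S' : Matrix (Fin s) (Fin s) F} (hS : Sᵀ = S) (hu : IsUnit S)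
    (ha : ∀ i, S i i = 0) (hS' : S'ᵀ = S') (hu' : IsUnit S') (ha' : ∀ i, S' i i = 0) :
    ∃ P : GL (Fin s) F, S = P.1 * S' * P.1ᵀ := by
  obtain ⟨P, hP⟩ := alt_congr ((isAlt_iff h2 hS).2 ha) hu ((isAlt_iff h2 hS').2 ha') hu'
  obtain ⟨R, hR⟩ := exists_transposeUnit P
  exact ⟨R, by rw [hR, transpose_transpose, hP]⟩

theorem even_of_alt [Finite F] (h2 : (2 : F) = 0) {s : ℕ} {S : Matrix (Fin s) (Fin s) F} (hS : Sᵀ = S) (hu : IsUnit S)
    (ha : ∀ i, S i i = 0) : Even s := by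
  simpa using even_card_of_alt ((isAlt_iff h2 hS).2 ha) hu

/-- An alternating invertible matrix of each even size. -/
theorem exists_alt (h2 : (2 : F) = 0) (k : ℕ) :
    ∃ S : Matrix (Fin (2 * k)) (Fin (2 * k)) F, Sᵀ = S ∧ IsUnit S ∧ ∀ i, S i i = 0 := by
  obtain ⟨e⟩ : Nonempty (Fin k ⊕ Fin k ≃ Fin (2 * k)) := ⟨finSumFinEquiv.trans (finCongr (by omega))⟩
  have hA := isAlt_reindex e (J_isAlt (F := F) k)
  exact ⟨_, hA.1.trans (Matrix.ext fun i j => by rw [Matrix.neg_apply]; linear_combination -(Matrix.reindex e e (Matrix.J (Fin k) F) i j) * h2),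
    isUnit_reindex e (J_isUnit k), hA.2⟩

theorem card_aut_eq {s : ℕ} (S : Matrix (Fin s) (Fin s) F) : Nat.card (Aut S) = Nat.card (formIsom S) := by
  choose t ht using exists_transposeUnit (F := F) (s := s)
  refine Nat.card_congr
    { toFun := fun P => ⟨t P.1, by rw [mem_formIsom, ht, transpose_transpose]; exact P.2⟩
      invFun := fun x => ⟨t x.1, by rw [ht, transpose_transpose]; exact x.2⟩
      left_inv := fun P => Subtype.ext (Units.ext (by simp [ht]))
      right_inv := fun x => Subtype.ext (Units.ext (by simp [ht])) }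

theorem card_formIsom_congr {ι : Type} [Fintype ι] [DecidableEq ι] {B B' : Matrix ι ι F} (R : GL ι F)
    (h : R.1ᵀ * B' * R.1 = B) : Nat.card (formIsom B) = Nat.card (formIsom B') := by
  have key : ∀ x : GL ι F, x ∈ formIsom B ↔ MulAut.conj R x ∈ formIsom B' := by
    intro x
    have hu : IsUnit R.1ᵀ := (Matrix.isUnit_transpose R.1).2 R.isUnit
    have e1 : R.1ᵀ * ((R * x * R⁻¹).1ᵀ * B' * (R * x * R⁻¹).1) * R.1 = x.1ᵀ * B * x.1 := by
      rw [← h]
      calc R.1ᵀ * ((R * x * R⁻¹).1ᵀ * B' * (R * x * R⁻¹).1) * R.1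
          = ((R * x * R⁻¹).1 * R.1)ᵀ * B' * ((R * x * R⁻¹).1 * R.1) := by
            rw [transpose_mul]; simp only [Matrix.mul_assoc]
        _ = (R.1 * x.1)ᵀ * B' * (R.1 * x.1) := by rw [← Units.val_mul, inv_mul_cancel_right, Units.val_mul]
        _ = _ := by rw [transpose_mul]; simp only [Matrix.mul_assoc]
    rw [mem_formIsom, mem_formIsom, MulAut.conj_apply, ← e1]
    conv_lhs => rw [← h]
    exact ⟨fun hh => hu.mul_left_cancel (R.isUnit.mul_right_cancel hh), fun hh => by rw [hh]⟩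
  exact Nat.card_congr ((MulAut.conj R).toEquiv.subtypeEquiv key)

theorem card_aut_congr {s : ℕ} {S S' : Matrix (Fin s) (Fin s) F} {P : GL (Fin s) F}
    (h : S = P.1 * S' * P.1ᵀ) : Nat.card (Aut S) = Nat.card (Aut S') := by
  obtain ⟨R, hR⟩ := exists_transposeUnit P
  rw [card_aut_eq, card_aut_eq, card_formIsom_congr R (B' := S') (by rw [hR, transpose_transpose, h])]

variable [Fintype F]

theorem card_formIsom_J (k : ℕ) : Nat.card (formIsom (Matrix.J (Fin k) F)) = spCard (Fintype.card F) k := by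
  rw [Nat.card_congr (formIsomJ (F := F) k).toEquiv, ← Nat.card_congr (CfsgLib.Geom.spEquiv k F).toEquiv,
    CfsgLib.Classical.card_formIsoms_alt (CfsgLib.Geom.sympBilin k F) CfsgLib.Geom.sympBilin_self
      CfsgLib.Geom.sympBilin_sep k (by
        rw [Module.finrank_fintype_fun_eq_card, Fintype.card_sum, Fintype.card_fin]; ring),
    spCard, Fin.prod_univ_eq_prod_range (fun i => Fintype.card F ^ (2 * (i + 1)) - 1)]

theorem card_aut_alt (h2 : (2 : F) = 0) {s : ℕ} {S : Matrix (Fin s) (Fin s) F} (hS : Sᵀ = S) (hu : IsUnit S)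
    (ha : ∀ i, S i i = 0) : Nat.card (Aut S) = spCard (Fintype.card F) (s / 2) := by
  obtain ⟨k, hk⟩ := even_of_alt h2 hS hu ha
  obtain ⟨e⟩ : Nonempty (Fin k ⊕ Fin k ≃ Fin s) := ⟨finSumFinEquiv.trans (finCongr hk.symm)⟩
  obtain ⟨P, hP⟩ := alt_congr ((isAlt_iff h2 hS).2 ha) hu (isAlt_reindex e (J_isAlt (F := F) k))
    (isUnit_reindex e (J_isUnit k))
  obtain ⟨φ⟩ := formIsom_reindex e (Matrix.J (Fin k) F)
  rw [card_aut_eq, card_formIsom_congr P hP, ← Nat.card_congr φ.toEquiv, card_formIsom_J,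
    show s / 2 = k by omega]

theorem card_formIsom_oddForm (h2 : (2 : F) = 0) (k : ℕ) :
    Nat.card (formIsom (oddForm k F)) = spCard (Fintype.card F) k := by
  have : CharP F 2 := CharTwo.of_one_ne_zero_of_two_eq_zero one_ne_zero h2
  rw [← card_formIsom_J]
  have hblk : ∀ x : formIsom (oddForm k F), ∃ y : formIsom (Matrix.J (Fin k) F),
      x.1.1 = fromBlocks 1 0 0 y.1.1 := by
    rintro ⟨x, hx⟩
    have hrow : ∀ v : Unit ⊕ (Fin k ⊕ Fin k) → F, (x.1 *ᵥ v) (.inl ()) = v (.inl ()) := fun v => by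
      refine CharTwo.sq_inj.1 ?_
      rw [← oddForm_quad h2, dot_conj, mem_formIsom.1 hx, oddForm_quad h2]
    have h11 : x.1.toBlocks₁₁ = 1 := Matrix.ext fun i j => by
      have := hrow (Pi.single (.inl j) 1)
      simpa [mulVec_single_one, toBlocks₁₁, Matrix.one_apply] using this
    have h12 : x.1.toBlocks₁₂ = 0 := Matrix.ext fun i j => by
      have := hrow (Pi.single (.inr j) 1)
      simpa [mulVec_single_one, toBlocks₁₂] using this
    have hxT := mem_formIsom.1 hx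
    rw [← fromBlocks_toBlocks x.1, oddForm, fromBlocks_transpose, fromBlocks_multiply, fromBlocks_multiply,
      fromBlocks_inj, h12] at hxT
    obtain ⟨-, -, e21, e22⟩ := hxT
    simp only [transpose_zero, Matrix.zero_mul, Matrix.mul_zero, add_zero, zero_add] at e21 e22
    have hu : IsUnit ((x.1.toBlocks₂₂)ᵀ * Matrix.J (Fin k) F) := by
      refine isUnit_of_mul_isUnit_left (y := x.1.toBlocks₂₂) ?_
      rw [e22]; exact J_isUnit k
    have h21 : x.1.toBlocks₂₁ = 0 := by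
      rw [← Matrix.nonsing_inv_mul_cancel_left _ x.1.toBlocks₂₁ ((isUnit_iff_isUnit_det _).1 hu), e21,
        Matrix.mul_zero]
    have hx22 : IsUnit x.1.toBlocks₂₂ := by
      have h1 := (isUnit_iff_isUnit_det _).1 x.isUnit
      rw [← fromBlocks_toBlocks x.1, h11, h21, det_fromBlocks_zero₂₁, det_one, one_mul] at h1
      exact (isUnit_iff_isUnit_det _).2 h1
    refine ⟨⟨hx22.unit, e22⟩, ?_⟩
    conv_lhs => rw [← fromBlocks_toBlocks x.1, h11, h12, h21]
    rfl
  choose f hf using hblk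
  refine Nat.card_congr (Equiv.ofBijective f ⟨fun x y h => Subtype.ext (Units.ext ?_), fun y => ?_⟩)
  · rw [hf, hf, h]
  · have hu : IsUnit (fromBlocks (1 : Matrix Unit Unit F) 0 0 y.1.1) := by
      rw [isUnit_iff_isUnit_det, det_fromBlocks_zero₂₁, det_one, one_mul]
      exact (isUnit_iff_isUnit_det _).1 y.1.isUnit
    have hm : hu.unit ∈ formIsom (oddForm k F) := by
      rw [mem_formIsom, IsUnit.unit_spec, oddForm, fromBlocks_transpose, fromBlocks_multiply, fromBlocks_multiply]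
      simp [mem_formIsom.1 y.2]
    refine ⟨⟨_, hm⟩, Subtype.ext (Units.ext ?_)⟩
    have h := hf ⟨_, hm⟩
    rw [IsUnit.unit_spec, fromBlocks_inj] at h
    exact h.2.2.2.symm

theorem card_aut_one_odd (h2 : (2 : F) = 0) (k : ℕ) :
    Nat.card (Aut (1 : Matrix (Fin (2 * k + 1)) (Fin (2 * k + 1)) F)) = spCard (Fintype.card F) k := by
  obtain ⟨e⟩ : Nonempty (Unit ⊕ (Fin k ⊕ Fin k) ≃ Fin (2 * k + 1)) :=
    Fintype.card_eq.1 (by simp; omega)
  obtain ⟨P, hP⟩ := sym_congr_two h2 transpose_one isUnit_one (one_not_alt (F := F) (by omega))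
    (sym_reindex e (oddForm_transpose h2)) (isUnit_reindex e (oddForm_isUnit h2))
    (fun h => oddForm_not_alt h2 ⟨(oddForm_transpose h2).trans
      (Matrix.ext fun i j => by rw [Matrix.neg_apply]; linear_combination (oddForm k F i j) * h2),
      fun i => by simpa using h.2 (e i)⟩)
  obtain ⟨φ⟩ := formIsom_reindex e (oddForm k F)
  rw [card_aut_eq, card_formIsom_congr P hP, ← Nat.card_congr φ.toEquiv, card_formIsom_oddForm h2]

end CfsgLib.Classical.InvTwo
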