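import Mathlib
import Cfsg.Agent.Lib.Geom.WittSesq
import Cfsg.Agent.Lib.Geom.WittQuad
import Cfsg.Agent.Lib.Classical.FormStab

/-!
Involutive isometries of an alternating form in characteristic two, parametrised by a totally isotropic tuple `e`
and a symmetric invertible matrix `S`: `v ↦ v + ∑ S i j B (e j, v) e i`.
-/

set_option autoImplicit false

namespace CfsgLib.Classical.InvTwo

open Matrix CfsgLib.Geom
open QuadraticMap (polar)

variable {F V : Type*} [Field F] [AddCommGroup V] [Module F V]

/-- An independent totally isotropic tuple. -/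
structure IsoTuple (B : V →ₗ[F] V →ₗ[F] F) {s : ℕ} (e : Fin s → V) : Prop where
  indep : LinearIndependent F e
  iso : ∀ i j, B (e i) (e j) = 0

/-- The coordinates `B (e j, v)`. -/
def co (B : V →ₗ[F] V →ₗ[F] F) {s : ℕ} (e : Fin s → V) : V →ₗ[F] (Fin s → F) :=
  LinearMap.pi fun j => B (e j)

theorem co_apply (B : V →ₗ[F] V →ₗ[F] F) {s : ℕ} (e : Fin s → V) (v : V) (j : Fin s) :
    co B e v j = B (e j) v := rfl

/-- The nilpotent part of the involution attached to `(e, S)`. -/
def tmap (B : V →ₗ[F] V →ₗ[F] F) {s : ℕ} (e : Fin s → V) (S : Matrix (Fin s) (Fin s) F) : V →ₗ[F] V :=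
  (Fintype.linearCombination F e).comp (S.mulVecLin.comp (co B e))

theorem tmap_apply (B : V →ₗ[F] V →ₗ[F] F) {s : ℕ} (e : Fin s → V) (S : Matrix (Fin s) (Fin s) F) (v : V) :
    tmap B e S v = ∑ i, (S *ᵥ co B e v) i • e i := by
  simp [tmap, Fintype.linearCombination_apply]

/-- Change of tuple by a matrix. -/
def act {s : ℕ} (e : Fin s → V) (P : Matrix (Fin s) (Fin s) F) : Fin s → V := fun i => ∑ k, P k i • e k

theorem comb_act {s : ℕ} (e : Fin s → V) (P : Matrix (Fin s) (Fin s) F) (c : Fin s → F) :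
    ∑ i, c i • act e P i = ∑ k, (P *ᵥ c) k • e k := by
  simp only [act, Finset.smul_sum, smul_smul]
  rw [Finset.sum_comm]
  refine Finset.sum_congr rfl fun k _ => ?_
  rw [← Finset.sum_smul]
  congr 1
  simp [mulVec, dotProduct, mul_comm]

theorem act_act {s : ℕ} (e : Fin s → V) (P R : Matrix (Fin s) (Fin s) F) : act (act e P) R = act e (P * R) := by
  funext i
  exact (comb_act e P (fun k => R k i)).trans (Finset.sum_congr rfl fun k _ => rfl)

theorem act_one {s : ℕ} (e : Fin s → V) : act e (1 : Matrix (Fin s) (Fin s) F) = e := by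
  funext i; simp [act, Matrix.one_apply]

theorem co_act (B : V →ₗ[F] V →ₗ[F] F) {s : ℕ} (e : Fin s → V) (P : Matrix (Fin s) (Fin s) F) (v : V) :
    co B (act e P) v = Pᵀ *ᵥ co B e v := by
  funext i
  simp [co_apply, act, mulVec, dotProduct, map_sum]

theorem tmap_act (B : V →ₗ[F] V →ₗ[F] F) {s : ℕ} (e : Fin s → V) (P S : Matrix (Fin s) (Fin s) F) :
    tmap B (act e P) S = tmap B e (P * S * Pᵀ) := by
  refine LinearMap.ext fun v => ?_
  rw [tmap_apply, tmap_apply, comb_act, co_act, mulVec_mulVec, mulVec_mulVec, Matrix.mul_assoc]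

theorem tmap_map (B : V →ₗ[F] V →ₗ[F] F) {g : V ≃ₗ[F] V} (hg : g ∈ formIsoms (σ := RingHom.id F) B) {s : ℕ}
    (e : Fin s → V) (S : Matrix (Fin s) (Fin s) F) (v : V) :
    tmap B (g ∘ e) S (g v) = g (tmap B e S v) := by
  rw [tmap_apply, tmap_apply, map_sum]
  refine Finset.sum_congr rfl fun i _ => ?_
  rw [map_smul, show co B (g ∘ e) (g v) = co B e v from funext fun j => hg (e j) v]
  rfl

theorem isoTuple_map (B : V →ₗ[F] V →ₗ[F] F) {g : V ≃ₗ[F] V} (hg : g ∈ formIsoms (σ := RingHom.id F) B) {s : ℕ}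
    {e : Fin s → V} (he : IsoTuple B e) : IsoTuple B (g ∘ e) :=
  ⟨he.indep.map' g.toLinearMap g.ker, fun i j => (hg (e i) (e j)).trans (he.iso i j)⟩

theorem isoTuple_act (B : V →ₗ[F] V →ₗ[F] F) {s : ℕ} {e : Fin s → V} (he : IsoTuple B e)
    {P : Matrix (Fin s) (Fin s) F} (hP : IsUnit P) : IsoTuple B (act e P) := by
  refine ⟨Fintype.linearIndependent_iff.2 fun c hc => ?_, fun i j => by simp [act, map_sum, he.iso]⟩
  rw [comb_act] at hc
  have := Fintype.linearIndependent_iff.1 he.indep _ hc
  exact congrFun (Matrix.mulVec_injective_of_isUnit hP ((funext this : P *ᵥ c = 0).trans (mulVec_zero P).symm))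

section Sep

variable {B : V →ₗ[F] V →ₗ[F] F} {s : ℕ} {e : Fin s → V}

/-- The coordinates are onto. -/
theorem co_surjective [FiniteDimensional F V] (hB : ∀ x, (∀ y, B x y = 0) → x = 0) (he : LinearIndependent F e) :
    Function.Surjective (co B e) := by
  classical
  rw [← LinearMap.range_eq_top]
  by_contra hne
  obtain ⟨φ, hφ, hle⟩ := Submodule.exists_le_ker_of_lt_top _ (lt_top_iff_ne_top.2 hne)
  have hz : (∑ i, φ (Pi.single i 1) • e i) = 0 := hB _ fun y => by
    have := LinearMap.mem_ker.1 (hle (LinearMap.mem_range_self (co B e) y))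
    rw [pi_eq_sum_univ' (co B e y)] at this
    simpa [map_sum, co_apply, mul_comm] using this
  have := Fintype.linearIndependent_iff.1 he _ hz
  exact hφ (LinearMap.ext fun w => by rw [pi_eq_sum_univ' w]; simp [this])

theorem tmap_injective [FiniteDimensional F V] (hB : ∀ x, (∀ y, B x y = 0) → x = 0) (he : LinearIndependent F e)
    {S S' : Matrix (Fin s) (Fin s) F} (h : tmap B e S = tmap B e S') : S = S' := by
  refine Matrix.ext_of_mulVec_single fun j => funext fun i => ?_
  obtain ⟨v, hv⟩ := co_surjective hB he (Pi.single j 1)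
  have h1 := LinearMap.congr_fun h v
  rw [tmap_apply, tmap_apply, hv, ← sub_eq_zero, ← Finset.sum_sub_distrib] at h1
  simp only [← sub_smul] at h1
  exact sub_eq_zero.1 (Fintype.linearIndependent_iff.1 he _ h1 i)

theorem range_tmap [FiniteDimensional F V] (hB : ∀ x, (∀ y, B x y = 0) → x = 0) (he : LinearIndependent F e)
    {S : Matrix (Fin s) (Fin s) F} (hS : IsUnit S) :
    LinearMap.range (tmap B e S) = Submodule.span F (Set.range e) := by
  rw [tmap, LinearMap.range_comp_of_range_eq_top _ (LinearMap.range_eq_top.2 (by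
    exact (Matrix.mulVec_surjective_iff_isUnit.2 hS).comp (co_surjective hB he))), Fintype.range_linearCombination]

theorem finrank_range_tmap [FiniteDimensional F V] (hB : ∀ x, (∀ y, B x y = 0) → x = 0)
    (he : LinearIndependent F e) {S : Matrix (Fin s) (Fin s) F} (hS : IsUnit S) :
    Module.finrank F (LinearMap.range (tmap B e S)) = s := by
  rw [range_tmap hB he hS, finrank_span_eq_card he, Fintype.card_fin]

theorem two_mul_le [FiniteDimensional F V] (hB : ∀ x, (∀ y, B x y = 0) → x = 0) (he : IsoTuple B e) :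
    2 * s ≤ Module.finrank F V := by
  have h1 := (co B e).finrank_range_add_finrank_ker
  rw [LinearMap.range_eq_top.2 (co_surjective hB he.indep), finrank_top, Module.finrank_fin_fun] at h1
  have h2 : Submodule.span F (Set.range e) ≤ LinearMap.ker (co B e) := by
    rw [Submodule.span_le]
    rintro _ ⟨i, rfl⟩
    exact funext fun j => he.iso j i
  have h3 := Submodule.finrank_mono h2
  rw [finrank_span_eq_card he.indep, Fintype.card_fin] at h3
  omega

end Sep

section Char2

variable (h2 : (2 : F) = 0) {B : V →ₗ[F] V →ₗ[F] F} (hA : ∀ v, B v v = 0) {s : ℕ} {e : Fin s → V}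

include h2 hA

theorem swap (u v : V) : B v u = B u v := by
  rw [alt_swap B hA u v]; linear_combination -(B u v) * h2

theorem apply_tmap (e : Fin s → V) (S : Matrix (Fin s) (Fin s) F) (u v : V) :
    B u (tmap B e S v) = co B e u ⬝ᵥ S *ᵥ co B e v := by
  rw [tmap_apply, map_sum, dotProduct]
  refine Finset.sum_congr rfl fun i _ => ?_
  rw [map_smul, smul_eq_mul, co_apply, swap h2 hA u, mul_comm]

omit h2 hA in
theorem co_tmap (he : IsoTuple B e) (S : Matrix (Fin s) (Fin s) F) (v : V) : co B e (tmap B e S v) = 0 :=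
  funext fun j => by rw [co_apply, tmap_apply]; simp [map_sum, he.iso]

omit h2 hA in
theorem tmap_tmap (he : IsoTuple B e) (S : Matrix (Fin s) (Fin s) F) (v : V) :
    tmap B e S (tmap B e S v) = 0 := by
  rw [tmap_apply _ _ _ (tmap B e S v), co_tmap he, mulVec_zero]; simp

theorem tmap_symm {S : Matrix (Fin s) (Fin s) F} (hS : Sᵀ = S) (u v : V) :
    B (tmap B e S u) v = B u (tmap B e S v) := by
  rw [swap h2 hA v, apply_tmap h2 hA, apply_tmap h2 hA, dotProduct_comm (co B e u), dotProduct_mulVec,
    ← mulVec_transpose, hS]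

/-- The involution attached to `(e, S)`. -/
theorem exists_invol (he : IsoTuple B e) {S : Matrix (Fin s) (Fin s) F} (hS : Sᵀ = S) :
    ∃ g : V ≃ₗ[F] V, g ∈ formIsoms (σ := RingHom.id F) B ∧ (∀ v, g (g v) = v) ∧ ∀ v, g v = v + tmap B e S v := by
  have hinv : ∀ v, (LinearMap.id + tmap B e S : V →ₗ[F] V) ((LinearMap.id + tmap B e S : V →ₗ[F] V) v) = v := fun v => by
    have htw : tmap B e S v + tmap B e S v = 0 := by rw [← two_smul F, h2, zero_smul]
    simp only [LinearMap.add_apply, LinearMap.id_apply, map_add, tmap_tmap he, add_zero]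
    rw [add_assoc, htw, add_zero]
  refine ⟨LinearEquiv.ofLinearMap (LinearMap.id + tmap B e S) (LinearMap.id + tmap B e S)
    (LinearMap.ext hinv) (LinearMap.ext hinv), fun u v => ?_, hinv, fun v => rfl⟩
  show B (u + tmap B e S u) (v + tmap B e S v) = B u v
  simp only [map_add, LinearMap.add_apply]
  rw [tmap_symm h2 hA hS u v, tmap_symm h2 hA hS u (tmap B e S v), tmap_tmap he, map_zero]
  linear_combination (B u (tmap B e S v)) * h2

/-- Every involutive isometry is of that shape. -/
theorem exists_param [FiniteDimensional F V] (hB : ∀ x, (∀ y, B x y = 0) → x = 0) {g : V ≃ₗ[F] V}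
    (hg : g ∈ formIsoms (σ := RingHom.id F) B) (hgg : ∀ v, g (g v) = v) :
    ∃ (s : ℕ) (e : Fin s → V) (S : Matrix (Fin s) (Fin s) F), IsoTuple B e ∧ Sᵀ = S ∧ IsUnit S ∧
      ∀ v, g v = v + tmap B e S v := by
  classical
  obtain ⟨N, hN⟩ : ∃ N : V →ₗ[F] V, ∀ v, g v = v + N v :=
    ⟨g.toLinearMap - LinearMap.id, fun v => by simp⟩
  have hNN : ∀ v, N (N v) = 0 := fun v => by
    have h := hgg v
    rw [hN v, map_add, hN v, hN (N v)] at h
    have htw : N v + N v = 0 := by rw [← two_smul F, h2, zero_smul]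
    rw [← add_assoc, add_assoc v (N v) (N v), htw, add_zero] at h
    exact add_eq_left.1 h
  have hBN : ∀ u v, B (N u) v + B u (N v) + B (N u) (N v) = 0 := fun u v => by
    have h := hg u v
    rw [hN, hN] at h
    simp only [map_add, LinearMap.add_apply] at h
    linear_combination h
  have hNi : ∀ u v, B (N u) (N v) = 0 := fun u v => by
    have h := hBN u (N v)
    rw [hNN, map_zero, map_zero] at h
    linear_combination h
  have hsym : ∀ u v, B (N u) v = B u (N v) := fun u v => by
    linear_combination hBN u v - hNi u v - (B u (N v)) * h2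
  obtain ⟨e, he⟩ : ∃ e : Fin (Module.finrank F (LinearMap.range N)) → V,
      e = fun i => (Module.finBasis F (LinearMap.range N) i : V) := ⟨_, rfl⟩
  have hei : IsoTuple B e := by
    refine ⟨he ▸ (Module.finBasis F (LinearMap.range N)).linearIndependent.map' _
      (Submodule.ker_subtype _), fun i j => ?_⟩
    obtain ⟨u, hu⟩ := LinearMap.mem_range.1 (Module.finBasis F (LinearMap.range N) i).2
    obtain ⟨v, hv⟩ := LinearMap.mem_range.1 (Module.finBasis F (LinearMap.range N) j).2
    rw [he]
    show B (Module.finBasis F (LinearMap.range N) i : V) (Module.finBasis F (LinearMap.range N) j : V) = 0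
    rw [← hu, ← hv]; exact hNi u v
  choose f hf using fun j => co_surjective hB hei.indep (Pi.single j 1)
  obtain ⟨S, hS⟩ : ∃ S : Matrix (Fin (Module.finrank F (LinearMap.range N))) _ F, ∀ i j,
      S i j = (Module.finBasis F (LinearMap.range N)).repr ⟨N (f j), LinearMap.mem_range_self N _⟩ i :=
    ⟨Matrix.of fun i j => _, fun i j => rfl⟩
  have hker : ∀ z, co B e z = 0 → N z = 0 := fun z hz => hB _ fun u => by
    rw [hsym, swap h2 hA]
    obtain ⟨c, hc⟩ : ∃ c : _ → F, ∑ i, c i • e i = N u :=
      ⟨fun i => (Module.finBasis F (LinearMap.range N)).repr ⟨N u, LinearMap.mem_range_self N u⟩ i, by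
        have := congrArg Subtype.val ((Module.finBasis F (LinearMap.range N)).sum_repr ⟨N u, LinearMap.mem_range_self N u⟩)
        rw [Submodule.coe_sum] at this
        rw [he]; exact this⟩
    rw [← hc, map_sum]
    simp only [LinearMap.sum_apply, map_smul, LinearMap.smul_apply]
    exact Finset.sum_eq_zero fun i _ => by rw [show B (e i) z = 0 from congrFun hz i, smul_zero]
  have hNf : ∀ j, N (f j) = ∑ i, S i j • e i := fun j => by
    have := congrArg Subtype.val
      ((Module.finBasis F (LinearMap.range N)).sum_repr ⟨N (f j), LinearMap.mem_range_self N _⟩)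
    rw [Submodule.coe_sum] at this
    refine this.symm.trans ?_
    rw [he]
    exact Finset.sum_congr rfl fun i _ => by rw [hS]; rfl
  have hT : ∀ v, N v = tmap B e S v := fun v => by
    have h0 : co B e (v - ∑ j, co B e v j • f j) = 0 := by
      rw [map_sub, map_sum]
      simp only [map_smul, hf]
      rw [sub_eq_zero, ← pi_eq_sum_univ' (co B e v)]
    have h1 := hker _ h0
    rw [map_sub, map_sum, sub_eq_zero] at h1
    rw [h1, tmap_apply]
    simp only [map_smul, hNf, Finset.smul_sum, smul_smul]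
    rw [Finset.sum_comm]
    refine Finset.sum_congr rfl fun i _ => ?_
    rw [← Finset.sum_smul]
    congr 1
    simp [mulVec, dotProduct, mul_comm]
  refine ⟨_, e, S, hei, ?_, ?_, fun v => by rw [hN, hT]⟩
  · refine Matrix.ext fun i j => ?_
    rw [transpose_apply]
    have h := hsym (f i) (f j)
    rw [swap h2 hA, hT, hT, apply_tmap h2 hA, apply_tmap h2 hA, hf, hf] at h
    simpa using h
  · refine Matrix.mulVec_injective_iff_isUnit.1 fun x y hxy => ?_
    obtain ⟨v, hv⟩ := co_surjective hB hei.indep (x - y)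
    have h0 : N v = 0 := by rw [hT, tmap_apply, hv, mulVec_sub, show S *ᵥ x = S *ᵥ y from hxy, sub_self]; simp
    refine sub_eq_zero.1 (hv ▸ funext fun i => ?_)
    obtain ⟨u, hu⟩ := LinearMap.mem_range.1 (Module.finBasis F (LinearMap.range N) i).2
    rw [co_apply, he]
    show B (Module.finBasis F (LinearMap.range N) i : V) v = 0
    rw [← hu, hsym, h0, map_zero]

omit h2 hA in
theorem commute_iff_tuple {g : V ≃ₗ[F] V} (hg : g ∈ formIsoms (σ := RingHom.id F) B)
    (S : Matrix (Fin s) (Fin s) F) :
    (∀ v, g (tmap B e S v) = tmap B e S (g v)) ↔ tmap B (g ∘ e) S = tmap B e S := by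
  constructor
  · intro h
    refine LinearMap.ext fun w => ?_
    rw [← g.apply_symm_apply w, tmap_map B hg, h]
  · intro h v
    rw [← tmap_map B hg, h]

end Char2

section Extend

variable [FiniteDimensional F V]

omit [FiniteDimensional F V] in
/-- The map sending one independent tuple to another. -/
theorem exists_tuple_map {s : ℕ} {e e' : Fin s → V} (he : LinearIndependent F e) (he' : LinearIndependent F e') :
    ∃ φ : Submodule.span F (Set.range e) →ₗ[F] V, Function.Injective φ ∧
      ∀ (c : Fin s → F) (x : Submodule.span F (Set.range e)), (x : V) = ∑ i, c i • e i → φ x = ∑ i, c i • e' i := by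
  let b := Module.Basis.span he
  refine ⟨(b.constr F e' : Submodule.span F (Set.range e) →ₗ[F] V), ?_, fun c x hx => ?_⟩
  · rw [← LinearMap.ker_eq_bot, Submodule.eq_bot_iff]
    intro x hx
    rw [LinearMap.mem_ker, b.constr_apply_fintype (S := F)] at hx
    refine b.ext_elem fun i => ?_
    simpa [Module.Basis.equivFun_apply] using Fintype.linearIndependent_iff.1 he' _ hx i
  · have : x = ∑ i, c i • b i := Subtype.ext (by simp [b, Module.Basis.span_apply, hx])
    rw [this, map_sum]
    simp

theorem exists_isom_tuple {B : V →ₗ[F] V →ₗ[F] F} (hA : ∀ v, B v v = 0) (hB : ∀ x, (∀ y, B x y = 0) → x = 0)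
    {s : ℕ} {e e' : Fin s → V} (he : IsoTuple B e) (he' : IsoTuple B e') :
    ∃ g ∈ formIsoms (σ := RingHom.id F) B, ∀ i, g (e i) = e' i := by
  obtain ⟨φ, hφ, hφc⟩ := exists_tuple_map he.indep he'.indep
  have hc : ∀ x : Submodule.span F (Set.range e), ∃ c : Fin s → F, (x : V) = ∑ i, c i • e i := fun x => by
    obtain ⟨c, hc⟩ := (Submodule.mem_span_range_iff_exists_fun F).1 x.2
    exact ⟨c, hc.symm⟩
  obtain ⟨g, -, hg, hgX⟩ := witt_alternating B hA hB _ φ hφ fun x y => by
    obtain ⟨c, hcx⟩ := hc x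
    obtain ⟨d, hdy⟩ := hc y
    rw [hφc c x hcx, hφc d y hdy, hcx, hdy]
    simp [map_sum, he.iso, he'.iso]
  refine ⟨g, hg, fun i => ?_⟩
  rw [hgX ⟨e i, Submodule.subset_span ⟨i, rfl⟩⟩, hφc (Pi.single i 1) _ (by simp [Pi.single_apply])]
  simp [Pi.single_apply]

omit [FiniteDimensional F V] in
theorem quad_comb {Q : QuadraticForm F V} {ι : Type*} (t : Finset ι) {e : ι → V}
    (he : ∀ i j, polar Q (e i) (e j) = 0) (c : ι → F) :
    Q (∑ i ∈ t, c i • e i) = ∑ i ∈ t, c i * c i * Q (e i) := by
  classical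
  induction t using Finset.induction_on with
  | empty => simp
  | insert x t hx ih =>
    rw [Finset.sum_insert hx, Finset.sum_insert hx, QuadraticMap.map_add Q, QuadraticMap.map_smul, ih]
    have : polar Q (c x • e x) (∑ i ∈ t, c i • e i) = 0 := by
      rw [← QuadraticMap.polarBilin_apply_apply]
      simp [map_sum, he]
    rw [this, add_zero, smul_eq_mul]

theorem exists_quad_tuple (Q : QuadraticForm F V) (hQ : ∀ x, (∀ y, polar Q x y = 0) → x = 0) {s : ℕ}
    {e e' : Fin s → V} (he : IsoTuple Q.polarBilin e) (he' : IsoTuple Q.polarBilin e')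
    (hq : ∀ i, Q (e i) = Q (e' i)) : ∃ g ∈ quadIsoms Q, ∀ i, g (e i) = e' i := by
  obtain ⟨φ, hφ, hφc⟩ := exists_tuple_map he.indep he'.indep
  obtain ⟨g, hg, hgX⟩ := witt_quadratic Q hQ _ φ hφ fun x => by
    obtain ⟨c, hc⟩ := (Submodule.mem_span_range_iff_exists_fun F).1 x.2
    rw [hφc c x hc.symm, ← hc, quad_comb _ he'.iso, quad_comb _ he.iso]
    simp only [hq]
  refine ⟨g, hg, fun i => ?_⟩
  rw [hgX ⟨e i, Submodule.subset_span ⟨i, rfl⟩⟩, hφc (Pi.single i 1) _ (by simp [Pi.single_apply])]
  simp [Pi.single_apply]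

omit [FiniteDimensional F V] in
theorem polarBilin_self (Q : QuadraticForm F V) (h2 : (2 : F) = 0) (v : V) : Q.polarBilin v v = 0 := by
  rw [QuadraticMap.polarBilin_apply_apply, polar_self_two, h2, zero_mul]

omit [FiniteDimensional F V] in
theorem quadIsoms_le (Q : QuadraticForm F V) :
    quadIsoms Q ≤ formIsoms (σ := RingHom.id F) Q.polarBilin := fun _ hg u v => polar_quadIsom hg u v

/-- When `v ↦ v + T v` preserves `Q`. -/
theorem quad_invol_iff (Q : QuadraticForm F V) (h2 : (2 : F) = 0) (hQ : ∀ x, (∀ y, polar Q x y = 0) → x = 0)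
    {s : ℕ} {e : Fin s → V} (he : IsoTuple Q.polarBilin e) {S : Matrix (Fin s) (Fin s) F} (hS : Sᵀ = S) :
    (∀ v, Q (v + tmap Q.polarBilin e S v) = Q v) ↔ ∀ j, ∑ i, S i j * S i j * Q (e i) = S j j := by
  classical
  have : CharP F 2 := CharTwo.of_one_ne_zero_of_two_eq_zero one_ne_zero h2
  have key : ∀ v, Q (v + tmap Q.polarBilin e S v) - Q v =
      ∑ j, co Q.polarBilin e v j * co Q.polarBilin e v j * (∑ i, S i j * S i j * Q (e i) + S j j) := fun v => by
    obtain ⟨x, hx⟩ : ∃ x, x = co Q.polarBilin e v := ⟨_, rfl⟩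
    have h1 : Q (tmap Q.polarBilin e S v) = ∑ i, ∑ j, (S i j * x j) * (S i j * x j) * Q (e i) := by
      rw [tmap_apply, quad_comb _ he.iso, ← hx]
      refine Finset.sum_congr rfl fun i _ => ?_
      rw [mulVec, dotProduct, CharTwo.sum_mul_self, Finset.sum_mul]
    have h3 : polar Q v (tmap Q.polarBilin e S v) = ∑ j, x j * (S j j * x j) := by
      rw [← QuadraticMap.polarBilin_apply_apply,
        apply_tmap h2 (polarBilin_self Q h2), ← hx]
      simp only [mulVec, dotProduct, Finset.mul_sum]
      rw [← Finset.sum_product']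
      rw [show ∑ j, x j * (S j j * x j) = ∑ ij ∈ ((Finset.univ : Finset (Fin s)) ×ˢ (Finset.univ : Finset (Fin s))).filter (fun ij => ij.1 = ij.2), x ij.1 * (S ij.1 ij.2 * x ij.2) from
        Finset.sum_bij' (fun j _ => (j, j)) (fun ij _ => ij.1) (by simp) (by simp) (by simp) (by
          rintro ⟨a, b⟩ h; simp at h; subst h; rfl) (by simp)]
      rw [← Finset.sum_filter_add_sum_filter_not _ (fun ij : Fin s × Fin s => ij.1 = ij.2), add_eq_left]
      refine Finset.sum_involution (fun ij _ => (ij.2, ij.1)) (fun ij _ => ?_) (fun ij h _ he' => ?_)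
        (fun ij h => by simpa [eq_comm] using h) (fun ij _ => rfl)
      · have := congrFun (congrFun hS ij.1) ij.2
        rw [transpose_apply] at this
        linear_combination (x ij.2 * x ij.1) * this + (x ij.1 * S ij.1 ij.2 * x ij.2) * h2
      · obtain ⟨a, b⟩ := ij
        obtain rfl : b = a := congrArg Prod.fst he'
        simp at h
    rw [QuadraticMap.map_add Q, h1, h3, Finset.sum_comm, ← hx]
    rw [add_assoc, add_sub_cancel_left, ← Finset.sum_add_distrib]
    refine Finset.sum_congr rfl fun j _ => ?_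
    rw [mul_add, Finset.mul_sum]
    congr 1
    · exact Finset.sum_congr rfl fun i _ => by ring
    · ring
  constructor
  · intro h j
    obtain ⟨v, hv⟩ := co_surjective (B := Q.polarBilin) (fun x hx => hQ x hx) he.indep (Pi.single j 1)
    have := key v
    rw [h, sub_self, hv, Finset.sum_eq_single j (fun b _ hb => by simp [hb]) (by simp)] at this
    simp only [Pi.single_eq_same, one_mul] at this
    exact CharTwo.add_eq_zero.1 this.symm
  · intro h v
    rw [← sub_eq_zero, key]
    exact Finset.sum_eq_zero fun j _ => by rw [h, CharTwo.add_self_eq_zero, mul_zero]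

end Extend

end CfsgLib.Classical.InvTwo
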