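import Mathlib
import Cfsg.Agent.Lib.Classical.InvTwoBase
import Cfsg.Agent.Lib.Classical.InvTwoAut
import Cfsg.Agent.Lib.Geom.IsoStabSymp

/-!
Normal forms of involutive isometries in characteristic two and their centralisers.
-/

set_option autoImplicit false

namespace CfsgLib.Classical.InvTwo

open Matrix CfsgLib.Geom
open QuadraticMap (polar)

variable {F V : Type*} [Field F] [AddCommGroup V] [Module F V]

section General

variable {B : V →ₗ[F] V →ₗ[F] F} {s : ℕ} {e : Fin s → V} {S : Matrix (Fin s) (Fin s) F}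

theorem act_injective (he : LinearIndependent F e) {P R : Matrix (Fin s) (Fin s) F} (h : act e P = act e R) :
    P = R := by
  refine Matrix.ext fun k i => ?_
  have h1 := congrFun h i
  rw [act, act, ← sub_eq_zero, ← Finset.sum_sub_distrib] at h1
  simp only [← sub_smul] at h1
  exact sub_eq_zero.1 (Fintype.linearIndependent_iff.1 he _ h1 k)

/-- The centraliser: the automorphisms of `S` times the pointwise stabiliser. -/
theorem card_comm [FiniteDimensional F V] (hB : ∀ x, (∀ y, B x y = 0) → x = 0) (he : IsoTuple B e)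
    (hu : IsUnit S) (G : Subgroup (V ≃ₗ[F] V)) (hG : G ≤ formIsoms (σ := RingHom.id F) B)
    (hext : ∀ P : GL (Fin s) F, P.1 * S * P.1ᵀ = S → ∃ g ∈ G, ∀ i, g (e i) = act e P.1 i) :
    Nat.card {g : V ≃ₗ[F] V // g ∈ G ∧ ∀ v, g (tmap B e S v) = tmap B e S (g v)} =
      Nat.card (Aut S) * Nat.card (fixingIn G (Submodule.span F (Set.range e))) := by
  choose sec hsec hsece using hext
  have hfix : ∀ g : fixingIn G (Submodule.span F (Set.range e)), ∀ i, g.1 (e i) = e i := fun g i =>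
    g.2.2 _ (Submodule.subset_span ⟨i, rfl⟩)
  have hmk : ∀ (P : Aut S) (g : fixingIn G (Submodule.span F (Set.range e))),
      ((sec P.1 P.2 * g.1 : V ≃ₗ[F] V) ∘ e) = act e P.1.1 := fun P g => funext fun i => by
    show sec P.1 P.2 (g.1 (e i)) = _
    rw [hfix, hsece]
  have hcm : ∀ (P : Aut S) (g : fixingIn G (Submodule.span F (Set.range e))), ∀ v,
      (sec P.1 P.2 * g.1 : V ≃ₗ[F] V) (tmap B e S v) = tmap B e S ((sec P.1 P.2 * g.1 : V ≃ₗ[F] V) v) :=
    fun P g => (commute_iff_tuple (hG (mul_mem (hsec _ _) g.2.1)) S).2 (by rw [hmk, tmap_act, P.2])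
  rw [← Nat.card_prod]
  refine (Nat.card_congr (Equiv.ofBijective (fun p => ⟨sec p.1.1 p.1.2 * p.2.1,
    mul_mem (hsec _ _) p.2.2.1, hcm p.1 p.2⟩) ⟨?_, ?_⟩)).symm
  · rintro ⟨P, g⟩ ⟨R, h⟩ hgh
    have h1 : (sec P.1 P.2 * g.1 : V ≃ₗ[F] V) = sec R.1 R.2 * h.1 := congrArg Subtype.val hgh
    have h2 : act e P.1.1 = act e R.1.1 := by rw [← hmk P g, ← hmk R h, h1]
    obtain rfl : P = R := Subtype.ext (Units.ext (act_injective he.indep h2))
    exact Prod.ext rfl (Subtype.ext (mul_left_cancel h1))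
  · rintro ⟨g, hg, hc⟩
    have hge : tmap B (g ∘ e) S = tmap B e S := (commute_iff_tuple (hG hg) S).1 hc
    have hge' := isoTuple_map B (hG hg) he
    have hmem : ∀ i, g (e i) ∈ Submodule.span F (Set.range e) := fun i => by
      rw [← range_tmap hB he.indep hu, ← hge, range_tmap hB hge'.indep hu]
      exact Submodule.subset_span ⟨i, rfl⟩
    choose c hc' using fun i => (Submodule.mem_span_range_iff_exists_fun F).1 (hmem i)
    obtain ⟨P, hP⟩ : ∃ P : Matrix (Fin s) (Fin s) F, act e P = g ∘ e :=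
      ⟨Matrix.of fun k i => c i k, funext fun i => hc' i⟩
    have hPS : P * S * Pᵀ = S := tmap_injective hB he.indep (by rw [← tmap_act, hP, hge])
    have hPu : IsUnit P := by
      have hd := congrArg Matrix.det hPS
      rw [det_mul, det_mul] at hd
      rw [isUnit_iff_isUnit_det, isUnit_iff_ne_zero]
      intro h0
      rw [h0, zero_mul, zero_mul] at hd
      exact ((isUnit_iff_isUnit_det _).1 hu).ne_zero hd.symm
    refine ⟨(⟨hPu.unit, hPS⟩, ⟨(sec hPu.unit hPS)⁻¹ * g, mul_mem (inv_mem (hsec _ _)) hg, ?_⟩), Subtype.ext ?_⟩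
    · intro w hw
      induction hw using Submodule.span_induction with
      | mem x hx =>
        obtain ⟨i, rfl⟩ := hx
        show (sec hPu.unit hPS).symm (g (e i)) = e i
        rw [LinearEquiv.symm_apply_eq]
        refine Eq.trans ?_ (hsece hPu.unit hPS i).symm
        exact (congrFun hP i).symm
      | zero => simp
      | add x y _ _ hx hy => rw [map_add, hx, hy]
      | smul a x _ hx => rw [map_smul, hx]
    · exact mul_inv_cancel_left _ g

end General

section Char2

variable [FiniteDimensional F V] [Finite F] (h2 : (2 : F) = 0) {B : V →ₗ[F] V →ₗ[F] F} (hA : ∀ v, B v v = 0)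
  (hB : ∀ x, (∀ y, B x y = 0) → x = 0)

include h2 hA hB

theorem alt_iff_diag {s : ℕ} {e : Fin s → V} (he : LinearIndependent F e) {S : Matrix (Fin s) (Fin s) F}
    (hS : Sᵀ = S) : (∀ v, B v (tmap B e S v) = 0) ↔ ∀ i, S i i = 0 := by
  constructor
  · intro h i
    obtain ⟨v, hv⟩ := co_surjective hB he (Pi.single i 1)
    have h1 := h v
    rw [apply_tmap h2 hA, hv] at h1
    simpa using h1
  · intro h v
    rw [apply_tmap h2 hA, ← Matrix.toBilin'_apply']
    exact GraphForm.toBilin'_alt ((isAlt_iff h2 hS).2 h) _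

/-- Normal form: either `S = 1` or `S` alternating. -/
theorem exists_std {g : V ≃ₗ[F] V} (hg : g ∈ formIsoms (σ := RingHom.id F) B) (hgg : ∀ v, g (g v) = v) :
    ∃ (s : ℕ) (e : Fin s → V) (S : Matrix (Fin s) (Fin s) F), IsoTuple B e ∧ Sᵀ = S ∧ IsUnit S ∧
      (∀ v, g v = v + tmap B e S v) ∧ ((1 ≤ s ∧ S = 1) ∨ ∀ i, S i i = 0) := by
  obtain ⟨s, e, S, he, hS, hu, hge⟩ := exists_param h2 hA hB hg hgg
  by_cases h : ∀ i, S i i = 0
  · exact ⟨s, e, S, he, hS, hu, hge, Or.inr h⟩
  · obtain ⟨hs, P, hP⟩ := exists_eq_mul_transpose h2 hS hu h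
    refine ⟨s, act e P.1, 1, isoTuple_act B he P.isUnit, transpose_one, isUnit_one, fun v => ?_, Or.inl ⟨hs, rfl⟩⟩
    rw [hge, tmap_act, Matrix.mul_one, ← hP]

omit h2 [Finite F] in
/-- Conjugate by an isometry when the matrices are congruent. -/
theorem exists_conj_of_congr {s : ℕ} {e e' : Fin s → V} (he : IsoTuple B e) (he' : IsoTuple B e')
    {S S' : Matrix (Fin s) (Fin s) F} {P : GL (Fin s) F} (h : S' = P.1 * S * P.1ᵀ) :
    ∃ g ∈ formIsoms (σ := RingHom.id F) B, ∀ v, g (tmap B e S v) = tmap B e' S' (g v) := by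
  obtain ⟨g, hg, hge⟩ := exists_isom_tuple hA hB he (isoTuple_act B he' P.isUnit)
  refine ⟨g, hg, fun v => ?_⟩
  rw [← tmap_map B hg, show g ∘ e = act e' P.1 from funext hge, tmap_act, ← h]

/-- The invariants. -/
theorem rank_and_alt {g : V ≃ₗ[F] V} {s : ℕ} {e : Fin s → V} {S : Matrix (Fin s) (Fin s) F} (he : IsoTuple B e)
    (hS : Sᵀ = S) (hu : IsUnit S) (hge : ∀ v, g v = v + tmap B e S v) :
    Module.finrank F (LinearMap.range (g.toLinearMap - LinearMap.id)) = s ∧
      ((∀ v, B v (g v) = 0) ↔ ∀ i, S i i = 0) := by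
  have h1 : g.toLinearMap - LinearMap.id = tmap B e S := LinearMap.ext fun v => by simp [hge v]
  refine ⟨by rw [h1, finrank_range_tmap hB he.indep hu], ?_⟩
  rw [← alt_iff_diag h2 hA hB he.indep hS]
  exact forall_congr' fun v => by rw [hge, map_add, hA, zero_add]

/-- Two involutive isometries are conjugate iff they have the same rank and the same kind. -/
theorem exists_conj_iff {g g' : V ≃ₗ[F] V} (hg : g ∈ formIsoms (σ := RingHom.id F) B) (hgg : ∀ v, g (g v) = v)
    (hg' : g' ∈ formIsoms (σ := RingHom.id F) B) (hgg' : ∀ v, g' (g' v) = v)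
    (hr : Module.finrank F (LinearMap.range (g.toLinearMap - LinearMap.id)) =
      Module.finrank F (LinearMap.range (g'.toLinearMap - LinearMap.id)))
    (ha : (∀ v, B v (g v) = 0) ↔ ∀ v, B v (g' v) = 0) :
    ∃ h ∈ formIsoms (σ := RingHom.id F) B, ∀ v, h (g v) = g' (h v) := by
  obtain ⟨s, e, S, he, hS, hu, hge, hk⟩ := exists_std h2 hA hB hg hgg
  obtain ⟨s', e', S', he', hS', hu', hge', hk'⟩ := exists_std h2 hA hB hg' hgg'
  obtain ⟨r1, a1⟩ := rank_and_alt h2 hA hB he hS hu hge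
  obtain ⟨r2, a2⟩ := rank_and_alt h2 hA hB he' hS' hu' hge'
  obtain rfl : s = s' := r1.symm.trans (hr.trans r2)
  rw [a1, a2] at ha
  obtain ⟨P, hP⟩ : ∃ P : GL (Fin s) F, S' = P.1 * S * P.1ᵀ := by
    have hone : ∀ hs : 1 ≤ s, ¬ ∀ i, (1 : Matrix (Fin s) (Fin s) F) i i = 0 := fun hs h => by
      simpa using h ⟨0, hs⟩
    rcases hk with ⟨hs, rfl⟩ | h
    · rcases hk' with ⟨-, rfl⟩ | h'
      · exact ⟨1, by simp⟩
      · exact absurd (ha.2 h') (hone hs)
    · exact exists_congr_alt h2 hS' hu' (ha.1 h) hS hu h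
  obtain ⟨h, hh, hc⟩ := exists_conj_of_congr hA hB he he' hP
  exact ⟨h, hh, fun v => by rw [hge, hge', map_add, hc]⟩

end Char2

section Card

variable [Fintype F] [FiniteDimensional F V] {B : V →ₗ[F] V →ₗ[F] F} (hA : ∀ v, B v v = 0)
  (hB : ∀ x, (∀ y, B x y = 0) → x = 0)

include hA hB

/-- The pointwise stabiliser of a totally isotropic subspace in the symplectic group. -/
theorem card_fixing_symp {m s : ℕ} {e : Fin s → V} (he : IsoTuple B e) (hdim : Module.finrank F V = 2 * m) :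
    Nat.card (fixingIn (formIsoms (σ := RingHom.id F) B) (Submodule.span F (Set.range e))) =
      Fintype.card F ^ (2 * m * s - (3 * s ^ 2 - s) / 2) * spCard (Fintype.card F) (m - s) := by
  have hS : ∀ x y, B x y = 0 → B y x = 0 := fun x y h => by rw [alt_swap B hA x y, h, neg_zero]
  obtain ⟨W, hW⟩ : ∃ W, W = Submodule.span F (Set.range e) := ⟨_, rfl⟩
  obtain ⟨b, hb⟩ : ∃ b : Module.Basis (Fin s) F W, ∀ i, (b i : V) = e i :=
    ⟨(Module.Basis.span he.indep).map (LinearEquiv.ofEq _ _ hW.symm), fun i => by simp [Module.Basis.span_apply]⟩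
  have hiso : ∀ u ∈ W, ∀ v ∈ W, B u v = 0 := by
    intro u hu v hv
    rw [hW] at hu hv
    obtain ⟨c, rfl⟩ := (Submodule.mem_span_range_iff_exists_fun F).1 hu
    obtain ⟨d, rfl⟩ := (Submodule.mem_span_range_iff_exists_fun F).1 hv
    simp [map_sum, he.iso]
  have hN := card_dualTuple_alt B hA hB (e := fun i => (b i : V))
    (b.linearIndependent.map' W.subtype (LinearMap.ker_eq_bot.2 W.injective_subtype))
    (fun i i' => hiso _ (b i).2 _ (b i').2) s le_rfl
  obtain ⟨P, hPd, hPsep, hfix⟩ := exists_card_fixingIn (σ := RingHom.id F) B (fun _ => rfl) hS hB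
    (hasWittExt_alt B hA hB) ⟨-1, fun x y => by rw [alt_swap B hA x y, RingHom.id_apply, neg_one_mul]⟩ W b hiso
    hN.symm (pow_pos Fintype.card_pos _)
  rw [← hW, hfix, CfsgLib.Classical.card_formIsoms_alt (restrictSesq (σ := RingHom.id F) B P) (fun v => hA v)
    hPsep (m - s) (by omega), hdim, spCard, Fin.prod_univ_eq_prod_range (fun i => Fintype.card F ^ (2 * (i + 1)) - 1)]
  congr 2
  have h2s : 2 * s ≤ 2 * m := hdim ▸ two_mul_le hB he
  obtain ⟨l, rfl⟩ : ∃ l, m = s + l := ⟨m - s, by omega⟩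
  rw [show 2 * (s + l) - s = s + 2 * l by omega]
  rcases Nat.eq_zero_or_pos s with rfl | hs
  · simp
  have hsum := sum_range_sub_aux (s + 2 * l) s (by omega)
  have e1 : s * (2 * (s + 2 * l) + 1) = 2 * (s * s) + 4 * (l * s) + s := by ring
  have e2 : 2 * (s + l) * s = 2 * (s * s) + 2 * (l * s) := by ring
  have hs2 : s ≤ s * s := Nat.le_mul_self s
  have hev : Even (3 * (s * s) - s) := by
    rw [Nat.even_sub (by omega)]
    simp [Nat.even_mul, show ¬ Even 3 by decide]
  obtain ⟨u, hu⟩ := hev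
  rw [e1] at hsum
  rw [e2, sq, hu]
  omega

/-- The centraliser in the symplectic group. -/
theorem card_comm_symp {m s : ℕ} {e : Fin s → V} (he : IsoTuple B e) (hdim : Module.finrank F V = 2 * m)
    {S : Matrix (Fin s) (Fin s) F} (hu : IsUnit S) :
    Nat.card {g : V ≃ₗ[F] V // g ∈ formIsoms (σ := RingHom.id F) B ∧ ∀ v, g (tmap B e S v) = tmap B e S (g v)} =
      Nat.card (Aut S) * (Fintype.card F ^ (2 * m * s - (3 * s ^ 2 - s) / 2) * spCard (Fintype.card F) (m - s)) := by
  rw [card_comm hB he hu _ le_rfl fun P _ => exists_isom_tuple hA hB he (isoTuple_act B he P.isUnit),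
    card_fixing_symp hA hB he hdim]

end Card

end CfsgLib.Classical.InvTwo
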