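import Mathlib
import Cfsg.Agent.Lib.Classical.InvTwoCent

/-!
Involutive isometries of a quadratic form in characteristic two.
-/

set_option autoImplicit false

namespace CfsgLib.Classical.InvTwo

open Matrix CfsgLib.Geom
open QuadraticMap (polar)

variable {F V : Type*} [Field F] [AddCommGroup V] [Module F V] [FiniteDimensional F V] [Finite F]
  (Q : QuadraticForm F V) (h2 : (2 : F) = 0) (hQ : ∀ x, (∀ y, polar Q x y = 0) → x = 0)

/-- The involution data `(e, S)` of an isometry. -/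
structure QData (g : V ≃ₗ[F] V) {s : ℕ} (e : Fin s → V) (S : Matrix (Fin s) (Fin s) F) : Prop where
  tuple : IsoTuple Q.polarBilin e
  symm : Sᵀ = S
  unit : IsUnit S
  eq : ∀ v, g v = v + tmap Q.polarBilin e S v
  kind : (1 ≤ s ∧ S = 1) ∨ ∀ i, S i i = 0
  value : ∀ i, Q (e i) = S i i

include h2 hQ

/-- The values of `Q` on the tuple. -/
theorem value_of_std {s : ℕ} {e : Fin s → V} (he : IsoTuple Q.polarBilin e) {S : Matrix (Fin s) (Fin s) F}
    (hS : Sᵀ = S) (hu : IsUnit S) (hk : S = 1 ∨ ∀ i, S i i = 0)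
    (hv : ∀ v, Q (v + tmap Q.polarBilin e S v) = Q v) (i : Fin s) : Q (e i) = S i i := by
  classical
  have : CharP F 2 := CharTwo.of_one_ne_zero_of_two_eq_zero one_ne_zero h2
  have h := (quad_invol_iff Q h2 hQ he hS).1 hv
  rcases hk with rfl | h0
  · simpa [Matrix.one_apply] using h i
  · choose r hr using fun k => isSquare_of_two_eq_zero h2 (Q (e k))
    have hz : Sᵀ *ᵥ r = 0 := funext fun j => by
      rw [Pi.zero_apply, ← mul_self_eq_zero, mulVec, dotProduct, CharTwo.sum_mul_self, ← h0 j, ← h j]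
      exact Finset.sum_congr rfl fun k _ => by rw [transpose_apply, hr]; ring
    have hr0 := Matrix.mulVec_injective_of_isUnit ((Matrix.isUnit_transpose S).2 hu)
      (hz.trans (mulVec_zero Sᵀ).symm)
    rw [hr, hr0, h0, Pi.zero_apply, mul_zero]

theorem exists_qdata {g : V ≃ₗ[F] V} (hg : g ∈ quadIsoms Q) (hgg : ∀ v, g (g v) = v) :
    ∃ (s : ℕ) (e : Fin s → V) (S : Matrix (Fin s) (Fin s) F), QData Q g e S := by
  obtain ⟨s, e, S, he, hS, hu, hge, hk⟩ :=
    exists_std h2 (polarBilin_self Q h2) (fun x hx => hQ x hx) (quadIsoms_le Q hg) hgg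
  refine ⟨s, e, S, he, hS, hu, hge, hk, value_of_std Q h2 hQ he hS hu (hk.imp And.right id) fun v => ?_⟩
  rw [← hge]; exact hg v

theorem qdata_rank {g : V ≃ₗ[F] V} {s : ℕ} {e : Fin s → V} {S : Matrix (Fin s) (Fin s) F} (D : QData Q g e S) :
    Module.finrank F (LinearMap.range (g.toLinearMap - LinearMap.id)) = s ∧
      ((∀ v, polar Q v (g v) = 0) ↔ ∀ i, S i i = 0) :=
  rank_and_alt h2 (polarBilin_self Q h2) (fun x hx => hQ x hx) D.tuple D.symm D.unit D.eq

omit [Finite F] in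
/-- The involution of given data. -/
theorem exists_qinvol {s : ℕ} {e : Fin s → V} (he : IsoTuple Q.polarBilin e) {S : Matrix (Fin s) (Fin s) F}
    (hS : Sᵀ = S) (hv : ∀ j, ∑ i, S i j * S i j * Q (e i) = S j j) :
    ∃ g : V ≃ₗ[F] V, g ∈ quadIsoms Q ∧ (∀ v, g (g v) = v) ∧ ∀ v, g v = v + tmap Q.polarBilin e S v := by
  obtain ⟨g, -, hgg, hge⟩ := exists_invol h2 (polarBilin_self Q h2) he hS
  exact ⟨g, fun v => by rw [hge]; exact (quad_invol_iff Q h2 hQ he hS).2 hv v, hgg, hge⟩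

/-- Conjugacy in the orthogonal group. -/
theorem exists_qconj_iff {g g' : V ≃ₗ[F] V} (hg : g ∈ quadIsoms Q) (hgg : ∀ v, g (g v) = v)
    (hg' : g' ∈ quadIsoms Q) (hgg' : ∀ v, g' (g' v) = v)
    (hr : Module.finrank F (LinearMap.range (g.toLinearMap - LinearMap.id)) =
      Module.finrank F (LinearMap.range (g'.toLinearMap - LinearMap.id)))
    (ha : (∀ v, polar Q v (g v) = 0) ↔ ∀ v, polar Q v (g' v) = 0) :
    ∃ h ∈ quadIsoms Q, ∀ v, h (g v) = g' (h v) := by
  obtain ⟨s, e, S, D⟩ := exists_qdata Q h2 hQ hg hgg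
  obtain ⟨s', e', S', D'⟩ := exists_qdata Q h2 hQ hg' hgg'
  obtain ⟨r1, a1⟩ := qdata_rank Q h2 hQ D
  obtain ⟨r2, a2⟩ := qdata_rank Q h2 hQ D'
  obtain rfl : s = s' := r1.symm.trans (hr.trans r2)
  rw [a1, a2] at ha
  have hone : ∀ hs : 1 ≤ s, ¬ ∀ i, (1 : Matrix (Fin s) (Fin s) F) i i = 0 := fun hs h => by
    simpa using h ⟨0, hs⟩
  obtain ⟨P, hP, hq⟩ : ∃ P : GL (Fin s) F, S' = P.1 * S * P.1ᵀ ∧ ∀ i, Q (e i) = Q (act e' P.1 i) := by
    rcases D.kind with ⟨hs, rfl⟩ | h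
    · rcases D'.kind with ⟨-, rfl⟩ | h'
      · exact ⟨1, by simp, fun i => by rw [Units.val_one, act_one, D.value, D'.value]⟩
      · exact absurd (ha.2 h') (hone hs)
    · obtain ⟨P, hP⟩ := exists_congr_alt h2 D'.symm D'.unit (ha.1 h) D.symm D.unit h
      refine ⟨P, hP, fun i => ?_⟩
      rw [D.value, h, act, quad_comb _ D'.tuple.iso]
      exact (Finset.sum_eq_zero fun k _ => by rw [D'.value, ha.1 h, mul_zero]).symm
  obtain ⟨h, hh, hhe⟩ := exists_quad_tuple Q hQ D.tuple (isoTuple_act _ D'.tuple P.isUnit) hq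
  refine ⟨h, hh, fun v => ?_⟩
  rw [D.eq, D'.eq, map_add]
  congr 1
  rw [← tmap_map _ (quadIsoms_le Q hh), show h ∘ e = act e' P.1 from funext hhe, tmap_act, ← hP]

omit [Finite F] [FiniteDimensional F V] h2 hQ in
theorem conj_invariants {g g' h : V ≃ₗ[F] V} (hh : h ∈ quadIsoms Q) (hc : ∀ v, h (g v) = g' (h v)) :
    Module.finrank F (LinearMap.range (g.toLinearMap - LinearMap.id)) =
      Module.finrank F (LinearMap.range (g'.toLinearMap - LinearMap.id)) ∧
    ((∀ v, polar Q v (g v) = 0) ↔ ∀ v, polar Q v (g' v) = 0) := by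
  have hB : ∀ v, polar Q v (g v) = polar Q (h v) (g' (h v)) := fun v => by
    rw [← hc]; exact (polar_quadIsom hh v (g v)).symm
  refine ⟨?_, ⟨fun h1 v => ?_, fun h1 v => (hB v).trans (h1 _)⟩⟩
  · rw [show LinearMap.range (g'.toLinearMap - LinearMap.id) =
      (LinearMap.range (g.toLinearMap - LinearMap.id)).map (h : V →ₗ[F] V) from ?_, LinearEquiv.finrank_map_eq]
    ext x
    simp only [Submodule.mem_map, LinearMap.mem_range]
    constructor
    · rintro ⟨v, rfl⟩
      obtain ⟨u, rfl⟩ := h.surjective v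
      exact ⟨_, ⟨u, rfl⟩, by simp [hc]⟩
    · rintro ⟨_, ⟨u, rfl⟩, rfl⟩
      exact ⟨h u, by simp [hc]⟩
  · obtain ⟨u, rfl⟩ := h.surjective v
    rw [← hB]; exact h1 u

/-- The centraliser in the orthogonal group. -/
theorem card_qcomm {g : V ≃ₗ[F] V} {s : ℕ} {e : Fin s → V} {S : Matrix (Fin s) (Fin s) F} (D : QData Q g e S)
    (hg : g ∈ quadIsoms Q) :
    Nat.card {h : V ≃ₗ[F] V // h ∈ quadIsoms Q ∧ ∀ v, h (g v) = g (h v)} =
      Nat.card (Aut S) * Nat.card (fixingIn (quadIsoms Q) (Submodule.span F (Set.range e))) := by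
  rw [← card_comm (B := Q.polarBilin) (fun x hx => hQ x hx) D.tuple D.unit (quadIsoms Q) (quadIsoms_le Q) fun P hP => ?_]
  · refine Nat.card_congr (Equiv.subtypeEquivRight fun h => and_congr_right fun _ => forall_congr' fun v => ?_)
    rw [D.eq, D.eq, map_add]
    exact add_right_inj _
  · refine exists_quad_tuple Q hQ D.tuple (isoTuple_act _ D.tuple P.isUnit) fun i => ?_
    rw [D.value, value_of_std Q h2 hQ (isoTuple_act _ D.tuple P.isUnit) D.symm D.unit
      (D.kind.imp And.right id) fun v => by rw [tmap_act, hP, ← D.eq]; exact hg v]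

end CfsgLib.Classical.InvTwo
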