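import Mathlib
import Cfsg.Agent.Lib.Classical.InvTwoQuad
import Cfsg.Agent.Lib.KnownC.OrthSpinor

/-!
Involutions of orthogonal groups in characteristic two: membership in `Ω` and splitting of classes.
-/

set_option autoImplicit false

namespace CfsgLib.Classical.InvTwo

open Matrix CfsgLib.Geom CfsgLib.KnownC
open QuadraticMap (polar)

variable {F : Type*} [Field F] {ι : Type} [Fintype ι] [DecidableEq ι] (Q : QuadraticForm F (ι → F))

local notation "W" => (ι → F)

/-- An element of the isometry group as a linear equivalence. -/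
noncomputable def qIsom (g : Cfsg.isometryGroup F (⇑Q)) : W ≃ₗ[F] W := ((orEquiv Q).symm g).1

variable {Q}

theorem qIsom_mem (g : Cfsg.isometryGroup F (⇑Q)) : qIsom Q g ∈ quadIsoms Q := ((orEquiv Q).symm g).2

theorem qIsom_apply (g : Cfsg.isometryGroup F (⇑Q)) (v : W) : qIsom Q g v = g.1.1 *ᵥ v := by
  conv_rhs => rw [← (orEquiv Q).apply_symm_apply g, orEquiv_mulVec]
  rfl

theorem qIsom_mul (g h : Cfsg.isometryGroup F (⇑Q)) : qIsom Q (g * h) = qIsom Q g * qIsom Q h := by
  simp [qIsom]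

theorem qIsom_one : qIsom Q 1 = 1 := by simp [qIsom]

theorem qIsom_injective : Function.Injective (qIsom (F := F) (ι := ι) Q) := fun _ _ e =>
  (orEquiv Q).symm.injective (Subtype.ext e)

theorem qIsom_orEquiv (h : quadIsoms Q) : qIsom Q (orEquiv Q h) = h.1 := by simp [qIsom]

theorem qIsom_invol {g : Cfsg.isometryGroup F (⇑Q)} (hg : g ^ 2 = 1) (v : W) : qIsom Q g (qIsom Q g v) = v := by
  rw [← LinearEquiv.mul_apply, ← qIsom_mul, ← sq, hg, qIsom_one]
  rfl

theorem qrank_eq (g : Cfsg.isometryGroup F (⇑Q)) : (g.1.1 - 1 : Matrix ι ι F).rank =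
    Module.finrank F (LinearMap.range ((qIsom Q g).toLinearMap - LinearMap.id)) := by
  rw [Matrix.rank, show (g.1.1 - 1 : Matrix ι ι F).mulVecLin = (qIsom Q g).toLinearMap - LinearMap.id from
    LinearMap.ext fun v => by simp [qIsom_apply]]

theorem isConj_or_iff (a b : Cfsg.isometryGroup F (⇑Q)) :
    IsConj a b ↔ ∃ h ∈ quadIsoms Q, ∀ v, h (qIsom Q a v) = qIsom Q b (h v) := by
  rw [isConj_iff]
  constructor
  · rintro ⟨c, hc⟩
    refine ⟨qIsom Q c, qIsom_mem c, fun v => ?_⟩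
    rw [← LinearEquiv.mul_apply, ← LinearEquiv.mul_apply, ← qIsom_mul, ← qIsom_mul, ← hc, inv_mul_cancel_right]
  · rintro ⟨h, hh, hc⟩
    refine ⟨orEquiv Q ⟨h, hh⟩, mul_inv_eq_iff_eq_mul.2 (qIsom_injective ?_)⟩
    rw [qIsom_mul, qIsom_mul, qIsom_orEquiv]
    exact LinearEquiv.ext hc

theorem polar_alt_iff (h2 : (2 : F) = 0) (g : Cfsg.isometryGroup F (⇑Q)) (v : W) :
    Q (v + g.1.1 *ᵥ v) = polar Q v (qIsom Q g v) := by
  rw [← qIsom_apply, QuadraticMap.map_add Q, qIsom_mem g v]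
  linear_combination (Q v) * h2

section Omega

variable [Finite F] (h2 : (2 : F) = 0) (hQ : ∀ x, (∀ y, polar Q x y = 0) → x = 0)
  (hex : (∃ t : F, t ≠ 0 ∧ t ≠ 1) ∨ Module.finrank F (ι → F) ≠ 4) {m : ℕ} (hdim : Fintype.card ι = 2 * m)

include h2

omit [Finite F] in
/-- A word of mutually orthogonal reflections of norm one. -/
theorem refl_word_mulVec (z : W) : ∀ L : List W, (∀ v ∈ L, Q v = 1) → (L.Pairwise fun a b => polar Q a b = 0) →
    (L.map fun v => Cfsg.reflectionMatrix (⇑Q) v).prod *ᵥ z = z + (L.map fun v => polar Q v z • v).sum := by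
  intro L
  induction L with
  | nil => simp
  | cons a L ih =>
    intro h1 h2'
    rw [List.pairwise_cons] at h2'
    rw [List.map_cons, List.prod_cons, ← mulVec_mulVec, ih (fun v hv => h1 v (List.mem_cons_of_mem _ hv)) h2'.2,
      reflectionMatrix_mulVec, h1 a (List.mem_cons_self ..), List.map_cons, List.sum_cons]
    have hp : polar Q a (z + (L.map fun v => polar Q v z • v).sum) = polar Q a z := by
      rw [← QuadraticMap.polarBilin_apply_apply, map_add, map_list_sum, List.map_map]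
      simp only [QuadraticMap.polarBilin_apply_apply, add_eq_left]
      refine List.sum_eq_zero fun x hx => ?_
      obtain ⟨v, hv, rfl⟩ := List.mem_map.1 hx
      simp [h2'.1 v hv]
    rw [hp, inv_one, one_mul, sub_eq_add_neg, ← neg_smul,
      show -(polar Q a z) = polar Q a z by linear_combination -(polar Q a z) * h2]
    abel

include hQ hex

omit [Finite F] in
/-- The Dickson invariant of a sum of orthogonal transvections. -/
theorem parity_one (g : Cfsg.isometryGroup F (⇑Q)) {s : ℕ} {e : Fin s → W}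
    (D : QData Q (qIsom Q g) e (1 : Matrix (Fin s) (Fin s) F)) :
    (spinorHom Q hQ hex g).1 = Multiplicative.ofAdd (s : ZMod 2) := by
  obtain ⟨L, hL⟩ : ∃ L, L = List.ofFn e := ⟨_, rfl⟩
  have hmem : ∀ v ∈ L, Q v = 1 := fun v hv => by
    rw [hL, List.mem_ofFn] at hv
    obtain ⟨i, rfl⟩ := hv
    rw [D.value]; simp
  have hg : g.1.1 = (L.map fun v => Cfsg.reflectionMatrix (⇑Q) v).prod := by
    refine Matrix.ext_of_mulVec_single fun j => ?_
    rw [refl_word_mulVec h2 _ L hmem (hL ▸ List.pairwise_ofFn.2 fun i j _ => D.tuple.iso i j), ← qIsom_apply, D.eq,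
      tmap_apply, hL, List.map_ofFn, List.sum_ofFn]
    simp [co_apply]
  rw [spinorHom_reflection_word hQ hex L (fun v hv => by rw [hmem v hv]; exact one_ne_zero) g hg]
  show Multiplicative.ofAdd (L.length : ZMod 2) = _
  rw [hL, List.length_ofFn]

/-- The alternating case with a fixed nonsingular vector orthogonal to the tuple. -/
theorem parity_alt_perp (g : Cfsg.isometryGroup F (⇑Q)) (hg : g ^ 2 = 1) {s : ℕ} {e : Fin s → W}
    {S : Matrix (Fin s) (Fin s) F} (D : QData Q (qIsom Q g) e S) (hS : ∀ i, S i i = 0) {y : W} (hy : Q y = 1)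
    (hye : ∀ i, polar Q (e i) y = 0) :
    (spinorHom Q hQ hex g).1 = Multiplicative.ofAdd (s : ZMod 2) := by
  have hy0 : Q y ≠ 0 := by rw [hy]; exact one_ne_zero
  obtain ⟨h, hh⟩ : ∃ h, h = g * reflIsom Q y hy0 := ⟨_, rfl⟩
  have hgy : qIsom Q g y = y := by
    rw [D.eq, tmap_apply, show co Q.polarBilin e y = 0 from funext fun i => hye i, mulVec_zero]
    simp
  have hgB : ∀ v, polar Q y (qIsom Q g v) = polar Q y v := fun v => by
    conv_lhs => rw [← hgy]
    exact polar_quadIsom (qIsom_mem g) y v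
  have hr : ∀ v, qIsom Q (reflIsom Q y hy0) v = v + polar Q y v • y := fun v => by
    rw [qIsom_apply, reflIsom_mulVec, hy, inv_one, one_mul, sub_eq_add_neg, ← neg_smul]
    congr 2
    linear_combination -(polar Q y v) * h2
  have hhv : ∀ v, qIsom Q h v = v + tmap Q.polarBilin e S v + polar Q y v • y := fun v => by
    rw [hh, qIsom_mul, LinearEquiv.mul_apply, hr, map_add, map_smul, hgy, D.eq]
  have hcomm : Commute g (reflIsom Q y hy0) := by
    refine qIsom_injective (LinearEquiv.ext fun v => ?_)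
    rw [qIsom_mul, qIsom_mul, LinearEquiv.mul_apply, LinearEquiv.mul_apply, hr, hr, map_add, map_smul, hgy, hgB]
  have hh2 : h ^ 2 = 1 := by
    rw [hh, hcomm.mul_pow, hg, one_mul, sq, reflIsom_mul_self]
  obtain ⟨e', he'⟩ : ∃ e' : Fin (s + 1) → W, e' = Fin.cons y e := ⟨_, rfl⟩
  obtain ⟨S', hS'⟩ : ∃ S' : Matrix (Fin (s + 1)) (Fin (s + 1)) F, S' = Matrix.of (Fin.cons (Fin.cons 1 0)
      fun i => Fin.cons 0 (S i)) := ⟨_, rfl⟩
  have hyn : y ∉ Submodule.span F (Set.range e) := fun hmem => by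
    obtain ⟨c, rfl⟩ := (Submodule.mem_span_range_iff_exists_fun F).1 hmem
    rw [quad_comb _ D.tuple.iso, Finset.sum_eq_zero fun i _ => by rw [D.value, hS, mul_zero]] at hy
    exact zero_ne_one hy
  have hei : IsoTuple Q.polarBilin e' := by
    refine ⟨he' ▸ linearIndependent_finCons.2 ⟨D.tuple.indep, hyn⟩, fun i j => ?_⟩
    rw [he', QuadraticMap.polarBilin_apply_apply]
    refine Fin.cases ?_ (fun i => ?_) i <;> refine Fin.cases ?_ (fun j => ?_) j <;>
      simp only [Fin.cons_zero, Fin.cons_succ]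
    · rw [polar_self_two, h2, zero_mul]
    · rw [QuadraticMap.polar_comm]; exact hye j
    · exact hye i
    · exact D.tuple.iso i j
  have hmv : ∀ (c : Fin (s + 1) → F), (S' *ᵥ c) 0 = c 0 ∧ ∀ i, (S' *ᵥ c) (Fin.succ i) = (S *ᵥ (c ∘ Fin.succ)) i := by
    intro c
    constructor
    · simp [hS', mulVec, dotProduct, Fin.sum_univ_succ]
    · intro i; simp [hS', mulVec, dotProduct, Fin.sum_univ_succ]
  have hS'u : IsUnit S' := Matrix.mulVec_injective_iff_isUnit.1 fun a b hab => by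
    have hab' : S' *ᵥ a = S' *ᵥ b := hab
    funext k
    refine Fin.cases ?_ (fun i => ?_) k
    · rw [← (hmv a).1, hab', (hmv b).1]
    · exact congrFun (Matrix.mulVec_injective_of_isUnit D.unit (funext fun i => by
        rw [← (hmv a).2, hab', (hmv b).2] : S *ᵥ (a ∘ Fin.succ) = S *ᵥ (b ∘ Fin.succ))) i
  have hS's : S'ᵀ = S' := by
    refine Matrix.ext fun i j => ?_
    refine Fin.cases ?_ (fun i => ?_) i <;> refine Fin.cases ?_ (fun j => ?_) j <;> simp [hS']
    exact congrFun (congrFun D.symm i) j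
  have hev : ∀ v, qIsom Q h v = v + tmap Q.polarBilin e' S' v := fun v => by
    rw [hhv, tmap_apply, tmap_apply, Fin.sum_univ_succ, (hmv _).1, he', Fin.cons_zero]
    simp only [(hmv _).2, Fin.cons_succ]
    rw [show co Q.polarBilin (Fin.cons y e) v 0 = polar Q y v from rfl,
      show co Q.polarBilin (Fin.cons y e) v ∘ Fin.succ = co Q.polarBilin e v from rfl]
    abel
  obtain ⟨r1, a1⟩ := rank_and_alt h2 (polarBilin_self Q h2) (fun x hx => hQ x hx) hei hS's hS'u hev
  have hna : ¬ ∀ i, S' i i = 0 := fun hd => by simpa [hS'] using hd 0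
  obtain ⟨s', e'', S'', D'⟩ := exists_qdata Q h2 hQ (qIsom_mem h) (qIsom_invol hh2)
  obtain ⟨r2, a2⟩ := qdata_rank Q h2 hQ D'
  obtain rfl : s' = s + 1 := r2.symm.trans r1
  rcases D'.kind with ⟨-, rfl⟩ | hd
  · have hp := parity_one h2 hQ hex h D'
    rw [hh, map_mul, Prod.fst_mul, spinorHom_reflIsom] at hp
    have := congrArg (· * Multiplicative.ofAdd (1 : ZMod 2)) hp
    simp only [mul_assoc, zmodTwo_ofAdd_mul, mul_one] at this
    rw [this, ← ofAdd_add, Nat.cast_succ, add_assoc, show (1 : ZMod 2) + 1 = 0 by decide, add_zero]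
  · exact absurd ((a1.1 (a2.2 hd)) : ∀ i, S' i i = 0) hna

include hdim

omit hex [Finite F] [DecidableEq ι] h2 in
theorem perp_singular_le {s : ℕ} {e : Fin s → W} (he : IsoTuple Q.polarBilin e)
    (h : ∀ y, (∀ i, polar Q (e i) y = 0) → Q y = 0) : s = m := by
  have hle := two_mul_le (fun x hx => hQ x hx) he
  rw [Module.finrank_fintype_fun_eq_card, hdim] at hle
  obtain ⟨K, hK⟩ : ∃ K, K = LinearMap.ker (co Q.polarBilin e) := ⟨_, rfl⟩
  have h1 := (co Q.polarBilin e).finrank_range_add_finrank_ker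
  rw [LinearMap.range_eq_top.2 (co_surjective (fun x hx => hQ x hx) he.indep), finrank_top, Module.finrank_fin_fun,
    Module.finrank_fintype_fun_eq_card, hdim, ← hK] at h1
  have hmem : ∀ y ∈ K, Q y = 0 := fun y hy => h y fun i => by
    rw [hK] at hy
    exact congrFun (LinearMap.mem_ker.1 hy) i
  have h3 : IsoTuple Q.polarBilin (fun i => ((Module.finBasis F K) i : W)) :=
    ⟨(Module.finBasis F K).linearIndependent.map' K.subtype (Submodule.ker_subtype _),
      fun i j => polar_eq_zero_of_ts Q hmem (Module.finBasis F K i).2 (Module.finBasis F K j).2⟩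
  have h4 := two_mul_le (fun x hx => hQ x hx) h3
  rw [Module.finrank_fintype_fun_eq_card, hdim] at h4
  omega

omit hex in
theorem exists_fixed_or_maximal {g : Cfsg.isometryGroup F (⇑Q)} {s : ℕ} {e : Fin s → W}
    {S : Matrix (Fin s) (Fin s) F} (D : QData Q (qIsom Q g) e S) :
    (∃ y, Q y = 1 ∧ ∀ i, polar Q (e i) y = 0) ∨ (s = m ∧ (∀ i, S i i = 0) ∧ ∀ y ∈ Submodule.span F (Set.range e), Q y = 0) := by
  rcases D.kind with ⟨hs, rfl⟩ | hd
  · exact Or.inl ⟨e ⟨0, hs⟩, by rw [D.value]; simp, fun i => D.tuple.iso i _⟩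
  · by_cases h : ∀ y, (∀ i, polar Q (e i) y = 0) → Q y = 0
    · refine Or.inr ⟨perp_singular_le hQ hdim D.tuple h, hd, fun y hy => h y fun i => ?_⟩
      obtain ⟨c, rfl⟩ := (Submodule.mem_span_range_iff_exists_fun F).1 hy
      rw [← QuadraticMap.polarBilin_apply_apply]
      simp [map_sum, D.tuple.iso]
    · push Not at h
      obtain ⟨y, hy, hy0⟩ := h
      obtain ⟨r, hr⟩ := isSquare_of_two_eq_zero h2 (Q y)⁻¹
      refine Or.inl ⟨r • y, by rw [quad_smul, ← hr, inv_mul_cancel₀ hy0], fun i => ?_⟩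
      rw [QuadraticMap.polar_smul_right, hy i, smul_zero]

omit hex [Finite F] h2 in
theorem splitCtx_of_span {g : Cfsg.isometryGroup F (⇑Q)} {e : Fin m → W}
    {S : Matrix (Fin m) (Fin m) F} (D : QData Q (qIsom Q g) e S) (hm : 0 < m)
    (hts : ∀ y ∈ Submodule.span F (Set.range e), Q y = 0) : SplitCtx Q m (Submodule.span F (Set.range e)) :=
  splitCtx_of_sep hQ hdim ⟨by rw [finrank_span_eq_card D.tuple.indep, Fintype.card_fin], hts⟩ hm

/-- The Dickson invariant of an involution is the parity of the rank of `t - 1`. -/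
theorem parity_eq (g : Cfsg.isometryGroup F (⇑Q)) (hg : g ^ 2 = 1) :
    (spinorHom Q hQ hex g).1 = Multiplicative.ofAdd ((g.1.1 - 1 : Matrix ι ι F).rank : ZMod 2) := by
  obtain ⟨s, e, S, D⟩ := exists_qdata Q h2 hQ (qIsom_mem g) (qIsom_invol hg)
  rw [qrank_eq, (qdata_rank Q h2 hQ D).1]
  rcases D.kind with ⟨-, rfl⟩ | hd
  · exact parity_one h2 hQ hex g D
  · rcases exists_fixed_or_maximal h2 hQ hdim D with ⟨y, hy, hye⟩ | ⟨hsm, -, hts⟩
    · exact parity_alt_perp h2 hQ hex g hg D hd hy hye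
    · rcases Nat.eq_zero_or_pos s with rfl | hpos
      · have : g = 1 := qIsom_injective (LinearEquiv.ext fun v => by rw [D.eq, tmap_apply, qIsom_one]; simp)
        rw [this, map_one]; simp
      · subst hsm
        have hS := splitCtx_of_span hQ hdim D hpos hts
        rw [(spinorHom_fst_iff_parity hS hQ hex g).2 ?_]
        · obtain ⟨k, hk⟩ := even_of_alt h2 D.symm D.unit hd
          rw [hk, Nat.cast_add, ZModModule.add_self, ofAdd_zero]
        · rw [show Cfsg.imageSubmodule g.1.1 (Submodule.span F (Set.range e)) = Submodule.span F (Set.range e) from ?_,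
            inf_idem, hS.max.1, Nat.sub_self]
          · exact Even.zero
          refine Submodule.eq_of_le_of_finrank_le ?_ ?_
          · rintro _ ⟨u, hu, rfl⟩
            rw [Matrix.toLin'_apply, ← qIsom_apply, D.eq, tmap_apply]
            exact add_mem hu (Submodule.sum_mem _ fun i _ => Submodule.smul_mem _ _ (Submodule.subset_span ⟨i, rfl⟩))
          · rw [Cfsg.imageSubmodule, ← (Submodule.equivMapOfInjective _ (toLin'_gl_injective g.1) _).finrank_eq]

theorem mem_omega_iff_even (g : Cfsg.isometryGroup F (⇑Q)) (hg : g ^ 2 = 1) :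
    g ∈ Cfsg.Omega F (⇑Q) ↔ Even (g.1.1 - 1 : Matrix ι ι F).rank := by
  rw [mem_omega_iff_of_two h2 hQ hex, parity_eq h2 hQ hex hdim g hg, ofAdd_eq_one, ZMod.natCast_eq_zero_iff_even]

theorem exists_omega_conj {a b : Cfsg.isometryGroup F (⇑Q)} (ha : a ^ 2 = 1) (hconj : IsConj a b)
    (hne : ¬ ((a.1.1 - 1 : Matrix ι ι F).rank = m ∧ ∀ v, Q (v + a.1.1 *ᵥ v) = 0)) :
    ∃ h ∈ Cfsg.Omega F (⇑Q), h * a * h⁻¹ = b := by
  obtain ⟨c, hc⟩ := isConj_iff.1 hconj
  rcases zmodTwo_cases (spinorHom Q hQ hex c).1 with h1 | h1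
  · exact ⟨c, (mem_omega_iff_of_two h2 hQ hex c).2 h1, hc⟩
  obtain ⟨s, e, S, D⟩ := exists_qdata Q h2 hQ (qIsom_mem a) (qIsom_invol ha)
  obtain ⟨r1, a1⟩ := qdata_rank Q h2 hQ D
  rcases exists_fixed_or_maximal h2 hQ hdim D with ⟨y, hy, hye⟩ | ⟨hsm, hd, -⟩
  · have hy0 : Q y ≠ 0 := by rw [hy]; exact one_ne_zero
    refine ⟨c * reflIsom Q y hy0, (mem_omega_iff_of_two h2 hQ hex _).2 ?_, ?_⟩
    · rw [map_mul, Prod.fst_mul, spinorHom_reflIsom, h1]; exact zmodTwo_ofAdd_mul
    · have hay : qIsom Q a y = y := by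
        rw [D.eq, tmap_apply, show co Q.polarBilin e y = 0 from funext fun i => hye i, mulVec_zero]
        simp
      have hcomm : reflIsom Q y hy0 * a = a * reflIsom Q y hy0 := by
        refine qIsom_injective (LinearEquiv.ext fun v => ?_)
        rw [qIsom_mul, qIsom_mul, LinearEquiv.mul_apply, LinearEquiv.mul_apply, qIsom_apply (reflIsom Q y hy0),
          qIsom_apply (reflIsom Q y hy0), reflIsom_mulVec, reflIsom_mulVec, map_sub, map_smul, hay]
        congr 3
        conv_lhs => rw [← hay]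
        exact polar_quadIsom (qIsom_mem a) y v
      rw [_root_.mul_inv_rev, mul_assoc c, hcomm, mul_assoc, mul_assoc, ← mul_assoc (reflIsom Q y hy0), mul_inv_cancel,
        one_mul, ← mul_assoc, hc]
  · refine absurd ⟨?_, fun v => ?_⟩ hne
    · rw [qrank_eq, r1, hsm]
    · rw [polar_alt_iff h2]; exact a1.2 hd v

/-- The split class: a conjugator lies in `Ω` iff the two images meet in even dimension. -/
theorem conj_mem_omega_iff {a b c : Cfsg.isometryGroup F (⇑Q)} (ha : a ^ 2 = 1) (hc : c * a * c⁻¹ = b) (hm : 0 < m)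
    (hr : (a.1.1 - 1 : Matrix ι ι F).rank = m) (halt : ∀ v, Q (v + a.1.1 *ᵥ v) = 0) :
    c ∈ Cfsg.Omega F (⇑Q) ↔
      Even (Module.finrank F (LinearMap.range (Matrix.toLin' (a.1.1 - 1)) ⊓
        LinearMap.range (Matrix.toLin' (b.1.1 - 1)) : Submodule F W)) := by
  obtain ⟨s, e, S, D⟩ := exists_qdata Q h2 hQ (qIsom_mem a) (qIsom_invol ha)
  obtain ⟨r1, a1⟩ := qdata_rank Q h2 hQ D
  obtain rfl : s = m := by rw [qrank_eq, r1] at hr; exact hr
  have hd : ∀ i, S i i = 0 := a1.1 fun v => by rw [← polar_alt_iff h2]; exact halt v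
  obtain ⟨R, hR⟩ : ∃ R, R = Submodule.span F (Set.range e) := ⟨_, rfl⟩
  have hts : ∀ y ∈ R, Q y = 0 := fun y hy => by
    obtain ⟨c, rfl⟩ := (Submodule.mem_span_range_iff_exists_fun F).1 (hR ▸ hy)
    rw [quad_comb _ D.tuple.iso, Finset.sum_eq_zero fun i _ => by rw [D.value, hd, mul_zero]]
  have hS : SplitCtx Q s R := hR ▸ splitCtx_of_span hQ hdim D hm fun y hy => hts y (hR ▸ hy)
  have hA : LinearMap.range (Matrix.toLin' (a.1.1 - 1)) = R := by
    rw [hR, ← range_tmap (B := Q.polarBilin) (fun x hx => hQ x hx) D.tuple.indep D.unit]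
    congr 1
    exact LinearMap.ext fun v => by simp [← qIsom_apply, D.eq]
  have hB : ∀ c : Cfsg.isometryGroup F (⇑Q), c * a * c⁻¹ = b →
      LinearMap.range (Matrix.toLin' (b.1.1 - 1)) = Cfsg.imageSubmodule c.1.1 R := by
    intro c hc
    rw [← hA, Cfsg.imageSubmodule, ← LinearMap.range_comp, ← Matrix.toLin'_mul]
    have h1 : (b.1.1 - 1) * c.1.1 = c.1.1 * (a.1.1 - 1) := by
      rw [sub_mul, mul_sub, one_mul, mul_one, sub_left_inj, ← Units.val_mul, ← Units.val_mul, ← Subgroup.coe_mul,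
        ← Subgroup.coe_mul, ← hc, inv_mul_cancel_right]
    rw [← h1, Matrix.toLin'_mul, LinearMap.range_comp_of_range_eq_top]
    exact LinearMap.range_eq_top.2 fun w => ⟨(qIsom Q c).symm w, by
      rw [Matrix.toLin'_apply, ← qIsom_apply, LinearEquiv.apply_symm_apply]⟩
  have hev : Even s := even_of_alt h2 D.symm D.unit hd
  rw [hA, mem_omega_iff_of_two h2 hQ hex, spinorHom_fst_iff_parity hS hQ hex c, hB c hc]
  have hle : Module.finrank F (R ⊓ Cfsg.imageSubmodule c.1.1 R : Submodule F W) ≤ s := by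
    have := Submodule.finrank_mono (inf_le_left : R ⊓ Cfsg.imageSubmodule c.1.1 R ≤ R)
    rwa [hS.max.1] at this
  rw [Nat.even_sub hle]
  simp [hev]

/-- The split class. -/
theorem omega_conj_iff_parity {a b : Cfsg.isometryGroup F (⇑Q)} (ha : a ^ 2 = 1) (hconj : IsConj a b) (hm : 0 < m)
    (hr : (a.1.1 - 1 : Matrix ι ι F).rank = m) (halt : ∀ v, Q (v + a.1.1 *ᵥ v) = 0) :
    (∃ h ∈ Cfsg.Omega F (⇑Q), h * a * h⁻¹ = b) ↔
      Even (Module.finrank F (LinearMap.range (Matrix.toLin' (a.1.1 - 1)) ⊓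
        LinearMap.range (Matrix.toLin' (b.1.1 - 1)) : Submodule F W)) := by
  constructor
  · rintro ⟨c, hc, hcb⟩
    exact (conj_mem_omega_iff h2 hQ hex hdim ha hcb hm hr halt).1 hc
  · intro h
    obtain ⟨c, hc⟩ := isConj_iff.1 hconj
    exact ⟨c, (conj_mem_omega_iff h2 hQ hex hdim ha hc hm hr halt).2 h, hc⟩

end Omega

end CfsgLib.Classical.InvTwo
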