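import Mathlib
import Cfsg.Agent.Lib.Classical.InvTwoOmega

/-!
Counting classes of involutions in an orthogonal group in characteristic two and in its `Ω`.
-/

set_option autoImplicit false

namespace CfsgLib.Classical.InvTwo

open Matrix CfsgLib.Geom CfsgLib.KnownC
open QuadraticMap (polar)

variable {F : Type*} [Field F] {ι : Type} [Fintype ι] [DecidableEq ι] {Q : QuadraticForm F (ι → F)}

local notation "W" => (ι → F)

/-- `Q` vanishes on the image of `g - 1`. -/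
def QAlt (g : Cfsg.isometryGroup F (⇑Q)) : Prop := ∀ v, Q (v + g.1.1 *ᵥ v) = 0

variable [Finite F] (h2 : (2 : F) = 0) (hQ : ∀ x, (∀ y, polar Q x y = 0) → x = 0) {m : ℕ}
  (hdim : Fintype.card ι = 2 * m)

include h2

omit [Finite F] in
theorem qalt_iff (g : Cfsg.isometryGroup F (⇑Q)) : QAlt g ↔ ∀ v, polar Q v (qIsom Q g v) = 0 :=
  forall_congr' fun v => by rw [polar_alt_iff h2]

include hQ

/-- Conjugacy of involutions. -/
theorem isConj_or_iff_invariants {a b : Cfsg.isometryGroup F (⇑Q)} (ha : a ^ 2 = 1) (hb : b ^ 2 = 1) :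
    IsConj a b ↔ ((a.1.1 - 1 : Matrix ι ι F).rank = (b.1.1 - 1 : Matrix ι ι F).rank ∧ (QAlt a ↔ QAlt b)) := by
  rw [isConj_or_iff, qalt_iff h2, qalt_iff h2, qrank_eq, qrank_eq]
  exact ⟨fun ⟨_, hh, hc⟩ => conj_invariants Q hh hc, fun ⟨hr, hal⟩ =>
    exists_qconj_iff Q h2 hQ (qIsom_mem a) (qIsom_invol ha) (qIsom_mem b) (qIsom_invol hb) hr hal⟩

/-- Conjugacy under the isometries of the polar form is conjugacy. -/
theorem isConj_of_polar_conj {a b : Cfsg.isometryGroup F (⇑Q)} (ha : a ^ 2 = 1) (hb : b ^ 2 = 1) (g : GL ι F)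
    (hg : ∀ u v, polar Q (g.1 *ᵥ u) (g.1 *ᵥ v) = polar Q u v) (hc : g * a.1 * g⁻¹ = b.1) : IsConj a b := by
  have hga : g.1 * a.1.1 = b.1.1 * g.1 := by
    rw [← Units.val_mul, ← Units.val_mul, ← hc, inv_mul_cancel_right]
  refine (isConj_or_iff_invariants h2 hQ ha hb).2 ⟨?_, ?_⟩
  · have h1 : (b.1.1 - 1) * g.1 = g.1 * (a.1.1 - 1) := by rw [sub_mul, mul_sub, hga, one_mul, mul_one]
    have hu := (Matrix.isUnit_iff_isUnit_det _).1 g.isUnit
    rw [← Matrix.rank_mul_eq_left_of_isUnit_det g.1 (b.1.1 - 1) hu, h1,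
      Matrix.rank_mul_eq_right_of_isUnit_det g.1 (a.1.1 - 1) hu]
  · rw [qalt_iff h2, qalt_iff h2]
    have hB : ∀ v, polar Q v (qIsom Q a v) = polar Q (g.1 *ᵥ v) (qIsom Q b (g.1 *ᵥ v)) := fun v => by
      rw [← hg, qIsom_apply, qIsom_apply, mulVec_mulVec, mulVec_mulVec, hga]
    refine ⟨fun h v => ?_, fun h v => (hB v).trans (h _)⟩
    obtain ⟨u, rfl⟩ := Matrix.mulVec_surjective_iff_isUnit.2 g.isUnit v
    rw [← hB]; exact h u

/-- An involution with given data. -/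
theorem exists_or_invol {s : ℕ} (hs : 1 ≤ s) {e : Fin s → W} (he : IsoTuple Q.polarBilin e)
    {S : Matrix (Fin s) (Fin s) F} (hS : Sᵀ = S) (hu : IsUnit S) (hk : S = 1 ∨ ∀ i, S i i = 0)
    (hv : ∀ i, Q (e i) = S i i) :
    ∃ g : Cfsg.isometryGroup F (⇑Q), orderOf g = 2 ∧ (g.1.1 - 1 : Matrix ι ι F).rank = s ∧
      (QAlt g ↔ ∀ i, S i i = 0) := by
  have hcrit : ∀ j, ∑ i, S i j * S i j * Q (e i) = S j j := fun j => by
    rcases hk with rfl | h0
    · simp [hv, Matrix.one_apply]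
    · simp [hv, h0]
  obtain ⟨g, hg, hgg, hge⟩ := exists_qinvol Q h2 hQ he hS hcrit
  obtain ⟨r1, a1⟩ := rank_and_alt h2 (polarBilin_self Q h2) (fun x hx => hQ x hx) he hS hu hge
  have hG : qIsom Q (orEquiv Q ⟨g, hg⟩) = g := qIsom_orEquiv _
  have hne : orEquiv Q ⟨g, hg⟩ ≠ 1 := fun h => by
    have h0 : g.toLinearMap - LinearMap.id = 0 := by
      rw [← hG, h, qIsom_one]; simp
    rw [h0, LinearMap.range_zero, finrank_bot] at r1
    omega
  refine ⟨orEquiv Q ⟨g, hg⟩, orderOf_eq_prime (qIsom_injective (LinearEquiv.ext fun v => ?_)) hne,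
    by rw [qrank_eq, hG, r1], by rw [qalt_iff h2, hG]; exact a1⟩
  rw [sq, qIsom_mul, LinearEquiv.mul_apply, hG, hgg, qIsom_one]
  rfl

include hdim

theorem or_rank_bound {g : Cfsg.isometryGroup F (⇑Q)} (hg : orderOf g = 2) :
    1 ≤ (g.1.1 - 1 : Matrix ι ι F).rank ∧ (g.1.1 - 1 : Matrix ι ι F).rank ≤ m ∧
      (QAlt g → Even (g.1.1 - 1 : Matrix ι ι F).rank) := by
  have hg2 : g ^ 2 = 1 := hg ▸ pow_orderOf_eq_one g
  obtain ⟨s, e, S, D⟩ := exists_qdata Q h2 hQ (qIsom_mem g) (qIsom_invol hg2)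
  obtain ⟨r1, a1⟩ := qdata_rank Q h2 hQ D
  rw [qrank_eq, r1, qalt_iff h2, a1]
  have h1 := two_mul_le (fun x hx => hQ x hx) D.tuple
  rw [Module.finrank_fintype_fun_eq_card, hdim] at h1
  refine ⟨Nat.one_le_iff_ne_zero.2 fun h0 => ?_, by omega, even_of_alt h2 D.symm D.unit⟩
  subst h0
  have : g = 1 := qIsom_injective (LinearEquiv.ext fun v => by rw [D.eq, tmap_apply, qIsom_one]; simp)
  rw [this, orderOf_one] at hg
  exact absurd hg (by norm_num)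

section Count

variable {ka : ℕ} (hone : ∀ i : Fin m, ∃ g : Cfsg.isometryGroup F (⇑Q), orderOf g = 2 ∧
    (g.1.1 - 1 : Matrix ι ι F).rank = (i : ℕ) + 1 ∧ ¬ QAlt g)
  (halt : ∀ k : Fin ka, ∃ g : Cfsg.isometryGroup F (⇑Q), orderOf g = 2 ∧
    (g.1.1 - 1 : Matrix ι ι F).rank = 2 * ((k : ℕ) + 1) ∧ QAlt g)
  (hbd : ∀ g : Cfsg.isometryGroup F (⇑Q), orderOf g = 2 → QAlt g → (g.1.1 - 1 : Matrix ι ι F).rank ≤ 2 * ka)

include hone halt hbd

theorem card_or_classes :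
    Nat.card {C : ConjClasses ↥(Cfsg.isometryGroup F (⇑Q)) //
      ∃ g : ↥(Cfsg.isometryGroup F (⇑Q)), ConjClasses.mk g = C ∧ orderOf g = 2} = m + ka := by
  choose f1 hf1o hf1r hf1a using hone
  choose f2 hf2o hf2r hf2a using halt
  have hsq : ∀ g : Cfsg.isometryGroup F (⇑Q), orderOf g = 2 → g ^ 2 = 1 := fun g hg => hg ▸ pow_orderOf_eq_one g
  obtain ⟨f, hf⟩ : ∃ f : Fin m ⊕ Fin ka → Cfsg.isometryGroup F (⇑Q), f = Sum.elim f1 f2 := ⟨_, rfl⟩
  have hfo : ∀ x, orderOf (f x) = 2 := fun x => by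
    rw [hf]; rcases x with i | k
    · exact hf1o i
    · exact hf2o k
  rw [show m + ka = Nat.card (Fin m ⊕ Fin ka) by simp]
  refine (Nat.card_congr (Equiv.ofBijective (fun x => ⟨ConjClasses.mk (f x), f x, rfl, hfo x⟩) ⟨?_, ?_⟩)).symm
  · intro x y h
    obtain ⟨hr, ha⟩ := (isConj_or_iff_invariants h2 hQ (hsq _ (hfo x)) (hsq _ (hfo y))).1
      (ConjClasses.mk_eq_mk_iff_isConj.1 (congrArg Subtype.val h))
    rcases x with i | k <;> rcases y with j | l <;> simp only [hf, Sum.elim_inl, Sum.elim_inr] at hr ha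
    · rw [hf1r, hf1r] at hr; exact congrArg Sum.inl (Fin.ext (by omega))
    · exact absurd (ha.2 (hf2a l)) (hf1a i)
    · exact absurd (ha.1 (hf2a k)) (hf1a j)
    · rw [hf2r, hf2r] at hr; exact congrArg Sum.inr (Fin.ext (by omega))
  · rintro ⟨_, g, rfl, hg⟩
    obtain ⟨h1, hle, hev⟩ := or_rank_bound h2 hQ hdim hg
    by_cases ha : QAlt g
    · obtain ⟨k, hk⟩ := hev ha
      have := hbd g hg ha
      refine ⟨Sum.inr ⟨k - 1, by omega⟩, Subtype.ext (ConjClasses.mk_eq_mk_iff_isConj.2 ?_)⟩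
      refine (isConj_or_iff_invariants h2 hQ (hsq _ (hfo _)) (hsq g hg)).2 ?_
      simp only [hf, Sum.elim_inr]
      exact ⟨(hf2r _).trans (by show 2 * (k - 1 + 1) = _; omega), iff_of_true (hf2a _) ha⟩
    · refine ⟨Sum.inl ⟨(g.1.1 - 1 : Matrix ι ι F).rank - 1, by omega⟩,
        Subtype.ext (ConjClasses.mk_eq_mk_iff_isConj.2 ?_)⟩
      refine (isConj_or_iff_invariants h2 hQ (hsq _ (hfo _)) (hsq g hg)).2 ?_
      simp only [hf, Sum.elim_inl]
      exact ⟨(hf1r _).trans (by show _ - 1 + 1 = _; omega), iff_of_false (hf1a _) ha⟩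

variable (hex : (∃ t : F, t ≠ 0 ∧ t ≠ 1) ∨ Module.finrank F (ι → F) ≠ 4) (hm : 1 ≤ m) (hka : 2 * ka ≤ m)

include hex hm hka

theorem card_omega_classes :
    Nat.card {C : ConjClasses ↥(Cfsg.Omega F (⇑Q)) //
      ∃ g : ↥(Cfsg.Omega F (⇑Q)), ConjClasses.mk g = C ∧ orderOf g = 2} =
      m / 2 + ka + (if 2 * ka = m then 1 else 0) := by
  classical
  obtain ⟨z, hz⟩ : ∃ z : Cfsg.isometryGroup F (⇑Q), z ∉ Cfsg.Omega F (⇑Q) := by
    obtain ⟨g, hg, hgr, -⟩ := hone ⟨0, hm⟩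
    refine ⟨g, fun h => ?_⟩
    have := (mem_omega_iff_even h2 hQ hex hdim g (hg ▸ pow_orderOf_eq_one g)).1 h
    rw [hgr] at this
    simp at this
  choose f1 hf1o hf1r hf1a using hone
  choose f2 hf2o hf2r hf2a using halt
  have hsq : ∀ g : Cfsg.isometryGroup F (⇑Q), orderOf g = 2 → g ^ 2 = 1 := fun g hg => hg ▸ pow_orderOf_eq_one g
  have hidx : ∀ c d : Cfsg.isometryGroup F (⇑Q), c ∉ Cfsg.Omega F (⇑Q) → d ∉ Cfsg.Omega F (⇑Q) →
      c * d ∈ Cfsg.Omega F (⇑Q) := fun c d hc hd => by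
    rw [mem_omega_iff_of_two h2 hQ hex] at hc hd ⊢
    rw [map_mul, Prod.fst_mul, (zmodTwo_cases _).resolve_left hc, (zmodTwo_cases _).resolve_left hd]
    exact zmodTwo_ofAdd_mul
  have hnormal : ∀ c g : Cfsg.isometryGroup F (⇑Q), g ∈ Cfsg.Omega F (⇑Q) → c * g * c⁻¹ ∈ Cfsg.Omega F (⇑Q) :=
    fun c g hg => (inferInstance : (commutator (Cfsg.isometryGroup F (⇑Q))).Normal).conj_mem g hg c
  have hconjΩ : ∀ a b : Cfsg.Omega F (⇑Q), IsConj a b ↔
      ∃ c ∈ Cfsg.Omega F (⇑Q), c * a.1 * c⁻¹ = b.1 := fun a b => by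
    rw [isConj_iff]
    exact ⟨fun ⟨c, hc⟩ => ⟨c.1, c.2, congrArg Subtype.val hc⟩,
      fun ⟨c, hc, h⟩ => ⟨⟨c, hc⟩, Subtype.ext h⟩⟩
  obtain ⟨f, hf⟩ : ∃ f : (Fin (m / 2) ⊕ Fin ka) ⊕ Fin (if 2 * ka = m then 1 else 0) → Cfsg.isometryGroup F (⇑Q),
      f = Sum.elim (Sum.elim (fun i : Fin (m / 2) => f1 ⟨2 * i + 1, by have := i.2; omega⟩) f2)
        (fun j => z * f2 ⟨ka - 1, by
          have := j.2
          split_ifs at this with h
          · omega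
          · omega⟩ * z⁻¹) := ⟨_, rfl⟩
  have hfo : ∀ x, orderOf (f x) = 2 := fun x => by
    rw [hf]; rcases x with (i | k) | j
    · exact hf1o _
    · exact hf2o k
    · simp only [Sum.elim_inr]
      rw [← MulAut.conj_apply z, MulEquiv.orderOf_eq]; exact hf2o _
  have hf2Ω : ∀ k, f2 k ∈ Cfsg.Omega F (⇑Q) := fun k =>
    (mem_omega_iff_even h2 hQ hex hdim _ (hsq _ (hf2o k))).2 (by rw [hf2r]; exact even_two_mul _)
  have hfΩ : ∀ x, f x ∈ Cfsg.Omega F (⇑Q) := fun x => by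
    rw [hf]; rcases x with (i | k) | j
    · simp only [Sum.elim_inl]
      exact (mem_omega_iff_even h2 hQ hex hdim _ (hsq _ (hf1o _))).2
        (by rw [hf1r]; exact ⟨(i : ℕ) + 1, by show 2 * (i : ℕ) + 1 + 1 = _; omega⟩)
    · simp only [Sum.elim_inl, Sum.elim_inr]; exact hf2Ω k
    · simp only [Sum.elim_inr]; exact hnormal z _ (hf2Ω _)
  rw [show m / 2 + ka + (if 2 * ka = m then 1 else 0) =
    Nat.card ((Fin (m / 2) ⊕ Fin ka) ⊕ Fin (if 2 * ka = m then 1 else 0)) by simp]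
  refine (Nat.card_congr (Equiv.ofBijective (fun x => ⟨ConjClasses.mk ⟨f x, hfΩ x⟩, ⟨f x, hfΩ x⟩, rfl,
    by rw [← Subgroup.orderOf_coe]; exact hfo x⟩) ⟨?_, ?_⟩)).symm
  · intro x y h
    obtain ⟨c, hc, hcx⟩ := (hconjΩ _ _).1 (ConjClasses.mk_eq_mk_iff_isConj.1 (congrArg Subtype.val h))
    obtain ⟨hr, ha⟩ := (isConj_or_iff_invariants h2 hQ (hsq _ (hfo x)) (hsq _ (hfo y))).1
      (isConj_iff.2 ⟨c, hcx⟩)
    have hz2 : ∀ k, IsConj (f2 k) (z * f2 k * z⁻¹) := fun k => isConj_iff.2 ⟨z, rfl⟩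
    have hzr : ∀ k, ((z * f2 k * z⁻¹).1.1 - 1 : Matrix ι ι F).rank = 2 * ((k : ℕ) + 1) ∧ QAlt (z * f2 k * z⁻¹) :=
      fun k => by
        obtain ⟨h1, h3⟩ := (isConj_or_iff_invariants h2 hQ (hsq _ (hf2o k)) (hsq _ (by
          rw [← MulAut.conj_apply z, MulEquiv.orderOf_eq]; exact hf2o k))).1 (hz2 k)
        exact ⟨h1 ▸ hf2r k, h3.1 (hf2a k)⟩
    have hsplit : ∀ (k : Fin ka) (c : Cfsg.isometryGroup F (⇑Q)), 2 * ((k : ℕ) + 1) = m →
        c * f2 k * c⁻¹ = z * f2 k * z⁻¹ → c ∉ Cfsg.Omega F (⇑Q) := fun k c hk hck hcΩ => by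
      have hr' : ((f2 k).1.1 - 1 : Matrix ι ι F).rank = m := (hf2r k).trans hk
      exact hz ((conj_mem_omega_iff h2 hQ hex hdim (hsq _ (hf2o k)) rfl hm hr' (hf2a k)).2
        ((conj_mem_omega_iff h2 hQ hex hdim (hsq _ (hf2o k)) hck hm hr' (hf2a k)).1 hcΩ))
    rcases x with (i | k) | j <;> rcases y with (i' | k') | j' <;>
      simp only [hf, Sum.elim_inl, Sum.elim_inr] at hr ha hcx
    · rw [hf1r, hf1r] at hr
      exact congrArg (Sum.inl ∘ Sum.inl) (Fin.ext (by simp only at hr; omega))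
    · exact absurd (ha.2 (hf2a k')) (hf1a _)
    · exact absurd (ha.2 (hzr _).2) (hf1a _)
    · exact absurd (ha.1 (hf2a k)) (hf1a _)
    · rw [hf2r, hf2r] at hr; exact congrArg (Sum.inl ∘ Sum.inr) (Fin.ext (by omega))
    · exfalso
      rw [hf2r, (hzr _).1] at hr
      have hj := j'.2
      split_ifs at hj with hk2
      · simp only at hr
        have hk' : k = ⟨ka - 1, by omega⟩ := Fin.ext (by show (k : ℕ) = ka - 1; omega)
        rw [← hk'] at hcx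
        exact hsplit k c (by rw [hk']; show 2 * (ka - 1 + 1) = m; omega) hcx hc
      · omega
    · exact absurd (ha.1 (hzr _).2) (hf1a _)
    · exfalso
      rw [hf2r, (hzr _).1] at hr
      have hj := j.2
      split_ifs at hj with hk2
      · simp only at hr
        have hk' : k' = ⟨ka - 1, by omega⟩ := Fin.ext (by show (k' : ℕ) = ka - 1; omega)
        rw [← hk'] at hcx
        refine hsplit k' c⁻¹ (by rw [hk']; show 2 * (ka - 1 + 1) = m; omega) ?_ (inv_mem hc)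
        conv_lhs => rw [← hcx]
        simp [mul_assoc]
      · omega
    · have hj := j.2
      have hj' := j'.2
      split_ifs at hj hj' with hk2 <;> exact congrArg Sum.inr (Fin.ext (by omega))
  · rintro ⟨_, ⟨g, hgΩ⟩, rfl, hg⟩
    rw [← Subgroup.orderOf_coe] at hg
    change orderOf g = 2 at hg
    obtain ⟨h1, hle, hev⟩ := or_rank_bound h2 hQ hdim hg
    obtain ⟨k, hk⟩ := (mem_omega_iff_even h2 hQ hex hdim g (hsq g hg)).1 hgΩ
    by_cases ha : QAlt g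
    · have hb := hbd g hg ha
      obtain ⟨k', hk'⟩ : ∃ k' : Fin ka, k' = ⟨k - 1, by omega⟩ := ⟨_, rfl⟩
      have hkr : ((f2 k').1.1 - 1 : Matrix ι ι F).rank = (g.1.1 - 1 : Matrix ι ι F).rank :=
        (hf2r k').trans (by rw [hk']; show 2 * (k - 1 + 1) = _; omega)
      have hconj : IsConj (f2 k') g := (isConj_or_iff_invariants h2 hQ (hsq _ (hf2o k')) (hsq g hg)).2
        ⟨hkr, iff_of_true (hf2a k') ha⟩
      obtain ⟨c, hc⟩ := isConj_iff.1 hconj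
      by_cases hcΩ : c ∈ Cfsg.Omega F (⇑Q)
      · refine ⟨Sum.inl (Sum.inr k'), Subtype.ext (ConjClasses.mk_eq_mk_iff_isConj.2 ((hconjΩ _ _).2 ⟨c, hcΩ, ?_⟩))⟩
        simp only [hf, Sum.elim_inl, Sum.elim_inr]; exact hc
      · by_cases hmax : (g.1.1 - 1 : Matrix ι ι F).rank = m
        · have h2k : 2 * ka = m := by omega
          have hk'' : k' = ⟨ka - 1, by omega⟩ := hk'.trans (Fin.ext (by show k - 1 = ka - 1; omega))
          refine ⟨Sum.inr ⟨0, by rw [if_pos h2k]; exact one_pos⟩, Subtype.ext (ConjClasses.mk_eq_mk_iff_isConj.2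
            ((hconjΩ _ _).2 ⟨c * z⁻¹, hidx c z⁻¹ hcΩ fun h => hz (inv_mem_iff.1 h), ?_⟩))⟩
          simp only [hf, Sum.elim_inr]
          rw [← hk'', ← hc]
          simp [mul_assoc]
        · obtain ⟨d, hd, hdc⟩ := exists_omega_conj h2 hQ hex hdim (hsq _ (hf2o k')) hconj
            fun h => hmax (hkr ▸ h.1)
          refine ⟨Sum.inl (Sum.inr k'), Subtype.ext (ConjClasses.mk_eq_mk_iff_isConj.2 ((hconjΩ _ _).2 ⟨d, hd, ?_⟩))⟩
          simp only [hf, Sum.elim_inl, Sum.elim_inr]; exact hdc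
    · obtain ⟨i, hi⟩ : ∃ i : Fin (m / 2), (i : ℕ) = k - 1 := ⟨⟨k - 1, by omega⟩, rfl⟩
      refine ⟨Sum.inl (Sum.inl i), Subtype.ext (ConjClasses.mk_eq_mk_iff_isConj.2 ((hconjΩ _ _).2 ?_))⟩
      simp only [hf, Sum.elim_inl]
      refine exists_omega_conj h2 hQ hex hdim (hsq _ (hf1o _)) ?_ fun h => hf1a _ h.2
      exact (isConj_or_iff_invariants h2 hQ (hsq _ (hf1o _)) (hsq g hg)).2
        ⟨(hf1r _).trans (by show 2 * (i : ℕ) + 1 + 1 = _; omega), iff_of_false (hf1a _) ha⟩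

end Count

end CfsgLib.Classical.InvTwo
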