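import Mathlib
import Cfsg.Agent.Lib.Classical.InvTwoOrth
import Cfsg.Agent.Lib.Classical.StdQuad

/-!
Involutions of the two standard even dimensional orthogonal groups in characteristic two.
-/

set_option autoImplicit false

namespace CfsgLib.Classical.InvTwo

open Matrix CfsgLib.Geom
open QuadraticMap (polar)

variable {F : Type*} [Field F] [Fintype F] (h2 : (2 : F) = 0)

include h2

omit h2 [Fintype F] in
theorem linearIndependent_of_dual {ι : Type} {s : ℕ} (e : Fin s → ι → F) (c : Fin s → ι)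
    (h : ∀ i j, e i (c j) = if i = j then 1 else 0) : LinearIndependent F e := by
  refine Fintype.linearIndependent_iff.2 fun a ha j => ?_
  have := congrFun ha (c j)
  simpa [Finset.sum_apply, h] using this

omit h2 [Fintype F] in
theorem sq_of_order {G : Type*} [Monoid G] {g : G} (hg : orderOf g = 2) : g ^ 2 = 1 := by
  have := pow_orderOf_eq_one g
  rwa [hg] at this

section Plus

variable {m : ℕ}

theorem plus_exists_one (i : Fin m) : ∃ g : Cfsg.isometryGroup F (⇑(qfPlus m F)), orderOf g = 2 ∧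
    (g.1.1 - 1 : Matrix _ _ F).rank = (i : ℕ) + 1 ∧ ¬ QAlt g := by
  obtain ⟨e, he⟩ : ∃ e : Fin ((i : ℕ) + 1) → Fin m ⊕ Fin m → F, ∀ k,
      e k = Pi.single (Sum.inl (Fin.castLE i.2 k)) 1 + Pi.single (Sum.inr (Fin.castLE i.2 k)) 1 := ⟨_, fun k => rfl⟩
  have hei : IsoTuple (qfPlus m F).polarBilin e := by
    refine ⟨linearIndependent_of_dual e (fun k => Sum.inl (Fin.castLE i.2 k)) fun k l => ?_, fun k l => ?_⟩
    · simp [he, Pi.single_apply, eq_comm]
    · rw [QuadraticMap.polarBilin_apply_apply, he, he, polar_qfPlus]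
      rcases eq_or_ne k l with rfl | hkl
      · simp [Pi.single_apply, ← two_mul, h2]
      · simp [Pi.single_apply, Finset.sum_add_distrib, hkl, Ne.symm hkl]
  obtain ⟨g, h1, h3, h4⟩ := exists_or_invol h2 (qfPlus_sep m) (Nat.succ_pos _) hei transpose_one isUnit_one
    (Or.inl rfl) fun k => by rw [qfPlus_apply, he, Cfsg.quadFormPlus]; simp [Pi.single_apply]
  exact ⟨g, h1, h3, fun h => by simpa using h4.1 h 0⟩

theorem plus_exists_alt (k : Fin (m / 2)) : ∃ g : Cfsg.isometryGroup F (⇑(qfPlus m F)), orderOf g = 2 ∧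
    (g.1.1 - 1 : Matrix _ _ F).rank = 2 * ((k : ℕ) + 1) ∧ QAlt g := by
  obtain ⟨S, hS, hu, hd⟩ := exists_alt (F := F) h2 ((k : ℕ) + 1)
  have hle : 2 * ((k : ℕ) + 1) ≤ m := by have := k.2; omega
  obtain ⟨e, he⟩ : ∃ e : Fin (2 * ((k : ℕ) + 1)) → Fin m ⊕ Fin m → F, ∀ j,
      e j = Pi.single (Sum.inl (Fin.castLE hle j)) 1 := ⟨_, fun j => rfl⟩
  have hei : IsoTuple (qfPlus m F).polarBilin e := by
    refine ⟨linearIndependent_of_dual e (fun j => Sum.inl (Fin.castLE hle j)) fun a b => ?_, fun a b => ?_⟩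
    · simp [he, Pi.single_apply, eq_comm]
    · rw [QuadraticMap.polarBilin_apply_apply, he, he, polar_qfPlus]
      simp [Pi.single_apply]
  obtain ⟨g, h1, h3, h4⟩ := exists_or_invol h2 (qfPlus_sep m) (by omega) hei hS hu (Or.inr hd) fun j => by
    rw [qfPlus_apply, he, Cfsg.quadFormPlus, hd]; simp [Pi.single_apply]
  exact ⟨g, h1, h3, h4.2 hd⟩

theorem plus_bound (g : Cfsg.isometryGroup F (⇑(qfPlus m F))) (hg : orderOf g = 2) (ha : QAlt g) :
    (g.1.1 - 1 : Matrix _ _ F).rank ≤ 2 * (m / 2) := by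
  obtain ⟨-, hle, hev⟩ := or_rank_bound (m := m) h2 (qfPlus_sep m) (by simp; omega) hg
  obtain ⟨k, hk⟩ := hev ha
  omega

theorem card_classes_plus : Nat.card {C : ConjClasses ↥(Cfsg.isometryGroup F (⇑(qfPlus m F))) //
    ∃ g : ↥(Cfsg.isometryGroup F (⇑(qfPlus m F))), ConjClasses.mk g = C ∧ orderOf g = 2} = m + m / 2 :=
  card_or_classes (m := m) h2 (qfPlus_sep m) (by simp; omega) (plus_exists_one h2) (plus_exists_alt h2) (plus_bound h2)

theorem card_omega_classes_plus (hm : 1 ≤ m) (h : Fintype.card F ≠ 2 ∨ m ≠ 2) :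
    Nat.card {C : ConjClasses ↥(Cfsg.Omega F (⇑(qfPlus m F))) //
      ∃ g : ↥(Cfsg.Omega F (⇑(qfPlus m F))), ConjClasses.mk g = C ∧ orderOf g = 2} =
      2 * (m / 2) + (if Even m then 1 else 0) := by
  rw [card_omega_classes (m := m) h2 (qfPlus_sep m) (by simp; omega) (plus_exists_one h2) (plus_exists_alt h2)
    (plus_bound h2) (exGen_of_card (h.imp id fun h => by simp; omega)) hm (Nat.mul_div_le m 2)]
  have : 2 * (m / 2) = m ↔ Even m := by rw [Nat.even_iff]; omega
  split_ifs <;> first | omega | tauto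

end Plus

section Minus

variable {n : ℕ} {a b : F} (hab : ∀ z₁ z₂ : F, z₁ ^ 2 + a * z₁ * z₂ + b * z₂ ^ 2 = 0 → z₁ = 0 ∧ z₂ = 0)

include hab

omit h2 [Fintype F] in
/-- A totally singular subspace has dimension at most the Witt index. -/
theorem minus_ts_le (R : Submodule F ((Fin n ⊕ Fin n) ⊕ Fin 2 → F)) (hR : ∀ y ∈ R, qfMinus n F a b y = 0) :
    Module.finrank F R ≤ n := by
  obtain ⟨φ, hφ⟩ : ∃ φ : R →ₗ[F] (Fin n → F), ∀ y : R, ∀ i, φ y i = y.1 (.inl (.inr i)) :=
    ⟨LinearMap.pi fun i => (LinearMap.proj (.inl (.inr i))).comp R.subtype, fun _ _ => rfl⟩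
  obtain ⟨ψ, hψ⟩ : ∃ ψ : LinearMap.ker φ →ₗ[F] (Fin n → F), ∀ y : LinearMap.ker φ, ∀ i, ψ y i = y.1.1 (.inl (.inl i)) :=
    ⟨LinearMap.pi fun i => (LinearMap.proj (.inl (.inl i))).comp (R.subtype.comp (LinearMap.ker φ).subtype),
      fun _ _ => rfl⟩
  have hy0 : ∀ y : LinearMap.ker φ, (∀ i, y.1.1 (.inl (.inr i)) = 0) ∧ y.1.1 (.inr 0) = 0 ∧ y.1.1 (.inr 1) = 0 := by
    intro y
    have hy : ∀ i, y.1.1 (.inl (.inr i)) = 0 := fun i => by rw [← hφ]; exact congrFun y.2 i
    have := hR y.1.1 y.1.2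
    rw [qfMinus_apply, Cfsg.quadFormMinus, Finset.sum_eq_zero fun i _ => by rw [hy, mul_zero], zero_add] at this
    exact ⟨hy, hab _ _ this⟩
  have hψi : Function.Injective ψ := fun u v huv => by
    rw [← sub_eq_zero]
    have hy : ψ (u - v) = 0 := by
      refine (LinearMap.map_sub ψ u v).trans ?_
      rw [huv, sub_self]
    generalize u - v = y at hy ⊢
    obtain ⟨h1, h3, h4⟩ := hy0 y
    refine Subtype.ext (Subtype.ext (funext fun k => ?_))
    rcases k with (i | i) | i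
    · rw [← hψ, hy]; rfl
    · exact h1 i
    · fin_cases i
      · exact h3
      · exact h4
  let J := (LinearEquiv.sumArrowLequivProdArrow (Fin n) (Fin n) F F).symm
  let T : (LinearMap.range ψ × LinearMap.range φ) →ₗ[F] (Fin n ⊕ Fin n → F) :=
    J.toLinearMap.comp ((LinearMap.range ψ).subtype.prodMap (LinearMap.range φ).subtype)
  have hT : Function.Injective T :=
    J.injective.comp (Prod.map_injective.2 ⟨Subtype.val_injective, Subtype.val_injective⟩)
  have hpol : ∀ u v : LinearMap.range ψ × LinearMap.range φ, polar (qfPlus n F) (T u) (T v) = 0 := by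
    have key : ∀ (u : LinearMap.range ψ) (w : LinearMap.range φ), ∑ i, u.1 i * w.1 i = 0 := by
      rintro ⟨_, y, rfl⟩ ⟨_, z, rfl⟩
      have h := polar_eq_zero_of_ts _ hR y.1.2 z.2
      rw [polar_qfMinus, (hy0 y).2.1, (hy0 y).2.2, zero_mul, zero_mul, add_zero, add_zero] at h
      rw [← h]
      refine Finset.sum_congr rfl fun i _ => ?_
      show ψ y i * φ z i = _
      rw [hψ, hφ, (hy0 y).1, mul_zero, add_zero]
    intro u v
    rw [polar_qfPlus, Finset.sum_add_distrib]
    show ∑ i, u.1.1 i * v.2.1 i + ∑ i, v.1.1 i * u.2.1 i = 0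
    rw [key, key, add_zero]
  obtain ⟨d, hd⟩ : ∃ d, d = Module.finrank F (LinearMap.range T) := ⟨_, rfl⟩
  have hle := two_mul_le (B := (qfPlus n F).polarBilin) (fun x hx => qfPlus_sep n x hx)
    (e := fun i => ((Module.finBasisOfFinrankEq F (LinearMap.range T) hd.symm) i : Fin n ⊕ Fin n → F))
    ⟨(Module.finBasisOfFinrankEq F (LinearMap.range T) hd.symm).linearIndependent.map'
      _ (Submodule.ker_subtype _), fun i j => by
        obtain ⟨u, hu⟩ := (Module.finBasisOfFinrankEq F (LinearMap.range T) hd.symm i).2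
        obtain ⟨v, hv⟩ := (Module.finBasisOfFinrankEq F (LinearMap.range T) hd.symm j).2
        rw [QuadraticMap.polarBilin_apply_apply, ← hu, ← hv]
        exact hpol u v⟩
  rw [LinearMap.finrank_range_of_inj hT, Module.finrank_prod, LinearMap.finrank_range_of_inj hψi] at hd
  have h1 := φ.finrank_range_add_finrank_ker
  rw [Module.finrank_fintype_fun_eq_card, Fintype.card_sum, Fintype.card_fin] at hle
  omega

theorem minus_exists_one (i : Fin (n + 1)) : ∃ g : Cfsg.isometryGroup F (⇑(qfMinus n F a b)), orderOf g = 2 ∧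
    (g.1.1 - 1 : Matrix _ _ F).rank = (i : ℕ) + 1 ∧ ¬ QAlt g := by
  obtain ⟨u, hu⟩ : ∃ u : Fin n → ((Fin n ⊕ Fin n) ⊕ Fin 2 → F), ∀ k,
      u k = Pi.single (Sum.inl (Sum.inl k) : (Fin n ⊕ Fin n) ⊕ Fin 2) (1 : F) +
        Pi.single (Sum.inl (Sum.inr k) : (Fin n ⊕ Fin n) ⊕ Fin 2) (1 : F) := ⟨_, fun k => rfl⟩
  obtain ⟨f, hf⟩ : ∃ f : Fin (n + 1) → ((Fin n ⊕ Fin n) ⊕ Fin 2 → F), f = Fin.snoc u (Pi.single (.inr 0) 1) :=
    ⟨_, rfl⟩
  have hfi : IsoTuple (qfMinus n F a b).polarBilin f := by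
    refine ⟨linearIndependent_of_dual f (Fin.lastCases (.inr 0) fun k => .inl (.inl k)) fun k l => ?_, fun k l => ?_⟩
    · induction k using Fin.lastCases with
      | last =>
        induction l using Fin.lastCases with
        | last => simp [hf]
        | cast l => simp [hf, (Fin.castSucc_ne_last l).symm]
      | cast k => induction l using Fin.lastCases <;> simp [hf, hu, Pi.single_apply, Fin.castSucc_ne_last, eq_comm]
    · rw [QuadraticMap.polarBilin_apply_apply]
      induction k using Fin.lastCases with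
      | last => induction l using Fin.lastCases <;> simp [hf, hu, polar_qfMinus, Pi.single_apply, h2]
      | cast k =>
        induction l using Fin.lastCases with
        | last => simp [hf, hu, polar_qfMinus, Pi.single_apply]
        | cast l =>
          rcases eq_or_ne k l with rfl | hkl
          · simp [hf, hu, h2]
          · simp [hf, hu, polar_qfMinus, Pi.single_apply, hkl, Ne.symm hkl]
  have hfv : ∀ k, qfMinus n F a b (f k) = 1 := fun k => by
    rw [qfMinus_apply, Cfsg.quadFormMinus]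
    induction k using Fin.lastCases <;> simp [hf, hu, Pi.single_apply]
  obtain ⟨g, h1, h3, h4⟩ := exists_or_invol h2 (qfMinus_sep n hab) (Nat.succ_pos (i : ℕ))
    (e := f ∘ Fin.castLE i.2)
    ⟨hfi.indep.comp _ (Fin.castLE_injective _), fun k l => hfi.iso _ _⟩ transpose_one isUnit_one
    (Or.inl rfl) fun k => by rw [Function.comp_apply, hfv]; simp
  exact ⟨g, h1, h3, fun h => by simpa using h4.1 h 0⟩

theorem minus_exists_alt (k : Fin (n / 2)) : ∃ g : Cfsg.isometryGroup F (⇑(qfMinus n F a b)), orderOf g = 2 ∧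
    (g.1.1 - 1 : Matrix _ _ F).rank = 2 * ((k : ℕ) + 1) ∧ QAlt g := by
  obtain ⟨S, hS, hu, hd⟩ := exists_alt (F := F) h2 ((k : ℕ) + 1)
  have hle : 2 * ((k : ℕ) + 1) ≤ n := by have := k.2; omega
  obtain ⟨e, he⟩ : ∃ e : Fin (2 * ((k : ℕ) + 1)) → ((Fin n ⊕ Fin n) ⊕ Fin 2 → F), ∀ j,
      e j = Pi.single (.inl (.inl (Fin.castLE hle j))) 1 := ⟨_, fun j => rfl⟩
  have hei : IsoTuple (qfMinus n F a b).polarBilin e := by
    refine ⟨linearIndependent_of_dual e (fun j => .inl (.inl (Fin.castLE hle j))) fun u v => ?_, fun u v => ?_⟩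
    · simp [he, Pi.single_apply, eq_comm]
    · rw [QuadraticMap.polarBilin_apply_apply, he, he, polar_qfMinus]
      simp [Pi.single_apply]
  obtain ⟨g, h1, h3, h4⟩ := exists_or_invol h2 (qfMinus_sep n hab) (by omega) hei hS hu (Or.inr hd) fun j => by
    rw [qfMinus_apply, he, Cfsg.quadFormMinus, hd]; simp [Pi.single_apply]
  exact ⟨g, h1, h3, h4.2 hd⟩

theorem minus_bound (g : Cfsg.isometryGroup F (⇑(qfMinus n F a b))) (hg : g ^ 2 = 1) (ha : QAlt g) :
    (g.1.1 - 1 : Matrix _ _ F).rank ≤ 2 * (n / 2) := by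
  obtain ⟨s, e, S, D⟩ := exists_qdata _ h2 (qfMinus_sep n hab) (qIsom_mem g) (qIsom_invol hg)
  obtain ⟨r1, a1⟩ := qdata_rank _ h2 (qfMinus_sep n hab) D
  have hd : ∀ i, S i i = 0 := a1.1 ((qalt_iff h2 g).1 ha)
  have hts : ∀ y ∈ Submodule.span F (Set.range e), qfMinus n F a b y = 0 := fun y hy => by
    obtain ⟨c, rfl⟩ := (Submodule.mem_span_range_iff_exists_fun F).1 hy
    rw [quad_comb _ D.tuple.iso, Finset.sum_eq_zero fun i _ => by rw [D.value, hd, mul_zero]]
  have h1 := minus_ts_le hab _ hts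
  rw [finrank_span_eq_card D.tuple.indep, Fintype.card_fin] at h1
  rw [qrank_eq, r1]
  obtain ⟨k, hk⟩ := even_of_alt h2 D.symm D.unit hd
  omega

theorem card_classes_minus : Nat.card {C : ConjClasses ↥(Cfsg.isometryGroup F (⇑(qfMinus n F a b))) //
    ∃ g : ↥(Cfsg.isometryGroup F (⇑(qfMinus n F a b))), ConjClasses.mk g = C ∧ orderOf g = 2} = n + 1 + n / 2 :=
  card_or_classes (m := n + 1) h2 (qfMinus_sep n hab) (by simp; omega) (minus_exists_one h2 hab)
    (minus_exists_alt h2 hab) fun g hg => minus_bound h2 hab g (sq_of_order hg)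

theorem card_omega_classes_minus (hex : (∃ t : F, t ≠ 0 ∧ t ≠ 1) ∨
    Module.finrank F ((Fin n ⊕ Fin n) ⊕ Fin 2 → F) ≠ 4) :
    Nat.card {C : ConjClasses ↥(Cfsg.Omega F (⇑(qfMinus n F a b))) //
      ∃ g : ↥(Cfsg.Omega F (⇑(qfMinus n F a b))), ConjClasses.mk g = C ∧ orderOf g = 2} = (n + 1) / 2 + n / 2 := by
  rw [card_omega_classes (m := n + 1) h2 (qfMinus_sep n hab) (by simp; omega) (minus_exists_one h2 hab)
    (minus_exists_alt h2 hab) (fun g hg => minus_bound h2 hab g (sq_of_order hg)) hex (Nat.succ_pos n)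
    (by omega)]
  rw [if_neg (by omega), add_zero]

end Minus

end CfsgLib.Classical.InvTwo
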