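import Mathlib
import Cfsg.Agent.Lib.Classical.InvTwoBase
import Cfsg.Agent.Lib.Classical.InvTwoAut
import Cfsg.Agent.Lib.Classical.InvTwoForms
import Cfsg.Agent.Lib.Classical.OrthOrder
import Cfsg.Agent.Lib.KnownC.AutPOmegaEvenClass

/-!
Pointwise stabilisers of totally isotropic tuples in orthogonal groups in characteristic two.
-/

set_option autoImplicit false

namespace CfsgLib.Classical.InvTwo

open Matrix CfsgLib.Geom CfsgLib.Classical CfsgLib.KnownC
open QuadraticMap (polar)

universe u v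

variable {F : Type u} [Field F]

theorem finrank_inf_ker_add_one {V : Type v} [AddCommGroup V] [Module F V] [FiniteDimensional F V]
    (S : Submodule F V) (φ : V →ₗ[F] F) :
    Module.finrank F S ≤ Module.finrank F (S ⊓ LinearMap.ker φ : Submodule F V) + 1 := by
  have h1 := Submodule.finrank_sup_add_finrank_inf_eq S (LinearMap.ker φ)
  have h2 := φ.finrank_range_add_finrank_ker
  have h3 := (Submodule.finrank_le (LinearMap.range φ)).trans_eq (Module.finrank_self F)
  have h4 := Submodule.finrank_le (S ⊔ LinearMap.ker φ)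
  omega

theorem polar_restrict {V : Type v} [AddCommGroup V] [Module F V] (Q : QuadraticForm F V) (P : Submodule F V)
    (x y : P) : polar (Q.comp P.subtype) x y = polar Q (x : V) (y : V) := by
  simp [QuadraticMap.polar]

section Step

variable [Fintype F] {V : Type v} [AddCommGroup V] [Module F V] [FiniteDimensional F V]
  (Q : QuadraticForm F V) (h2 : (2 : F) = 0) (hQ : ∀ x, (∀ y, polar Q x y = 0) → x = 0)

include h2

omit [Fintype F] [FiniteDimensional F V] in
theorem polar_self_zero (x : V) : polar Q x x = 0 := by rw [polar_self_two, h2, zero_mul]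

include hQ

/-- Removing a singular vector from the tuple. -/
theorem fix_step {r : ℕ} (e0 : V) (t : Fin r → V) (he : IsoTuple Q.polarBilin (Fin.cons e0 t)) (h0 : Q e0 = 0) :
    ∃ P : Submodule F V, ∃ t' : Fin r → P, (∀ i, (t' i : V) = t i) ∧
      Module.finrank F P + 2 = Module.finrank F V ∧
      (∀ x : P, (∀ y : P, polar (Q.comp P.subtype) x y = 0) → x = 0) ∧
      IsoTuple (Q.comp P.subtype).polarBilin t' ∧
      (∀ R : Submodule F V, (∀ x ∈ R, Q x = 0) → ∃ R' : Submodule F P,
        Module.finrank F R ≤ Module.finrank F R' + 1 ∧ ∀ x ∈ R', (Q.comp P.subtype) x = 0) ∧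
      Nat.card (fixingIn (quadIsoms Q) (Submodule.span F (Set.range (Fin.cons e0 t : Fin (r + 1) → V)))) =
        Fintype.card F ^ (Module.finrank F V - r - 2) *
          Nat.card (fixingIn (quadIsoms (Q.comp P.subtype)) (Submodule.span F (Set.range t'))) := by
  classical
  have hB : ∀ x, (∀ y, Q.polarBilin x y = 0) → x = 0 := fun x hx => hQ x hx
  obtain ⟨C, hC⟩ : ∃ C, C = co Q.polarBilin (Fin.cons e0 t : Fin (r + 1) → V) := ⟨_, rfl⟩
  have hC0 : ∀ v, C v 0 = polar Q e0 v := fun v => by rw [hC, co_apply, Fin.cons_zero]; rfl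
  have hCs : ∀ v i, C v (Fin.succ i) = polar Q (t i) v := fun v i => by rw [hC, co_apply, Fin.cons_succ]; rfl
  have hee : ∀ i, polar Q e0 (t i) = 0 := fun i => by simpa using he.iso 0 i.succ
  have htt : ∀ i j, polar Q (t i) (t j) = 0 := fun i j => by simpa using he.iso i.succ j.succ
  -- a partner of `e0`
  obtain ⟨f0, hf0⟩ := (hC ▸ co_surjective hB he.indep : Function.Surjective C) (Pi.single 0 1)
  have hshift : ∀ v : V, polar Q e0 v = 1 → (∀ i, polar Q (t i) v = 0) → ∀ c : F,
      polar Q e0 (v + c • e0) = 1 ∧ (∀ i, polar Q (t i) (v + c • e0) = 0) ∧ Q (v + c • e0) = Q v + c := by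
    intro v h1 h3 c
    refine ⟨?_, fun i => ?_, ?_⟩
    · rw [QuadraticMap.polar_add_right, QuadraticMap.polar_smul_right, polar_self_zero Q h2, smul_zero, add_zero, h1]
    · rw [QuadraticMap.polar_add_right, QuadraticMap.polar_smul_right, QuadraticMap.polar_comm Q _ e0, hee, smul_zero,
        add_zero, h3]
    · rw [QuadraticMap.map_add Q, QuadraticMap.map_smul, h0, smul_zero, add_zero, QuadraticMap.polar_smul_right,
        QuadraticMap.polar_comm Q v, h1, smul_eq_mul, mul_one]
  have hCiff : ∀ v, C v = Pi.single 0 1 ↔ polar Q e0 v = 1 ∧ ∀ i, polar Q (t i) v = 0 := by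
    intro v
    rw [funext_iff, Fin.forall_fin_succ, hC0]
    simp only [hCs, Pi.single_eq_same, Pi.single_eq_of_ne (Fin.succ_ne_zero _)]
  obtain ⟨f, hf1, hf2, hf3⟩ : ∃ f, polar Q e0 f = 1 ∧ (∀ i, polar Q (t i) f = 0) ∧ Q f = 0 := by
    obtain ⟨a, b, c⟩ := hshift f0 ((hCiff f0).1 hf0).1 ((hCiff f0).1 hf0).2 (-(Q f0))
    exact ⟨_, a, b, c.trans (add_neg_cancel _)⟩
  obtain ⟨P, hP⟩ : ∃ P, P = LinearMap.ker (Q.polarBilin e0) ⊓ LinearMap.ker (Q.polarBilin f) := ⟨_, rfl⟩
  have hPm : ∀ x, x ∈ P ↔ polar Q e0 x = 0 ∧ polar Q f x = 0 := fun x => by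
    rw [hP, Submodule.mem_inf, LinearMap.mem_ker, LinearMap.mem_ker]; rfl
  obtain ⟨W, hW⟩ : ∃ W, W = Submodule.span F ({e0, f} : Set V) := ⟨_, rfl⟩
  have hcomb : ∀ a b : F, polar Q e0 (a • e0 + b • f) = b ∧ polar Q f (a • e0 + b • f) = a := by
    intro a b
    simp [QuadraticMap.polar_add_right, QuadraticMap.polar_smul_right, polar_self_zero Q h2, hf1,
      QuadraticMap.polar_comm Q f e0]
  have hdec : ∀ v, v - (polar Q f v • e0 + polar Q e0 v • f) ∈ P := fun v => by
    rw [hPm, QuadraticMap.polar_sub_right, QuadraticMap.polar_sub_right, (hcomb _ _).1, (hcomb _ _).2, sub_self,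
      sub_self]
    exact ⟨rfl, rfl⟩
  have hcompl : IsCompl W P := by
    refine IsCompl.of_eq ((Submodule.eq_bot_iff _).2 fun x hx => ?_) (eq_top_iff.2 fun v _ => ?_)
    · rw [Submodule.mem_inf, hW, Submodule.mem_span_pair] at hx
      obtain ⟨⟨a, b, rfl⟩, hx2⟩ := hx
      rw [hPm, (hcomb a b).1, (hcomb a b).2] at hx2
      rw [hx2.1, hx2.2, zero_smul, zero_smul, add_zero]
    · refine Submodule.mem_sup.2 ⟨_, ?_, _, hdec v, add_sub_cancel _ _⟩
      rw [hW]; exact Submodule.mem_span_pair.2 ⟨_, _, rfl⟩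
  have hfin : Module.finrank F P + 2 = Module.finrank F V := by
    rw [← Submodule.finrank_add_eq_of_isCompl hcompl, add_comm]
    congr 1
    have hli : LinearIndependent F ![e0, f] := LinearIndependent.pair_iff.2 fun a b hab => by
      have := hcomb a b
      rw [hab, QuadraticMap.polar_zero_right, QuadraticMap.polar_zero_right] at this
      exact ⟨this.2.symm, this.1.symm⟩
    rw [hW, show ({e0, f} : Set V) = Set.range ![e0, f] by simp [Matrix.range_cons, Set.pair_comm],
      finrank_span_eq_card hli, Fintype.card_fin]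
  have htP : ∀ i, t i ∈ P := fun i => (hPm _).2 ⟨hee i, by rw [QuadraticMap.polar_comm]; exact hf2 i⟩
  obtain ⟨t', ht'⟩ : ∃ t' : Fin r → P, ∀ i, (t' i : V) = t i := ⟨fun i => ⟨t i, htP i⟩, fun i => rfl⟩
  have hsepP : ∀ x : P, (∀ y : P, polar (Q.comp P.subtype) x y = 0) → x = 0 := by
    intro x hx
    refine Subtype.ext (hQ _ fun y => ?_)
    have h := hx ⟨_, hdec y⟩
    rw [polar_restrict] at h
    simp only [QuadraticMap.polar_sub_right, QuadraticMap.polar_add_right,
      QuadraticMap.polar_smul_right] at h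
    have h1 := ((hPm _).1 x.2).1
    have h3 := ((hPm _).1 x.2).2
    rw [QuadraticMap.polar_comm Q _ e0, QuadraticMap.polar_comm Q _ f, h1, h3, smul_zero, smul_zero, add_zero,
      sub_zero] at h
    exact h
  have hiso : IsoTuple (Q.comp P.subtype).polarBilin t' := by
    refine ⟨LinearIndependent.of_comp P.subtype ?_, fun i j => ?_⟩
    · rw [show P.subtype ∘ t' = t from funext ht']
      exact (linearIndependent_finCons.1 he.indep).1
    · rw [QuadraticMap.polarBilin_apply_apply, polar_restrict]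
      simpa [ht'] using htt i j
  refine ⟨P, t', ht', hfin, hsepP, hiso, fun R hR => ?_, ?_⟩
  · -- totally singular subspaces
    have hRb : ∀ x ∈ R, ∀ y ∈ R, polar Q x y = 0 := fun x hx y hy => polar_eq_zero_of_ts Q hR hx hy
    obtain ⟨S, hS⟩ : ∃ S, S = (R ⊓ LinearMap.ker (Q.polarBilin e0)) ⊔ Submodule.span F {e0} := ⟨_, rfl⟩
    have hSts : ∀ x ∈ S, Q x = 0 ∧ polar Q e0 x = 0 := by
      intro x hx
      rw [hS, Submodule.mem_sup] at hx
      obtain ⟨a, ha, b, hb, rfl⟩ := hx
      obtain ⟨c, rfl⟩ := Submodule.mem_span_singleton.1 hb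
      have ha0 : polar Q e0 a = 0 := ha.2
      constructor
      · rw [QuadraticMap.map_add Q, QuadraticMap.map_smul, h0, hR a ha.1, QuadraticMap.polar_smul_right,
          QuadraticMap.polar_comm Q a, ha0]
        simp
      · rw [QuadraticMap.polar_add_right, QuadraticMap.polar_smul_right, ha0, polar_self_zero Q h2]
        simp
    have hle : Module.finrank F R ≤ Module.finrank F S := by
      by_cases hmem : e0 ∈ R
      · refine Submodule.finrank_mono fun x hx => ?_
        rw [hS]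
        exact Submodule.mem_sup_left ⟨hx, hRb e0 hmem x hx⟩
      · refine (finrank_inf_ker_add_one R (Q.polarBilin e0)).trans ?_
        have hlt : R ⊓ LinearMap.ker (Q.polarBilin e0) < S := by
          refine lt_of_le_of_ne (hS ▸ le_sup_left) fun h => hmem ?_
          have : e0 ∈ S := hS ▸ Submodule.mem_sup_right (Submodule.mem_span_singleton_self e0)
          rw [← h] at this
          exact this.1
        exact Submodule.finrank_lt_finrank_of_lt hlt
    refine ⟨(S ⊓ LinearMap.ker (Q.polarBilin f)).comap P.subtype, ?_, fun x hx => (hSts _ hx.1).1⟩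
    rw [LinearEquiv.finrank_eq (Submodule.comapSubtypeEquivOfLe fun x hx => ?_)]
    · exact hle.trans (finrank_inf_ker_add_one S _)
    · exact (hPm x).2 ⟨(hSts x hx.1).2, hx.2⟩
  -- the count
  obtain ⟨w, hw⟩ : ∃ w, w = (Fin.cons e0 t : Fin (r + 1) → V) := ⟨_, rfl⟩
  rw [← hw]
  obtain ⟨H, hH⟩ : ∃ H, H = fixingIn (quadIsoms Q) (Submodule.span F (Set.range w)) := ⟨_, rfl⟩
  have hfix : ∀ g : V ≃ₗ[F] V, g ∈ H ↔ g ∈ quadIsoms Q ∧ g e0 = e0 ∧ ∀ i, g (t i) = t i := by
    intro g
    rw [hH, mem_fixingIn]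
    refine and_congr_right fun _ => ⟨fun h => ⟨h _ (Submodule.subset_span ⟨0, by rw [hw, Fin.cons_zero]⟩),
      fun i => h _ (Submodule.subset_span ⟨i.succ, by rw [hw, Fin.cons_succ]⟩)⟩, fun h x hx => ?_⟩
    obtain ⟨c, rfl⟩ := (Submodule.mem_span_range_iff_exists_fun F).1 hx
    rw [map_sum]
    refine Finset.sum_congr rfl fun i _ => ?_
    rw [map_smul, hw]
    refine congrArg (c i • ·) ?_
    refine Fin.cases ?_ (fun j => ?_) i
    · rw [Fin.cons_zero]; exact h.1
    · rw [Fin.cons_succ]; exact h.2 j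
  rw [← hH, card_eq_orbit_mul_fixing_one H f]
  congr 1
  · have horb : ∀ v, (∃ g ∈ H, g f = v) ↔ (polar Q e0 v = 1 ∧ ∀ i, polar Q (t i) v = 0) ∧ Q v = 0 := by
      intro v
      constructor
      · rintro ⟨g, hg, rfl⟩
        obtain ⟨hg1, hg2, hg3⟩ := (hfix g).1 hg
        refine ⟨⟨?_, fun i => ?_⟩, (hg1 f).trans hf3⟩
        · rw [← hf1, ← polar_quadIsom hg1 e0 f, hg2]
        · rw [← hf2 i, ← polar_quadIsom hg1 (t i) f, hg3]
      · rintro ⟨⟨hv1, hv2⟩, hv3⟩
        have hli : ∀ u : V, polar Q e0 u = 1 → LinearIndependent F (Fin.cons u w : Fin (r + 2) → V) := by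
          intro u hu
          refine linearIndependent_finCons.2 ⟨hw ▸ he.indep, fun hmem => ?_⟩
          obtain ⟨c, rfl⟩ := (Submodule.mem_span_range_iff_exists_fun F).1 hmem
          rw [← QuadraticMap.polarBilin_apply_apply, map_sum] at hu
          refine one_ne_zero (hu.symm.trans (Finset.sum_eq_zero fun i _ => ?_))
          rw [map_smul, show e0 = w 0 by rw [hw, Fin.cons_zero], hw, he.iso, smul_zero]
        have hval : ∀ u : V, polar Q e0 u = 1 → (∀ i, polar Q (t i) u = 0) → Q u = 0 → ∀ c : Fin (r + 2) → F,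
            Q (∑ i, c i • (Fin.cons u w : Fin (r + 2) → V) i) = Q (∑ i : Fin (r + 1), c i.succ • w i) + c 0 * c 1 := by
          intro u hu1 hu2 hu3 c
          rw [Fin.sum_univ_succ, Fin.cons_zero, QuadraticMap.map_add Q, QuadraticMap.map_smul, hu3, smul_zero,
            zero_add]
          simp only [Fin.cons_succ]
          congr 1
          rw [QuadraticMap.polar_smul_left, smul_eq_mul, ← QuadraticMap.polarBilin_apply_apply, map_sum,
            Fin.sum_univ_succ, Finset.sum_eq_zero fun i _ => ?_]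
          · rw [map_smul, hw, Fin.cons_zero, QuadraticMap.polarBilin_apply_apply, QuadraticMap.polar_comm, hu1,
              smul_eq_mul, mul_one, add_zero, Fin.succ_zero_eq_one]
          · rw [map_smul, hw, Fin.cons_succ, QuadraticMap.polarBilin_apply_apply, QuadraticMap.polar_comm, hu2,
              smul_zero]
        obtain ⟨φ, hφ, hφc⟩ := exists_tuple_map (hli f hf1) (hli v hv1)
        obtain ⟨g, hg, hgX⟩ := witt_quadratic Q hQ _ φ hφ fun x => by
          obtain ⟨c, hc⟩ := (Submodule.mem_span_range_iff_exists_fun F).1 x.2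
          rw [hφc c x hc.symm, ← hc, hval v hv1 hv2 hv3, hval f hf1 hf2 hf3]
        have hg' : ∀ i, g ((Fin.cons f w : Fin (r + 2) → V) i) = (Fin.cons v w : Fin (r + 2) → V) i := fun i => by
          rw [hgX ⟨_, Submodule.subset_span ⟨i, rfl⟩⟩, hφc (Pi.single i 1) _ (by simp [Pi.single_apply])]
          simp [Pi.single_apply]
        refine ⟨g, (hfix g).2 ⟨hg, ?_, fun i => ?_⟩, by simpa using hg' 0⟩
        · simpa [hw] using hg' (Fin.succ 0)
        · simpa [hw] using hg' (Fin.succ i.succ)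
    rw [Nat.card_congr (Equiv.subtypeEquivRight horb)]
    have hker : Nat.card (LinearMap.ker C) = Fintype.card F ^ (Module.finrank F V - r - 1) := by
      rw [Module.natCard_eq_pow_finrank (K := F), Nat.card_eq_fintype_card]
      congr 1
      have h1 := C.finrank_range_add_finrank_ker
      rw [LinearMap.range_eq_top.2 (hC ▸ co_surjective hB he.indep), finrank_top, Module.finrank_fin_fun] at h1
      omega
    have hN : r + 2 ≤ Module.finrank F V := by
      have := two_mul_le hB he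
      omega
    refine Nat.eq_of_mul_eq_mul_right (Fintype.card_pos : 0 < Fintype.card F) ?_
    rw [← pow_succ, show Module.finrank F V - r - 2 + 1 = Module.finrank F V - r - 1 by omega, ← hker]
    conv_lhs => rw [← Nat.card_eq_fintype_card (α := F), ← Nat.card_prod]
    have hCf : C f = Pi.single 0 1 := (hCiff f).2 ⟨hf1, hf2⟩
    refine Nat.card_congr
      { toFun := fun p => ⟨p.1.1 + p.2 • e0 - f, ?_⟩
        invFun := fun k => (⟨(k.1 + f) + (-(Q (k.1 + f))) • e0, ?_⟩, Q (k.1 + f))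
        left_inv := fun p => ?_
        right_inv := fun k => ?_ }
    · obtain ⟨a, b, -⟩ := hshift p.1.1 p.1.2.1.1 p.1.2.1.2 p.2
      rw [LinearMap.mem_ker, map_sub, hCf, (hCiff _).2 ⟨a, b⟩, sub_self]
    · have hk : C (k.1 + f) = Pi.single 0 1 := by rw [map_add, LinearMap.mem_ker.1 k.2, hCf, zero_add]
      obtain ⟨a, b, c⟩ := hshift _ ((hCiff _).1 hk).1 ((hCiff _).1 hk).2 (-(Q (k.1 + f)))
      exact ⟨⟨a, b⟩, c.trans (add_neg_cancel _)⟩
    · obtain ⟨-, -, c⟩ := hshift p.1.1 p.1.2.1.1 p.1.2.1.2 p.2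
      have hq : Q (p.1.1 + p.2 • e0 - f + f) = p.2 := by rw [sub_add_cancel, c, p.1.2.2, zero_add]
      refine Prod.ext (Subtype.ext ?_) hq
      show p.1.1 + p.2 • e0 - f + f + -Q (p.1.1 + p.2 • e0 - f + f) • e0 = p.1.1
      rw [hq, sub_add_cancel, neg_smul, add_neg_cancel_right]
    · refine Subtype.ext ?_
      show k.1 + f + -Q (k.1 + f) • e0 + Q (k.1 + f) • e0 - f = k.1
      rw [neg_smul, neg_add_cancel_right, add_sub_cancel_right]
  · obtain ⟨G, hG⟩ : ∃ G, G = fixingIn (quadIsoms Q) (Submodule.span F (Set.range t)) := ⟨_, rfl⟩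
    have hGm : ∀ g : V ≃ₗ[F] V, g ∈ G ↔ g ∈ quadIsoms Q ∧ ∀ i, g (t i) = t i := by
      intro g
      rw [hG, mem_fixingIn]
      exact and_congr_right fun _ => ⟨fun h i => h _ (Submodule.subset_span ⟨i, rfl⟩), fun h x hx => by
        obtain ⟨c, rfl⟩ := (Submodule.mem_span_range_iff_exists_fun F).1 hx
        simp [map_sum, h]⟩
    have hWm : ∀ g : V ≃ₗ[F] V, (∀ x ∈ W, g x = x) ↔ g e0 = e0 ∧ g f = f := fun g => by
      refine ⟨fun h => ⟨h _ (hW ▸ Submodule.subset_span (by simp)), h _ (hW ▸ Submodule.subset_span (by simp))⟩,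
        fun h x hx => ?_⟩
      rw [hW, Submodule.mem_span_pair] at hx
      obtain ⟨a, b, rfl⟩ := hx
      simp [h.1, h.2]
    have heq : fixingIn H (F ∙ f) = fixingIn G W := by
      ext g
      rw [mem_fixingIn, mem_fixingIn, hfix, hGm, hWm]
      constructor
      · rintro ⟨⟨a, b, c⟩, d⟩
        exact ⟨⟨a, c⟩, b, d f (Submodule.mem_span_singleton_self f)⟩
      · rintro ⟨⟨a, c⟩, b, d⟩
        refine ⟨⟨a, b, c⟩, fun x hx => ?_⟩
        obtain ⟨s, rfl⟩ := Submodule.mem_span_singleton.1 hx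
        rw [map_smul, d]
    rw [heq]
    have hWP : ∀ x ∈ W, ∀ y ∈ P, polar Q x y = 0 := fun x hx y hy => by
      rw [hW, Submodule.mem_span_pair] at hx
      obtain ⟨a, b, rfl⟩ := hx
      simp [QuadraticMap.polar_add_left, QuadraticMap.polar_smul_left, ((hPm y).1 hy).1, ((hPm y).1 hy).2]
    have hG'm : ∀ h : P ≃ₗ[F] P, h ∈ fixingIn (quadIsoms (Q.comp P.subtype)) (Submodule.span F (Set.range t')) ↔
        (∀ y : P, Q (h y : V) = Q (y : V)) ∧ ∀ i, h (t' i) = t' i := fun h => by
      rw [mem_fixingIn]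
      exact and_congr Iff.rfl ⟨fun hh i => hh _ (Submodule.subset_span ⟨i, rfl⟩), fun hh x hx => by
        obtain ⟨c, rfl⟩ := (Submodule.mem_span_range_iff_exists_fun F).1 hx
        simp [map_sum, hh]⟩
    obtain ⟨E⟩ := nonempty_fixingIn_equiv (G := G) hcompl
      (fixingIn (quadIsoms (Q.comp P.subtype)) (Submodule.span F (Set.range t')))
      (fun g hg y hy => by
        obtain ⟨hg1, hg2⟩ := hg
        obtain ⟨a, b⟩ := (hWm g).1 hg2
        have hgq := ((hGm g).1 hg1).1
        have e1 := polar_quadIsom hgq e0 y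
        have e2 := polar_quadIsom hgq f y
        rw [a] at e1
        rw [b] at e2
        rw [hPm, e1, e2]
        exact (hPm y).1 hy)
      (fun g hg h hh => (hG'm h).2 ⟨fun y => by rw [← hh]; exact ((hGm g).1 hg.1).1 y, fun i => Subtype.ext (by
        rw [← hh, ht']; exact ((hGm g).1 hg.1).2 i)⟩)
      (fun g hgW h hh hgP => by
        obtain ⟨h1, h3⟩ := (hG'm h).1 hh
        refine (hGm g).2 ⟨fun v => ?_, fun i => ?_⟩
        · obtain ⟨x, hx, y, hy, rfl⟩ := Submodule.mem_sup.1
            (show v ∈ W ⊔ P by rw [hcompl.sup_eq_top]; trivial)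
          rw [map_add g, hgW x hx, hgP ⟨y, hy⟩, QuadraticMap.map_add Q, QuadraticMap.map_add Q, h1 ⟨y, hy⟩,
            hWP x hx _ (h ⟨y, hy⟩).2, hWP x hx y hy]
        · rw [← ht', hgP (t' i), h3])
    exact Nat.card_congr E.toEquiv

end Step

section Counts

variable [Fintype F] (h2 : (2 : F) = 0)

/-- The order of `O⁺_2k(q)`. -/
def plusCard (q k : ℕ) : ℕ :=
  if k = 0 then 1 else 2 * q ^ (k * (k - 1)) * (q ^ k - 1) * ∏ i ∈ Finset.range (k - 1), (q ^ (2 * (i + 1)) - 1)

theorem card_qfPlus_eq (k : ℕ) : Nat.card (quadIsoms (qfPlus k F)) = plusCard (Fintype.card F) k := by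
  rcases k with _ | k
  · rw [plusCard, if_pos rfl]
    exact Nat.card_eq_one_iff_unique.2
      ⟨⟨fun a b => Subtype.ext (LinearEquiv.ext fun x => funext fun i => by
        rcases i with i | i <;> exact i.elim0)⟩, ⟨1⟩⟩
  · rw [plusCard, if_neg (Nat.succ_ne_zero k), card_qfPlus_isoms, Nat.add_sub_cancel]

include h2

theorem card_binary_eq {a b c : F}
    (hab : ∀ z₁ z₂ : F, z₁ ^ 2 + a * z₁ * z₂ + b * z₂ ^ 2 = 0 → z₁ = 0 ∧ z₂ = 0) (hc : c ≠ 0) :
    Nat.card {z : Fin 2 → F // z 0 ^ 2 + a * z 0 * z 1 + b * z 1 ^ 2 = c} = Fintype.card F + 1 := by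
  obtain ⟨r, rfl⟩ := isSquare_of_two_eq_zero h2 c
  have hr : r ≠ 0 := fun h => hc (by rw [h, mul_zero])
  rw [← card_conic hab]
  have h1 : ∀ x y : F, x ^ 2 + a * x * y + b * y ^ 2 = 1 →
      (![r * x, r * y] : Fin 2 → F) 0 ^ 2 + a * (![r * x, r * y] : Fin 2 → F) 0 * (![r * x, r * y] : Fin 2 → F) 1 +
        b * (![r * x, r * y] : Fin 2 → F) 1 ^ 2 = r * r := fun x y h => by
    simp only [Matrix.cons_val_zero, Matrix.cons_val_one]
    linear_combination (r * r) * h
  have h3 : ∀ z : Fin 2 → F, z 0 ^ 2 + a * z 0 * z 1 + b * z 1 ^ 2 = r * r →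
      (r⁻¹ * z 0) ^ 2 + a * (r⁻¹ * z 0) * (r⁻¹ * z 1) + b * (r⁻¹ * z 1) ^ 2 = 1 := fun z h => by
    field_simp
    linear_combination h
  exact (Nat.card_congr
    { toFun := fun p => ⟨![r * p.1.1, r * p.1.2], h1 _ _ p.2⟩
      invFun := fun z => ⟨(r⁻¹ * z.1 0, r⁻¹ * z.1 1), h3 _ z.2⟩
      left_inv := fun p => Subtype.ext (Prod.ext (inv_mul_cancel_left₀ hr p.1.1) (inv_mul_cancel_left₀ hr p.1.2))
      right_inv := fun z => Subtype.ext (funext fun i => by
        fin_cases i
        · exact mul_inv_cancel_left₀ hr (z.1 0)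
        · exact mul_inv_cancel_left₀ hr (z.1 1)) }).symm

/-- Even dimensional forms in characteristic two. -/
theorem exists_std_form {V : Type v} [AddCommGroup V] [Module F V] [FiniteDimensional F V]
    (Q : QuadraticForm F V) (hQ : ∀ x, (∀ y, polar Q x y = 0) → x = 0) {n : ℕ}
    (hn : Module.finrank F V = 2 * n) :
    (∃ e : (Fin n ⊕ Fin n → F) ≃ₗ[F] V, ∀ v, Q (e v) = qfPlus n F v) ∨
    ∃ (k : ℕ) (a b : F), n = k + 1 ∧
      (∀ z₁ z₂ : F, z₁ ^ 2 + a * z₁ * z₂ + b * z₂ ^ 2 = 0 → z₁ = 0 ∧ z₂ = 0) ∧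
      ∃ e : ((Fin k ⊕ Fin k) ⊕ Fin 2 → F) ≃ₗ[F] V, ∀ v, Q (e v) = qfMinus k F a b v := by
  rcases even_form_std n V Q hQ hn with h | ⟨k, a, b, c, hk, hc, hab, e, he⟩
  · exact Or.inl h
  · obtain ⟨r, rfl⟩ := isSquare_of_two_eq_zero h2 c
    have hr : r ≠ 0 := fun h => hc (by rw [h, mul_zero])
    refine Or.inr ⟨k, a, b, hk, hab, (LinearEquiv.smulOfUnit (Units.mk0 r hr)⁻¹).trans e, fun v => ?_⟩
    rw [LinearEquiv.trans_apply, he, show LinearEquiv.smulOfUnit (Units.mk0 r hr)⁻¹ v = r⁻¹ • v from rfl,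
      QuadraticMap.map_smul, smul_eq_mul]
    field_simp

/-- The stabiliser of a nonsingular vector. -/
theorem card_fix_nonsingular {V : Type v} [AddCommGroup V] [Module F V] [FiniteDimensional F V]
    (Q : QuadraticForm F V) (hQ : ∀ x, (∀ y, polar Q x y = 0) → x = 0) {n : ℕ}
    (hn : Module.finrank F V = 2 * n) {v : V} (hv : Q v ≠ 0) :
    Nat.card (fixingIn (quadIsoms Q) (F ∙ v)) = 2 * spCard (Fintype.card F) (n - 1) := by
  classical
  have horb : Nat.card {u : V // ∃ g ∈ quadIsoms Q, g v = u} = Nat.card {u : V // Q u = Q v} := by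
    refine Nat.card_congr (Equiv.subtypeEquivRight fun u => ⟨fun ⟨g, hg, hgu⟩ => hgu ▸ hg v, fun hu => ?_⟩)
    exact exists_isom_vector Q hQ (fun h => hv (by rw [h, map_zero]))
      (fun h => hv (by rw [← hu, h, map_zero])) hu.symm
  have h := card_eq_orbit_mul_fixing_one (quadIsoms Q) v
  rw [horb] at h
  have hq1 : 1 < Fintype.card F := Fintype.one_lt_card
  have hsp : ∀ k : ℕ, spCard (Fintype.card F) k =
      Fintype.card F ^ (k ^ 2) * ∏ i ∈ Finset.range k, (Fintype.card F ^ (2 * (i + 1)) - 1) := fun k => by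
    rw [spCard, Fin.prod_univ_eq_prod_range (fun i => Fintype.card F ^ (2 * (i + 1)) - 1)]
  rcases exists_std_form h2 Q hQ hn with ⟨e, he⟩ | ⟨k, a, b, rfl, hab, e, he⟩
  · obtain ⟨k, rfl⟩ : ∃ k, n = k + 1 := by
      refine Nat.exists_eq_succ_of_ne_zero fun h0 => ?_
      subst h0
      exact hv (by rw [show v = 0 from (Module.finrank_zero_iff.1 (by omega : Module.finrank F V = 0)).elim v 0,
        map_zero])
    rw [← card_quadIsoms_congr (qfPlus (k + 1) F) Q e he, card_qfPlus_isoms,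
      ← Nat.card_congr (e.toEquiv.subtypeEquiv (p := fun x => qfPlus (k + 1) F x = Q v)
        (q := fun u => Q u = Q v) fun x => by rw [← he]; rfl)] at h
    simp only [qfPlus_apply] at h
    rw [card_quadFormPlus_eq, if_neg hv, mul_zero, zero_add, Nat.add_sub_cancel] at h
    rw [Nat.add_sub_cancel, hsp]
    have hpos : 0 < (Fintype.card F ^ (k + 1) - 1) * Fintype.card F ^ k :=
      Nat.mul_pos (Nat.sub_pos_of_lt (Nat.one_lt_pow (Nat.succ_ne_zero k) hq1)) (Nat.pow_pos (by omega))
    refine Nat.eq_of_mul_eq_mul_left hpos (h.symm.trans ?_)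
    rw [show (k + 1) * k = k + k ^ 2 by ring, pow_add]
    ring
  · rw [← card_quadIsoms_congr (qfMinus k F a b) Q e he, card_qfMinus_isoms hab,
      ← Nat.card_congr (e.toEquiv.subtypeEquiv (p := fun x => qfMinus k F a b x = Q v)
        (q := fun u => Q u = Q v) fun x => by rw [← he]; rfl)] at h
    simp only [qfMinus_apply] at h
    rw [card_quadFormMinus_eq, card_binary_eq h2 hab hv] at h
    rw [Nat.add_sub_cancel, hsp]
    have hcount : Fintype.card F ^ k * (Fintype.card F + 1) +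
        (Fintype.card F ^ k - 1) * Fintype.card F ^ (k - 1) * Fintype.card F ^ 2 =
        Fintype.card F ^ k * (Fintype.card F ^ (k + 1) + 1) := by
      rcases k with _ | j
      · simp
      · obtain ⟨A, hA⟩ : ∃ A, Fintype.card F ^ (j + 1) = A + 1 :=
          ⟨_, (Nat.sub_add_cancel (Nat.one_le_pow _ _ Fintype.card_pos)).symm⟩
        rw [Nat.add_sub_cancel, pow_succ _ (j + 1), hA, Nat.add_sub_cancel, mul_assoc, sq,
          show Fintype.card F ^ j * (Fintype.card F * Fintype.card F) =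
            Fintype.card F ^ (j + 1) * Fintype.card F by ring, hA]
        ring
    rw [hcount] at h
    have hpos : 0 < Fintype.card F ^ k * (Fintype.card F ^ (k + 1) + 1) :=
      Nat.mul_pos (Nat.pow_pos (by omega)) (Nat.succ_pos _)
    refine Nat.eq_of_mul_eq_mul_left hpos (h.symm.trans ?_)
    rw [show (k + 1) * k = k + k ^ 2 by ring, pow_add]
    ring

/-- The stabiliser of a tuple of type `(singular, …, singular, nonsingular)`. -/
theorem card_fix_tuple_ns : ∀ (k : ℕ) {V : Type v} [AddCommGroup V] [Module F V] [FiniteDimensional F V]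
    (Q : QuadraticForm F V), (∀ x, (∀ y, polar Q x y = 0) → x = 0) → ∀ (n : ℕ),
    Module.finrank F V = 2 * n → ∀ e : Fin (k + 1) → V, IsoTuple Q.polarBilin e →
    (∀ i, i ≠ Fin.last k → Q (e i) = 0) → Q (e (Fin.last k)) ≠ 0 →
    Nat.card (fixingIn (quadIsoms Q) (Submodule.span F (Set.range e))) =
      Fintype.card F ^ (∑ j ∈ Finset.range k, (2 * n - k - 2 - j)) * (2 * spCard (Fintype.card F) (n - k - 1)) := by
  intro k
  induction k with
  | zero =>
    intro V _ _ _ Q hQ n hn e _ _ hv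
    rw [show Set.range e = {e (Fin.last 0)} from Set.ext fun x => by
      simp [Fin.eq_zero, eq_comm], Finset.range_zero, Finset.sum_empty, pow_zero, one_mul, Nat.sub_zero]
    exact card_fix_nonsingular h2 Q hQ hn hv
  | succ k ih =>
    intro V _ _ _ Q hQ n hn e he hs hv
    obtain ⟨P, t', ht', hfin, hsep, hiso, -, hcard⟩ :=
      fix_step Q h2 hQ (e 0) (Fin.tail e) (by rwa [Fin.cons_self_tail]) (hs 0 (Fin.last_pos.ne))
    rw [Fin.cons_self_tail] at hcard
    rw [hcard, ih (Q.comp P.subtype) hsep (n - 1) (by omega) t' hiso (fun i hi => ?_) ?_, hn, ← mul_assoc, ← pow_add,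
      Finset.sum_range_succ']
    · congr 2
      · rw [add_comm]
        congr 1
        exact Finset.sum_congr rfl fun j _ => by omega
      · congr 1; omega
    · rwa [QuadraticMap.comp_apply, Submodule.subtype_apply, ht', Fin.tail, Fin.succ_last]
    · rw [QuadraticMap.comp_apply, Submodule.subtype_apply, ht']
      exact hs _ fun h => hi (Fin.succ_injective _ (h.trans (Fin.succ_last k).symm))

/-- The stabiliser of a totally singular tuple in plus type. -/
theorem card_fix_tuple_ts : ∀ (k : ℕ) {V : Type v} [AddCommGroup V] [Module F V] [FiniteDimensional F V]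
    (Q : QuadraticForm F V), (∀ x, (∀ y, polar Q x y = 0) → x = 0) → ∀ (n : ℕ),
    Module.finrank F V = 2 * n → ∀ e : Fin k → V, IsoTuple Q.polarBilin e → (∀ i, Q (e i) = 0) →
    (∃ R : Submodule F V, n ≤ Module.finrank F R ∧ ∀ x ∈ R, Q x = 0) →
    Nat.card (fixingIn (quadIsoms Q) (Submodule.span F (Set.range e))) =
      Fintype.card F ^ (∑ j ∈ Finset.range k, (2 * n - k - 1 - j)) * plusCard (Fintype.card F) (n - k) := by
  intro k
  induction k with
  | zero =>
    intro V _ _ _ Q hQ n hn e _ _ hplus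
    rw [Finset.range_zero, Finset.sum_empty, pow_zero, one_mul, Nat.sub_zero]
    rcases exists_std_form h2 Q hQ hn with ⟨ε, hε⟩ | ⟨j, a, b, rfl, hab, ε, hε⟩
    · rw [← card_qfPlus_eq, card_quadIsoms_congr (qfPlus n F) Q ε hε]
      refine Nat.card_congr (Equiv.subtypeEquivRight fun g => mem_fixingIn.trans (and_iff_left fun w hw => ?_))
      rw [Set.range_eq_empty, Submodule.span_empty, Submodule.mem_bot] at hw
      rw [hw, map_zero]
    · obtain ⟨R, hR1, hR2⟩ := hplus
      exfalso
      have := minus_ts_le hab (R.map (ε.symm : V →ₗ[F] _)) fun y hy => by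
        obtain ⟨x, hx, rfl⟩ := hy
        refine (hε _).symm.trans ?_
        exact (congrArg Q (ε.apply_symm_apply x)).trans (hR2 x hx)
      rw [LinearEquiv.finrank_map_eq] at this
      omega
  | succ k ih =>
    intro V _ _ _ Q hQ n hn e he hs hplus
    have hle := two_mul_le (fun x hx => hQ x hx) he
    obtain ⟨P, t', ht', hfin, hsep, hiso, hR', hcard⟩ :=
      fix_step Q h2 hQ (e 0) (Fin.tail e) (by rwa [Fin.cons_self_tail]) (hs 0)
    rw [Fin.cons_self_tail] at hcard
    obtain ⟨R, hR1, hR2⟩ := hplus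
    obtain ⟨R', hR3, hR4⟩ := hR' R hR2
    rw [hcard, ih (Q.comp P.subtype) hsep (n - 1) (by omega) t' hiso (fun i => ?_) ⟨R', by omega, hR4⟩, hn,
      ← mul_assoc, ← pow_add, Finset.sum_range_succ']
    · congr 2
      · rw [add_comm]
        congr 1
        exact Finset.sum_congr rfl fun j _ => by omega
      · omega
    · rw [QuadraticMap.comp_apply, Submodule.subtype_apply, ht']
      exact hs _

/-- The stabiliser of a tuple of norm one. -/
theorem card_fix_tuple_one {V : Type v} [AddCommGroup V] [Module F V] [FiniteDimensional F V]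
    (Q : QuadraticForm F V) (hQ : ∀ x, (∀ y, polar Q x y = 0) → x = 0) {n : ℕ}
    (hn : Module.finrank F V = 2 * n) {k : ℕ} {e : Fin (k + 1) → V} (he : IsoTuple Q.polarBilin e)
    (h1 : ∀ i, Q (e i) = 1) :
    Nat.card (fixingIn (quadIsoms Q) (Submodule.span F (Set.range e))) =
      Fintype.card F ^ (∑ j ∈ Finset.range k, (2 * n - k - 2 - j)) * (2 * spCard (Fintype.card F) (n - k - 1)) := by
  obtain ⟨e', he'l, he'o⟩ : ∃ e' : Fin (k + 1) → V, e' (Fin.last k) = e (Fin.last k) ∧
      ∀ i, i ≠ Fin.last k → e' i = e i + e (Fin.last k) :=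
    ⟨fun i => if i = Fin.last k then e i else e i + e (Fin.last k), by simp, fun i hi => by simp [hi]⟩
  have hspan : Submodule.span F (Set.range e') = Submodule.span F (Set.range e) := by
    refine le_antisymm (Submodule.span_le.2 ?_) (Submodule.span_le.2 ?_) <;> rintro _ ⟨i, rfl⟩
    · rcases eq_or_ne i (Fin.last k) with rfl | hi
      · rw [he'l]; exact Submodule.subset_span ⟨_, rfl⟩
      · rw [he'o i hi]
        exact add_mem (Submodule.subset_span ⟨_, rfl⟩) (Submodule.subset_span ⟨_, rfl⟩)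
    · rcases eq_or_ne i (Fin.last k) with rfl | hi
      · rw [← he'l]; exact Submodule.subset_span ⟨_, rfl⟩
      · rw [show e i = e' i - e' (Fin.last k) by rw [he'o i hi, he'l, add_sub_cancel_right]]
        exact sub_mem (Submodule.subset_span ⟨_, rfl⟩) (Submodule.subset_span ⟨_, rfl⟩)
  have hz : ∀ i j, polar Q (e i) (e j) = 0 := he.iso
  have hiso : IsoTuple Q.polarBilin e' := by
    refine ⟨linearIndependent_iff_card_eq_finrank_span.2 ?_, fun i j => ?_⟩
    · rw [Set.finrank, hspan, finrank_span_eq_card he.indep]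
    · rcases eq_or_ne i (Fin.last k) with rfl | hi <;> rcases eq_or_ne j (Fin.last k) with rfl | hj <;>
        simp [*, QuadraticMap.polar_add_right]
  rw [← hspan]
  refine card_fix_tuple_ns h2 k Q hQ n hn e' hiso (fun i hi => ?_) (by rw [he'l, h1]; exact one_ne_zero)
  rw [he'o i hi, QuadraticMap.map_add Q, h1, h1, hz, add_zero]
  linear_combination h2

end Counts

end CfsgLib.Classical.InvTwo
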