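import Mathlib
import Cfsg.Agent.Lib.Classical.InvTwoCent

/-!
Involutions of `Sp_2m(q)`, `q` even: conjugacy and centraliser orders.
-/

set_option autoImplicit false

namespace CfsgLib.Classical.InvTwo

open Matrix CfsgLib.Geom

variable {F : Type*} [Field F] {m : ℕ}

local notation "W" => (Fin m ⊕ Fin m → F)
local notation "Sp" => Matrix.symplecticGroup (Fin m) F

/-- A symplectic matrix as a linear isometry. -/
noncomputable def toIsom (g : Sp) : W ≃ₗ[F] W := ((spEquiv m F).symm g).1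

theorem toIsom_mem (g : Sp) : toIsom g ∈ formIsoms (σ := RingHom.id F) (sympBilin m F) :=
  ((spEquiv m F).symm g).2

theorem toIsom_apply (g : Sp) (v : W) : toIsom g v = (g : Matrix (Fin m ⊕ Fin m) (Fin m ⊕ Fin m) F) *ᵥ v := by
  conv_rhs => rw [← (spEquiv m F).apply_symm_apply g, spEquiv_mulVec]
  rfl

theorem toIsom_mul (g h : Sp) : toIsom (g * h) = toIsom g * toIsom h := by
  simp [toIsom]

theorem toIsom_injective : Function.Injective (toIsom (F := F) (m := m)) := fun _ _ e =>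
  (spEquiv m F).symm.injective (Subtype.ext e)

theorem finrank_W : Module.finrank F W = 2 * m := by
  rw [Module.finrank_fintype_fun_eq_card, Fintype.card_sum, Fintype.card_fin]; ring

theorem toIsom_invol {g : Sp} (hg : g ^ 2 = 1) (v : W) : toIsom g (toIsom g v) = v := by
  rw [← LinearEquiv.mul_apply, ← toIsom_mul, ← sq, hg]
  simp [toIsom]

theorem rank_eq (g : Sp) : ((g : Matrix (Fin m ⊕ Fin m) (Fin m ⊕ Fin m) F) - 1).rank =
    Module.finrank F (LinearMap.range ((toIsom g).toLinearMap - LinearMap.id)) := by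
  rw [Matrix.rank, show ((g : Matrix (Fin m ⊕ Fin m) (Fin m ⊕ Fin m) F) - 1).mulVecLin =
    (toIsom g).toLinearMap - LinearMap.id from LinearMap.ext fun v => by simp [toIsom_apply]]

theorem form_eq (g : Sp) (v : W) :
    Cfsg.sympForm m F v ((g : Matrix (Fin m ⊕ Fin m) (Fin m ⊕ Fin m) F) *ᵥ v) = sympBilin m F v (toIsom g v) := by
  rw [sympBilin_apply, toIsom_apply]

theorem isConj_iff_exists (a b : Sp) :
    IsConj a b ↔ ∃ h ∈ formIsoms (σ := RingHom.id F) (sympBilin m F), ∀ v, h (toIsom a v) = toIsom b (h v) := by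
  rw [isConj_iff]
  constructor
  · rintro ⟨c, hc⟩
    refine ⟨toIsom c, toIsom_mem c, fun v => ?_⟩
    rw [← LinearEquiv.mul_apply, ← LinearEquiv.mul_apply, ← toIsom_mul, ← toIsom_mul, ← hc, inv_mul_cancel_right]
  · rintro ⟨h, hh, hc⟩
    refine ⟨spEquiv m F ⟨h, hh⟩, mul_inv_eq_iff_eq_mul.2 (toIsom_injective ?_)⟩
    rw [toIsom_mul, toIsom_mul, show toIsom (spEquiv m F ⟨h, hh⟩) = h by simp [toIsom]]
    exact LinearEquiv.ext hc

theorem card_centralizer_eq {g : Sp} {s : ℕ} {e : Fin s → W} {S : Matrix (Fin s) (Fin s) F}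
    (hge : ∀ v, toIsom g v = v + tmap (sympBilin m F) e S v) :
    Nat.card ↥(Subgroup.centralizer ({g} : Set Sp)) =
      Nat.card {h : W ≃ₗ[F] W // h ∈ formIsoms (σ := RingHom.id F) (sympBilin m F) ∧
        ∀ v, h (tmap (sympBilin m F) e S v) = tmap (sympBilin m F) e S (h v)} := by
  have key : ∀ h : Sp, h ∈ Subgroup.centralizer ({g} : Set Sp) ↔
      ∀ v, toIsom h (tmap (sympBilin m F) e S v) = tmap (sympBilin m F) e S (toIsom h v) := fun h => by
    rw [Subgroup.mem_centralizer_singleton_iff, ← toIsom_injective.eq_iff, toIsom_mul, toIsom_mul,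
      LinearEquiv.ext_iff]
    refine forall_congr' fun v => ?_
    rw [LinearEquiv.mul_apply, LinearEquiv.mul_apply, hge, hge, map_add]
    exact add_right_inj _
  refine Nat.card_congr
    { toFun := fun h => ⟨toIsom h.1, toIsom_mem _, (key h.1).1 h.2⟩
      invFun := fun h => ⟨spEquiv m F ⟨h.1, h.2.1⟩, (key _).2 (by simpa [toIsom] using h.2.2)⟩
      left_inv := fun h => Subtype.ext (by simp [toIsom])
      right_inv := fun h => Subtype.ext (by simp [toIsom]) }

section Finite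

variable [Fintype F] (h2 : (2 : F) = 0)

include h2

/-- `t - 1` of rank `s` odd, or even and alternating. -/
theorem card_cent_sp {g : Sp} (hg : g ^ 2 = 1) :
    ∃ (s : ℕ) (e : Fin s → W) (S : Matrix (Fin s) (Fin s) F), IsoTuple (sympBilin m F) e ∧ Sᵀ = S ∧ IsUnit S ∧
      ((g : Matrix (Fin m ⊕ Fin m) (Fin m ⊕ Fin m) F) - 1).rank = s ∧
      ((∀ v, sympBilin m F v (toIsom g v) = 0) ↔ ∀ i, S i i = 0) ∧ ((1 ≤ s ∧ S = 1) ∨ ∀ i, S i i = 0) ∧
      Nat.card ↥(Subgroup.centralizer ({g} : Set Sp)) = Nat.card (Aut S) *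
        (Fintype.card F ^ (2 * m * s - (3 * s ^ 2 - s) / 2) * spCard (Fintype.card F) (m - s)) := by
  obtain ⟨s, e, S, he, hS, hu, hge, hk⟩ :=
    exists_std h2 sympBilin_self sympBilin_sep (toIsom_mem g) (toIsom_invol hg)
  obtain ⟨r1, a1⟩ := rank_and_alt h2 sympBilin_self sympBilin_sep he hS hu hge
  refine ⟨s, e, S, he, hS, hu, by rw [rank_eq, r1], a1, hk, ?_⟩
  rw [card_centralizer_eq hge, card_comm_symp sympBilin_self sympBilin_sep he finrank_W hu]

/-- Type `b`: odd rank. -/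
theorem card_cent_sp_odd {g : Sp} (hg : g ^ 2 = 1) {s : ℕ}
    (hs : ((g : Matrix (Fin m ⊕ Fin m) (Fin m ⊕ Fin m) F) - 1).rank = s) (hodd : Odd s) :
    Nat.card ↥(Subgroup.centralizer ({g} : Set Sp)) = Fintype.card F ^ (2 * m * s - (3 * s ^ 2 - s) / 2) *
      spCard (Fintype.card F) ((s - 1) / 2) * spCard (Fintype.card F) (m - s) := by
  obtain ⟨s', e, S, -, hS, hu, hr, -, hk, hc⟩ := card_cent_sp h2 hg
  obtain rfl : s' = s := hr.symm.trans hs
  rcases hk with ⟨-, rfl⟩ | h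
  · obtain ⟨k, rfl⟩ := hodd
    rw [hc, card_aut_one_odd h2, show (2 * k + 1 - 1) / 2 = k by omega]
    ring
  · exact absurd (even_of_alt h2 hS hu h) (Nat.not_even_iff_odd.2 hodd)

omit [Fintype F] in
theorem sq_eq_one_of_rank_one {g : Sp} (hs : ((g : Matrix (Fin m ⊕ Fin m) (Fin m ⊕ Fin m) F) - 1).rank = 1) :
    g ^ 2 = 1 := by
  obtain ⟨N, hN⟩ : ∃ N : W →ₗ[F] W, N = (toIsom g).toLinearMap - LinearMap.id := ⟨_, rfl⟩
  have hNv : ∀ v, toIsom g v = v + N v := fun v => by simp [hN]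
  obtain ⟨w, hw⟩ := finrank_eq_one_iff'.1 (by rw [← hs, rank_eq, hN] : Module.finrank F (LinearMap.range N) = 1)
  have hmult : ∀ v, ∃ c : F, N v = c • (w : W) := fun v => by
    obtain ⟨c, hc⟩ := hw.2 ⟨N v, LinearMap.mem_range_self N v⟩
    exact ⟨c, (congrArg Subtype.val hc).symm⟩
  have hi : ∀ u v, sympBilin m F (N u) (N v) = 0 := fun u v => by
    obtain ⟨a, ha⟩ := hmult u
    obtain ⟨b, hb⟩ := hmult v
    simp [ha, hb, sympBilin_self]
  have hsym : ∀ u v, sympBilin m F (N u) v + sympBilin m F u (N v) = 0 := fun u v => by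
    have h := toIsom_mem g u v
    rw [hNv, hNv] at h
    simp only [map_add, LinearMap.add_apply] at h
    linear_combination h - hi u v
  have hNN : ∀ v, N (N v) = 0 := fun v => sympBilin_sep _ fun u => by
    linear_combination hsym (N v) u - hi v u
  refine toIsom_injective (LinearEquiv.ext fun v => ?_)
  rw [sq, toIsom_mul, LinearEquiv.mul_apply, hNv v, hNv, map_add, hNN, add_zero, add_assoc, ← two_smul F (N v),
    h2, zero_smul, add_zero]
  simp [toIsom]

end Finite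

/-- The automorphism group of the identity form in even dimension. -/
theorem card_aut_one_even [Fintype F] (h2 : (2 : F) = 0) {k : ℕ} (hk : 1 ≤ k) :
    Nat.card (Aut (1 : Matrix (Fin (2 * k)) (Fin (2 * k)) F)) =
      Fintype.card F ^ (2 * k - 1) * spCard (Fintype.card F) (k - 1) := by
  obtain ⟨B₁, B₃, t, ⟨ht1, ht2⟩, hB₁, hB₃, hne, -, -, ⟨φ⟩⟩ := GraphForm.classify_two_even (F := F) h2 hk rfl
  have : Nonempty (Fin (2 * k)) := ⟨⟨0, by omega⟩⟩
  obtain ⟨ψ⟩ := GraphForm.projQuot_formIsom h2 hB₃.2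
  have hna : ¬ GraphForm.IsAlt B₃ := fun ha => by
    obtain ⟨P, hP⟩ := GraphForm.alt_congr hB₁.1 hB₁.2 ha hB₃.2
    exact hne (GraphForm.FormCongr.symm ⟨P, 1, by rw [hP, Units.val_one, one_smul]⟩)
  obtain ⟨P, hP⟩ := GraphForm.sym_congr_two h2 transpose_one isUnit_one (one_not_alt (F := F) (by omega)) hB₃.1
    hB₃.2 hna
  rw [card_aut_eq, card_formIsom_congr P hP, ← Nat.card_congr ψ.toEquiv, Nat.card_congr φ.toEquiv,
    card_cent_sp_odd h2 (sq_eq_one_of_rank_one h2 ht1) ht1 odd_one]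
  simp [spCard]

section Finite

variable [Fintype F] (h2 : (2 : F) = 0)

include h2

/-- Type `a`: even rank, alternating. -/
theorem card_cent_sp_alt {g : Sp} (hg : g ^ 2 = 1) {s : ℕ}
    (hs : ((g : Matrix (Fin m ⊕ Fin m) (Fin m ⊕ Fin m) F) - 1).rank = s)
    (ha : ∀ v, sympBilin m F v (toIsom g v) = 0) :
    Nat.card ↥(Subgroup.centralizer ({g} : Set Sp)) = Fintype.card F ^ (2 * m * s - (3 * s ^ 2 - s) / 2) *
      spCard (Fintype.card F) (s / 2) * spCard (Fintype.card F) (m - s) := by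
  obtain ⟨s', e, S, -, hS, hu, hr, a1, -, hc⟩ := card_cent_sp h2 hg
  obtain rfl : s' = s := hr.symm.trans hs
  rw [hc, card_aut_alt h2 hS hu (a1.1 ha)]
  ring

/-- Type `c`: even rank, not alternating. -/
theorem card_cent_sp_nonalt {g : Sp} (hg : g ^ 2 = 1) {s : ℕ}
    (hs : ((g : Matrix (Fin m ⊕ Fin m) (Fin m ⊕ Fin m) F) - 1).rank = s) (heven : Even s)
    (ha : ¬ ∀ v, sympBilin m F v (toIsom g v) = 0) :
    Nat.card ↥(Subgroup.centralizer ({g} : Set Sp)) =
      Fintype.card F ^ (2 * m * s - (3 * s ^ 2 - 3 * s) / 2 - 1) *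
      spCard (Fintype.card F) ((s - 2) / 2) * spCard (Fintype.card F) (m - s) := by
  obtain ⟨s', e, S, he, hS, hu, hr, a1, hk, hc⟩ := card_cent_sp h2 hg
  obtain rfl : s' = s := hr.symm.trans hs
  rcases hk with ⟨h1, rfl⟩ | h
  · have h2m : 2 * s' ≤ 2 * m := by
      have := two_mul_le sympBilin_sep he
      rwa [finrank_W] at this
    obtain ⟨k, rfl⟩ := heven
    rw [← two_mul] at h1 h2m hu hS hc ⊢
    rw [hc, card_aut_one_even h2 (by omega), show (2 * k - 2) / 2 = k - 1 by omega]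
    have e1 : 3 * (2 * k) ^ 2 = 12 * (k * k) := by ring
    have e2 : 2 * m * (2 * k) = 4 * (m * k) := by ring
    have hkk : k ≤ k * k := Nat.le_mul_self k
    have hmk : 2 * (k * k) ≤ m * k := by
      rw [← mul_assoc]; exact Nat.mul_le_mul_right k (by omega)
    have hexp : 2 * m * (2 * k) - (3 * (2 * k) ^ 2 - 3 * (2 * k)) / 2 - 1 =
        (2 * m * (2 * k) - (3 * (2 * k) ^ 2 - 2 * k) / 2) + (2 * k - 1) := by
      rw [e1, e2]; omega
    rw [hexp, pow_add]
    ring
  · exact absurd (a1.2 h) ha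

theorem isConj_sp_iff {a b : Sp} (ha : a ^ 2 = 1) (hb : b ^ 2 = 1) :
    IsConj a b ↔ (((a : Matrix (Fin m ⊕ Fin m) (Fin m ⊕ Fin m) F) - 1).rank =
      ((b : Matrix (Fin m ⊕ Fin m) (Fin m ⊕ Fin m) F) - 1).rank ∧
      ((∀ v, sympBilin m F v (toIsom a v) = 0) ↔ ∀ v, sympBilin m F v (toIsom b v) = 0)) := by
  rw [isConj_iff_exists]
  constructor
  · rintro ⟨h, hh, hc⟩
    have hB : ∀ v, sympBilin m F v (toIsom a v) = sympBilin m F (h v) (toIsom b (h v)) := fun v => by
      rw [← hc]; exact (hh v (toIsom a v)).symm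
    refine ⟨?_, ⟨fun h1 v => ?_, fun h1 v => (hB v).trans (h1 _)⟩⟩
    · rw [rank_eq, rank_eq]
      rw [show LinearMap.range ((toIsom b).toLinearMap - LinearMap.id) =
        (LinearMap.range ((toIsom a).toLinearMap - LinearMap.id)).map (h : W →ₗ[F] W) from ?_,
        LinearEquiv.finrank_map_eq]
      ext x
      simp only [Submodule.mem_map, LinearMap.mem_range]
      constructor
      · rintro ⟨v, rfl⟩
        obtain ⟨u, rfl⟩ := h.surjective v
        exact ⟨_, ⟨u, rfl⟩, by simp [hc]⟩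
      · rintro ⟨_, ⟨u, rfl⟩, rfl⟩
        exact ⟨h u, by simp [hc]⟩
    · obtain ⟨u, rfl⟩ := h.surjective v
      rw [← hB]; exact h1 u
  · rintro ⟨hr, hal⟩
    rw [rank_eq, rank_eq] at hr
    exact exists_conj_iff h2 sympBilin_self sympBilin_sep (toIsom_mem a) (toIsom_invol ha) (toIsom_mem b)
      (toIsom_invol hb) hr hal

end Finite

end CfsgLib.Classical.InvTwo
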