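import Mathlib
import Cfsg.Agent.Lib.Classical.InvTwoFix
import Cfsg.Agent.Lib.Classical.InvTwoSp

/-!
Centralisers of involutions in orthogonal groups in characteristic two and in their `Ω`.
-/

set_option autoImplicit false

namespace CfsgLib.Classical.InvTwo

open Matrix CfsgLib.Geom CfsgLib.Classical CfsgLib.KnownC
open QuadraticMap (polar)

variable {F : Type*} [Field F] {ι : Type} [Fintype ι] [DecidableEq ι] {Q : QuadraticForm F (ι → F)}

local notation "W" => (ι → F)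

section

variable [Finite F] (h2 : (2 : F) = 0) (hQ : ∀ x, (∀ y, polar Q x y = 0) → x = 0)

include h2 hQ

theorem card_or_cent {g : Cfsg.isometryGroup F (⇑Q)} {s : ℕ} {e : Fin s → W} {S : Matrix (Fin s) (Fin s) F}
    (D : QData Q (qIsom Q g) e S) :
    Nat.card {h : Cfsg.isometryGroup F (⇑Q) // h * g = g * h} =
      Nat.card (Aut S) * Nat.card (fixingIn (quadIsoms Q) (Submodule.span F (Set.range e))) := by
  rw [← card_qcomm Q h2 hQ D (qIsom_mem g)]
  have key : ∀ h : Cfsg.isometryGroup F (⇑Q), h * g = g * h ↔ ∀ v, qIsom Q h (qIsom Q g v) = qIsom Q g (qIsom Q h v) :=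
    fun h => by
      rw [← qIsom_injective.eq_iff, qIsom_mul, qIsom_mul, LinearEquiv.ext_iff]
      exact Iff.rfl
  exact Nat.card_congr
    { toFun := fun h => ⟨qIsom Q h.1, qIsom_mem _, (key h.1).1 h.2⟩
      invFun := fun h => ⟨orEquiv Q ⟨h.1, h.2.1⟩, (key _).2 fun v => by rw [qIsom_orEquiv]; exact h.2.2 v⟩
      left_inv := fun h => Subtype.ext (qIsom_injective (qIsom_orEquiv _))
      right_inv := fun h => Subtype.ext (qIsom_orEquiv _) }

variable (hex : (∃ t : F, t ≠ 0 ∧ t ≠ 1) ∨ Module.finrank F (ι → F) ≠ 4) {m : ℕ} (hdim : Fintype.card ι = 2 * m)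

include hex hdim

/-- Outside the split class half of the centraliser lies in `Ω`. -/
theorem card_or_cent_eq_two_mul {g : Cfsg.isometryGroup F (⇑Q)} (hg : g ^ 2 = 1)
    (hne : ¬ ((g.1.1 - 1 : Matrix ι ι F).rank = m ∧ QAlt g)) :
    Nat.card {h : Cfsg.isometryGroup F (⇑Q) // h * g = g * h} =
      2 * Nat.card {h : ↥(Cfsg.Omega F (⇑Q)) // (h : Cfsg.isometryGroup F (⇑Q)) * g = g * h} := by
  obtain ⟨s, e, S, D⟩ := exists_qdata Q h2 hQ (qIsom_mem g) (qIsom_invol hg)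
  obtain ⟨r1, a1⟩ := qdata_rank Q h2 hQ D
  obtain ⟨y, hy, hye⟩ : ∃ y, Q y = 1 ∧ ∀ i, polar Q (e i) y = 0 := by
    rcases exists_fixed_or_maximal h2 hQ hdim D with h | ⟨hsm, hd, -⟩
    · exact h
    · refine absurd ⟨?_, fun v => ?_⟩ hne
      · rw [qrank_eq, r1, hsm]
      · rw [polar_alt_iff h2]; exact a1.2 hd v
  have hy0 : Q y ≠ 0 := by rw [hy]; exact one_ne_zero
  have hgy : qIsom Q g y = y := by
    rw [D.eq, tmap_apply, show co Q.polarBilin e y = 0 from funext fun i => hye i, mulVec_zero]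
    simp
  have hr : reflIsom Q y hy0 * g = g * reflIsom Q y hy0 := by
    refine qIsom_injective (LinearEquiv.ext fun v => ?_)
    rw [qIsom_mul, qIsom_mul, LinearEquiv.mul_apply, LinearEquiv.mul_apply, qIsom_apply (reflIsom Q y hy0),
      qIsom_apply (reflIsom Q y hy0), reflIsom_mulVec, reflIsom_mulVec, map_sub, map_smul, hgy]
    congr 3
    conv_lhs => rw [← hgy]
    exact polar_quadIsom (qIsom_mem g) y v
  obtain ⟨C, hC⟩ : ∃ C, C = Subgroup.centralizer ({g} : Set (Cfsg.isometryGroup F (⇑Q))) := ⟨_, rfl⟩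
  have hm : ∀ h, h ∈ C ↔ h * g = g * h := fun h => by rw [hC, Subgroup.mem_centralizer_singleton_iff]
  obtain ⟨φ, hφ⟩ : ∃ φ : C →* Multiplicative (ZMod 2), ∀ h : C, φ h = (spinorHom Q hQ hex h.1).1 :=
    ⟨((MonoidHom.fst _ _).comp (spinorHom Q hQ hex)).comp C.subtype, fun h => rfl⟩
  have hrange : φ.range = ⊤ := by
    refine eq_top_iff.2 fun z _ => ?_
    rcases zmodTwo_cases z with rfl | rfl
    · exact ⟨1, map_one φ⟩
    · exact ⟨⟨_, (hm _).2 hr⟩, by rw [hφ, spinorHom_reflIsom]⟩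
  have hk := φ.ker.card_mul_index
  rw [Subgroup.index_ker, hrange, Subgroup.card_top,
    show Nat.card (Multiplicative (ZMod 2)) = 2 by rw [Nat.card_congr Multiplicative.toAdd, Nat.card_zmod]] at hk
  have e1 : Nat.card C = Nat.card {h : Cfsg.isometryGroup F (⇑Q) // h * g = g * h} :=
    Nat.card_congr (Equiv.subtypeEquivRight hm)
  have e2 : Nat.card φ.ker = Nat.card {h : ↥(Cfsg.Omega F (⇑Q)) // (h : Cfsg.isometryGroup F (⇑Q)) * g = g * h} := by
    have hker : ∀ h : C, h ∈ φ.ker ↔ (h : Cfsg.isometryGroup F (⇑Q)) ∈ Cfsg.Omega F (⇑Q) := fun h => by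
      rw [MonoidHom.mem_ker, hφ, mem_omega_iff_of_two h2 hQ hex]
    exact Nat.card_congr
      { toFun := fun h => ⟨⟨h.1.1, (hker h.1).1 h.2⟩, (hm _).1 h.1.2⟩
        invFun := fun h => ⟨⟨h.1.1, (hm _).2 h.2⟩, (hker _).2 h.1.2⟩
        left_inv := fun h => rfl
        right_inv := fun h => rfl }
  rw [← e1, ← e2, mul_comm 2, hk]

/-- In the split class the centraliser lies in `Ω`. -/
theorem card_or_cent_eq {g : Cfsg.isometryGroup F (⇑Q)} (hg : g ^ 2 = 1) (hm : 0 < m) (hev : Even m)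
    (hr : (g.1.1 - 1 : Matrix ι ι F).rank = m) (ha : QAlt g) :
    Nat.card {h : Cfsg.isometryGroup F (⇑Q) // h * g = g * h} =
      Nat.card {h : ↥(Cfsg.Omega F (⇑Q)) // (h : Cfsg.isometryGroup F (⇑Q)) * g = g * h} := by
  have hmem : ∀ h : Cfsg.isometryGroup F (⇑Q), h * g = g * h → h ∈ Cfsg.Omega F (⇑Q) := fun h hc => by
    refine (conj_mem_omega_iff h2 hQ hex hdim hg (mul_inv_eq_iff_eq_mul.2 hc) hm hr ha).2 ?_
    have hfr : Module.finrank F (LinearMap.range (Matrix.toLin' (g.1.1 - 1))) = m := hr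
    rw [inf_idem, hfr]
    exact hev
  exact Nat.card_congr
    { toFun := fun h => ⟨⟨h.1, hmem _ h.2⟩, h.2⟩
      invFun := fun h => ⟨h.1.1, h.2⟩
      left_inv := fun h => rfl
      right_inv := fun h => rfl }

end

section Plus

variable [Fintype F] (h2 : (2 : F) = 0)

theorem sum_range_sub (C : ℕ) : ∀ k : ℕ, k ≤ C + 1 →
    2 * ∑ j ∈ Finset.range k, (C - j) + k * k = 2 * (k * C) + k := by
  intro k
  induction k with
  | zero => simp
  | succ k ih =>
    intro hk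
    rw [Finset.sum_range_succ]
    have := ih (by omega)
    obtain ⟨D, rfl⟩ : ∃ D, C = D + k := ⟨C - k, by omega⟩
    rw [Nat.add_sub_cancel]
    nlinarith [this]

variable {m s : ℕ}


include h2

/-- Type `b`. -/
theorem card_omega_cent_b (h : Fintype.card F ≠ 2 ∨ m ≠ 2) {x : Cfsg.isometryGroup F (⇑(qfPlus m F))} (hx : x ^ 2 = 1)
    (hs : (x.1.1 - 1 : Matrix _ _ F).rank = s) (hodd : Odd s) :
    Nat.card {g : ↥(Cfsg.Omega F (⇑(qfPlus m F))) // (g : Cfsg.isometryGroup F (⇑(qfPlus m F))) * x = x * g} =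
      Fintype.card F ^ (2 * m * (s - 1) - (3 * s ^ 2 - 3 * s) / 2) *
        spCard (Fintype.card F) ((s - 1) / 2) * spCard (Fintype.card F) (m - s) := by
  have hQ := qfPlus_sep (F := F) m
  have hdim : Fintype.card (Fin m ⊕ Fin m) = 2 * m := by simp; omega
  have hex := exGen_of_card (F := F) (ι := Fin m ⊕ Fin m) (h.imp id fun h => by simp; omega)
  obtain ⟨s', e, S, D⟩ := exists_qdata _ h2 hQ (qIsom_mem x) (qIsom_invol hx)
  obtain ⟨r1, a1⟩ := qdata_rank _ h2 hQ D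
  obtain rfl : s' = s := by rw [← hs, qrank_eq, r1]
  have hle := two_mul_le (fun v hv => hQ v hv) D.tuple
  rw [Module.finrank_fintype_fun_eq_card, hdim] at hle
  obtain ⟨t, rfl⟩ := hodd
  rcases D.kind with ⟨-, rfl⟩ | hd
  swap
  · exact absurd (even_of_alt h2 D.symm D.unit hd) (Nat.not_even_iff_odd.2 ⟨t, rfl⟩)
  have hhalf := card_or_cent_eq_two_mul h2 hQ hex hdim hx fun ⟨_, ha⟩ => by
    simpa using a1.1 ((qalt_iff h2 x).1 ha) 0
  rw [card_or_cent h2 hQ D, card_aut_one_odd h2, card_fix_tuple_one h2 _ hQ (n := m)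
    (by rw [Module.finrank_fintype_fun_eq_card, hdim]) (k := 2 * t) D.tuple fun i => by rw [D.value]; simp] at hhalf
  have hexp : ∑ j ∈ Finset.range (2 * t), (2 * m - 2 * t - 2 - j) =
      2 * m * (2 * t + 1 - 1) - (3 * (2 * t + 1) ^ 2 - 3 * (2 * t + 1)) / 2 := by
    have := sum_range_sub (2 * m - 2 * t - 2) (2 * t) (by omega)
    obtain ⟨d, hd⟩ : ∃ d, 2 * m = 4 * t + 2 + d := ⟨2 * m - (4 * t + 2), by omega⟩
    rw [show 2 * m - 2 * t - 2 = 2 * t + d by omega] at this ⊢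
    rw [show 2 * t + 1 - 1 = 2 * t by omega,
      show 3 * (2 * t + 1) ^ 2 = 12 * (t * t) + 12 * t + 3 by ring,
      show 2 * m * (2 * t) = 8 * (t * t) + 4 * t + 2 * (d * t) by rw [hd]; ring]
    rw [show (2 * t) * (2 * t + d) = 4 * (t * t) + 2 * (d * t) by ring,
      show (2 * t) * (2 * t) = 4 * (t * t) by ring] at this
    omega
  rw [← hexp, show (2 * t + 1 - 1) / 2 = t by omega, show m - (2 * t + 1) = m - 2 * t - 1 by omega]
  refine Nat.eq_of_mul_eq_mul_left two_pos (hhalf.symm.trans ?_)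
  ring

/-- Type `a`. -/
theorem card_omega_cent_a (h : Fintype.card F ≠ 2 ∨ m ≠ 2) {x : Cfsg.isometryGroup F (⇑(qfPlus m F))} (hx : x ^ 2 = 1) (hx1 : x ≠ 1)
    (hs : (x.1.1 - 1 : Matrix _ _ F).rank = s) (ha : QAlt x) :
    Nat.card {g : ↥(Cfsg.Omega F (⇑(qfPlus m F))) // (g : Cfsg.isometryGroup F (⇑(qfPlus m F))) * x = x * g} =
      Fintype.card F ^ (2 * m * s - (3 * s ^ 2 + s) / 2) * spCard (Fintype.card F) (s / 2) *
        (if s = m then 1 else Fintype.card F ^ ((m - s) * (m - s - 1)) * (Fintype.card F ^ (m - s) - 1) *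
          ∏ i : Fin (m - s - 1), (Fintype.card F ^ (2 * ((i : ℕ) + 1)) - 1)) := by
  have hQ := qfPlus_sep (F := F) m
  have hdim : Fintype.card (Fin m ⊕ Fin m) = 2 * m := by simp; omega
  have hex := exGen_of_card (F := F) (ι := Fin m ⊕ Fin m) (h.imp id fun h => by simp; omega)
  obtain ⟨s', e, S, D⟩ := exists_qdata _ h2 hQ (qIsom_mem x) (qIsom_invol hx)
  obtain ⟨r1, a1⟩ := qdata_rank _ h2 hQ D
  obtain rfl : s' = s := by rw [← hs, qrank_eq, r1]
  have hle := two_mul_le (fun v hv => hQ v hv) D.tuple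
  rw [Module.finrank_fintype_fun_eq_card, hdim] at hle
  have hd := a1.1 ((qalt_iff h2 x).1 ha)
  obtain ⟨t, rfl⟩ := even_of_alt h2 D.symm D.unit hd
  have ht : 0 < t := by
    refine Nat.pos_of_ne_zero fun h0 => hx1 (qIsom_injective (LinearEquiv.ext fun v => ?_))
    subst h0
    rw [D.eq, tmap_apply, qIsom_one]; simp
  have hplus : ∃ R : Submodule F (Fin m ⊕ Fin m → F), m ≤ Module.finrank F R ∧ ∀ v ∈ R, qfPlus m F v = 0 := by
    obtain ⟨u, hu⟩ : ∃ u : Fin m → (Fin m ⊕ Fin m → F), ∀ i, u i = Pi.single (Sum.inl i) 1 := ⟨_, fun i => rfl⟩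
    have hli : LinearIndependent F u := linearIndependent_of_dual u Sum.inl fun i j => by
      simp [hu, Pi.single_apply, eq_comm]
    refine ⟨Submodule.span F (Set.range u), by rw [finrank_span_eq_card hli, Fintype.card_fin], fun v hv => ?_⟩
    obtain ⟨c, rfl⟩ := (Submodule.mem_span_range_iff_exists_fun F).1 hv
    rw [qfPlus_apply, Cfsg.quadFormPlus]
    exact Finset.sum_eq_zero fun i _ => by simp [hu, Finset.sum_apply]
  have hexp : ∑ j ∈ Finset.range (t + t), (2 * m - (t + t) - 1 - j) =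
      2 * m * (t + t) - (3 * (t + t) ^ 2 + (t + t)) / 2 := by
    have := sum_range_sub (2 * m - (t + t) - 1) (t + t) (by omega)
    obtain ⟨d, hd⟩ : ∃ d, 2 * m = 4 * t + d := ⟨2 * m - 4 * t, by omega⟩
    obtain ⟨D', hD⟩ : ∃ D', D' = 2 * m - (t + t) - 1 := ⟨_, rfl⟩
    rw [← hD] at this ⊢
    rw [show 3 * (t + t) ^ 2 = 12 * (t * t) by ring,
      show 2 * m * (t + t) = 8 * (t * t) + 2 * (d * t) by rw [hd]; ring]
    have e1 : (t + t) * (D' + 1) = 4 * (t * t) + 2 * (d * t) := by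
      rw [show D' + 1 = 2 * t + d by omega]; ring
    rw [mul_add, mul_one] at e1
    rw [show (t + t) * (t + t) = 4 * (t * t) by ring] at this
    omega
  have hcard := card_or_cent h2 hQ D
  rw [card_aut_alt h2 D.symm D.unit hd, card_fix_tuple_ts h2 (t + t) _ hQ m
    (by rw [Module.finrank_fintype_fun_eq_card, hdim]) e D.tuple (fun i => by rw [D.value, hd]) hplus, hexp] at hcard
  by_cases hsm : t + t = m
  · rw [if_pos hsm, ← card_or_cent_eq h2 hQ hex hdim hx (by omega) ⟨t, hsm.symm⟩ (hs.trans hsm) ha, hcard,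
      show m - (t + t) = 0 by omega, plusCard, if_pos rfl]
    ring
  · have hhalf := card_or_cent_eq_two_mul h2 hQ hex hdim hx fun h => hsm (hs.symm.trans h.1)
    rw [hcard, plusCard, if_neg (by omega)] at hhalf
    rw [if_neg hsm, Fin.prod_univ_eq_prod_range (fun i => Fintype.card F ^ (2 * (i + 1)) - 1)]
    refine Nat.eq_of_mul_eq_mul_left two_pos (hhalf.symm.trans ?_)
    ring

/-- Type `c`. -/
theorem card_omega_cent_c (h : Fintype.card F ≠ 2 ∨ m ≠ 2) {x : Cfsg.isometryGroup F (⇑(qfPlus m F))} (hx : x ^ 2 = 1)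
    (hs : (x.1.1 - 1 : Matrix _ _ F).rank = s) (heven : Even s) (hna : ¬ QAlt x) :
    Nat.card {g : ↥(Cfsg.Omega F (⇑(qfPlus m F))) // (g : Cfsg.isometryGroup F (⇑(qfPlus m F))) * x = x * g} =
      Fintype.card F ^ (2 * m * (s - 1) - (3 * s ^ 2 - 5 * s) / 2 - 1) *
        spCard (Fintype.card F) ((s - 2) / 2) * spCard (Fintype.card F) (m - s) := by
  have hQ := qfPlus_sep (F := F) m
  have hdim : Fintype.card (Fin m ⊕ Fin m) = 2 * m := by simp; omega
  have hex := exGen_of_card (F := F) (ι := Fin m ⊕ Fin m) (h.imp id fun h => by simp; omega)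
  obtain ⟨s', e, S, D⟩ := exists_qdata _ h2 hQ (qIsom_mem x) (qIsom_invol hx)
  obtain ⟨r1, a1⟩ := qdata_rank _ h2 hQ D
  obtain rfl : s' = s := by rw [← hs, qrank_eq, r1]
  have hle := two_mul_le (fun v hv => hQ v hv) D.tuple
  rw [Module.finrank_fintype_fun_eq_card, hdim] at hle
  have hna' : ¬ ∀ i, S i i = 0 := fun hd => hna ((qalt_iff h2 x).2 (a1.2 hd))
  rcases D.kind with ⟨h1, rfl⟩ | hd
  swap
  · exact absurd hd hna'
  obtain ⟨k, rfl⟩ : ∃ k, s' = 2 * (k + 1) := by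
    obtain ⟨t, rfl⟩ := heven
    exact ⟨t - 1, by omega⟩
  have hhalf := card_or_cent_eq_two_mul h2 hQ hex hdim hx fun h => hna h.2
  rw [card_or_cent h2 hQ D, card_aut_one_even h2 (k := k + 1) (by omega), card_fix_tuple_one h2 _ hQ (n := m)
    (by rw [Module.finrank_fintype_fun_eq_card, hdim]) (k := 2 * k + 1) D.tuple fun i => by rw [D.value]; simp,
    Nat.add_sub_cancel] at hhalf
  have hexp : ∑ j ∈ Finset.range (2 * k + 1), (2 * m - (2 * k + 1) - 2 - j) + (2 * (k + 1) - 1) =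
      2 * m * (2 * (k + 1) - 1) - (3 * (2 * (k + 1)) ^ 2 - 5 * (2 * (k + 1))) / 2 - 1 := by
    have := sum_range_sub (2 * m - (2 * k + 1) - 2) (2 * k + 1) (by omega)
    obtain ⟨d, hd⟩ : ∃ d, 2 * m = 4 * k + 4 + d := ⟨2 * m - (4 * k + 4), by omega⟩
    rw [show 2 * m - (2 * k + 1) - 2 = 2 * k + 1 + d by omega] at this ⊢
    rw [show 2 * (k + 1) - 1 = 2 * k + 1 by omega,
      show 3 * (2 * (k + 1)) ^ 2 = 12 * (k * k) + 24 * k + 12 by ring,
      show 2 * m * (2 * k + 1) = 8 * (k * k) + 12 * k + 4 + (2 * (d * k) + d) by rw [hd]; ring]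
    rw [show (2 * k + 1) * (2 * k + 1 + d) = 4 * (k * k) + 4 * k + 1 + (2 * (d * k) + d) by ring,
      show (2 * k + 1) * (2 * k + 1) = 4 * (k * k) + 4 * k + 1 by ring] at this
    omega
  rw [← hexp, pow_add, show (2 * (k + 1) - 2) / 2 = k by omega,
    show m - 2 * (k + 1) = m - (2 * k + 1) - 1 by omega]
  refine Nat.eq_of_mul_eq_mul_left two_pos (hhalf.symm.trans ?_)
  ring

end Plus

end CfsgLib.Classical.InvTwo

namespace CfsgLib.Classical.InvTwo

open Matrix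

theorem qalt_iff_sub {F : Type*} [Field F] {ι : Type} [Fintype ι] [DecidableEq ι] {Q : QuadraticForm F (ι → F)}
    (h2 : (2 : F) = 0) (x : Cfsg.isometryGroup F (⇑Q)) : QAlt x ↔ ∀ v, Q ((x.1.1 - 1) *ᵥ v) = 0 := by
  refine forall_congr' fun v => ?_
  rw [sub_mulVec, one_mulVec, sub_eq_add_neg, show -v = v by
    rw [neg_eq_iff_add_eq_zero, ← two_smul F, h2, zero_smul], add_comm]

end CfsgLib.Classical.InvTwo
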