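import Mathlib
import Cfsg.Agent.Lib.Classical.InvTwoSp

/-!
The number of classes of involutions of `Sp_2m(q)`, `q` even.
-/

set_option autoImplicit false

namespace CfsgLib.Classical.InvTwo

open Matrix CfsgLib.Geom

variable {F : Type*} [Field F] [Fintype F] {m : ℕ}

local notation "W" => (Fin m ⊕ Fin m → F)
local notation "Sp" => Matrix.symplecticGroup (Fin m) F

theorem exists_sp_invol (h2 : (2 : F) = 0) {s : ℕ} (hs : 1 ≤ s) (hsm : s ≤ m) {S : Matrix (Fin s) (Fin s) F}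
    (hS : Sᵀ = S) (hu : IsUnit S) :
    ∃ g : Sp, orderOf g = 2 ∧ ((g : Matrix (Fin m ⊕ Fin m) (Fin m ⊕ Fin m) F) - 1).rank = s ∧
      ((∀ v, sympBilin m F v (toIsom g v) = 0) ↔ ∀ i, S i i = 0) := by
  obtain ⟨e, he⟩ : ∃ e : Fin s → W, ∀ i, e i = Pi.single (Sum.inl (Fin.castLE hsm i)) 1 := ⟨_, fun i => rfl⟩
  have hei : IsoTuple (sympBilin m F) e := by
    refine ⟨?_, fun i j => ?_⟩
    · rw [show e = (fun k => Pi.single k (1 : F)) ∘ fun i => Sum.inl (Fin.castLE hsm i) from funext he]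
      exact (Pi.linearIndependent_single_one (Fin m ⊕ Fin m) F).comp _
        (Sum.inl_injective.comp (Fin.castLE_injective hsm))
    · rw [he, he, sympBilin_apply, sympForm_eq_sum]
      simp [Pi.single_apply]
  obtain ⟨g, hg, hgg, hge⟩ := exists_invol h2 sympBilin_self hei hS
  obtain ⟨r1, a1⟩ := rank_and_alt h2 sympBilin_self sympBilin_sep hei hS hu hge
  have hG : toIsom (spEquiv m F ⟨g, hg⟩) = g := by simp [toIsom]
  have hne : spEquiv m F ⟨g, hg⟩ ≠ 1 := fun h => by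
    have h0 : g.toLinearMap - LinearMap.id = 0 := by
      rw [← hG, h]; simp [toIsom]
    rw [h0, LinearMap.range_zero, finrank_bot] at r1
    omega
  refine ⟨spEquiv m F ⟨g, hg⟩, orderOf_eq_prime (toIsom_injective (LinearEquiv.ext fun v => ?_)) hne,
    by rw [rank_eq, hG, r1], by rw [hG]; exact a1⟩
  rw [sq, toIsom_mul, LinearEquiv.mul_apply, hG, hgg]
  simp [toIsom]

omit [Fintype F] in
theorem rank_pos {g : Sp} (hg : orderOf g = 2) :
    1 ≤ ((g : Matrix (Fin m ⊕ Fin m) (Fin m ⊕ Fin m) F) - 1).rank := by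
  refine Nat.one_le_iff_ne_zero.2 fun h => ?_
  rw [rank_eq, Submodule.finrank_eq_zero, LinearMap.range_eq_bot, sub_eq_zero] at h
  have : g = 1 := toIsom_injective (LinearEquiv.ext fun v => by
    rw [show toIsom g v = v from LinearMap.congr_fun h v]; simp [toIsom])
  rw [this, orderOf_one] at hg
  exact absurd hg (by norm_num)

theorem rank_bound (h2 : (2 : F) = 0) {g : Sp} (hg : g ^ 2 = 1) :
    ((g : Matrix (Fin m ⊕ Fin m) (Fin m ⊕ Fin m) F) - 1).rank ≤ m ∧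
    ((∀ v, sympBilin m F v (toIsom g v) = 0) → Even ((g : Matrix (Fin m ⊕ Fin m) (Fin m ⊕ Fin m) F) - 1).rank) := by
  obtain ⟨s, e, S, he, hS, hu, hr, a1, -, -⟩ := card_cent_sp h2 hg
  have := two_mul_le sympBilin_sep he
  rw [finrank_W] at this
  rw [hr]
  exact ⟨by omega, fun h => even_of_alt h2 hS hu (a1.1 h)⟩

/-- `Sp_2m(q)`, `q` even, has `m + m/2` classes of involutions. -/
theorem card_classes_sp (h2 : (2 : F) = 0) :
    Nat.card {C : ConjClasses Sp // ∃ g : Sp, ConjClasses.mk g = C ∧ orderOf g = 2} = m + m / 2 := by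
  classical
  have hone : ∀ i : Fin m, ∃ g : Sp, orderOf g = 2 ∧
      ((g : Matrix (Fin m ⊕ Fin m) (Fin m ⊕ Fin m) F) - 1).rank = (i : ℕ) + 1 ∧
      ((∀ v, sympBilin m F v (toIsom g v) = 0) ↔ ∀ j, (1 : Matrix (Fin ((i : ℕ) + 1)) _ F) j j = 0) :=
    fun i => exists_sp_invol h2 (by omega) i.2 transpose_one isUnit_one
  have halt : ∀ k : Fin (m / 2), ∃ g : Sp, orderOf g = 2 ∧
      ((g : Matrix (Fin m ⊕ Fin m) (Fin m ⊕ Fin m) F) - 1).rank = 2 * ((k : ℕ) + 1) ∧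
      (∀ v, sympBilin m F v (toIsom g v) = 0) := fun k => by
    obtain ⟨S, hS, hu, hd⟩ := exists_alt (F := F) h2 ((k : ℕ) + 1)
    obtain ⟨g, h1, h3, h4⟩ := exists_sp_invol (m := m) h2 (by omega) (by have := k.2; omega) hS hu
    exact ⟨g, h1, h3, h4.2 hd⟩
  choose f1 hf1o hf1r hf1a using hone
  choose f2 hf2o hf2r hf2a using halt
  have hna : ∀ i, ¬ ∀ v, sympBilin m F v (toIsom (f1 i) v) = 0 := fun i h => by
    simpa using (hf1a i).1 h 0
  have hsq : ∀ g : Sp, orderOf g = 2 → g ^ 2 = 1 := fun g hg => hg ▸ pow_orderOf_eq_one g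
  obtain ⟨f, hf⟩ : ∃ f : Fin m ⊕ Fin (m / 2) → Sp, f = Sum.elim f1 f2 := ⟨_, rfl⟩
  have hfo : ∀ x, orderOf (f x) = 2 := fun x => by
    rw [hf]; rcases x with i | k
    · exact hf1o i
    · exact hf2o k
  rw [show m + m / 2 = Nat.card (Fin m ⊕ Fin (m / 2)) by simp]
  refine (Nat.card_congr (Equiv.ofBijective (fun x => ⟨ConjClasses.mk (f x), f x, rfl, hfo x⟩) ⟨?_, ?_⟩)).symm
  · intro x y h
    obtain ⟨hr, ha⟩ := (isConj_sp_iff h2 (hsq _ (hfo x)) (hsq _ (hfo y))).1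
      (ConjClasses.mk_eq_mk_iff_isConj.1 (congrArg Subtype.val h))
    rcases x with i | k <;> rcases y with j | l <;> simp only [hf, Sum.elim_inl, Sum.elim_inr] at hr ha
    · rw [hf1r, hf1r] at hr; exact congrArg Sum.inl (Fin.ext (by omega))
    · exact absurd (ha.2 (hf2a l)) (hna i)
    · exact absurd (ha.1 (hf2a k)) (hna j)
    · rw [hf2r, hf2r] at hr; exact congrArg Sum.inr (Fin.ext (by omega))
  · rintro ⟨_, g, rfl, hg⟩
    obtain ⟨hle, hev⟩ := rank_bound h2 (hsq g hg)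
    have h1 := rank_pos hg
    by_cases ha : ∀ v, sympBilin m F v (toIsom g v) = 0
    · obtain ⟨k, hk⟩ := hev ha
      refine ⟨Sum.inr ⟨k - 1, by omega⟩, Subtype.ext (ConjClasses.mk_eq_mk_iff_isConj.2 ?_)⟩
      refine (isConj_sp_iff h2 (hsq _ (hfo _)) (hsq g hg)).2 ?_
      simp only [hf, Sum.elim_inr]
      exact ⟨(hf2r _).trans (by show 2 * (k - 1 + 1) = _; omega), iff_of_true (hf2a _) ha⟩
    · refine ⟨Sum.inl ⟨((g : Matrix (Fin m ⊕ Fin m) (Fin m ⊕ Fin m) F) - 1).rank - 1, by omega⟩,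
        Subtype.ext (ConjClasses.mk_eq_mk_iff_isConj.2 ?_)⟩
      refine (isConj_sp_iff h2 (hsq _ (hfo _)) (hsq g hg)).2 ?_
      simp only [hf, Sum.elim_inl]
      exact ⟨(hf1r _).trans (by show _ - 1 + 1 = _; omega), iff_of_false (hna _) ha⟩

end CfsgLib.Classical.InvTwo
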