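import Mathlib

/-!
# Arithmetic for the minimal degrees of orthogonal groups
-/

set_option autoImplicit false

namespace CfsgLib.Classical.OMinDeg

theorem le_of_mul_den {d N den bound : ℝ} (hd : 0 ≤ d) (h : d * den = N) (hle : den ≤ bound) :
    N ≤ d * bound := h ▸ mul_le_mul_of_nonneg_left hle hd

/-- The frame alternative for odd dimension: `y = q ^ m`. -/
theorem odd_frame {d q y α β : ℝ} (hq : 3 ≤ q) (hy : q ≤ y) (hd : 0 ≤ d)
    (hfr : d * ((q - 1) * (1 + q * y ^ 2 * β ^ 2) + q * (y ^ 2 - 1) * α ^ 2) =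
      (q - 1) * (1 + q * y ^ 2) + q * (y ^ 2 - 1))
    (hcase : (α = 0 ∧ β = 0) ∨
      (α = 0 ∧ ∃ Γ : ℝ, |Γ| ≤ (q - 1) * y ∧ q * y ^ 2 * β ^ 2 = 1 + β * Γ) ∨
      ((q - 1) * (1 + q * y ^ 2 * β) + q * (y ^ 2 - 1) * α = 0 ∧
        q * y ^ 2 * β ^ 2 = 1 + (y ^ 2 - 1) * α + β * (q * y ^ 2 - 1 - (y ^ 2 - 1)))) :
    q ^ 2 * y ^ 2 - 1 ≤ d * (q ^ 2 - 1) := by
  have hden : (q - 1) * (1 + q * y ^ 2 * β ^ 2) + q * (y ^ 2 - 1) * α ^ 2 ≤ q ^ 2 - 1 := by
    rcases hcase with ⟨ha, hb⟩ | ⟨ha, Γ, hΓ, he⟩ | ⟨h1, h2⟩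
    · rw [ha, hb]; nlinarith
    · rw [ha]
      have hb : |β| * y ≤ 1 := by
        by_contra hcon
        push Not at hcon
        have h1 : q * y ^ 2 * β ^ 2 ≤ 1 + |β| * ((q - 1) * y) := by
          rw [he]
          have : β * Γ ≤ |β| * ((q - 1) * y) :=
            (le_abs_self _).trans ((abs_mul β Γ).le.trans (mul_le_mul_of_nonneg_left hΓ (abs_nonneg _)))
          linarith
        have h2 : q * y ^ 2 * β ^ 2 = q * (|β| * y) ^ 2 := by rw [mul_pow, sq_abs]; ring
        nlinarith [h1, h2, mul_pos (sub_pos.2 hcon)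
          (show 0 < q * (|β| * y) + 1 by nlinarith)]
      have h3 : q * y ^ 2 * β ^ 2 ≤ q := by
        have h2 : q * y ^ 2 * β ^ 2 = q * (|β| * y) ^ 2 := by rw [mul_pow, sq_abs]; ring
        have h4 : (|β| * y) ^ 2 ≤ 1 := by
          have : 0 ≤ |β| * y := mul_nonneg (abs_nonneg _) (by linarith)
          nlinarith
        rw [h2]; nlinarith
      nlinarith [h3]
    · have hb : q ^ 2 * y ^ 2 * β ^ 2 = 1 := by
        linear_combination q * h2 + h1
      have hy2 : (0 : ℝ) < y ^ 2 - 1 := by nlinarith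
      have hqy : (q * y * β) ^ 2 = 1 := by linear_combination hb
      have hs : q * y * β = 1 ∨ q * y * β = -1 := sq_eq_one_iff.1 hqy
      have hbound : (q * y ^ 2 * β + 1) ^ 2 ≤ (y + 1) ^ 2 := by
        rcases hs with h | h
        · rw [show q * y ^ 2 * β = (q * y * β) * y by ring, h, one_mul]
        · rw [show q * y ^ 2 * β = (q * y * β) * y by ring, h]; nlinarith
      have hA : q * (y ^ 2 - 1) * α ^ 2 * (q * (y ^ 2 - 1)) ≤ (q - 1) ^ 2 * (y + 1) ^ 2 := by
        have e : q * (y ^ 2 - 1) * α = -((q - 1) * (q * y ^ 2 * β + 1)) := by linear_combination h1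
        calc q * (y ^ 2 - 1) * α ^ 2 * (q * (y ^ 2 - 1)) = (q * (y ^ 2 - 1) * α) ^ 2 := by ring
          _ = (q - 1) ^ 2 * (q * y ^ 2 * β + 1) ^ 2 := by rw [e]; ring
          _ ≤ _ := mul_le_mul_of_nonneg_left hbound (sq_nonneg _)
      have hA' : q * (y ^ 2 - 1) * α ^ 2 * (q * (y - 1)) ≤ (q - 1) ^ 2 * (y + 1) := by
        have hy1 : (0 : ℝ) < y + 1 := by linarith
        refine le_of_mul_le_mul_right ?_ hy1
        linear_combination hA
      have hA'' : q * (y ^ 2 - 1) * α ^ 2 * q ≤ (q - 1) ^ 2 * 2 := by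
        have hy1 : (0 : ℝ) < y - 1 := by linarith
        refine le_of_mul_le_mul_right ?_ hy1
        nlinarith [hA', mul_nonneg (sq_nonneg (q - 1)) (show (0 : ℝ) ≤ y - 3 by linarith)]
      have hq0 : (0 : ℝ) < q := by linarith
      refine le_of_mul_le_mul_right ?_ hq0
      have e2 : q * y ^ 2 * β ^ 2 * q = 1 := by linear_combination hb
      nlinarith [hA'', e2]
  have h := le_of_mul_den hd hfr hden
  linarith [h]

/-- The frame alternative for even dimension: `y = q ^ (m - 1)`. -/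
theorem even_frame {d q y ε α β S : ℝ} (hε : ε = 1 ∨ ε = -1) (hq : 2 ≤ q) (h4 : ε = 1 → 4 ≤ q)
    (hy : 4 ≤ y) (hd : 0 ≤ d) (hS : S = q * y ^ 2 + ε * (q * y - y) - 1)
    (hfr : d * ((q - 1) * (1 + q ^ 2 * y ^ 2 * β ^ 2) + q * S * α ^ 2) =
      (q - 1) * (1 + q ^ 2 * y ^ 2) + q * S)
    (hcase : (α = 0 ∧ β = 0) ∨
      (α = 0 ∧ ∃ Γ : ℝ, |Γ| ≤ (q - 1) * 0 ∧ q ^ 2 * y ^ 2 * β ^ 2 = 1 + β * Γ) ∨
      ((q - 1) * (1 + q ^ 2 * y ^ 2 * β) + q * S * α = 0 ∧
        q ^ 2 * y ^ 2 * β ^ 2 = 1 + S * α + β * (q ^ 2 * y ^ 2 - 1 - S))) :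
    (q ^ 2 * y - ε) * (q * y + ε * q) ≤ d * (q ^ 2 - 1) := by
  have hN : (q - 1) * (1 + q ^ 2 * y ^ 2) + q * S = (q ^ 2 * y - ε) * (q * y + ε) := by
    rcases hε with rfl | rfl <;> rw [hS] <;> ring
  have hS2 : S = (q * y - ε) * (y + ε) := by rcases hε with rfl | rfl <;> rw [hS] <;> ring
  have hqy : 4 ≤ q * y := by nlinarith
  have hSpos : 0 < S := by
    rw [hS2]
    rcases hε with rfl | rfl <;> exact mul_pos (by linarith) (by linarith)
  have hxq : 0 < q * y + ε * q := by rcases hε with rfl | rfl <;> nlinarith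
  have hpos : 0 < q * y + ε := by rcases hε with rfl | rfl <;> nlinarith
  suffices hden : ((q - 1) * (1 + q ^ 2 * y ^ 2 * β ^ 2) + q * S * α ^ 2) * (q * y + ε * q) ≤
      (q ^ 2 - 1) * (q * y + ε) by
    have hE : (q ^ 2 * y - ε) * (q * y + ε) * (q * y + ε * q) ≤
        d * ((q ^ 2 - 1) * (q * y + ε)) := by
      rw [← hN, ← hfr]
      calc _ = d * (((q - 1) * (1 + q ^ 2 * y ^ 2 * β ^ 2) + q * S * α ^ 2) * (q * y + ε * q)) := by
            ring
        _ ≤ _ := mul_le_mul_of_nonneg_left hden hd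
    refine le_of_mul_le_mul_right ?_ hpos
    linear_combination hE
  rcases hcase with ⟨ha, hb⟩ | ⟨ha, Γ, hΓ, he⟩ | ⟨h1, h2⟩
  · have h1 : 0 ≤ (q - 1) * (q ^ 2 * y + ε) :=
      mul_nonneg (by linarith) (by rcases hε with rfl | rfl <;> nlinarith)
    rw [ha, hb]
    linear_combination h1
  · rw [mul_zero, abs_nonpos_iff] at hΓ
    rw [hΓ, mul_zero, add_zero] at he
    have h1 : 0 ≤ (q - 1) * ((q - 1) * (q * y - ε)) :=
      mul_nonneg (by linarith) (mul_nonneg (by linarith) (by rcases hε with rfl | rfl <;> linarith))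
    rw [ha, he]
    linear_combination h1
  · have hroot : (q ^ 2 * y ^ 2 * β - ε * y) * (q ^ 2 * y ^ 2 * β + ε * q * y) = 0 := by
      rcases hε with rfl | rfl <;> subst hS <;> linear_combination (q * y ^ 2) * (q * h2 + h1)
    have e : q * S * α = -((q - 1) * (1 + q ^ 2 * y ^ 2 * β)) := by linear_combination h1
    refine le_of_mul_le_mul_right ?_ (mul_pos (show (0 : ℝ) < q by linarith) hSpos)
    have eq1 : ((q - 1) * (1 + q ^ 2 * y ^ 2 * β ^ 2) + q * S * α ^ 2) * (q * y + ε * q) * (q * S) =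
        (q - 1) * (q * y + ε * q) * (q * S * (1 + q ^ 2 * y ^ 2 * β ^ 2) +
          (q - 1) * (1 + q ^ 2 * y ^ 2 * β) ^ 2) := by
      calc _ = (q - 1) * (q * y + ε * q) * (q * S * (1 + q ^ 2 * y ^ 2 * β ^ 2)) +
            (q * y + ε * q) * (q * S * α) ^ 2 := by ring
        _ = _ := by rw [e]; ring
    rw [eq1]
    have hy0 : y ≠ 0 := by linarith
    have hq0 : q ≠ 0 := by linarith
    rcases mul_eq_zero.1 hroot with hr | hr
    · have hθ : q ^ 2 * y ^ 2 * β = ε * y := by linarith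
      have hb2 : q ^ 2 * y ^ 2 * β ^ 2 * q ^ 2 = ε ^ 2 := by
        refine mul_right_cancel₀ (pow_ne_zero 2 hy0) ?_
        linear_combination (q ^ 2 * y ^ 2 * β + ε * y) * hθ
      rw [hθ]
      refine le_of_mul_le_mul_right ?_ (pow_pos (show (0 : ℝ) < q by linarith) 2)
      have eq2 : (q - 1) * (q * y + ε * q) * (q * S * (1 + q ^ 2 * y ^ 2 * β ^ 2) +
          (q - 1) * (1 + ε * y) ^ 2) * q ^ 2 = (q - 1) * (q * y + ε * q) *
            (q * S * (q ^ 2 + ε ^ 2) + (q - 1) * (1 + ε * y) ^ 2 * q ^ 2) := by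
        rw [← hb2]; ring
      rw [eq2]
      rcases hε with rfl | rfl
      · have hq4 := h4 rfl
        have k1 : (q * y - 1) * (q ^ 2 + 1) + q * (q - 1) * (y + 1) ≤ (q * y - 1) * (q + 1) ^ 2 := by
          have : (q - 1) * (y + 1) ≤ 2 * (q * y - 1) := by nlinarith
          linear_combination q * this
        have k2 : (y + 1) * (q + 1) ^ 2 ≤ q * (q + 1) * (q * y + 1) := by
          have : 1 ≤ y * (q ^ 2 - q - 1) := by nlinarith
          linear_combination (q + 1) * this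
        have k3 : (y + 1) * ((q * y - 1) * (q ^ 2 + 1) + q * (q - 1) * (y + 1)) ≤
            q * (q + 1) * (q * y + 1) * (q * y - 1) := by
          calc _ ≤ (y + 1) * ((q * y - 1) * (q + 1) ^ 2) := mul_le_mul_of_nonneg_left k1 (by linarith)
            _ = (y + 1) * (q + 1) ^ 2 * (q * y - 1) := by ring
            _ ≤ _ := mul_le_mul_of_nonneg_right k2 (by linarith)
        have hc : 0 ≤ (q - 1) * q ^ 2 * (y + 1) :=
          mul_nonneg (mul_nonneg (by linarith) (sq_nonneg q)) (by linarith)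
        rw [hS2]
        linear_combination mul_le_mul_of_nonneg_left k3 hc
      · have k1 : (q * y + 1) * (q ^ 2 + 1) + q * (q - 1) * (y - 1) ≤
            (q * y + 1) * (q ^ 2 + q + 1) := by
          have : (q - 1) * (y - 1) ≤ q * y + 1 := by nlinarith
          linear_combination q * this
        have k2 : (y - 1) * (q ^ 2 + q + 1) ≤ q * (q + 1) * (q * y - 1) := by
          have : 0 ≤ y * (q ^ 3 - q - 1) + 1 := by
            have h1 : 0 ≤ q ^ 3 - q - 1 := by nlinarith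
            positivity
          linear_combination this
        have k3 : (y - 1) * ((q * y + 1) * (q ^ 2 + 1) + q * (q - 1) * (y - 1)) ≤
            q * (q + 1) * (q * y - 1) * (q * y + 1) := by
          calc _ ≤ (y - 1) * ((q * y + 1) * (q ^ 2 + q + 1)) :=
                mul_le_mul_of_nonneg_left k1 (by linarith)
            _ = (y - 1) * (q ^ 2 + q + 1) * (q * y + 1) := by ring
            _ ≤ _ := mul_le_mul_of_nonneg_right k2 (by linarith)
        have hc : 0 ≤ (q - 1) * q ^ 2 * (y - 1) :=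
          mul_nonneg (mul_nonneg (by linarith) (sq_nonneg q)) (by linarith)
        rw [hS2]
        linear_combination mul_le_mul_of_nonneg_left k3 hc
    · have hθ : q ^ 2 * y ^ 2 * β = -(ε * q * y) := by linarith
      have hb2 : q ^ 2 * y ^ 2 * β ^ 2 = ε ^ 2 := by
        refine mul_right_cancel₀ (pow_ne_zero 2 (mul_ne_zero hq0 hy0)) ?_
        linear_combination (q ^ 2 * y ^ 2 * β - ε * q * y) * hθ
      rw [hθ, hb2]
      rcases hε with rfl | rfl <;> rw [hS] <;> ring_nf <;> exact le_refl _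

end CfsgLib.Classical.OMinDeg
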