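import Cfsg.Agent.Lib.Classical.OMinDegVectors

/-!
# Irreducible representations with a vector fixed by a point stabiliser
-/

set_option autoImplicit false

namespace CfsgLib.Classical.OMinDeg

open CfsgLib.Geom CfsgLib.Classical CfsgLib.Classical.SLMinDeg Module
open QuadraticMap (polar)
open scoped ComplexConjugate

variable {F V : Type*} [Field F] [AddCommGroup V] [Module F V] {Q : QuadraticForm F V}
variable {E : Type*} [AddCommGroup E] [Module ℂ E] [FiniteDimensional ℂ E]

namespace Pair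

variable (P : Pair Q) [Fintype F] [FiniteDimensional F V] [Fintype P.W]
  {ρ : Representation ℂ ↥(siegelGroup Q) E} (B : InvForm ρ)

include B

/-- The frame identity for the singular vectors, with the equations for its two inner products. -/
theorem frame_equations (hQ : ∀ x, (∀ y, polar Q x y = 0) → x = 0) (h5 : 5 ≤ finrank F P.W)
    (P' : Pair P.QW) (hirr : ρ.IsIrreducible) [Nontrivial E]
    (hnofix : ∀ x : E, (∀ g, ρ g x = x) → x = 0) {v₀ : E} (hv₀ : v₀ ≠ 0)
    (hst : ∀ g : ↥(siegelGroup Q), g.1.1 P.e = P.e → ρ g v₀ = v₀) (K D : ℝ)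
    (hlev : ∀ c : F, c ≠ 0 → |(Nat.card {w : P.W // Q (w : V) = c} : ℝ) - K| ≤ D) :
    ∃ α β : ℝ,
      (finrank ℂ E : ℝ) * (((Fintype.card F : ℝ) - 1) * (1 + (Fintype.card P.W : ℝ) * β ^ 2) +
          (Fintype.card F : ℝ) * (Nat.card {w : P.W // w ≠ 0 ∧ Q (w : V) = 0} : ℝ) * α ^ 2) =
        ((Fintype.card F : ℝ) - 1) * (1 + (Fintype.card P.W : ℝ)) +
          (Fintype.card F : ℝ) * (Nat.card {w : P.W // w ≠ 0 ∧ Q (w : V) = 0} : ℝ) ∧
      ((α = 0 ∧ β = 0) ∨
       (α = 0 ∧ ∃ Γ : ℝ, |Γ| ≤ ((Fintype.card F : ℝ) - 1) * D ∧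
          (Fintype.card P.W : ℝ) * β ^ 2 = 1 + β * Γ) ∨
       (((Fintype.card F : ℝ) - 1) * (1 + (Fintype.card P.W : ℝ) * β) +
          (Fintype.card F : ℝ) * (Nat.card {w : P.W // w ≠ 0 ∧ Q (w : V) = 0} : ℝ) * α = 0 ∧
        (Fintype.card P.W : ℝ) * β ^ 2 =
          1 + (Nat.card {w : P.W // w ≠ 0 ∧ Q (w : V) = 0} : ℝ) * α +
            β * ((Fintype.card P.W : ℝ) - 1 -
              (Nat.card {w : P.W // w ≠ 0 ∧ Q (w : V) = 0} : ℝ)))) := by
  classical
  have h5V : 5 ≤ finrank F V := by have := P.finrank_W; omega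
  have hQW := P.sep_W hQ
  let X := {x : V // x ≠ 0 ∧ Q x = 0}
  have htr : ∀ x : X, ∃ g : ↥(siegelGroup Q), g.1.1 P.e = x.1 := fun x => by
    obtain ⟨g, hg, h⟩ := siegel_transitive Q hQ h5V P.he x.2.2 P.e_ne x.2.1
    exact ⟨⟨g, hg⟩, h⟩
  choose k hk using htr
  -- the fixed space and the scaling operators
  let K0 : Submodule ℂ E :=
    { carrier := {x | ∀ g : ↥(siegelGroup Q), g.1.1 P.e = P.e → ρ g x = x}
      add_mem' := fun {a b} ha hb g hg => by rw [map_add, ha g hg, hb g hg]
      zero_mem' := fun g _ => map_zero _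
      smul_mem' := fun c x hx g hg => by rw [map_smul, hx g hg] }
  let ex : Fˣ → X := fun a =>
    ⟨(a : F) • P.e, smul_ne_zero a.ne_zero P.e_ne, by rw [quad_smul, P.he, mul_zero]⟩
  have hindep : ∀ g h : ↥(siegelGroup Q), g.1.1 P.e = h.1.1 P.e → ∀ x ∈ K0, ρ g x = ρ h x := by
    intro g h e x hx
    have h1 := hx (h⁻¹ * g) (by
      change h.1.1.symm (g.1.1 P.e) = _
      rw [e, LinearEquiv.symm_apply_apply])
    have h2 := congrArg (ρ h) h1
    rw [← Module.End.mul_apply, ← map_mul, mul_inv_cancel_left] at h2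
    exact h2
  have hDmem : ∀ a : Fˣ, ∀ x ∈ K0, ρ (k (ex a)) x ∈ K0 := by
    intro a x hx g hg
    rw [← Module.End.mul_apply, ← map_mul]
    refine hindep _ _ ?_ x hx
    change g.1.1 ((k (ex a)).1.1 P.e) = _
    rw [hk]
    change g.1.1 ((a : F) • P.e) = _
    rw [map_smul, hg]
  let Dh : Fˣ →* Module.End ℂ K0 :=
    { toFun := fun a => (ρ (k (ex a))).restrict (hDmem a)
      map_one' := LinearMap.ext fun x => Subtype.ext (by
        change ρ (k (ex 1)) x = (x : E)
        refine x.2 _ ?_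
        rw [hk]; exact one_smul _ _)
      map_mul' := fun a b => LinearMap.ext fun x => Subtype.ext (by
        change ρ (k (ex (a * b))) x = ρ (k (ex a)) (ρ (k (ex b)) (x : E))
        rw [← Module.End.mul_apply, ← map_mul]
        refine hindep _ _ ?_ x x.2
        change _ = (k (ex a)).1.1 ((k (ex b)).1.1 P.e)
        rw [hk, hk]
        change ((a * b : Fˣ) : F) • P.e = (k (ex a)).1.1 ((b : F) • P.e)
        rw [map_smul, hk, Units.val_mul, smul_smul, mul_comm]) }
  have : Nontrivial K0 := ⟨⟨v₀, hst⟩, 0, fun e => hv₀ (congrArg Subtype.val e)⟩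
  obtain ⟨v₁, hv₁0, hv₁⟩ := exists_eigen_family Dh
  choose μ hμv₁ using hv₁
  -- the sum over the opposite vectors
  let y : P.W → X := fun w => ⟨(P.rad w).1.1 P.f,
    fun h => P.f_ne ((P.rad w).1.1.injective (h.trans (map_zero _).symm)),
    by rw [mem_quadIsoms.1 (P.rad w).1.2, P.hf]⟩
  let Bop : Module.End ℂ E := ∑ w : P.W, ρ (k (y w))
  obtain ⟨v, hv, hvK, hμ, hBv⟩ : ∃ v : E, v ≠ 0 ∧ v ∈ K0 ∧
      (∀ a : Fˣ, ρ (k (ex a)) v = μ a • v) ∧ ((∀ a, μ a * μ a = 1) → ∃ θ : ℂ, Bop v = θ • v) := by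
    by_cases hsq : ∀ a, μ a * μ a = 1
    swap
    · exact ⟨v₁, fun e => hv₁0 (Subtype.ext e), v₁.2, fun a => congrArg Subtype.val (hμv₁ a),
        fun h => absurd h hsq⟩
    let K1 : Submodule ℂ E :=
      { carrier := {x | x ∈ K0 ∧ ∀ a : Fˣ, ρ (k (ex a)) x = μ a • x}
        add_mem' := fun {a b} ha hb => ⟨K0.add_mem ha.1 hb.1, fun c => by
          rw [map_add, ha.2, hb.2, smul_add]⟩
        zero_mem' := ⟨K0.zero_mem, fun c => by simp⟩
        smul_mem' := fun c x hx => ⟨K0.smul_mem c hx.1, fun a => by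
          rw [map_smul, hx.2, smul_comm]⟩ }
    have hBmem : ∀ x ∈ K1, Bop x ∈ K1 := by
      intro x hx
      have hact : ∀ (g : ↥(siegelGroup Q)) (a : Fˣ), g.1.1 P.e = (a : F) • P.e →
          ρ g (Bop x) = μ a⁻¹ • Bop x := by
        intro g a hg
        obtain ⟨π, hπ⟩ : ∃ π : P.W → P.W, ∀ w, g.1.1 (y w).1 = (↑a⁻¹ : F) • (y (π w)).1 := by
          refine ⟨fun w => P.pr ((a : F) • g.1.1 (y w).1), fun w => ?_⟩
          set z := (a : F) • g.1.1 (y w).1 with hz
          have hp : polar Q P.e z = 1 := by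
            have h1 := polar_quadIsom g.1.2 P.e (y w).1
            rw [hg, QuadraticMap.polar_smul_left] at h1
            rw [hz, QuadraticMap.polar_smul_right, h1]
            change polar Q P.e ((P.rad w).1.1 P.f) = 1
            rw [← P.rad_e w, polar_quadIsom (P.rad w).1.2, P.hef]
          have hq : Q z = 0 := by
            rw [hz, quad_smul, mem_quadIsoms.1 g.1.2, (y w).2.2, mul_zero]
          have hzz : (y (P.pr z)).1 = z := by
            change (P.rad (P.pr z)).1.1 P.f = z
            rw [P.rad_f]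
            have h2 := P.quad_coords z
            rw [hq, hp, mul_one, P.QW_apply] at h2
            conv_rhs => rw [P.split z, hp]
            rw [show polar Q P.f z = -Q (P.pr z : V) by linear_combination -h2]
            module
          rw [hzz, hz, smul_smul, Units.inv_mul, one_smul]
        have hinj : Function.Injective π := fun w w' e => by
          have h1 : g.1.1 (y w).1 = g.1.1 (y w').1 := by rw [hπ, hπ, e]
          have h2 := g.1.1.injective h1
          change (P.rad w).1.1 P.f = (P.rad w').1.1 P.f at h2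
          rw [P.rad_f, P.rad_f] at h2
          have h3 := congrArg (fun z => (P.pr z : V)) h2
          have he : (P.pr P.e : V) = 0 := by
            rw [P.coe_pr, P.hfe, polar_self_of_singular Q P.he]; simp
          exact Subtype.ext (by simpa [map_sub, map_add, map_smul, P.pr_W, he] using h3)
        simp only [Bop, LinearMap.sum_apply, map_sum, Finset.smul_sum]
        refine Fintype.sum_bijective π (Finite.injective_iff_bijective.1 hinj) _ _ fun w => ?_
        have e1 := hindep (g * k (y w)) (k (y (π w)) * k (ex a⁻¹)) (by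
          change g.1.1 ((k (y w)).1.1 P.e) = (k (y (π w))).1.1 ((k (ex a⁻¹)).1.1 P.e)
          rw [hk, hk, hπ]
          change _ = (k (y (π w))).1.1 ((↑a⁻¹ : F) • P.e)
          rw [map_smul, hk]) x hx.1
        rw [← Module.End.mul_apply, ← map_mul, e1, map_mul, Module.End.mul_apply, hx.2, map_smul]
      refine ⟨fun g hg => ?_, fun a => ?_⟩
      · rw [hact g 1 (by rw [Units.val_one, one_smul]; exact hg)]
        have h1 : μ 1 = 1 := by
          have h := congrArg Subtype.val (hμv₁ 1)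
          rw [map_one, Module.End.one_apply] at h
          have hne : (v₁ : E) ≠ 0 := fun e => hv₁0 (Subtype.ext e)
          exact (smul_left_injective ℂ hne ((one_smul ℂ _).trans h)).symm
        rw [inv_one, h1, one_smul]
      · rw [hact _ a (hk _)]
        congr 1
        have hmul : μ a * μ a⁻¹ = 1 := by
          have hne : (v₁ : E) ≠ 0 := fun e => hv₁0 (Subtype.ext e)
          refine smul_left_injective ℂ hne ?_
          change (μ a * μ a⁻¹) • (v₁ : E) = (1 : ℂ) • (v₁ : E)
          have h := congrArg (fun T : Module.End ℂ K0 => ((T v₁ : K0) : E)) (map_mul Dh a a⁻¹)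
          simp only [mul_inv_cancel, map_one, Module.End.one_apply, Module.End.mul_apply, hμv₁,
            map_smul, smul_smul, Submodule.coe_smul] at h
          rw [one_smul, mul_comm]; exact h.symm
        calc μ a⁻¹ = μ a * μ a * μ a⁻¹ := by rw [hsq a, one_mul]
          _ = μ a := by rw [mul_assoc, hmul, mul_one]
    have : Nontrivial K1 :=
      ⟨⟨(v₁ : E), v₁.2, fun a => congrArg Subtype.val (hμv₁ a)⟩, 0,
        fun e => hv₁0 (Subtype.ext (congrArg (fun z : K1 => (z : E)) e))⟩
    obtain ⟨θ, hθ⟩ := Module.End.exists_eigenvalue (Bop.restrict hBmem)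
    obtain ⟨x, hx, hx0⟩ := hθ.exists_hasEigenvector
    exact ⟨x, fun e => hx0 (Subtype.ext e), x.2.1, x.2.2,
      fun _ => ⟨θ, congrArg Subtype.val (Module.End.mem_eigenspace_iff.1 hx)⟩⟩
  obtain ⟨c₁, hc₁, hunit⟩ := B.exists_unit hv
  obtain ⟨v, hv, hvK, hμ, hBv, hv1⟩ : ∃ v : E, v ≠ 0 ∧ v ∈ K0 ∧
      (∀ a : Fˣ, ρ (k (ex a)) v = μ a • v) ∧ ((∀ a, μ a * μ a = 1) → ∃ θ : ℂ, Bop v = θ • v) ∧
      B.H v v = 1 :=
    ⟨c₁ • v, smul_ne_zero hc₁ hv, K0.smul_mem _ hvK, fun a => by rw [map_smul, hμ, smul_comm],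
      fun h => (hBv h).imp fun θ hθ => by rw [map_smul, hθ, smul_comm], hunit⟩
  -- the transported vectors
  let vv : X → E := fun x => ρ (k x) v
  have hvv : ∀ (g : ↥(siegelGroup Q)) (x : X), g.1.1 P.e = x.1 → ρ g v = vv x :=
    fun g x h => hindep g (k x) (h.trans (hk x).symm) v hvK
  let mv : ↥(siegelGroup Q) → X → X := fun g x => ⟨g.1.1 x.1,
    fun h => x.2.1 (g.1.1.injective (h.trans (map_zero _).symm)),
    by rw [mem_quadIsoms.1 g.1.2]; exact x.2.2⟩
  have hequi : ∀ g x, ρ g (vv x) = vv (mv g x) := fun g x => by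
    rw [← hvv (g * k x) (mv g x) (by change g.1.1 ((k x).1.1 P.e) = _; rw [hk]), map_mul,
      Module.End.mul_apply]
  have hunit' : ∀ x, B.H (vv x) (vv x) = 1 := fun x => by rw [B.inv]; exact hv1
  have hscale : ∀ (x x' : X) (b : Fˣ), x'.1 = (b : F) • x.1 → vv x' = μ b • vv x := by
    intro x x' b h
    rw [← hvv (k x * k (ex b)) x' (by
      change (k x).1.1 ((k (ex b)).1.1 P.e) = _
      rw [hk]
      change (k x).1.1 ((b : F) • P.e) = _
      rw [map_smul, hk, h]), map_mul, Module.End.mul_apply, hμ, map_smul]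
  have hμ1 : ∀ b, conj (μ b) * μ b = 1 := fun b => by
    have h := hunit' (ex b)
    rw [hscale ⟨P.e, P.e_ne, P.he⟩ (ex b) b rfl, B.smul_left, B.smul_right, hunit', mul_one,
      mul_comm] at h
    exact h
  let x₀ : X := ⟨P.e, P.e_ne, P.he⟩
  have hvx₀ : vv x₀ = v := hvK _ (hk x₀)
  let e1 : X := ⟨(P'.e : V), fun h => P'.e_ne (Subtype.ext h), P'.he⟩
  have hf0 : y 0 = ⟨P.f, P.f_ne, P.hf⟩ := Subtype.ext (by simp [y])
  obtain ⟨β, hβ⟩ : ∃ β, β = B.H v (vv (y 0)) := ⟨_, rfl⟩
  obtain ⟨α, hα⟩ : ∃ α, α = B.H v (vv e1) := ⟨_, rfl⟩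
  have hY : ∀ x : X, polar Q P.e x.1 = 1 → B.H v (vv x) = β := by
    intro x hx
    have e : mv (P.rad (P.pr x.1)) (y 0) = x := by
      refine Subtype.ext ?_
      change (P.rad (P.pr x.1)).1.1 (y 0).1 = x.1
      rw [hf0]
      change (P.rad (P.pr x.1)).1.1 P.f = x.1
      rw [P.rad_f]
      have h2 := P.quad_coords x.1
      rw [x.2.2, hx, mul_one, P.QW_apply] at h2
      conv_rhs => rw [P.split x.1, hx]
      rw [show polar Q P.f x.1 = -Q (P.pr x.1 : V) by linear_combination -h2]
      module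
    rw [← e, ← hequi, hβ]
    nth_rw 1 [← hvK (P.rad (P.pr x.1)) (P.rad_e _)]
    rw [B.inv]
  have hβval : ∀ (x z : X) (b : Fˣ), polar Q x.1 z.1 = (b : F) →
      B.H (vv x) (vv z) = conj (μ b) * β := by
    intro x z b hb
    let z' : X := ⟨(↑b⁻¹ : F) • (mv (k x)⁻¹ z).1,
      smul_ne_zero (Units.ne_zero _) (mv (k x)⁻¹ z).2.1,
      by rw [quad_smul, (mv (k x)⁻¹ z).2.2, mul_zero]⟩
    have hz' : polar Q P.e z'.1 = 1 := by
      change polar Q P.e ((↑b⁻¹ : F) • (k x).1.1.symm z.1) = 1
      rw [QuadraticMap.polar_smul_right, ← polar_quadIsom (k x).1.2, hk,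
        (k x).1.1.apply_symm_apply, hb, smul_eq_mul, Units.inv_mul]
    have hs := hscale z' (mv (k x)⁻¹ z) b (by
      change (mv (k x)⁻¹ z).1 = (b : F) • (↑b⁻¹ : F) • (mv (k x)⁻¹ z).1
      rw [smul_smul, Units.mul_inv, one_smul])
    have hz : vv z = ρ (k x) (vv (mv (k x)⁻¹ z)) := by
      rw [hequi]
      congr 1
      exact Subtype.ext ((k x).1.1.apply_symm_apply _).symm
    rw [hz, B.inv, hs, B.smul_right, hY z' hz']
  have hβr : conj β = β := by
    have hmu1 : μ 1 = 1 := by
      have h := hscale x₀ x₀ 1 (by rw [Units.val_one, one_smul])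
      have hne : vv x₀ ≠ 0 := hvx₀.symm ▸ hv
      exact (smul_left_injective ℂ hne ((one_smul ℂ _).trans h)).symm
    have h1 := hβval (y 0) x₀ 1 (by rw [hf0]; exact P.hfe.trans Units.val_one.symm)
    rw [hmu1, map_one, one_mul, hvx₀] at h1
    rw [hβ, B.conj_symm, h1, hβ]
  have hα0 : ∀ w : P.W, w ≠ 0 → Q (w : V) = 0 → ∀ a : F, ∀ x : X,
      x.1 = a • P.e + (w : V) → B.H v (vv x) = α := by
    intro w hw hwq a x hx
    obtain ⟨g, hg, hgw⟩ := siegel_transitive P.QW hQW h5 P'.he hwq P'.e_ne hw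
    obtain ⟨w', hw'⟩ : ∃ w' : P.W, polar Q (w' : V) (w : V) = -a := by
      obtain ⟨z, hz⟩ := exists_partner P.QW hQW hw
      exact ⟨(-a) • z, by
        rw [Submodule.coe_smul, QuadraticMap.polar_smul_left, QuadraticMap.polar_comm,
          ← P.polar_QW, hz, smul_eq_mul, mul_one]⟩
    let g' : ↥(siegelGroup Q) := P.rad w' * ⟨P.extend g, P.extend_mem hg⟩
    have hge : g'.1.1 P.e = P.e := by
      change (P.rad w').1.1 ((P.extend g).1 P.e) = _
      rw [P.extend_e, P.rad_e]
    have e : mv g' e1 = x := by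
      refine Subtype.ext ?_
      change (P.rad w').1.1 ((P.extend g).1 (P'.e : V)) = x.1
      rw [P.extend_W, hgw, P.rad_W, hw', hx]
      module
    rw [← e, ← hequi, hα]
    nth_rw 1 [← hvK g' hge]
    rw [B.inv]
  have hαval : ∀ (x z : X), polar Q x.1 z.1 = 0 → (∀ a : F, z.1 ≠ a • x.1) →
      B.H (vv x) (vv z) = α := by
    intro x z hp hind
    obtain ⟨zz, hzz⟩ : ∃ zz, zz = mv (k x)⁻¹ z := ⟨_, rfl⟩
    have hz : vv z = ρ (k x) (vv zz) := by
      rw [hequi]
      congr 1
      rw [hzz]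
      exact Subtype.ext ((k x).1.1.apply_symm_apply _).symm
    have hzp : polar Q P.e zz.1 = 0 := by
      rw [hzz]
      change polar Q P.e ((k x).1.1.symm z.1) = 0
      rw [← polar_quadIsom (k x).1.2, hk, (k x).1.1.apply_symm_apply, hp]
    have hsplit := P.split zz.1
    rw [hzp, zero_smul, add_zero] at hsplit
    have hw : P.pr zz.1 ≠ 0 := fun h => by
      rw [h, ZeroMemClass.coe_zero, add_zero, hzz] at hsplit
      have h2 := congrArg (k x).1.1 hsplit
      change (k x).1.1 ((k x).1.1.symm z.1) = _ at h2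
      rw [(k x).1.1.apply_symm_apply, map_smul, hk] at h2
      exact hind _ h2
    have hwq : Q (P.pr zz.1 : V) = 0 := by
      have := P.quad_coords zz.1
      rwa [zz.2.2, hzp, mul_zero, zero_add, P.QW_apply, eq_comm] at this
    rw [hz, B.inv, hα0 _ hw hwq _ zz hsplit]
  have hαr : conj α = α := by
    have h1 := hαval e1 x₀ (P.e_W _) fun a ha => by
      have h2 : polar Q P.f P.e = polar Q P.f (a • (P'.e : V)) := by rw [← ha]
      rw [P.hfe, QuadraticMap.polar_smul_right, P.W_f, smul_zero] at h2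
      exact one_ne_zero h2
    rw [hvx₀] at h1
    rw [hα, B.conj_symm, h1, hα]
  have hαμ : ∀ b : Fˣ, conj (μ b) * α = α := fun b => by
    let x : X := ⟨(b : F) • (P'.e : V), smul_ne_zero b.ne_zero e1.2.1,
      by rw [quad_smul, e1.2.2, mul_zero]⟩
    have h1 : B.H v (vv x) = α := hα0 ((b : F) • P'.e) (smul_ne_zero b.ne_zero P'.e_ne)
      (by rw [Submodule.coe_smul, quad_smul, show Q (P'.e : V) = 0 from P'.he, mul_zero]) 0 x
      (by rw [zero_smul, zero_add, Submodule.coe_smul])
    rwa [hscale e1 x b rfl, B.smul_right, ← hα] at h1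
  have hβμ : ∀ b : Fˣ, β ≠ 0 → μ b * μ b = 1 := fun b hb => by
    have h1 := hβval x₀ ⟨(b : F) • P.f, smul_ne_zero b.ne_zero P.f_ne,
      by rw [quad_smul, P.hf, mul_zero]⟩ b (by
        rw [QuadraticMap.polar_smul_right]; change (b : F) * polar Q P.e P.f = _
        rw [P.hef, mul_one])
    have h2 := hβval ⟨(b : F) • P.f, smul_ne_zero b.ne_zero P.f_ne,
      by rw [quad_smul, P.hf, mul_zero]⟩ x₀ b (by
        rw [QuadraticMap.polar_smul_left]; change (b : F) * polar Q P.f P.e = _
        rw [P.hfe, mul_one])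
    rw [← B.conj_symm, h1, map_mul, Complex.conj_conj, hβr] at h2
    have h3 := mul_right_cancel₀ hb h2
    calc μ b * μ b = conj (μ b) * μ b := by rw [← h3]
      _ = 1 := hμ1 b
  -- the three orbits of the stabiliser
  let S := {w : P.W // w ≠ 0 ∧ Q (w : V) = 0}
  let emb : (Fˣ × P.W) ⊕ (Fˣ ⊕ (F × S)) → X := P.singParam
  have hbij : Function.Bijective emb := P.singParam_bijective
  have hye : ∀ w, polar Q P.e (y w).1 = 1 := fun w => by
    change polar Q P.e ((P.rad w).1.1 P.f) = 1
    rw [← P.rad_e w, polar_quadIsom (P.rad w).1.2, P.hef]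
  have hyc : ∀ w, (y w).1 = (-Q (w : V)) • P.e + (1 : F) • P.f + (w : V) := fun w => by
    change (P.rad w).1.1 P.f = _
    rw [P.rad_f]; module
  have : Fintype X := Fintype.ofBijective emb hbij
  have hS : (Nat.card S : ℂ) = (Fintype.card S : ℂ) := by rw [Nat.card_eq_fintype_card]
  have hq1 : (Fintype.card Fˣ : ℂ) = (Fintype.card F : ℂ) - 1 := by
    rw [Fintype.card_units, Nat.cast_sub Fintype.card_pos, Nat.cast_one]
  have hsum : ∀ φ : X → ℂ, ∑ x, φ x = (∑ p : Fˣ × P.W, φ (emb (.inl p))) +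
      ((∑ a : Fˣ, φ (emb (.inr (.inl a)))) + ∑ p : F × S, φ (emb (.inr (.inr p)))) := fun φ => by
    rw [← Fintype.sum_bijective emb hbij (fun p => φ (emb p)) φ (fun _ => rfl),
      Fintype.sum_sum_type, Fintype.sum_sum_type]
  have hval1 : ∀ p : Fˣ × P.W, B.H v (vv (emb (.inl p))) = conj (μ p.1) * β := fun p => by
    nth_rw 1 [← hvx₀]
    refine hβval x₀ _ p.1 ?_
    change polar Q P.e ((p.1 : F) • (y p.2).1) = _
    rw [QuadraticMap.polar_smul_right, hye, smul_eq_mul, mul_one]
  have hval2 : ∀ a : Fˣ, B.H v (vv (emb (.inr (.inl a)))) = conj (μ a) := fun a => by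
    change B.H v (vv (ex a)) = _
    rw [hscale x₀ (ex a) a rfl, hvx₀, B.smul_right, hv1, mul_one]
  have hval3 : ∀ p : F × S, B.H v (vv (emb (.inr (.inr p)))) = α := fun p =>
    hα0 _ p.2.2.1 p.2.2.2 p.1 _ rfl
  have hframe := frame_dim hirr B vv (fun g =>
    ⟨Equiv.ofBijective (mv g) ⟨fun a b h => Subtype.ext (g.1.1.injective (congrArg Subtype.val h)),
      fun z => ⟨mv g⁻¹ z, Subtype.ext (g.1.1.apply_symm_apply _)⟩⟩, fun _ => 1,
      fun x => ⟨by simp, by rw [one_smul]; exact hequi g x⟩⟩) hunit' x₀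
  simp only [hvx₀] at hframe
  rw [hsum (fun x => B.H v (vv x) * conj (B.H v (vv x)))] at hframe
  simp only [hval1, hval2, hval3, map_mul, Complex.conj_conj, hβr, hαr] at hframe
  have hsimp : ∀ b : Fˣ, conj (μ b) * β * (μ b * β) = β * β := fun b => by
    rw [mul_mul_mul_comm, hμ1, one_mul]
  simp only [hsimp, hμ1, Finset.sum_const, Finset.card_univ, Fintype.card_prod, nsmul_eq_mul,
    Nat.cast_mul, hq1, mul_one] at hframe
  rw [← Fintype.card_congr (Equiv.ofBijective emb hbij), Fintype.card_sum, Fintype.card_sum,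
    Fintype.card_prod, Fintype.card_prod] at hframe
  simp only [Nat.cast_add, Nat.cast_mul, hq1] at hframe
  obtain ⟨a', ha'⟩ := Complex.conj_eq_iff_real.1 hαr
  obtain ⟨b', hb'⟩ := Complex.conj_eq_iff_real.1 hβr
  refine ⟨a', b', ?_, ?_⟩
  · rw [ha', hb', ← hS] at hframe
    apply Complex.ofReal_injective
    push_cast
    linear_combination hframe
  -- the equations
  by_cases hb0 : β = 0 ∧ α = 0
  · left
    rw [ha', hb', Complex.ofReal_eq_zero, Complex.ofReal_eq_zero] at hb0
    exact ⟨hb0.2, hb0.1⟩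
  right
  have hαone : α ≠ 0 → ∀ b, μ b = 1 := fun ha b => by
    have h : conj (μ b) = 1 := mul_right_cancel₀ ha ((hαμ b).trans (one_mul α).symm)
    simpa using congrArg conj h
  have hsq : ∀ b, μ b * μ b = 1 := by
    by_cases hb : β = 0
    · intro b; rw [hαone (fun h => hb0 ⟨hb, h⟩) b, one_mul]
    · exact fun b => hβμ b hb
  have hμr : ∀ b, conj (μ b) = μ b := fun b => by
    calc conj (μ b) = conj (μ b) * (μ b * μ b) := by rw [hsq, mul_one]
      _ = μ b := by rw [← mul_assoc, hμ1, one_mul]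
  obtain ⟨θ, hθ⟩ := hBv hsq
  have hBvv : Bop v = ∑ w, vv (y w) := by simp [Bop, vv, LinearMap.sum_apply]
  have hθv : θ = (Fintype.card P.W : ℂ) * β := by
    have h1 := congrArg (fun z => B.H z v) hθ
    simp only [B.smul_left, hv1, mul_one, hBvv, B.sum_left] at h1
    rw [← h1, Finset.sum_congr rfl fun w _ => ?_, Finset.sum_const, Finset.card_univ, nsmul_eq_mul]
    rw [← B.conj_symm, hY (y w) (hye w), hβr]
  let h : P.W → ℂ := fun d => B.H (vv (y 0)) (vv (y d))
  have hθ2 : θ * conj θ = (Fintype.card P.W : ℂ) * ∑ d, h d := by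
    have h1 : B.H (Bop v) (Bop v) = θ * conj θ := by
      rw [hθ, B.smul_left, B.smul_right, hv1, mul_one]
    rw [← h1, hBvv, B.sum_left]
    have e : ∀ w, B.H (vv (y w)) (∑ w', vv (y w')) = ∑ d, h d := by
      intro w
      rw [B.sum_right]
      refine (Fintype.sum_equiv (Equiv.addLeft w) _ _ fun d => ?_).symm
      have ey : ∀ u, mv (P.rad w) (y u) = y (w + u) := fun u => Subtype.ext (by
        change (P.rad w).1.1 ((P.rad u).1.1 P.f) = (P.rad (w + u)).1.1 P.f
        rw [AddChar.map_add_eq_mul]; rfl)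
      have ey0 : mv (P.rad w) (y 0) = y w := by rw [ey, add_zero]
      change h d = B.H (vv (y w)) (vv (y (w + d)))
      rw [← ey d, ← ey0, ← hequi, ← hequi, B.inv]
    rw [Finset.sum_congr rfl fun w _ => e w, Finset.sum_const, Finset.card_univ, nsmul_eq_mul]
  have hfy : ∀ d, polar Q (y 0).1 (y d).1 = -Q (d : V) := fun d => by
    rw [hf0, hyc]
    simp [QuadraticMap.polar_add_right, QuadraticMap.polar_smul_right, P.hfe,
      polar_self_of_singular Q P.hf, P.W_f]
  let Γ : ℂ := ∑ d ∈ Finset.univ.filter (fun d : P.W => Q (d : V) ≠ 0),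
    if hd : -Q (d : V) ≠ 0 then μ (Units.mk0 _ hd) else 0
  have hh : ∑ d, h d = 1 + (Fintype.card S : ℂ) * α + β * Γ := by
    rw [← Finset.sum_filter_add_sum_filter_not Finset.univ (fun d : P.W => Q (d : V) ≠ 0)]
    have e2 : Finset.univ.filter (fun d : P.W => ¬ Q (d : V) ≠ 0) =
        insert 0 (Finset.univ.filter fun d : P.W => d ≠ 0 ∧ Q (d : V) = 0) := by
      ext d
      by_cases hd : d = 0 <;> simp [hd]
    rw [e2, Finset.sum_insert (by simp)]
    have e3 : h 0 = 1 := hunit' _
    have e4 : ∀ d ∈ Finset.univ.filter (fun d : P.W => d ≠ 0 ∧ Q (d : V) = 0), h d = α := by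
      intro d hd
      obtain ⟨hd0, hdq⟩ := (Finset.mem_filter.1 hd).2
      refine hαval _ _ (by rw [hfy, hdq, neg_zero]) fun a ha => hd0 ?_
      rw [hf0, hyc, hdq, neg_zero, zero_smul, zero_add, one_smul] at ha
      have := congrArg (fun z => P.pr z) ha
      have he : P.pr P.f = 0 := Subtype.ext (by
        rw [P.coe_pr, P.hef, polar_self_of_singular Q P.hf]; simp)
      simpa [map_add, map_smul, P.pr_W, he] using this
    have e5 : ∀ d ∈ Finset.univ.filter (fun d : P.W => Q (d : V) ≠ 0), h d =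
        β * (if hd : -Q (d : V) ≠ 0 then μ (Units.mk0 _ hd) else 0) := by
      intro d hd
      have hd' : -Q (d : V) ≠ 0 := neg_ne_zero.2 (Finset.mem_filter.1 hd).2
      rw [dif_pos hd', mul_comm]
      have := hβval (y 0) (y d) (Units.mk0 _ hd') (by rw [hfy, Units.val_mk0])
      rwa [hμr] at this
    rw [Finset.sum_congr rfl e5, ← Finset.mul_sum, e3, Finset.sum_congr rfl e4, Finset.sum_const,
      nsmul_eq_mul, ← Fintype.card_subtype]
    ring
  have hmain : (Fintype.card P.W : ℂ) * (β * β) = 1 + (Fintype.card S : ℂ) * α + β * Γ := by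
    rw [← hh]
    have hl : (Fintype.card P.W : ℂ) ≠ 0 := Nat.cast_ne_zero.2 Fintype.card_ne_zero
    refine mul_left_cancel₀ hl ?_
    rw [← hθ2, hθv, map_mul, Complex.conj_natCast, hβr]; ring
  by_cases hμone : ∀ b, μ b = 1
  · right
    have hΓ : Γ = (Fintype.card P.W : ℂ) - 1 - (Fintype.card S : ℂ) := by
      have h1 : Γ = ((Finset.univ.filter (fun d : P.W => Q (d : V) ≠ 0)).card : ℂ) := by
        rw [Finset.card_eq_sum_ones, Nat.cast_sum]
        refine Finset.sum_congr rfl fun d hd => ?_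
        rw [dif_pos (neg_ne_zero.2 (Finset.mem_filter.1 hd).2), hμone, Nat.cast_one]
      have h2 := Finset.card_filter_add_card_filter_not (s := (Finset.univ : Finset P.W))
        (fun d : P.W => Q (d : V) ≠ 0)
      have e2 : Finset.univ.filter (fun d : P.W => ¬ Q (d : V) ≠ 0) =
          insert 0 (Finset.univ.filter fun d : P.W => d ≠ 0 ∧ Q (d : V) = 0) := by
        ext d
        by_cases hd : d = 0 <;> simp [hd]
      rw [e2, Finset.card_insert_of_notMem (by simp), Finset.card_univ] at h2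
      have h3 := congrArg (Nat.cast : ℕ → ℂ) h2
      push_cast at h3
      rw [h1, show Fintype.card S = _ from Fintype.card_subtype _]; linear_combination h3
    have hz : (∑ x, vv x) = 0 := hnofix _ fun g => by
      rw [map_sum]
      exact Fintype.sum_bijective (mv g)
        ⟨fun a b h => Subtype.ext (g.1.1.injective (congrArg Subtype.val h)),
          fun z => ⟨mv g⁻¹ z, Subtype.ext (g.1.1.apply_symm_apply _)⟩⟩ _ _ (hequi g)
    have hz' := congrArg (fun z => B.H v z) hz
    simp only [B.sum_right, B.zero_right] at hz'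
    rw [hsum (fun x => B.H v (vv x))] at hz'
    simp only [hval1, hval2, hval3, hμone, map_one, one_mul, Finset.sum_const, Finset.card_univ,
      Fintype.card_prod, nsmul_eq_mul, Nat.cast_mul, hq1, mul_one] at hz'
    rw [hΓ, ha', hb', ← hS] at hmain
    rw [ha', hb', ← hS] at hz'
    constructor <;> apply Complex.ofReal_injective <;> push_cast
    · linear_combination hz'
    · linear_combination hmain
  · left
    have hα' : α = 0 := by
      by_contra ha
      exact hμone (hαone ha)
    have hΓr : conj Γ = Γ := by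
      simp only [Γ, map_sum]
      refine Finset.sum_congr rfl fun d _ => ?_
      split_ifs with hd
      · exact hμr _
      · exact map_zero _
    obtain ⟨γ, hγ⟩ := Complex.conj_eq_iff_real.1 hΓr
    refine ⟨by rw [ha', Complex.ofReal_eq_zero] at hα'; exact hα', γ, ?_, ?_⟩
    · -- fibre the sum over the values
      let φ : Fˣ → ℂ := fun c => μ c
      let lev : Fˣ → ℂ := fun c =>
        ((Finset.univ.filter fun d : P.W => -Q (d : V) = (c : F)).card : ℂ)
      have hΓ2 : Γ = ∑ c : Fˣ, lev c * φ c := by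
        have e : ∀ d ∈ Finset.univ.filter (fun d : P.W => Q (d : V) ≠ 0),
            (if hd : -Q (d : V) ≠ 0 then μ (Units.mk0 _ hd) else 0) =
              ∑ c : Fˣ, if -Q (d : V) = (c : F) then φ c else 0 := by
          intro d hd
          have hd' : -Q (d : V) ≠ 0 := neg_ne_zero.2 (Finset.mem_filter.1 hd).2
          rw [dif_pos hd', Finset.sum_eq_single (Units.mk0 _ hd')
            (fun c _ hc => if_neg fun e => hc (Units.ext e.symm)) (by simp)]
          rw [if_pos (Units.val_mk0 _).symm]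
        change (∑ d ∈ _, _) = _
        rw [Finset.sum_congr rfl e, Finset.sum_comm]
        refine Finset.sum_congr rfl fun c _ => ?_
        rw [← Finset.sum_filter, Finset.sum_const, Finset.filter_filter, nsmul_eq_mul]
        congr 2
        refine congrArg Finset.card (Finset.filter_congr fun d _ => ?_)
        exact ⟨fun h => h.2, fun h => ⟨fun e => c.ne_zero (by rw [← h, e, neg_zero]), h⟩⟩
      obtain ⟨b₀, hb₀⟩ := not_forall.1 hμone
      have hμmul : ∀ a b, μ (a * b) = μ a * μ b := fun a b => by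
        refine smul_left_injective ℂ hv ?_
        change μ (a * b) • v = (μ a * μ b) • v
        nth_rw 1 [← hvx₀]
        rw [← hscale x₀ (ex (a * b)) (a * b) rfl, hscale (ex b) (ex (a * b)) a (by
            change ((a * b : Fˣ) : F) • P.e = (a : F) • (b : F) • P.e
            rw [Units.val_mul, smul_smul]),
          hscale x₀ (ex b) b rfl, hvx₀, smul_smul]
      have hzero : ∑ c : Fˣ, φ c = 0 := by
        have h : (μ b₀ - 1) * ∑ c : Fˣ, φ c = 0 := by
          rw [sub_mul, one_mul, sub_eq_zero, Finset.mul_sum]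
          exact Fintype.sum_equiv (Equiv.mulLeft b₀) _ _ fun c => (hμmul b₀ c).symm
        exact (mul_eq_zero.1 h).resolve_left (sub_ne_zero.2 hb₀)
      have hΓ3 : Γ = ∑ c : Fˣ, (lev c - (K : ℂ)) * φ c := by
        simp only [sub_mul, Finset.sum_sub_distrib, ← Finset.mul_sum, hzero, mul_zero, sub_zero]
        exact hΓ2
      have habs : ‖Γ‖ ≤ ∑ c : Fˣ, (D : ℝ) := by
        rw [hΓ3]
        refine (norm_sum_le _ _).trans (Finset.sum_le_sum fun c _ => ?_)
        have hφn : ‖φ c‖ = 1 := by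
          have h : ((Complex.normSq (μ c) : ℝ) : ℂ) = 1 := by
            rw [Complex.normSq_eq_conj_mul_self]; exact hμ1 c
          rw [Complex.ofReal_eq_one] at h
          rw [Complex.norm_def, show φ c = μ c from rfl, h, Real.sqrt_one]
        rw [norm_mul, hφn, mul_one]
        have hcard : lev c = ((Nat.card {w : P.W // Q (w : V) = -(c : F)} : ℕ) : ℂ) := by
          rw [Nat.card_eq_fintype_card, Fintype.card_subtype]
          change ((Finset.univ.filter fun d : P.W => -Q (d : V) = (c : F)).card : ℂ) = _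
          congr 2
          exact Finset.filter_congr fun d _ => neg_eq_iff_eq_neg
        rw [hcard, ← Complex.ofReal_natCast, ← Complex.ofReal_sub, Complex.norm_real]
        exact hlev _ (neg_ne_zero.2 c.ne_zero)
      rw [hγ, Complex.norm_real, Finset.sum_const, Finset.card_univ, nsmul_eq_mul,
        Fintype.card_units, Nat.cast_sub Fintype.card_pos, Nat.cast_one] at habs
      exact habs
    · rw [hα', hb', hγ] at hmain
      apply Complex.ofReal_injective
      push_cast
      linear_combination hmain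

end Pair

end CfsgLib.Classical.OMinDeg
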