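import Cfsg.Agent.Lib.Classical.OMinDegPair
import Cfsg.Agent.Lib.Classical.StdQuad
import Cfsg.Agent.Lib.Classical.Conic

/-!
# Types of quadratic spaces, by the sizes of their level sets
-/

set_option autoImplicit false

namespace CfsgLib.Classical.OMinDeg

open CfsgLib.Geom CfsgLib.Classical
open QuadraticMap (polar)

variable {F V : Type*} [Field F] [AddCommGroup V] [Module F V]

/-- A space of dimension `2k` of type `ε`. -/
structure EvenType (Q : QuadraticForm F V) (k : ℕ) (ε : ℝ) : Prop where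
  sep : ∀ x, (∀ y, polar Q x y = 0) → x = 0
  dim : Module.finrank F V = 2 * k
  card : (Nat.card V : ℝ) = (Nat.card F : ℝ) ^ (2 * k)
  zeros : (Nat.card {z : V // Q z = 0} : ℝ) * (Nat.card F : ℝ) =
    (Nat.card F : ℝ) ^ (2 * k) + ε * ((Nat.card F : ℝ) - 1) * (Nat.card F : ℝ) ^ k
  level : ∀ c : F, c ≠ 0 → (Nat.card {z : V // Q z = c} : ℝ) * (Nat.card F : ℝ) =
    (Nat.card F : ℝ) ^ (2 * k) - ε * (Nat.card F : ℝ) ^ k

/-- A space of dimension `2k + 1` of odd characteristic. -/
structure OddType (Q : QuadraticForm F V) (k : ℕ) : Prop where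
  sep : ∀ x, (∀ y, polar Q x y = 0) → x = 0
  dim : Module.finrank F V = 2 * k + 1
  card : (Nat.card V : ℝ) = (Nat.card F : ℝ) ^ (2 * k + 1)
  zeros : (Nat.card {z : V // Q z = 0} : ℝ) = (Nat.card F : ℝ) ^ (2 * k)
  level : ∀ c : F, c ≠ 0 →
    |(Nat.card {z : V // Q z = c} : ℝ) - (Nat.card F : ℝ) ^ (2 * k)| ≤ (Nat.card F : ℝ) ^ k

variable [Fintype F] [FiniteDimensional F V] {Q : QuadraticForm F V}

namespace Pair

variable (P : Pair Q)

theorem level_real (c : F) :
    (Nat.card {z : V // Q z = c} : ℝ) = (Nat.card F : ℝ) * Nat.card {w : P.W // P.QW w = c} +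
      ((Nat.card F : ℝ) - 1) * (Nat.card P.W : ℝ) := by
  have : Finite P.W := Module.finite_of_finite F
  rw [P.card_level c, Nat.card_eq_fintype_card (α := F)]
  push_cast [Nat.cast_sub (Fintype.card_pos : 0 < Fintype.card F)]
  ring

theorem card_real : (Nat.card V : ℝ) = (Nat.card F : ℝ) ^ 2 * (Nat.card P.W : ℝ) := by
  rw [P.natCard_V]; push_cast; ring

omit [Fintype F] [FiniteDimensional F V] in
theorem q_ne [Finite F] : (Nat.card F : ℝ) ≠ 0 := Nat.cast_ne_zero.2 Nat.card_pos.ne'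

theorem evenType {k : ℕ} {ε : ℝ} (h : EvenType Q (k + 1) ε) : EvenType P.QW k ε := by
  have hq : (Nat.card F : ℝ) ≠ 0 := q_ne
  have hW : (Nat.card P.W : ℝ) = (Nat.card F : ℝ) ^ (2 * k) := by
    have h1 := P.card_real
    rw [h.card] at h1
    refine mul_left_cancel₀ (pow_ne_zero 2 hq) ?_
    rw [← h1]; ring
  refine ⟨P.sep_W h.sep, by have := P.finrank_W; rw [h.dim] at this; omega, hW, ?_, fun c hc => ?_⟩
  · have h1 := h.zeros
    rw [P.level_real, hW] at h1
    refine mul_left_cancel₀ hq ?_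
    ring_nf at h1 ⊢
    linear_combination h1
  · have h1 := h.level c hc
    rw [P.level_real, hW] at h1
    refine mul_left_cancel₀ hq ?_
    ring_nf at h1 ⊢
    linear_combination h1

theorem oddType {k : ℕ} (h : OddType Q (k + 1)) : OddType P.QW k := by
  have hq : (Nat.card F : ℝ) ≠ 0 := q_ne
  have hW : (Nat.card P.W : ℝ) = (Nat.card F : ℝ) ^ (2 * k + 1) := by
    have h1 := P.card_real
    rw [h.card] at h1
    refine mul_left_cancel₀ (pow_ne_zero 2 hq) ?_
    rw [← h1]; ring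
  refine ⟨P.sep_W h.sep, by have := P.finrank_W; rw [h.dim] at this; omega, hW, ?_, fun c hc => ?_⟩
  · have h1 := h.zeros
    rw [P.level_real, hW] at h1
    refine mul_left_cancel₀ hq ?_
    ring_nf at h1 ⊢
    linear_combination h1
  · have h1 := h.level c hc
    rw [P.level_real, hW] at h1
    have e : (Nat.card F : ℝ) * Nat.card {w : P.W // P.QW w = c} +
        ((Nat.card F : ℝ) - 1) * (Nat.card F : ℝ) ^ (2 * k + 1) - (Nat.card F : ℝ) ^ (2 * (k + 1)) =
        (Nat.card F : ℝ) * ((Nat.card {w : P.W // P.QW w = c} : ℝ) - (Nat.card F : ℝ) ^ (2 * k)) := by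
      ring
    rw [e, abs_mul, abs_of_nonneg (Nat.cast_nonneg _), pow_succ', mul_le_mul_iff_right₀
      (Nat.cast_pos.2 Nat.card_pos)] at h1
    exact h1

end Pair

omit [Fintype F] [FiniteDimensional F V] in
/-- A singular non-zero vector is the first of a hyperbolic pair. -/
theorem exists_pair (hQ : ∀ x, (∀ y, polar Q x y = 0) → x = 0) {x : V} (hx : Q x = 0) (hx0 : x ≠ 0) :
    ∃ P : Pair Q, P.e = x := by
  obtain ⟨z, hz⟩ := exists_partner Q hQ hx0
  refine ⟨⟨x, z + (-Q z) • x, hx, ?_, ?_⟩, rfl⟩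
  · rw [quad_map_add_smul, hx, QuadraticMap.polar_comm _ z x, hz]; ring
  · rw [QuadraticMap.polar_add_right, hz, QuadraticMap.polar_smul_right, polar_self_of_singular Q hx,
      smul_zero, add_zero]

theorem exists_singular_of_zeros (h : 1 < (Nat.card {z : V // Q z = 0} : ℝ)) :
    ∃ x, x ≠ 0 ∧ Q x = 0 := by
  have : Finite V := Module.finite_of_finite F
  have h' : 1 < Nat.card {z : V // Q z = 0} := by exact_mod_cast h
  rw [Finite.one_lt_card_iff_nontrivial] at h'
  obtain ⟨⟨x, hx⟩, hx0⟩ := exists_ne (⟨0, QuadraticMap.map_zero _⟩ : {z : V // Q z = 0})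
  exact ⟨x, fun e => hx0 (Subtype.ext e), hx⟩

omit [FiniteDimensional F V] in
/-- Every level of an anisotropic binary form has `q + 1` points. -/
theorem card_binary_level {a b : F}
    (hab : ∀ z₁ z₂ : F, z₁ ^ 2 + a * z₁ * z₂ + b * z₂ ^ 2 = 0 → z₁ = 0 ∧ z₂ = 0) {c : F}
    (hc : c ≠ 0) :
    Nat.card {z : Fin 2 → F // z 0 ^ 2 + a * z 0 * z 1 + b * z 1 ^ 2 = c} = Fintype.card F + 1 := by
  classical
  let f : (Fin 2 → F) → F := fun z => z 0 ^ 2 + a * z 0 * z 1 + b * z 1 ^ 2
  change Nat.card {z // f z = c} = _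
  have hone : Nat.card {z // f z = 1} = Fintype.card F + 1 := by
    rw [← card_conic hab]
    exact Nat.card_congr ((piFinTwoEquiv fun _ => F).subtypeEquiv fun z => Iff.rfl)
  let mul : (Fin 2 → F) → (Fin 2 → F) → (Fin 2 → F) := fun u v =>
    ![u 0 * v 0 - b * u 1 * v 1, u 0 * v 1 + u 1 * v 0 + a * u 1 * v 1]
  have hmul : ∀ u v, f (mul u v) = f u * f v := fun u v => by
    simp only [f, mul, Matrix.cons_val_zero, Matrix.cons_val_one]; ring
  have hle : ∀ d : F, d ≠ 0 → (Finset.univ.filter fun z => f z = d).card ≤ Fintype.card F + 1 := by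
    intro d hd
    by_cases hz : ∃ z₀, f z₀ = d
    swap
    · rw [Finset.filter_eq_empty_iff.2 fun z _ e => hz ⟨z, e⟩]; simp
    obtain ⟨z₀, hz₀⟩ := hz
    have hinj : Function.Injective (mul z₀) := by
      intro u v e
      have h0 := congrFun e 0
      have h1 := congrFun e 1
      simp only [mul, Matrix.cons_val_zero, Matrix.cons_val_one] at h0 h1
      have hf : f z₀ ≠ 0 := hz₀ ▸ hd
      funext i
      fin_cases i
      · refine mul_left_cancel₀ hf ?_
        simp only [f, Fin.zero_eta]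
        linear_combination (z₀ 0 + a * z₀ 1) * h0 + b * z₀ 1 * h1
      · refine mul_left_cancel₀ hf ?_
        simp only [f, Fin.mk_one]
        linear_combination z₀ 0 * h1 - z₀ 1 * h0
    rw [← hone, Nat.card_eq_fintype_card, Fintype.card_subtype,
      ← Finset.card_image_of_injective (Finset.univ.filter fun z => f z = 1) hinj]
    refine Finset.card_le_card fun w hw => ?_
    obtain ⟨u, rfl⟩ := (Finite.injective_iff_surjective.1 hinj) w
    simp only [Finset.mem_filter, Finset.mem_univ, true_and, hmul, hz₀] at hw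
    exact Finset.mem_image.2 ⟨u, Finset.mem_filter.2 ⟨Finset.mem_univ _,
      mul_left_cancel₀ hd (hw.trans (mul_one d).symm)⟩, rfl⟩
  have hsum : ∑ d ∈ Finset.univ.erase (0 : F), (Finset.univ.filter fun z => f z = d).card =
      Fintype.card F ^ 2 - 1 := by
    have h := Finset.card_eq_sum_card_fiberwise (s := (Finset.univ : Finset (Fin 2 → F)))
      (f := f) (t := Finset.univ) (fun _ _ => Finset.mem_univ _)
    rw [Finset.card_univ, Fintype.card_fun, Fintype.card_fin,
      ← Finset.add_sum_erase _ _ (Finset.mem_univ (0 : F))] at h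
    have h0 : (Finset.univ.filter fun z => f z = 0).card = 1 := by
      rw [← card_binary_zero a b hab, Nat.card_eq_fintype_card, Fintype.card_subtype]
    omega
  have hall := (Finset.sum_eq_sum_iff_of_le (s := Finset.univ.erase (0 : F))
    (f := fun d => (Finset.univ.filter fun z => f z = d).card) (g := fun _ => Fintype.card F + 1)
    fun d hd => hle d (Finset.ne_of_mem_erase hd)).1 (by
      rw [hsum, Finset.sum_const, Finset.card_erase_of_mem (Finset.mem_univ _), Finset.card_univ,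
        smul_eq_mul]
      zify [Fintype.card_pos, Nat.one_le_pow 2 _ (Fintype.card_pos : 0 < Fintype.card F)]
      ring) c (Finset.mem_erase.2 ⟨hc, Finset.mem_univ _⟩)
  rw [Nat.card_eq_fintype_card, Fintype.card_subtype]
  exact hall

theorem qfPlus_type (k : ℕ) : EvenType (qfPlus (k + 1) F) (k + 1) 1 := by
  classical
  have hq : ∀ c : F, (Nat.card {z : Fin (k + 1) ⊕ Fin (k + 1) → F // qfPlus (k + 1) F z = c} : ℝ) =
      (Nat.card F : ℝ) ^ (k + 1) * (if c = 0 then 1 else 0) +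
        ((Nat.card F : ℝ) ^ (k + 1) - 1) * (Nat.card F : ℝ) ^ k := by
    intro c
    simp only [qfPlus_apply]
    rw [card_quadFormPlus_eq, Nat.card_eq_fintype_card (α := F)]
    push_cast [Nat.cast_sub (Nat.one_le_pow (k + 1) _ (Fintype.card_pos : 0 < Fintype.card F)),
      Nat.add_sub_cancel, apply_ite (Nat.cast : ℕ → ℝ)]
    ring
  refine ⟨fun x hx => qfPlus_sep _ x hx, ?_, ?_, ?_, fun c hc => ?_⟩
  · simp; omega
  · rw [Nat.card_fun, Nat.card_sum, Nat.card_fin, ← two_mul]; push_cast; ring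
  · rw [hq, if_pos rfl]; ring
  · rw [hq, if_neg hc]; ring

theorem qfOdd_type (hodd : Odd (Fintype.card F)) (k : ℕ) : OddType (qfOdd (k + 1) F) (k + 1) := by
  classical
  have h2 := two_ne_zero_of_odd hodd
  have hq : ∀ c : F,
      (Nat.card {z : Unit ⊕ (Fin (k + 1) ⊕ Fin (k + 1)) → F // qfOdd (k + 1) F z = c} : ℝ) =
      (Nat.card F : ℝ) ^ (k + 1) * (Nat.card {t : F // t ^ 2 = c} : ℝ) +
        ((Nat.card F : ℝ) ^ (k + 1) - 1) * (Nat.card F : ℝ) ^ (k + 1) := by
    intro c
    simp only [qfOdd_apply]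
    rw [card_quadFormOdd_eq, Nat.card_eq_fintype_card (α := F)]
    push_cast [Nat.cast_sub (Nat.one_le_pow (k + 1) _ (Fintype.card_pos : 0 < Fintype.card F)),
      Nat.add_sub_cancel]
    ring
  refine ⟨fun x hx => qfOdd_sep h2 _ x hx, ?_, ?_, ?_, fun c hc => ?_⟩
  · simp; omega
  · rw [Nat.card_fun, Nat.card_sum, Nat.card_sum, Nat.card_eq_fintype_card (α := Unit), Fintype.card_unit, Nat.card_fin]; push_cast; ring
  · have h1 : Nat.card {t : F // t ^ 2 = 0} = 1 := Nat.card_eq_one_iff_unique.2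
      ⟨⟨fun x y => Subtype.ext (by simp [sq_eq_zero_iff.1 x.2, sq_eq_zero_iff.1 y.2])⟩,
        ⟨⟨0, by simp⟩⟩⟩
    rw [hq, h1]; push_cast; ring
  · have h1 : Nat.card {t : F // t ^ 2 = c} ≤ 2 := by
      rw [Nat.card_eq_fintype_card, Fintype.card_subtype]
      by_contra h
      obtain ⟨x, hx, y, hy, z, hz, hxy, hxz, hyz⟩ := Finset.two_lt_card.1 (Nat.lt_of_not_le h)
      simp only [Finset.mem_filter, Finset.mem_univ, true_and] at hx hy hz
      rcases sq_eq_sq_iff_eq_or_eq_neg.1 (hx.trans hy.symm) with e | e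
      · exact hxy e
      rcases sq_eq_sq_iff_eq_or_eq_neg.1 (hx.trans hz.symm) with e' | e'
      · exact hxz e'
      · exact hyz (neg_injective (e.symm.trans e'))
    have h1' : (Nat.card {t : F // t ^ 2 = c} : ℝ) ≤ 2 := by exact_mod_cast h1
    have h0 : (0 : ℝ) ≤ (Nat.card {t : F // t ^ 2 = c} : ℝ) := Nat.cast_nonneg _
    rw [hq, abs_le]
    have e : (Nat.card F : ℝ) ^ (2 * (k + 1)) = (Nat.card F : ℝ) ^ (k + 1) * (Nat.card F : ℝ) ^ (k + 1) := by
      ring
    have hp : (0 : ℝ) ≤ (Nat.card F : ℝ) ^ (k + 1) := by positivity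
    constructor <;> nlinarith [e, hp, h0, h1']

theorem qfMinus_type (k : ℕ) {a b : F}
    (hab : ∀ z₁ z₂ : F, z₁ ^ 2 + a * z₁ * z₂ + b * z₂ ^ 2 = 0 → z₁ = 0 ∧ z₂ = 0) :
    EvenType (qfMinus (k + 1) F a b) (k + 2) (-1) := by
  classical
  have hq : ∀ c : F,
      (Nat.card {z : (Fin (k + 1) ⊕ Fin (k + 1)) ⊕ Fin 2 → F // qfMinus (k + 1) F a b z = c} : ℝ) =
      (Nat.card F : ℝ) ^ (k + 1) *
          (Nat.card {z : Fin 2 → F // z 0 ^ 2 + a * z 0 * z 1 + b * z 1 ^ 2 = c} : ℝ) +
        ((Nat.card F : ℝ) ^ (k + 1) - 1) * (Nat.card F : ℝ) ^ (k + 2) := by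
    intro c
    simp only [qfMinus_apply]
    rw [card_quadFormMinus_eq, Nat.card_eq_fintype_card (α := F)]
    push_cast [Nat.cast_sub (Nat.one_le_pow (k + 1) _ (Fintype.card_pos : 0 < Fintype.card F)),
      Nat.add_sub_cancel]
    ring
  refine ⟨fun x hx => qfMinus_sep _ hab x hx, ?_, ?_, ?_, fun c hc => ?_⟩
  · simp; omega
  · rw [Nat.card_fun, Nat.card_sum, Nat.card_sum, Nat.card_fin, Nat.card_fin]; push_cast; ring
  · rw [hq, card_binary_zero a b hab]; push_cast; ring
  · rw [hq, card_binary_level hab hc, Nat.card_eq_fintype_card (α := F)]; push_cast; ring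

end CfsgLib.Classical.OMinDeg
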