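import Cfsg.Agent.Lib.Classical.OMinDegFixed
import Cfsg.Agent.Lib.Classical.OMinDegFrame
import Cfsg.Agent.Lib.Classical.OMinDegType

/-!
# The case division for the minimal degree of orthogonal groups
-/

set_option autoImplicit false

namespace CfsgLib.Classical.OMinDeg

open CfsgLib.Geom CfsgLib.Classical CfsgLib.Classical.SLMinDeg Module
open QuadraticMap (polar)

variable {F V : Type*} [Field F] [Fintype F] [AddCommGroup V] [Module F V] [FiniteDimensional F V]
  {Q : QuadraticForm F V}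

/-- A non-degenerate space of positive dimension has a non-singular vector. -/
theorem exists_nonsingular (hQ : ∀ x, (∀ y, polar Q x y = 0) → x = 0) (h : 0 < finrank F V) :
    ∃ v, Q v ≠ 0 := by
  by_contra hall
  push Not at hall
  have : Nontrivial V := nontrivial_of_finrank_pos h
  obtain ⟨x, hx⟩ := exists_ne (0 : V)
  exact hx (hQ x fun y => by simp [QuadraticMap.polar, hall])

omit [FiniteDimensional F V] in
theorem two_mul_card_sq_classes (c : F) (hc : c ≠ 0) :
    ∃ C : Finset F, (0 : F) ∉ C ∧ c ∈ C ∧ Fintype.card F - 1 ≤ 2 * C.card ∧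
      ∀ d ∈ C, ∃ a : F, a ≠ 0 ∧ d = a * a * c := by
  classical
  let C := (Finset.univ.filter fun a : F => a ≠ 0).image (fun a => a * a * c)
  refine ⟨C, ?_, Finset.mem_image.2 ⟨1, by simp, by simp⟩, ?_, ?_⟩
  · simp only [C, Finset.mem_image, Finset.mem_filter, Finset.mem_univ, true_and, not_exists, not_and]
    exact fun a ha h => mul_ne_zero (mul_ne_zero ha ha) hc h
  · have h1 := Finset.card_le_mul_card_image (Finset.univ.filter fun a : F => a ≠ 0) 2
      (f := fun a => a * a * c) fun d _ => ?_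
    · simpa [C, Finset.filter_ne', Finset.card_erase_of_mem] using h1
    · by_contra hcon
      obtain ⟨x, hx, y, hy, z, hz, hxy, hxz, hyz⟩ := Finset.two_lt_card.1 (Nat.lt_of_not_le hcon)
      simp only [Finset.mem_filter, Finset.mem_univ, true_and] at hx hy hz
      have e1 := mul_right_cancel₀ hc (hx.2.trans hy.2.symm)
      have e2 := mul_right_cancel₀ hc (hx.2.trans hz.2.symm)
      rcases mul_self_eq_mul_self_iff.1 e1 with e | e
      · exact hxy e
      rcases mul_self_eq_mul_self_iff.1 e2 with e' | e'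
      · exact hxz e'
      · exact hyz (neg_injective (e.symm.trans e'))
  · intro d hd
    simp only [C, Finset.mem_image, Finset.mem_filter, Finset.mem_univ, true_and] at hd
    obtain ⟨a, ha, rfl⟩ := hd
    exact ⟨a, ha, rfl⟩

namespace Pair

variable (P : Pair Q) [Fintype P.W] {E : Type*} [AddCommGroup E] [Module ℂ E] [FiniteDimensional ℂ E]
  (ρ : Representation ℂ ↥(siegelGroup Q) E) (ψ : AddChar F ℂ)

/-- A non-singular character gives the bound by classes of values. -/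
theorem level_bounds (hQ : ∀ x, (∀ y, polar Q x y = 0) → x = 0) (h5 : 5 ≤ finrank F P.W)
    (hψ : ψ.IsPrimitive) {u : P.W} (hu : Q (u : V) ≠ 0) (hne : eigen ρ P.rad (P.chi ψ u) ≠ ⊥)
    (L : ℝ) (hL : ∀ c : F, c ≠ 0 → L ≤ (Nat.card {w : P.W // P.QW w = c} : ℝ)) :
    L ≤ (finrank ℂ E : ℝ) ∧
      (0 ≤ L → ((Fintype.card F : ℝ) - 1) * L ≤ 2 * (finrank ℂ E : ℝ)) := by
  classical
  obtain ⟨C, h0, hcC, hC, hCa⟩ := two_mul_card_sq_classes (Q (u : V)) hu
  have hu0 : u ≠ 0 := fun h => hu (by rw [h]; simp)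
  let T := C.biUnion fun c => Finset.univ.filter fun w : P.W => P.QW w = c
  have hT : T.card ≤ finrank ℂ E := by
    refine le_trans ?_ (P.sum_eigDim_le ρ ψ hQ hψ T)
    rw [Finset.card_eq_sum_ones]
    refine Finset.sum_le_sum fun w hw => ?_
    simp only [T, Finset.mem_biUnion, Finset.mem_filter, Finset.mem_univ, true_and] at hw
    obtain ⟨c, hc, hwc⟩ := hw
    obtain ⟨a, ha, rfl⟩ := hCa c hc
    have hw0 : w ≠ 0 := fun h => h0 (by rw [h, QuadraticMap.map_zero] at hwc; rwa [← hwc] at hc)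
    refine le_trans ?_ (P.eigDim_le_of_value ρ ψ hQ h5 hu0 hw0 ha hwc)
    exact Nat.one_le_iff_ne_zero.2 fun e => hne (Submodule.finrank_eq_zero.1 e)
  have hcard : (C.card : ℝ) * L ≤ (T.card : ℝ) := by
    rw [Finset.card_biUnion (fun x _ y _ hxy => Finset.disjoint_left.2 fun w h1 h2 =>
      hxy ((Finset.mem_filter.1 h1).2.symm.trans (Finset.mem_filter.1 h2).2)), Nat.cast_sum,
      ← nsmul_eq_mul, ← Finset.sum_const]
    refine Finset.sum_le_sum fun c hc => ?_
    have := hL c fun e => h0 (e ▸ hc)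
    rwa [Nat.card_eq_fintype_card, Fintype.card_subtype] at this
  have hT' : (T.card : ℝ) ≤ (finrank ℂ E : ℝ) := Nat.cast_le.2 hT
  have hC1 : (1 : ℝ) ≤ (C.card : ℝ) := Nat.one_le_cast.2 (Finset.card_pos.2 ⟨_, hcC⟩)
  have hC2 : (Fintype.card F : ℝ) - 1 ≤ 2 * (C.card : ℝ) := by
    have := (Nat.cast_le (α := ℝ)).2 hC
    rwa [Nat.cast_sub Fintype.card_pos, Nat.cast_mul, Nat.cast_one, Nat.cast_ofNat] at this
  have hd : (0 : ℝ) ≤ (finrank ℂ E : ℝ) := Nat.cast_nonneg _
  refine ⟨?_, fun h => ?_⟩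
  · rcases le_total L 0 with h | h
    · linarith
    · nlinarith
  · nlinarith

/-- The number of singular vectors of the complement off the hyperplane of a singular vector. -/
theorem card_off_perp (P' : Pair P.QW) :
    (Fintype.card F - 1) * Nat.card P'.W ≤
      Nat.card {u : P.W // Q (u : V) = 0 ∧ polar Q (u : V) (P'.e : V) ≠ 0} := by
  classical
  have : Finite P'.W := Finite.of_injective (fun w : P'.W => (w : P.W)) Subtype.val_injective
  have := Fintype.ofFinite P'.W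
  rw [← Fintype.card_units, ← Nat.card_eq_fintype_card (α := Fˣ), ← Nat.card_prod]
  refine Nat.card_le_card_of_injective (fun p : Fˣ × P'.W =>
    (⟨(p.1 : F) • (P'.rad p.2).1.1 P'.f, ?_, ?_⟩ :
      {u : P.W // Q (u : V) = 0 ∧ polar Q (u : V) (P'.e : V) ≠ 0})) ?_
  · rw [← P.QW_apply, quad_smul, mem_quadIsoms.1 (P'.rad p.2).1.2, P'.hf, mul_zero]
  · rw [Submodule.coe_smul, QuadraticMap.polar_smul_left, ← P.polar_QW]
    have h : polar P.QW ((P'.rad p.2).1.1 P'.f) P'.e = 1 := by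
      conv_lhs => rw [← P'.rad_e p.2, polar_quadIsom (P'.rad p.2).1.2, P'.hfe]
    rw [h, smul_eq_mul, mul_one]
    exact p.1.ne_zero
  · intro p p' h
    have h' := congrArg Subtype.val h
    have hb := P'.singParam_bijective.1 (a₁ := .inl p) (a₂ := .inl p') (Subtype.ext h')
    exact Sum.inl_injective hb

omit [Fintype P.W] in
/-- The Siegel group of the inner complement has no non-trivial abelian image. -/
theorem perfect_of (hQ : ∀ x, (∀ y, polar Q x y = 0) → x = 0) {v₀ : P.W} (hv₀ : Q (v₀ : V) ≠ 0)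
    (h : 5 ≤ finrank F V ∨ 4 ≤ Fintype.card F ∨ (finrank F P.W = 2 ∧ ∃ v v' : P.W,
      LinearIndependent F ![v, v'] ∧ Q (v : V) = Q (v' : V) ∧ Q (v : V) ≠ 0))
    {A : Type*} [CommGroup A] (φ : ↥(siegelGroup Q) →* A) : φ = 1 := by
  classical
  have : Finite P.W := Module.finite_of_finite F
  rcases h with h5 | h4 | ⟨hdim, v, v', hind, heq, hne⟩
  · have hc : commutator ↥(siegelGroup Q) = ⊤ := by
      have h := commutator_commutator_quadIsoms Q hQ h5
      rwa [commutator_eq_siegelGroup Q hQ h5] at h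
    refine MonoidHom.ext fun g => ?_
    exact MonoidHom.mem_ker.1 (Abelianization.commutator_subset_ker φ (hc.symm ▸ Subgroup.mem_top g))
  · obtain ⟨d, hd0, hd⟩ : ∃ d : F, d ≠ 0 ∧ d * d ≠ 1 := by
      obtain ⟨d, -, hd⟩ := Finset.exists_mem_notMem_of_card_lt_card (s := ({0, 1, -1} : Finset F))
        (t := Finset.univ) (lt_of_le_of_lt Finset.card_le_three (by rw [Finset.card_univ]; omega))
      simp only [Finset.mem_insert, Finset.mem_singleton, not_or] at hd
      exact ⟨d, hd.1, fun e => (mul_self_eq_one_iff.1 e).elim hd.2.1 hd.2.2⟩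
    let du : Fˣ := Units.mk0 d hd0
    refine P.hom_trivial hQ hv₀ (κ := d * d) (mul_ne_zero hd0 hd0)
      ⟨P.torus (du ^ 2), P.torus_sq_mem hv₀ du⟩ ?_ (fun w hw => ?_) φ
    · change (P.torus (du ^ 2)).1 P.e = _
      rw [P.torus_apply, P.hfe, polar_self_of_singular Q P.he,
        show P.pr P.e = 0 from Subtype.ext (by
          rw [P.coe_pr, P.hfe, polar_self_of_singular Q P.he]; simp)]
      simp [du, sq]
    · change (d * d) • P.pr ((P.torus (du ^ 2)).1 (w : V)) = w at hw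
      rw [P.torus_apply, P.W_f, P.W_e, P.pr_W, mul_zero, mul_zero, zero_smul, zero_smul, zero_add,
        zero_add, P.pr_W] at hw
      by_contra hw0
      exact hd (smul_left_injective F hw0 (hw.trans (one_smul F w).symm))
  · have hne' : Q (v' : V) ≠ 0 := heq ▸ hne
    have ha : ((1 : Fˣ) : F) = Q (v : V) / Q (v' : V) := by rw [heq, div_self hne', Units.val_one]
    refine P.hom_trivial hQ hv₀ (κ := 1) one_ne_zero
      ⟨P.mono v * P.mono v', mul_mem (P.mono_mem v) (P.mono_mem v')⟩ ?_ (fun w hw => ?_) φ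
    · change (P.mono v * P.mono v').1 P.e = _
      rw [P.mono_mul_apply hne hne' 1 ha, P.torus_apply, P.hfe, polar_self_of_singular Q P.he,
        show P.pr P.e = 0 from Subtype.ext (by
          rw [P.coe_pr, P.hfe, polar_self_of_singular Q P.he]; simp)]
      simp
    · change (1 : F) • P.pr ((P.mono v * P.mono v').1 (w : V)) = w at hw
      rw [one_smul, P.mono_mul_apply hne hne' 1 ha, P.torus_apply, P.W_f, P.W_e, P.pr_W] at hw
      simp only [mul_zero, zero_smul, zero_add, sub_self, map_sub, map_smul, P.pr_W] at hw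
      have hw' : ((Q (v' : V))⁻¹ * polar Q (v' : V) (w : V)) • v' +
          ((Q (v : V))⁻¹ * polar Q (v : V) ((w : V) -
            ((Q (v' : V))⁻¹ * polar Q (v' : V) (w : V)) • (v' : V))) • v = 0 := by
        linear_combination (norm := module) -hw
      obtain ⟨h2, h1⟩ := LinearIndependent.pair_iff.1 hind _ _ ((add_comm _ _).trans hw')
      have p' : polar Q (v' : V) (w : V) = 0 := (mul_eq_zero.1 h1).resolve_left (inv_ne_zero hne')
      rw [p', mul_zero, zero_smul, sub_zero] at h2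
      have p : polar Q (v : V) (w : V) = 0 := (mul_eq_zero.1 h2).resolve_left (inv_ne_zero hne)
      have hspan : Submodule.span F (Set.range ![v, v']) = ⊤ :=
        hind.span_eq_top_of_card_eq_finrank (by simp [hdim])
      refine P.sep_W hQ w fun z => ?_
      have hz : z ∈ Submodule.span F (Set.range ![v, v']) := hspan ▸ Submodule.mem_top
      rw [Matrix.range_cons, Matrix.range_cons, Matrix.range_empty, Set.union_empty,
        Set.singleton_union, Submodule.mem_span_pair] at hz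
      obtain ⟨s, t, rfl⟩ := hz
      rw [P.polar_QW]
      simp [QuadraticMap.polar_add_right, QuadraticMap.polar_smul_right,
        QuadraticMap.polar_comm _ (w : V) _, p, p']

/-- The three alternatives. -/
theorem trichotomy (hQ : ∀ x, (∀ y, polar Q x y = 0) → x = 0) (h5 : 5 ≤ finrank F P.W)
    (hψ : ψ.IsPrimitive) (P' : Pair P.QW) (P'' : Pair P'.QW)
    (hR : 0 < finrank F P''.W) (hex : Gen P'.QW ∨ Gen (V := ↥P''.W) P''.QW)
    (hperf : 5 ≤ finrank F P'.W ∨ 4 ≤ Fintype.card F ∨ (finrank F P''.W = 2 ∧ ∃ v v' : P''.W,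
      LinearIndependent F ![v, v'] ∧ P'.QW (v : P'.W) = P'.QW (v' : P'.W) ∧ P'.QW (v : P'.W) ≠ 0))
    (hcount : (Nat.card {u : P.W // u ≠ 0 ∧ Q (u : V) = 0} : ℝ) <
      2 * (((Fintype.card F : ℝ) - 1) * (Nat.card P'.W : ℝ)))
    [Fintype ↥(siegelGroup Q)] (hirr : ρ.IsIrreducible) [Nontrivial E]
    (hnofix : ∀ x : E, (∀ g, ρ g x = x) → x = 0) (K D : ℝ)
    (hlev : ∀ c : F, c ≠ 0 → |(Nat.card {w : P.W // Q (w : V) = c} : ℝ) - K| ≤ D) :
    (∃ u : P.W, Q (u : V) ≠ 0 ∧ eigen ρ P.rad (P.chi ψ u) ≠ ⊥) ∨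
    2 * (Nat.card {u : P.W // u ≠ 0 ∧ Q (u : V) = 0} : ℝ) ≤ (finrank ℂ E : ℝ) ∨
    ∃ α β : ℝ,
      (finrank ℂ E : ℝ) * (((Fintype.card F : ℝ) - 1) * (1 + (Fintype.card P.W : ℝ) * β ^ 2) +
          (Fintype.card F : ℝ) * (Nat.card {w : P.W // w ≠ 0 ∧ Q (w : V) = 0} : ℝ) * α ^ 2) =
        ((Fintype.card F : ℝ) - 1) * (1 + (Fintype.card P.W : ℝ)) +
          (Fintype.card F : ℝ) * (Nat.card {w : P.W // w ≠ 0 ∧ Q (w : V) = 0} : ℝ) ∧
      ((α = 0 ∧ β = 0) ∨
       (α = 0 ∧ ∃ Γ : ℝ, |Γ| ≤ ((Fintype.card F : ℝ) - 1) * D ∧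
          (Fintype.card P.W : ℝ) * β ^ 2 = 1 + β * Γ) ∨
       (((Fintype.card F : ℝ) - 1) * (1 + (Fintype.card P.W : ℝ) * β) +
          (Fintype.card F : ℝ) * (Nat.card {w : P.W // w ≠ 0 ∧ Q (w : V) = 0} : ℝ) * α = 0 ∧
        (Fintype.card P.W : ℝ) * β ^ 2 =
          1 + (Nat.card {w : P.W // w ≠ 0 ∧ Q (w : V) = 0} : ℝ) * α +
            β * ((Fintype.card P.W : ℝ) - 1 -
              (Nat.card {w : P.W // w ≠ 0 ∧ Q (w : V) = 0} : ℝ)))) := by
  classical
  by_cases hns : ∃ u : P.W, Q (u : V) ≠ 0 ∧ eigen ρ P.rad (P.chi ψ u) ≠ ⊥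
  · exact Or.inl hns
  push Not at hns
  right
  have hQW := P.sep_W hQ
  have : Finite P'.W := Module.finite_of_finite F
  have : Finite P''.W := Module.finite_of_finite F
  obtain ⟨w₀, hw₀⟩ := exists_nonsingular hQW (by omega)
  obtain ⟨u, hu0, hu⟩ := P.exists_spectrum ρ ψ hQ (v₀ := w₀) hw₀ hψ hnofix
  have huq : Q (u : V) = 0 := by_contra fun h => hu (hns u h)
  have hsame : ∀ w : P.W, w ≠ 0 → Q (w : V) = 0 →
      eigDim ρ P.rad (P.chi ψ w) = eigDim ρ P.rad (P.chi ψ u) := fun w hw hwq =>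
    le_antisymm (P.eigDim_le_of_value ρ ψ hQ h5 hw hu0 one_ne_zero (by rw [huq, hwq, mul_zero]))
      (P.eigDim_le_of_value ρ ψ hQ h5 hu0 hw one_ne_zero (by rw [huq, hwq, mul_zero]))
  by_cases hb : 2 ≤ eigDim ρ P.rad (P.chi ψ u)
  · left
    have h := P.sum_eigDim_le ρ ψ hQ hψ (Finset.univ.filter fun w : P.W => w ≠ 0 ∧ Q (w : V) = 0)
    have h2 : 2 * (Finset.univ.filter fun w : P.W => w ≠ 0 ∧ Q (w : V) = 0).card ≤ finrank ℂ E := by
      refine le_trans ?_ h
      rw [mul_comm, ← smul_eq_mul, ← Finset.sum_const]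
      refine Finset.sum_le_sum fun w hw => ?_
      rw [hsame w (Finset.mem_filter.1 hw).2.1 (Finset.mem_filter.1 hw).2.2]
      exact hb
    rw [Nat.card_eq_fintype_card, Fintype.card_subtype]
    exact_mod_cast h2
  right
  have hone : eigDim ρ P.rad (P.chi ψ u) = 1 := by
    have : eigDim ρ P.rad (P.chi ψ u) ≠ 0 := fun e => hu (Submodule.finrank_eq_zero.1 e)
    omega
  obtain ⟨v₀, hv₀⟩ := exists_nonsingular (V := ↥P''.W) (Q := P''.QW) (P''.sep_W (P'.sep_W hQW)) hR
  obtain ⟨B⟩ := exists_invForm ρ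
  have hcount' : Nat.card {u : P.W // u ≠ 0 ∧ Q (u : V) = 0} <
      2 * Nat.card {u : P.W // Q (u : V) = 0 ∧ polar Q (u : V) (P'.e : V) ≠ 0} := by
    refine lt_of_lt_of_le ?_ (Nat.mul_le_mul_left 2 (P.card_off_perp P'))
    rw [← Nat.cast_lt (α := ℝ)]
    push_cast [Nat.cast_sub (Fintype.card_pos : 0 < Fintype.card F)]
    exact hcount
  obtain ⟨v, hv, hvfix⟩ := P.exists_fixed ρ B ψ hQ h5 hψ P' P'' (v₀ := v₀) hv₀ hex
    (fun φ => P''.perfect_of (P'.sep_W hQW) (v₀ := v₀) hv₀ hperf φ) hcount'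
    (fun w _ hwq => hns w hwq) fun w hw hwq => (hsame w hw hwq).trans hone
  exact P.frame_equations B hQ h5 P' hirr hnofix hv hvfix K D hlev

end Pair

end CfsgLib.Classical.OMinDeg
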