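import Cfsg.Agent.Lib.Classical.OMinDegStab
import Cfsg.Agent.Lib.Classical.SLMinDegTools

/-!
# The spectrum of the radical of a point stabiliser
-/

set_option autoImplicit false

namespace CfsgLib.Classical.OMinDeg

open CfsgLib.Geom CfsgLib.Classical CfsgLib.Classical.SLMinDeg Module
open QuadraticMap (polar)

variable {F V : Type*} [Field F] [AddCommGroup V] [Module F V] {Q : QuadraticForm F V}

namespace Pair

variable (P : Pair Q)

/-- The character attached to a vector of the complement. -/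
noncomputable def chi (ψ : AddChar F ℂ) (u : P.W) : AddChar P.W ℂ :=
  ψ.compAddMonoidHom (((QuadraticMap.polarBilin Q (u : V)).comp P.W.subtype).toAddMonoidHom)

theorem chi_apply (ψ : AddChar F ℂ) (u w : P.W) :
    P.chi ψ u w = ψ (polar Q (u : V) (w : V)) := rfl

theorem chi_injective (hQ : ∀ x, (∀ y, polar Q x y = 0) → x = 0) {ψ : AddChar F ℂ}
    (hψ : ψ.IsPrimitive) : Function.Injective (P.chi ψ) := by
  intro u u' h
  refine sub_eq_zero.1 (P.sep_W hQ _ fun w => by_contra fun hne => hψ hne ?_)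
  refine DFunLike.ext _ _ fun c => ?_
  have h1 := DFunLike.congr_fun h (c • w)
  rw [P.chi_apply, P.chi_apply, Submodule.coe_smul, QuadraticMap.polar_smul_right,
    QuadraticMap.polar_smul_right, smul_eq_mul, smul_eq_mul] at h1
  rw [AddChar.mulShift_apply, AddChar.one_apply, P.polar_QW, Submodule.coe_sub,
    QuadraticMap.polar_sub_left, mul_comm, mul_sub, AddChar.map_sub_eq_div, h1]
  exact div_self (AddChar.val_isUnit ψ _).ne_zero

theorem chi_surjective (hQ : ∀ x, (∀ y, polar Q x y = 0) → x = 0) {ψ : AddChar F ℂ}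
    (hψ : ψ.IsPrimitive) [Fintype P.W] (χ : AddChar P.W ℂ) : ∃ u, P.chi ψ u = χ :=
  ((Fintype.bijective_iff_injective_and_card _).2
    ⟨P.chi_injective hQ hψ, (AddChar.card_eq (α := P.W)).symm⟩).2 χ

theorem chi_zero (ψ : AddChar F ℂ) : P.chi ψ 0 = 1 := by
  refine DFunLike.ext _ _ fun w => ?_
  simp [P.chi_apply]

/-- A normal subgroup containing the radical is everything. -/
theorem eq_top_of_rad (hQ : ∀ x, (∀ y, polar Q x y = 0) → x = 0) {v : P.W} (hv : Q (v : V) ≠ 0)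
    (N : Subgroup ↥(siegelGroup Q)) [hN : N.Normal] (hrad : ∀ w, P.rad w ∈ N) : N = ⊤ := by
  have hall : siegelGroup Q ≤ N.map (siegelGroup Q).subtype := by
    refine (Subgroup.closure_le _).2 ?_
    rintro _ ⟨⟨x, w⟩, rfl⟩
    refine ⟨⟨siegel Q x w, siegel_mem Q x w⟩, ?_, rfl⟩
    by_cases hc : Q x = 0 ∧ polar Q x w = 0 ∧ x ≠ 0
    swap
    · have h1 : siegel Q x w = 1 := by
        by_cases hd : Q x = 0 ∧ polar Q x w = 0
        · have hx0 : x = 0 := by_contra fun h => hc ⟨hd.1, hd.2, h⟩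
          exact quadIsoms_ext Q fun z => by rw [siegel_apply Q hd.1 hd.2]; simp [hx0]
        · exact siegel_of_not Q hd
      have h2 : (⟨siegel Q x w, siegel_mem Q x w⟩ : ↥(siegelGroup Q)) = 1 := Subtype.ext h1
      rw [h2]; exact one_mem _
    obtain ⟨hx, hw, hx0⟩ := hc
    obtain ⟨g, hg, a, ha, hga⟩ := P.siegel_to_e hQ hv hx hx0
    have hp : polar Q P.e (g.1 w) = 0 := by
      have h := polar_quadIsom g.2 x w
      rw [hga, QuadraticMap.polar_smul_left, hw, smul_eq_mul] at h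
      exact (mul_eq_zero.1 h).resolve_left ha
    have e : (⟨g, hg⟩ : ↥(siegelGroup Q)) * ⟨siegel Q x w, siegel_mem Q x w⟩ * ⟨g, hg⟩⁻¹ =
        P.rad (a • P.pr (g.1 w)) := by
      refine Subtype.ext ?_
      change g * siegel Q x w * g⁻¹ = siegel Q P.e ((a • P.pr (g.1 w) : P.W) : V)
      rw [siegel_conj, hga, siegel_smul Q P.he hp, siegel_e_pr P
        (by rw [QuadraticMap.polar_smul_right, hp, smul_zero]), map_smul]
    have h2 : (⟨siegel Q x w, siegel_mem Q x w⟩ : ↥(siegelGroup Q)) =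
        (⟨g, hg⟩ : ↥(siegelGroup Q))⁻¹ * P.rad (a • P.pr (g.1 w)) * ⟨g, hg⟩ := by
      rw [← e]; group
    rw [h2]
    exact hN.conj_mem' _ (hrad _) _
  refine eq_top_iff.2 fun g _ => ?_
  obtain ⟨g', hg', e⟩ := hall g.2
  rwa [← Subtype.ext e]

variable [Finite P.W] {E : Type*} [AddCommGroup E] [Module ℂ E]
  (ρ : Representation ℂ ↥(siegelGroup Q) E) (ψ : AddChar F ℂ)

omit [Finite P.W] in
/-- Transport of eigenspaces. -/
theorem eigen_map {g : ↥(siegelGroup Q)} {a : F} (hg : g.1.1 P.e = a • P.e) (ha : a ≠ 0)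
    {u : P.W} {v : E} (hv : v ∈ eigen ρ P.rad (P.chi ψ u)) :
    ρ g v ∈ eigen ρ P.rad (P.chi ψ (a⁻¹ • P.pr (g.1.1 u))) := by
  intro w
  let φ : P.W →ₗ[F] P.W := a • P.pr.comp ((g.1.1 : V →ₗ[F] V).comp P.W.subtype)
  have hg' : (g⁻¹).1.1 P.e = a⁻¹ • P.e := by
    apply g.1.1.injective
    rw [map_smul, hg, smul_smul, inv_mul_cancel₀ ha, one_smul]
    exact g.1.1.apply_symm_apply _
  obtain ⟨w', hw'⟩ : ∃ w', φ w' = w := by
    have hc := P.conj_rad hg' (inv_ne_zero ha) w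
    refine ⟨a⁻¹ • P.pr ((g⁻¹).1.1 w), ?_⟩
    refine Subtype.ext ?_
    have h1 := P.conj_rad hg ha (a⁻¹ • P.pr ((g⁻¹).1.1 w))
    rw [← hc] at h1
    have h2 : P.rad (φ (a⁻¹ • P.pr ((g⁻¹).1.1 w))) = P.rad w := by
      rw [show P.rad (φ (a⁻¹ • P.pr ((g⁻¹).1.1 w))) = _ from h1.symm]
      group
    have h3 : (P.rad (φ (a⁻¹ • P.pr ((g⁻¹).1.1 w)))).1.1 P.f = (P.rad w).1.1 P.f := by rw [h2]
    rw [P.rad_f, P.rad_f] at h3
    have h4 := congrArg (fun z => (P.pr z : V)) h3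
    have he : (P.pr P.e : V) = 0 := by
      rw [P.coe_pr, P.hfe, polar_self_of_singular Q P.he]; simp
    simpa [map_sub, map_add, map_smul, P.pr_W, he] using h4
  have hc := P.conj_rad hg ha w'
  have he : P.rad w * g = g * P.rad w' := by
    rw [← hw']
    change P.rad (a • P.pr (g.1.1 w')) * g = _
    rw [← hc]; group
  rw [← Module.End.mul_apply, ← map_mul, he, map_mul, Module.End.mul_apply, hv w', map_smul]
  congr 1
  rw [P.chi_apply, P.chi_apply, ← hw']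
  congr 1
  change polar Q (u : V) (w' : V) = polar Q (a⁻¹ • (P.pr (g.1.1 u) : V)) (a • (P.pr (g.1.1 w') : V))
  rw [QuadraticMap.polar_smul_left, QuadraticMap.polar_smul_right, (P.pr_isometry hg ha u w').1,
    smul_smul, inv_mul_cancel₀ ha, one_smul]

variable [Fintype P.W] [FiniteDimensional ℂ E]

omit [Finite P.W] [Fintype P.W] in
theorem eigDim_map_le {g : ↥(siegelGroup Q)} {a : F} (hg : g.1.1 P.e = a • P.e) (ha : a ≠ 0)
    (u : P.W) :
    eigDim ρ P.rad (P.chi ψ u) ≤ eigDim ρ P.rad (P.chi ψ (a⁻¹ • P.pr (g.1.1 u))) :=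
  LinearMap.finrank_le_finrank_of_injective
    (f := (ρ g).restrict (fun _ hv => P.eigen_map ρ ψ hg ha hv))
    fun _ _ h => Subtype.ext ((ρ.apply_bijective g).1 (congrArg Subtype.val h))

omit [Finite P.W] in
theorem sum_eigDim_le (hQ : ∀ x, (∀ y, polar Q x y = 0) → x = 0) (hψ : ψ.IsPrimitive)
    (T : Finset P.W) : ∑ u ∈ T, eigDim ρ P.rad (P.chi ψ u) ≤ finrank ℂ E := by
  classical
  rw [finrank_eq_sum_eigDim ρ P.rad,
    ← Finset.sum_image (f := fun χ => eigDim ρ P.rad χ) fun a _ b _ h => P.chi_injective hQ hψ h]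
  exact Finset.sum_le_univ_sum_of_nonneg fun _ => Nat.zero_le _

omit [Finite P.W] [FiniteDimensional ℂ E] in
/-- Some non-zero vector occurs. -/
theorem exists_spectrum (hQ : ∀ x, (∀ y, polar Q x y = 0) → x = 0) {v₀ : P.W}
    (hv₀ : Q (v₀ : V) ≠ 0) (hψ : ψ.IsPrimitive) (hfix : ∀ v, (∀ g, ρ g v = v) → v = 0)
    [Nontrivial E] : ∃ u : P.W, u ≠ 0 ∧ eigen ρ P.rad (P.chi ψ u) ≠ ⊥ := by
  by_contra hall
  push Not at hall
  obtain ⟨v, hv⟩ := exists_ne (0 : E)
  refine hv (hfix v ?_)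
  have hrad : ∀ w, P.rad w ∈ MonoidHom.ker ρ := fun w => MonoidHom.mem_ker.2 <| LinearMap.ext fun x => by
    refine (mem_eigen_one ρ P.rad).1 (mem_eigen_one_of_proj ρ P.rad fun χ hχ => ?_) w
    obtain ⟨u, rfl⟩ := P.chi_surjective hQ hψ χ
    have h0 : u ≠ 0 := fun h => hχ (by rw [h, P.chi_zero])
    simpa [hall u h0] using proj_mem ρ P.rad (P.chi ψ u) x
  intro g
  have hg : g ∈ MonoidHom.ker ρ := (P.eq_top_of_rad hQ hv₀ _ hrad).symm ▸ Subgroup.mem_top g
  rw [MonoidHom.mem_ker.1 hg]; rfl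

variable [Finite F] [FiniteDimensional F V]

omit [Fintype P.W] [FiniteDimensional ℂ E] [Finite P.W] in
theorem exists_scale (hQ : ∀ x, (∀ y, polar Q x y = 0) → x = 0) (h5 : 5 ≤ finrank F V) {a : F}
    (ha : a ≠ 0) : ∃ g : ↥(siegelGroup Q), g.1.1 P.e = a • P.e := by
  obtain ⟨g, hg, h⟩ := siegel_transitive Q hQ h5 P.he (y := a • P.e)
    (by rw [quad_smul, P.he, mul_zero]) P.e_ne (smul_ne_zero ha P.e_ne)
  exact ⟨⟨g, hg⟩, h⟩

omit [Fintype P.W] [Finite P.W] in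
/-- The dimensions only depend on the value up to squares. -/
theorem eigDim_le_of_value (hQ : ∀ x, (∀ y, polar Q x y = 0) → x = 0) (h5 : 5 ≤ finrank F P.W)
    {u u' : P.W} (hu : u ≠ 0) (hu' : u' ≠ 0) {a : F} (ha : a ≠ 0)
    (h : Q (u' : V) = a * a * Q (u : V)) :
    eigDim ρ P.rad (P.chi ψ u) ≤ eigDim ρ P.rad (P.chi ψ u') := by
  have h5V : 5 ≤ finrank F V := by have := P.finrank_W; omega
  obtain ⟨g, hg⟩ := P.exists_scale hQ h5V (inv_ne_zero ha)
  refine (P.eigDim_map_le ρ ψ hg (inv_ne_zero ha) u).trans ?_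
  rw [inv_inv]
  set u₁ := a • P.pr (g.1.1 u) with hu₁
  have hv : Q (u₁ : V) = Q (u' : V) := by
    rw [hu₁, Submodule.coe_smul, quad_smul, (P.pr_isometry hg (inv_ne_zero ha) u u).2, h]
  have hne : u₁ ≠ 0 := by
    intro h0
    refine hu (P.sep_W hQ u fun w => ?_)
    have h2 := (P.pr_isometry hg (inv_ne_zero ha) u w).1
    rw [hu₁, smul_eq_zero, or_iff_right ha] at h0
    rw [P.polar_QW, ← h2, h0]; simp
  obtain ⟨k, hk, hku⟩ : ∃ k ∈ siegelGroup P.QW, k.1 u₁ = u' := by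
    by_cases h0 : Q (u' : V) = 0
    · exact siegel_transitive P.QW (P.sep_W hQ) h5 (hv.trans h0) h0 hne hu'
    · exact siegel_transitive_value P.QW (P.sep_W hQ) h5 (by rw [P.QW_apply, hv]; exact h0) hv
  have hK := P.eigDim_map_le ρ ψ (g := ⟨P.extend k, P.extend_mem hk⟩) (a := 1)
    (by rw [one_smul]; exact P.extend_e k) one_ne_zero u₁
  rwa [inv_one, one_smul, show (⟨P.extend k, P.extend_mem hk⟩ : ↥(siegelGroup Q)).1.1 (u₁ : V) =
    ((k.1 u₁ : P.W) : V) from P.extend_W k u₁, hku, P.pr_W] at hK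

end Pair

end CfsgLib.Classical.OMinDeg
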