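import Cfsg.Agent.Lib.Classical.OMinDegFlip

/-!
# Only singular characters: a vector fixed by a point stabiliser
-/

set_option autoImplicit false

namespace CfsgLib.Classical.OMinDeg

open CfsgLib.Geom CfsgLib.Classical CfsgLib.Classical.SLMinDeg Module
open QuadraticMap (polar)
open scoped ComplexConjugate

variable {F V : Type*} [Field F] [AddCommGroup V] [Module F V] {Q : QuadraticForm F V}

namespace Pair

variable (P : Pair Q) [Finite F] [FiniteDimensional F V] [Fintype P.W]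
  {E : Type*} [AddCommGroup E] [Module ℂ E] [FiniteDimensional ℂ E]
  (ρ : Representation ℂ ↥(siegelGroup Q) E) (B : InvForm ρ) (ψ : AddChar F ℂ)

include B

/-- Only singular characters, each once: a non-zero vector fixed by a point stabiliser. -/
theorem exists_fixed (hQ : ∀ x, (∀ y, polar Q x y = 0) → x = 0) (h5 : 5 ≤ finrank F P.W)
    (hψ : ψ.IsPrimitive) (P' : Pair P.QW) (P'' : Pair P'.QW) [Finite P'.W] [Finite P''.W]
    {v₀ : P''.W} (hv₀ : P'.QW (v₀ : P'.W) ≠ 0) (hex : Gen P'.QW ∨ Gen (V := ↥P''.W) P''.QW)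
    (hperf : ∀ φ : ↥(siegelGroup P'.QW) →* ℂˣ, φ = 1)
    (hcount : Nat.card {u : P.W // u ≠ 0 ∧ Q (u : V) = 0} <
      2 * Nat.card {u : P.W // Q (u : V) = 0 ∧ polar Q (u : V) (P'.e : V) ≠ 0})
    (hsing : ∀ u : P.W, u ≠ 0 → Q (u : V) ≠ 0 → eigen ρ P.rad (P.chi ψ u) = ⊥)
    (hone : ∀ u : P.W, u ≠ 0 → Q (u : V) = 0 → eigDim ρ P.rad (P.chi ψ u) = 1) :
    ∃ v : E, v ≠ 0 ∧ ∀ g : ↥(siegelGroup Q), g.1.1 P.e = P.e → ρ g v = v := by
  classical
  have h5V : 5 ≤ finrank F V := by have := P.finrank_W; omega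
  have hQW := P.sep_W hQ
  -- the distinguished line
  obtain ⟨ℓ₀, hℓ₀, hℓ₀0⟩ : ∃ v ∈ eigen ρ P.rad (P.chi ψ P'.e), v ≠ 0 := by
    refine (Submodule.ne_bot_iff _).1 fun h => ?_
    have := hone P'.e P'.e_ne P'.he
    rw [eigDim, h, finrank_bot] at this
    omega
  obtain ⟨a, ha, hunit⟩ := B.exists_unit hℓ₀0
  obtain ⟨ℓ, hℓ, hℓ1, hℓne⟩ : ∃ ℓ, ℓ ∈ eigen ρ P.rad (P.chi ψ P'.e) ∧ B.H ℓ ℓ = 1 ∧ ℓ ≠ 0 :=
    ⟨_, Submodule.smul_mem _ a hℓ₀, hunit, smul_ne_zero ha hℓ₀0⟩
  have hline : ∀ {u : P.W}, u ≠ 0 → Q (u : V) = 0 → ∀ {x y : E}, x ∈ eigen ρ P.rad (P.chi ψ u) →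
      x ≠ 0 → y ∈ eigen ρ P.rad (P.chi ψ u) → ∃ c : ℂ, y = c • x := fun hu hqu x y hx hx0 hy => by
    obtain ⟨c, hc⟩ := exists_smul_eq_of_finrank_eq_one (hone _ hu hqu) (x := ⟨x, hx⟩)
      (fun e => hx0 (congrArg Subtype.val e)) ⟨y, hy⟩
    exact ⟨c, (congrArg Subtype.val hc).symm⟩
  -- the stabiliser fixes the line pointwise
  let K : Subgroup ↥(siegelGroup Q) :=
    { carrier := {g | g.1.1 P.e = P.e ∧ g.1.1 P.f = P.f ∧ g.1.1 (P'.e : V) = (P'.e : V)}
      mul_mem' := fun {g h} hg hh => by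
        simp only [Set.mem_ofPred_eq, Subgroup.coe_mul, LinearEquiv.mul_apply] at hg hh ⊢
        simp [hg.1, hg.2.1, hg.2.2, hh.1, hh.2.1, hh.2.2]
      one_mem' := ⟨rfl, rfl, rfl⟩
      inv_mem' := fun {g} hg => by
        refine ⟨?_, ?_, ?_⟩ <;> refine (LinearEquiv.symm_apply_eq _).2 ?_
        exacts [hg.1.symm, hg.2.1.symm, hg.2.2.symm] }
  have hK : ∀ g : K, ∃ c : ℂ, ρ g.1 ℓ = c • ℓ := fun g => by
    have h := P.eigen_map ρ ψ (g := g.1) (a := 1) (by rw [one_smul]; exact g.2.1) one_ne_zero hℓ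
    rw [inv_one, one_smul, g.2.2.2, P.pr_W] at h
    exact hline P'.e_ne P'.he hℓ hℓne h
  choose lam hlam using hK
  let lamHom : K →* ℂˣ := MonoidHom.toHomUnits
    { toFun := lam
      map_one' := smul_left_injective ℂ hℓne (by
        simp only
        rw [← hlam]; simp)
      map_mul' := fun g h => smul_left_injective ℂ hℓne (by
        simp only
        rw [← hlam, Subgroup.coe_mul, map_mul, Module.End.mul_apply, hlam h, map_smul, hlam g,
          smul_smul, mul_comm (lam g)]) }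
  let L₂ : ↥(siegelGroup P'.QW) →* K :=
    { toFun := fun s => ⟨⟨P.extend (P'.extend s.1), P.extend_mem (P'.extend_mem s.2)⟩,
        P.extend_e _, P.extend_f _, by
          change (P.extend (P'.extend s.1)).1 _ = _
          rw [P.extend_W, P'.extend_e]⟩
      map_one' := Subtype.ext (Subtype.ext (map_one (P.extendHom.comp P'.extendHom)))
      map_mul' := fun x y => Subtype.ext (Subtype.ext (map_mul (P.extendHom.comp P'.extendHom) x.1 y.1)) }
  have h2 : ∀ s, lamHom (L₂ s) = 1 := fun s => DFunLike.congr_fun (hperf (lamHom.comp L₂)) s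
  let L₁ : P'.W → K := fun x =>
    ⟨⟨P.extend (P'.rad x).1, P.extend_mem (P'.rad x).2⟩, P.extend_e _, P.extend_f _, by
      change (P.extend (P'.rad x).1).1 _ = _
      rw [P.extend_W, P'.rad_e]⟩
  have hL₁ : ∀ x y, L₁ (x + y) = L₁ x * L₁ y := fun x y => by
    refine Subtype.ext (Subtype.ext ?_)
    change P.extendHom (P'.rad (x + y)).1 = P.extendHom (P'.rad x).1 * P.extendHom (P'.rad y).1
    rw [AddChar.map_add_eq_mul, Subgroup.coe_mul, map_mul]
  have hinv : ∀ (s : ↥(siegelGroup P'.QW)) (x : P'.W),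
      lamHom (L₁ (s.1.1 x)) = lamHom (L₁ x) := by
    intro s x
    have e : L₂ s * L₁ x * (L₂ s)⁻¹ = L₁ (s.1.1 x) := by
      refine Subtype.ext (Subtype.ext ?_)
      change P.extend (P'.extend s.1) * P.extend (P'.rad x).1 * (P.extend (P'.extend s.1))⁻¹ =
        P.extend (P'.rad (s.1.1 x)).1
      rw [P.extend_rad_eq, P.extend_rad_eq, siegel_conj, P.extend_W, P.extend_W, P'.extend_e,
        P'.extend_W]
    rw [← e, map_mul, map_mul, map_inv, mul_inv_cancel_comm]
  have hdiff : ∀ (s : ↥(siegelGroup P'.QW)) (x : P'.W), lamHom (L₁ (s.1.1 x - x)) = 1 := fun s x => by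
    have h := hinv s x
    rw [show s.1.1 x = (s.1.1 x - x) + x from (sub_add_cancel _ _).symm, hL₁, map_mul] at h
    exact mul_eq_right.1 h
  have hpiece : ∀ R : Pair P'.QW, ∀ v : R.W, R.QW v ≠ 0 →
      (∀ c : F, lamHom (L₁ (c • R.e)) = 1) ∧ ∀ r : R.W, lamHom (L₁ (r : P'.W)) = 1 := by
    intro R v hv
    have hline1 : ∀ c : F, lamHom (L₁ (c • R.e)) = 1 := by
      intro c
      obtain ⟨r', hr'⟩ : ∃ r' : R.W, polar P'.QW (v : P'.W) (r' : P'.W) ≠ 0 := by
        by_contra h
        push Not at h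
        have := R.sep_W (P'.sep_W hQW) v h
        exact hv (by rw [this, QuadraticMap.map_zero])
      have h := hdiff (R.rad v) ((-c / polar P'.QW (v : P'.W) (r' : P'.W)) • (r' : P'.W))
      have e : (R.rad v).1.1 ((-c / polar P'.QW (v : P'.W) (r' : P'.W)) • (r' : P'.W)) -
          (-c / polar P'.QW (v : P'.W) (r' : P'.W)) • (r' : P'.W) = c • R.e := by
        rw [map_smul, R.rad_W, smul_sub, smul_smul, div_mul_cancel₀ _ hr']
        simp
      rwa [e] at h
    refine ⟨hline1, fun r => ?_⟩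
    have h := hdiff (R.rad r) R.f
    rw [R.rad_f, show R.f + (r : P'.W) - P'.QW (r : P'.W) • R.e - R.f =
      (r : P'.W) + (-P'.QW (r : P'.W)) • R.e by module, hL₁, map_mul, hline1,
      mul_one] at h
    exact h
  have h1 : ∀ x, lamHom (L₁ x) = 1 := fun x => by
    obtain ⟨he1, hr1⟩ := hpiece P'' v₀ hv₀
    have hmem : (v₀ : P'.W) ∈ P''.swap.W := P''.swap.mem_W.2 ⟨P''.W_f v₀, P''.W_e v₀⟩
    obtain ⟨hf1, -⟩ := hpiece P''.swap ⟨_, hmem⟩ hv₀
    rw [P''.split x, hL₁, hL₁, map_mul, map_mul, he1, show lamHom (L₁ (polar P'.QW P''.e x • P''.f)) = 1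
      from hf1 _, hr1, one_mul, one_mul]
  have hfixℓ : ∀ g : K, ρ g.1 ℓ = ℓ := by
    intro g
    obtain ⟨he, hf, he'⟩ := g.2
    obtain ⟨g', hg'⟩ := P.exists_restrict (g := g.1.1) he hf
    rw [hg', P.extend_W] at he'
    have he'2 : g'.1 P'.e = P'.e := Subtype.ext he'
    obtain ⟨y, hy⟩ : ∃ y, y = P'.pr (g'.1 P'.f) := ⟨_, rfl⟩
    have h1' : polar P.QW P'.e (g'.1 P'.f) = 1 := by
      conv_lhs => rw [← he'2, polar_quadIsom g'.2, P'.hef]
    have h2' := P'.quad_coords (g'.1 P'.f)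
    rw [mem_quadIsoms.1 g'.2, P'.hf, h1', mul_one, ← hy, P'.QW_apply] at h2'
    have hmove : (P'.rad y).1.1 P'.f = g'.1 P'.f := by
      rw [P'.rad_f]
      conv_rhs => rw [P'.split (g'.1 P'.f), h1', ← hy]
      rw [show polar P.QW P'.f (g'.1 P'.f) = -P.QW (y : P.W) by linear_combination -h2']
      module
    obtain ⟨hk, hke, hkf⟩ : ((L₁ y)⁻¹ * g).1.1.1 P.e = P.e ∧ ((L₁ y)⁻¹ * g).1.1.1 P.f = P.f ∧
        ((L₁ y)⁻¹ * g).1.1.1 (P'.e : V) = (P'.e : V) := ((L₁ y)⁻¹ * g).2
    have hkf' : ((L₁ y)⁻¹ * g).1.1.1 (P'.f : V) = (P'.f : V) := by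
      change (P.extend (P'.rad y).1).1.symm (g.1.1.1 (P'.f : V)) = _
      refine (LinearEquiv.symm_apply_eq _).2 ?_
      rw [P.extend_W, hmove, hg', P.extend_W]
    obtain ⟨s, hs, hse⟩ := P.mem_stab hQ h5V P' P'' hv₀ hex ((L₁ y)⁻¹ * g).1.2 hk hke hkf hkf'
    have e : g = L₁ y * L₂ ⟨s, hs⟩ := by
      have h : L₂ ⟨s, hs⟩ = (L₁ y)⁻¹ * g := Subtype.ext (Subtype.ext hse.symm)
      rw [h, mul_inv_cancel_left]
    have h3 : lamHom g = 1 := by rw [e, map_mul, h1, h2, one_mul]
    have h4 : lam g = 1 := congrArg Units.val h3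
    rw [hlam g, h4, one_smul]
  -- the transported lines
  let S := {u : P.W // u ≠ 0 ∧ Q (u : V) = 0}
  have htrans : ∀ u : S, ∃ k : ↥(siegelGroup Q),
      k.1.1 P.e = P.e ∧ k.1.1 P.f = P.f ∧ k.1.1 (P'.e : V) = (u.1 : V) := fun u => by
    obtain ⟨k, hk, hku⟩ := siegel_transitive P.QW hQW h5 P'.he u.2.2 P'.e_ne u.2.1
    exact ⟨⟨P.extend k, P.extend_mem hk⟩, P.extend_e k, P.extend_f k, by
      change (P.extend k).1 _ = _
      rw [P.extend_W, hku]⟩
  choose k hke hkf hku using htrans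
  let ll : S → E := fun u => ρ (k u) ℓ
  have hmap : ∀ (g : ↥(siegelGroup Q)), g.1.1 P.e = P.e → g.1.1 P.f = P.f → ∀ u u' : S,
      g.1.1 (u.1 : V) = (u'.1 : V) → ρ g (ll u) = ll u' := by
    intro g hge hgf u u' h
    have hm : (k u')⁻¹ * g * k u ∈ K := by
      refine ⟨?_, ?_, ?_⟩ <;>
        (change (k u').1.1.symm (g.1.1 ((k u).1.1 _)) = _; refine (LinearEquiv.symm_apply_eq _).2 ?_)
      · rw [hke, hge, hke]
      · rw [hkf, hgf, hkf]
      · rw [hku, h, hku]
    have h5' := congrArg (ρ (k u')) (hfixℓ ⟨_, hm⟩)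
    simp only [← Module.End.mul_apply, ← map_mul] at h5'
    rw [mul_assoc (k u')⁻¹, mul_inv_cancel_left] at h5'
    change (ρ g) (ρ (k u) ℓ) = ρ (k u') ℓ
    rw [← Module.End.mul_apply, ← map_mul]
    exact h5'
  have hll : ∀ u : S, ll u ∈ eigen ρ P.rad (P.chi ψ u.1) := fun u => by
    have h := P.eigen_map ρ ψ (g := k u) (a := 1) (by rw [one_smul]; exact hke u) one_ne_zero hℓ
    rwa [inv_one, one_smul, hku, P.pr_W] at h
  have hll1 : ∀ u, B.H (ll u) (ll u) = 1 := fun u => by rw [B.inv]; exact hℓ1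
  have hllo : ∀ u u' : S, B.H (ll u) (ll u') = if u = u' then 1 else 0 := fun u u' => by
    split_ifs with h
    · subst h; exact hll1 u
    · exact P.eigen_orth ρ B (fun e => h (Subtype.ext (P.chi_injective hQ hψ e))) (hll u) (hll u')
  set σ := ∑ u, ll u with hσ
  have hact : ∀ (g : ↥(siegelGroup Q)), g.1.1 P.e = P.e → g.1.1 P.f = P.f →
      ∀ (p : V → Prop) [DecidablePred p], (∀ z, p (g.1.1 z) ↔ p z) →
      ρ g (∑ u ∈ Finset.univ.filter (fun u : S => p (u.1 : V)), ll u) =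
        ∑ u ∈ Finset.univ.filter (fun u : S => p (u.1 : V)), ll u := by
    intro g hge hgf p _ hp
    obtain ⟨g', hg'⟩ := P.exists_restrict hge hgf
    have hgW : ∀ w : P.W, g.1.1 (w : V) = ((g'.1 w : P.W) : V) := fun w => by rw [hg', P.extend_W]
    let π : S ≃ S :=
      { toFun := fun u => ⟨g'.1 u.1, fun h => u.2.1 (g'.1.injective (h.trans (map_zero _).symm)),
          by rw [← hgW, mem_quadIsoms.1 g.1.2]; exact u.2.2⟩
        invFun := fun u => ⟨g'.1.symm u.1,
          fun h => u.2.1 (g'.1.symm.injective (h.trans (map_zero _).symm)), by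
            rw [← mem_quadIsoms.1 g.1.2, hgW, g'.1.apply_symm_apply]; exact u.2.2⟩
        left_inv := fun u => Subtype.ext (g'.1.symm_apply_apply _)
        right_inv := fun u => Subtype.ext (g'.1.apply_symm_apply _) }
    rw [map_sum]
    refine Finset.sum_equiv π (fun u => ?_) fun u _ => hmap g hge hgf u (π u) (hgW u.1)
    simp only [Finset.mem_filter, Finset.mem_univ, true_and]
    change p (u.1 : V) ↔ p ((g'.1 u.1 : P.W) : V)
    rw [← hgW, hp]
  have hσfix : ∀ g : ↥(siegelGroup Q), g.1.1 P.e = P.e → g.1.1 P.f = P.f → ρ g σ = σ := by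
    intro g hge hgf
    simpa [hσ] using hact g hge hgf (fun _ => True) (fun _ => Iff.rfl)
  by_contra hcon
  push Not at hcon
  have huniq : ∀ x : E, (∀ g : ↥(siegelGroup Q), g.1.1 P.e = P.e → g.1.1 P.f = P.f → ρ g x = x) →
      ∃ c : ℂ, x = c • σ := by
    intro x hx
    have hy : proj ρ P.rad 1 x = 0 := by
      by_contra hy0
      obtain ⟨g, hg, hgx⟩ := hcon _ hy0
      refine hgx (P.fixed_stab ρ (proj_mem ρ P.rad 1 x) (fun g hge hgf => ?_) hg)
      obtain ⟨z, hz⟩ : ∃ z, z = ρ g (proj ρ P.rad 1 x) - proj ρ P.rad 1 x := ⟨_, rfl⟩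
      have hmem : ∀ y ∈ eigen ρ P.rad (1 : AddChar P.W ℂ), ∀ g : ↥(siegelGroup Q),
          g.1.1 P.e = P.e → ρ g y ∈ eigen ρ P.rad (1 : AddChar P.W ℂ) := fun y hy g hg => by
        have h := P.eigen_map ρ ψ (g := g) (a := 1) (by rw [one_smul]; exact hg) one_ne_zero
          (u := 0) (by rwa [P.chi_zero])
        simpa [P.chi_zero] using h
      have horth : ∀ y ∈ eigen ρ P.rad (1 : AddChar P.W ℂ),
          B.H (proj ρ P.rad 1 x) y = B.H x y := by
        intro y hy
        conv_rhs => rw [eq_sum_proj ρ P.rad x, B.sum_left]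
        rw [Finset.sum_eq_single 1 (fun χ _ hχ => P.eigen_orth ρ B hχ (proj_mem ρ P.rad χ x) hy)
          (by simp)]
      have hz0 : z = 0 := by
        have hzm : z ∈ eigen ρ P.rad (1 : AddChar P.W ℂ) :=
          hz ▸ Submodule.sub_mem _ (hmem _ (proj_mem ρ P.rad 1 x) g hge) (proj_mem ρ P.rad 1 x)
        refine B.definite z ?_
        obtain ⟨w, rfl⟩ := (ρ.apply_bijective g).2 z
        have hge' : (g⁻¹).1.1 P.e = P.e := (LinearEquiv.symm_apply_eq _).2 hge.symm
        have hw : w ∈ eigen ρ P.rad (1 : AddChar P.W ℂ) := by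
          have := hmem _ hzm g⁻¹ hge'
          rwa [← Module.End.mul_apply, ← map_mul, inv_mul_cancel, map_one] at this
        nth_rw 1 [hz]
        rw [sub_eq_add_neg, ← neg_one_smul ℂ (proj ρ P.rad 1 x), B.add_left, B.smul_left, B.inv,
          horth w hw, horth _ hzm]
        nth_rw 2 [← hx g hge hgf]
        rw [B.inv]; ring
      rw [hz, sub_eq_zero] at hz0
      exact hz0
    have hsum : x = ∑ u : S, B.H x (ll u) • ll u := by
      conv_lhs => rw [eq_sum_proj ρ P.rad x]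
      have hbij : Function.Bijective (P.chi ψ) :=
        ⟨P.chi_injective hQ hψ, P.chi_surjective hQ hψ⟩
      rw [← (Equiv.ofBijective _ hbij).sum_comp]
      refine (Finset.sum_subset (Finset.subset_univ
        (Finset.univ.filter fun u : P.W => u ≠ 0 ∧ Q (u : V) = 0)) fun u _ hu => ?_).symm.trans ?_
      · simp only [Finset.mem_filter, Finset.mem_univ, true_and, not_and] at hu
        by_cases h0 : u = 0
        · subst h0
          change proj ρ P.rad (P.chi ψ 0) x = 0
          rw [P.chi_zero, hy]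
        · have := proj_mem ρ P.rad (P.chi ψ u) x
          rwa [hsing u h0 (hu h0), Submodule.mem_bot] at this
      rw [Finset.sum_subtype _ (p := fun u : P.W => u ≠ 0 ∧ Q (u : V) = 0) (by simp)]
      refine Finset.sum_congr rfl fun u _ => ?_
      change proj ρ P.rad (P.chi ψ u.1) x = _
      obtain ⟨c, hc⟩ := hline u.2.1 u.2.2 (hll u)
        (fun e => by have h := hll1 u; rw [e, B.zero_left] at h; exact zero_ne_one h)
        (proj_mem ρ P.rad (P.chi ψ u.1) x)
      have hcH : B.H x (ll u) = c := by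
        conv_lhs => rw [eq_sum_proj ρ P.rad x, B.sum_left]
        rw [Finset.sum_eq_single (P.chi ψ u.1)
          (fun χ _ hχ => P.eigen_orth ρ B hχ (proj_mem ρ P.rad χ x) (hll u)) (by simp), hc,
          B.smul_left, hll1, mul_one]
      rw [hcH]; exact hc
    refine ⟨B.H x ℓ, hsum.trans ?_⟩
    rw [hσ, Finset.smul_sum]
    refine Finset.sum_congr rfl fun u _ => ?_
    congr 1
    conv_rhs => rw [← B.inv (k u), hx (k u) (hke u) (hkf u)]
  -- the flip
  obtain ⟨n, hne, hnf, hnz⟩ := P.exists_flip (P'.lower P'')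
  have hne' : n.1.1 (P'.e : V) = (P'.e : V) := hnz _
    (by rw [QuadraticMap.polar_comm]; exact P'.W_e P''.e)
    (by rw [QuadraticMap.polar_comm]; exact P'.W_e P''.f) (P.W_e _) (P.W_f _)
  obtain ⟨c, hc⟩ := huniq (ρ n σ) fun g hge hgf => by
    have h1 : (n⁻¹ * g * n).1.1 P.e = P.e := by
      change n.1.1.symm (g.1.1 (n.1.1 P.e)) = _
      rw [LinearEquiv.symm_apply_eq, hne, map_neg, hgf]
    have h2 : (n⁻¹ * g * n).1.1 P.f = P.f := by
      change n.1.1.symm (g.1.1 (n.1.1 P.f)) = _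
      rw [LinearEquiv.symm_apply_eq, hnf, map_neg, hge]
    have := congrArg (ρ n) (hσfix _ h1 h2)
    simp only [← Module.End.mul_apply, ← map_mul] at this
    rw [mul_assoc n⁻¹, mul_inv_cancel_left] at this
    rw [← Module.End.mul_apply, ← map_mul]
    exact this
  set I := Finset.univ.filter (fun u : S => polar Q (u.1 : V) (P'.e : V) ≠ 0) with hI
  set τ := ∑ u ∈ I, ll u with hτ
  have hcol : ∀ (J : Finset S) (u : S), u ∈ J → B.H (∑ x ∈ J, ll x) (ll u) = 1 := by
    intro J u hu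
    rw [B.sum_left, Finset.sum_eq_single u (fun x _ hx => by rw [hllo, if_neg hx])
      (fun h => absurd hu h), hll1]
  have hστ : B.H σ τ = I.card := by
    rw [hσ, hτ, B.sum_right, Finset.sum_congr rfl fun u _ => hcol _ u (Finset.mem_univ u)]
    simp
  have hττ : B.H τ τ = I.card := by
    rw [hτ, B.sum_right, Finset.sum_congr rfl fun u hu => hcol _ u hu]
    simp
  have hσσ : B.H σ σ = Fintype.card S := by
    rw [hσ, B.sum_right, Finset.sum_congr rfl fun u hu => hcol _ u hu]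
    simp
  let y : F → ↥(siegelGroup Q) := fun t => P.rad (t • P'.e)
  have hyτ : ∀ w : E, (∀ t, ρ (y t) w = w) → B.H τ w = 0 := by
    intro w hw
    rw [hτ, B.sum_left]
    refine Finset.sum_eq_zero fun u hu => ?_
    obtain ⟨t, ht⟩ : ∃ t : F, ψ (polar Q (u.1 : V) ((t • P'.e : P.W) : V)) ≠ 1 := by
      by_contra h
      push Not at h
      refine hψ (Finset.mem_filter.1 hu).2 (DFunLike.ext _ _ fun t => ?_)
      have := h t
      rw [Submodule.coe_smul, QuadraticMap.polar_smul_right, smul_eq_mul] at this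
      rwa [AddChar.mulShift_apply, AddChar.one_apply, mul_comm]
    exact B.orth_of_eigen (g := y t) (hll u (t • P'.e)) (b := 1) (by rw [one_smul]; exact hw t)
      (by simp) ht
  have hnτ : ∀ w : E, (∀ t, ρ (n * y t * n⁻¹) w = w) → B.H (ρ n τ) w = 0 := by
    intro w hw
    obtain ⟨w', rfl⟩ := (ρ.apply_bijective n).2 w
    rw [B.inv]
    refine hyτ w' fun t => (ρ.apply_bijective n).1 ?_
    have := hw t
    rwa [← Module.End.mul_apply, ← map_mul, inv_mul_cancel_right, map_mul,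
      Module.End.mul_apply] at this
  -- conjugates of the radical at the second point
  let R : Pair Q := P.lower P'
  have : Finite R.W := Finite.of_injective (fun w : R.W => P.coords (w : V)) fun a b h =>
    Subtype.ext (P.coords.injective h)
  have := Fintype.ofFinite R.W
  have hconjR : ∀ (g : ↥(siegelGroup Q)), g.1.1 P.e = (P'.e : V) → ∀ w : P.W,
      g * P.rad w * g⁻¹ = R.rad (R.pr (g.1.1 w)) := by
    intro g hg w
    refine Subtype.ext ?_
    change g.1 * siegel Q P.e (w : V) * g.1⁻¹ = siegel Q (P'.e : V) (R.pr (g.1.1 (w : V)) : V)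
    rw [siegel_conj, hg]
    refine R.siegel_e_pr ?_
    change polar Q (P'.e : V) _ = 0
    rw [← hg, polar_quadIsom g.1.2, P.W_e]
  obtain ⟨g, hg⟩ : ∃ g : ↥(siegelGroup Q), g.1.1 P.e = (P'.e : V) := by
    obtain ⟨g, hg, h⟩ := siegel_transitive Q hQ h5V P.he (y := (P'.e : V)) P'.he P.e_ne
      (fun h => P'.e_ne (Subtype.ext h))
    exact ⟨⟨g, hg⟩, h⟩
  have hRsing : ∀ u : R.W, Q (u : V) ≠ 0 → eigen ρ R.rad (R.chi ψ u) = ⊥ := by
    intro u hu
    rw [Submodule.eq_bot_iff]
    intro x hx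
    obtain ⟨x', rfl⟩ := (ρ.apply_bijective g).2 x
    obtain ⟨u', hu'⟩ : ∃ u', u' = P.pr (g.1.1.symm (u : V)) := ⟨_, rfl⟩
    have hp : polar Q P.e (g.1.1.symm (u : V)) = 0 := by
      rw [← polar_quadIsom g.1.2, hg, g.1.1.apply_symm_apply]
      exact R.W_e u
    have hQu : Q (u' : V) = Q (u : V) := by
      have h := P.quad_coords (g.1.1.symm (u : V))
      rw [hp, mul_zero, zero_add, ← hu', P.QW_apply] at h
      rw [← h, ← mem_quadIsoms.1 g.1.2 (g.1.1.symm (u : V)), g.1.1.apply_symm_apply]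
    have hmem : x' ∈ eigen ρ P.rad (P.chi ψ u') := fun w => by
      refine (ρ.apply_bijective g).1 ?_
      have h := hx (R.pr (g.1.1 w))
      rw [← hconjR g hg w, ← Module.End.mul_apply, ← map_mul, inv_mul_cancel_right, map_mul,
        Module.End.mul_apply] at h
      rw [h, map_smul]
      congr 1
      rw [P.chi_apply, R.chi_apply]
      congr 1
      have h1 : polar Q (u : V) (R.pr (g.1.1 w) : V) = polar Q (u : V) (g.1.1 w) := by
        conv_rhs => rw [R.split (g.1.1 w)]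
        simp [QuadraticMap.polar_add_right, QuadraticMap.polar_smul_right, R.e_W, R.f_W]
      rw [h1, hu']
      conv_lhs => rw [← g.1.1.apply_symm_apply (u : V), polar_quadIsom g.1.2,
        P.split (g.1.1.symm (u : V)), hp]
      simp [QuadraticMap.polar_add_left, QuadraticMap.polar_smul_left, P.W_e]
    rw [hsing u' (fun e => hu (by rw [← hQu, e]; simp)) (hQu ▸ hu), Submodule.mem_bot] at hmem
    rw [hmem, map_zero]
  have hτA : ∀ x : P'.W, ρ (⟨P.extend (P'.rad x).1, P.extend_mem (P'.rad x).2⟩) τ = τ := fun x => by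
    refine hact _ (P.extend_e _) (P.extend_f _) (fun z => polar Q z (P'.e : V) ≠ 0) fun z => ?_
    have h : (P.extend (P'.rad x).1).1 (P'.e : V) = (P'.e : V) := by rw [P.extend_W, P'.rad_e]
    nth_rw 1 [← h]
    rw [polar_quadIsom (P.extend (P'.rad x).1).2]
  have hzfix : ∀ t, ρ (n * y t * n⁻¹) τ = τ := by
    intro t
    conv_lhs => rw [eq_sum_proj ρ R.rad τ, map_sum]
    conv_rhs => rw [eq_sum_proj ρ R.rad τ]
    refine Finset.sum_congr rfl fun χ _ => ?_
    by_cases h0 : proj ρ R.rad χ τ = 0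
    · rw [h0, map_zero]
    obtain ⟨u, rfl⟩ := R.chi_surjective hQ hψ χ
    set x := proj ρ R.rad (R.chi ψ u) τ with hx
    have hxm := proj_mem ρ R.rad (R.chi ψ u) τ
    have hτx : B.H τ x = B.H x x := by
      conv_lhs => rw [eq_sum_proj ρ R.rad τ, B.sum_left]
      rw [Finset.sum_eq_single (R.chi ψ u)
        (fun χ _ hχ => R.eigen_orth ρ B hχ (proj_mem ρ R.rad χ τ) hxm) (by simp)]
    have hqu : Q (u : V) = 0 := by
      by_contra h
      rw [hRsing u h, Submodule.mem_bot] at hxm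
      exact h0 hxm
    have heW : (P.e : V) ∈ R.W := R.mem_W.2 ⟨P.e_W P'.e, P.e_W P'.f⟩
    have hfW : (P.f : V) ∈ R.W := R.mem_W.2 ⟨P.f_W P'.e, P.f_W P'.f⟩
    have hA : ∀ z : P'.W, polar Q (u : V) ((z : P.W) : V) = 0 := by
      intro z
      have hzW : ((z : P.W) : V) ∈ R.W := R.mem_W.2 ⟨P'.W_e z, P'.W_f z⟩
      by_contra hne
      obtain ⟨t, ht⟩ : ∃ t : F, ψ (t * polar Q (u : V) ((z : P.W) : V)) ≠ 1 := by
        by_contra h
        push Not at h
        exact hψ hne (DFunLike.ext _ _ fun t => by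
          rw [AddChar.mulShift_apply, AddChar.one_apply, mul_comm]; exact h t)
      have hel : R.rad (t • ⟨_, hzW⟩) = ⟨P.extend (P'.rad (t • z)).1, P.extend_mem (P'.rad _).2⟩ :=
        Subtype.ext (by
          change siegel Q (P'.e : V) _ = P.extend (P'.rad (t • z)).1
          rw [P.extend_rad_eq]; rfl)
      have h1 := B.inv (R.rad (t • ⟨_, hzW⟩)) τ x
      rw [hxm, hel, hτA, R.chi_apply] at h1
      rw [B.smul_right, hτx, Submodule.coe_smul, QuadraticMap.polar_smul_right, smul_eq_mul] at h1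
      have hxx : B.H x x ≠ 0 := fun e => h0 (B.definite x e)
      have h2 : conj (ψ (t * polar Q (u : V) ((z : P.W) : V))) = 1 :=
        mul_right_cancel₀ hxx (by rw [one_mul]; exact h1)
      exact ht (by simpa using congrArg conj h2)
    have hy0 : polar Q (u : V) P.e ≠ 0 := by
      intro h
      refine h0 (B.definite x ?_)
      rw [← hτx]
      refine hyτ x fun t => ?_
      have hel : y t = R.rad ((-t) • ⟨P.e, heW⟩) := Subtype.ext (by
        change siegel Q P.e ((t • P'.e : P.W) : V) = siegel Q (P'.e : V) ((-t) • P.e)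
        have hte : polar Q P.e ((t • P'.e : P.W) : V) = 0 := P.W_e _
        rw [siegel_swap P.he (by rw [Submodule.coe_smul, quad_smul, show Q (P'.e : V) = 0 from P'.he,
          mul_zero]) hte, Submodule.coe_smul, neg_smul, ← smul_neg]
        exact siegel_smul Q (x := (P'.e : V)) P'.he
          (show polar Q (P'.e : V) (-P.e) = 0 by rw [QuadraticMap.polar_neg_right, P.e_W, neg_zero]) t)
      rw [hel, hxm, R.chi_apply, Submodule.coe_smul, QuadraticMap.polar_smul_right, h, smul_zero,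
        AddChar.map_zero_eq_one, one_smul]
    have hf0 : polar Q (u : V) P.f = 0 := by
      have hsplit : ∀ z : V, z = polar Q P.f z • P.e + polar Q P.e z • P.f + (P.pr z : V) := P.split
      have hu' := P.quad_coords (u : V)
      rw [hqu, P.QW_apply] at hu'
      have hp0 : P.pr (u : V) = 0 := by
        refine hQW _ fun w => ?_
        have hwR : polar Q (u : V) (w : V) = 0 := by
          rw [show (w : V) = ((polar P.QW P'.f w • P'.e + polar P.QW P'.e w • P'.f +
            (P'.pr w : P.W) : P.W) : V) from congrArg Subtype.val (P'.split w)]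
          simp [QuadraticMap.polar_add_right, QuadraticMap.polar_smul_right, hA,
            show polar Q (u : V) (P'.e : V) = 0 from R.e_W u,
            show polar Q (u : V) (P'.f : V) = 0 from R.f_W u]
        rw [P.polar_QW]
        rw [hsplit (u : V)] at hwR
        simpa [QuadraticMap.polar_add_left, QuadraticMap.polar_smul_left, P.W_e, P.W_f] using hwR
      rw [hp0, ZeroMemClass.coe_zero, QuadraticMap.map_zero, add_zero] at hu'
      rcases mul_eq_zero.1 hu'.symm with h | h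
      · rw [QuadraticMap.polar_comm]; exact h
      · exact absurd (by rw [QuadraticMap.polar_comm]; exact h) hy0
    have hel : n * y t * n⁻¹ = R.rad (t • ⟨P.f, hfW⟩) := Subtype.ext (by
      change n.1 * siegel Q P.e ((t • P'.e : P.W) : V) * n.1⁻¹ = siegel Q (P'.e : V) (t • P.f)
      have hte : polar Q (-P.f) (t • (P'.e : V)) = 0 := by
        rw [QuadraticMap.polar_neg_left, QuadraticMap.polar_smul_right, P.W_f, smul_zero, neg_zero]
      rw [siegel_conj, hne, Submodule.coe_smul, map_smul, hne',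
        siegel_swap (by rw [QuadraticMap.map_neg, P.hf]) (by
          rw [quad_smul, show Q (P'.e : V) = 0 from P'.he, mul_zero]) hte, neg_neg]
      exact siegel_smul Q (x := (P'.e : V)) P'.he
        (show polar Q (P'.e : V) P.f = 0 from P.f_W P'.e) t)
    rw [hel, hxm, R.chi_apply, Submodule.coe_smul, QuadraticMap.polar_smul_right, hf0, smul_zero,
      AddChar.map_zero_eq_one, one_smul]
  have horth : B.H (ρ n τ) τ = 0 := hnτ τ hzfix
  have hcc : c * conj c = 1 := by
    have h := B.inv n σ σ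
    rw [hc, B.smul_left, B.smul_right, hσσ, ← mul_assoc] at h
    have hS : (Fintype.card S : ℂ) ≠ 0 :=
      Nat.cast_ne_zero.2 (Fintype.card_pos_iff.2 ⟨⟨P'.e, P'.e_ne, P'.he⟩⟩).ne'
    exact mul_right_cancel₀ hS (by rw [one_mul]; exact h)
  -- Bessel
  have hnσ : B.H σ (ρ n τ) = conj c * (I.card : ℂ) := by
    have h := B.inv n σ τ
    rw [hc, B.smul_left, hστ] at h
    calc B.H σ (ρ n τ) = (conj c * c) * B.H σ (ρ n τ) := by rw [mul_comm _ c, hcc, one_mul]
      _ = conj c * (I.card : ℂ) := by rw [mul_assoc, h]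
  set υ := σ + (-1 : ℂ) • (τ + conj c • ρ n τ) with hυ
  have hval : B.H υ υ = (Fintype.card S : ℂ) - 2 * I.card := by
    have hnτσ : B.H (ρ n τ) σ = c * (I.card : ℂ) := by
      rw [← B.conj_symm, hnσ, map_mul, Complex.conj_conj]; simp
    have hτσ : B.H τ σ = I.card := by rw [← B.conj_symm, hστ]; simp
    have horth' : B.H τ (ρ n τ) = 0 := by rw [← B.conj_symm, horth, map_zero]
    simp only [hυ, B.add_left, B.add_right, B.smul_left, B.smul_right, hσσ, hστ, hττ, hnσ, hnτσ,
      hτσ, horth, horth', B.inv, map_neg, map_one, Complex.conj_conj]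
    linear_combination (-(I.card : ℂ)) * hcc
  have h0 := B.nonneg υ
  rw [hval] at h0
  simp at h0
  have hS : Fintype.card S < 2 * I.card := by
    rw [← Nat.card_eq_fintype_card]
    refine hcount.trans_le (Nat.mul_le_mul_left 2 ?_)
    rw [hI, ← Fintype.card_subtype, ← Nat.card_eq_fintype_card]
    exact Nat.card_le_card_of_injective
      (fun u : {u : P.W // Q (u : V) = 0 ∧ polar Q (u : V) (P'.e : V) ≠ 0} =>
        (⟨⟨u.1, fun e => u.2.2 (by rw [e]; simp), u.2.1⟩, u.2.2⟩ :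
          {u : S // polar Q (u.1 : V) (P'.e : V) ≠ 0}))
      fun a b h => Subtype.ext (congrArg (fun z => z.1.1) h)
  have hS' : ((Fintype.card S : ℕ) : ℝ) < ((2 * I.card : ℕ) : ℝ) := Nat.cast_lt.2 hS
  push_cast at hS'
  linarith

end Pair

end CfsgLib.Classical.OMinDeg
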