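import Cfsg.Agent.Lib.Classical.SLMinDegTools

/-!
# Invariant positive Hermitian forms on complex representations, and the frame identity
-/

set_option autoImplicit false

namespace CfsgLib.Classical.OMinDeg

open Module
open scoped ComplexConjugate

variable {G : Type*} [Group G] {V : Type*} [AddCommGroup V] [Module ℂ V]

/-- An invariant positive Hermitian form. -/
structure InvForm (ρ : Representation ℂ G V) where
  /-- the form -/
  H : V → V → ℂ
  add_left : ∀ u v w, H (u + v) w = H u w + H v w
  smul_left : ∀ (a : ℂ) v w, H (a • v) w = a * H v w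
  conj_symm : ∀ v w, conj (H w v) = H v w
  inv : ∀ g v w, H (ρ g v) (ρ g w) = H v w
  im_self : ∀ v, (H v v).im = 0
  nonneg : ∀ v, 0 ≤ (H v v).re
  definite : ∀ v, H v v = 0 → v = 0

namespace InvForm

variable {ρ : Representation ℂ G V} (B : InvForm ρ)

theorem add_right (u v w : V) : B.H u (v + w) = B.H u v + B.H u w := by
  rw [← B.conj_symm u (v + w), B.add_left, map_add, B.conj_symm, B.conj_symm]

theorem smul_right (a : ℂ) (v w : V) : B.H v (a • w) = conj a * B.H v w := by
  rw [← B.conj_symm v (a • w), B.smul_left, map_mul, B.conj_symm]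

theorem zero_left (w : V) : B.H 0 w = 0 := by simpa using B.smul_left 0 0 w

theorem zero_right (w : V) : B.H w 0 = 0 := by rw [← B.conj_symm, B.zero_left, map_zero]

theorem sum_left {ι : Type*} (s : Finset ι) (f : ι → V) (w : V) :
    B.H (∑ i ∈ s, f i) w = ∑ i ∈ s, B.H (f i) w := by
  classical
  induction s using Finset.induction with
  | empty => simp [B.zero_left]
  | insert a t ha ih => rw [Finset.sum_insert ha, Finset.sum_insert ha, B.add_left, ih]

theorem sum_right {ι : Type*} (s : Finset ι) (f : ι → V) (w : V) :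
    B.H w (∑ i ∈ s, f i) = ∑ i ∈ s, B.H w (f i) := by
  rw [← B.conj_symm, B.sum_left, map_sum]
  exact Finset.sum_congr rfl fun i _ => B.conj_symm _ _

theorem self_eq (v : V) : B.H v v = ((B.H v v).re : ℂ) :=
  Complex.ext (by simp) (by simp [B.im_self])

theorem pos {v : V} (hv : v ≠ 0) : 0 < (B.H v v).re :=
  (B.nonneg v).lt_of_ne fun h => hv (B.definite v (by rw [B.self_eq, ← h, Complex.ofReal_zero]))

/-- Eigenvectors for different eigenvalues are orthogonal. -/
theorem orth_of_eigen {g : G} {v w : V} {a b : ℂ} (hv : ρ g v = a • v) (hw : ρ g w = b • w)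
    (hb : conj b * b = 1) (hab : a ≠ b) : B.H v w = 0 := by
  have h := B.inv g v w
  rw [hv, hw, B.smul_left, B.smul_right] at h
  by_contra h0
  have h1 : a * conj b = 1 := mul_right_cancel₀ h0 (by rw [one_mul, mul_assoc]; exact h)
  exact hab (by
    calc a = a * (conj b * b) := by rw [hb, mul_one]
      _ = b := by rw [← mul_assoc, h1, one_mul])

theorem exists_unit [FiniteDimensional ℂ V] {v : V} (hv : v ≠ 0) :
    ∃ a : ℂ, a ≠ 0 ∧ B.H (a • v) (a • v) = 1 := by
  refine ⟨((Real.sqrt (B.H v v).re)⁻¹ : ℝ), ?_, ?_⟩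
  · rw [Complex.ofReal_ne_zero]
    exact inv_ne_zero (Real.sqrt_ne_zero'.2 (B.pos hv))
  · rw [B.smul_left, B.smul_right, Complex.conj_ofReal]
    nth_rw 3 [B.self_eq]
    rw [← Complex.ofReal_mul, ← Complex.ofReal_mul, ← Complex.ofReal_one]
    congr 1
    have h := Real.mul_self_sqrt (B.nonneg v)
    have h0 : Real.sqrt (B.H v v).re ≠ 0 := Real.sqrt_ne_zero'.2 (B.pos hv)
    field_simp
    linarith [h]

end InvForm

theorem exists_invForm [Fintype G] [FiniteDimensional ℂ V] (ρ : Representation ℂ G V) :
    Nonempty (InvForm ρ) := by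
  classical
  let b := Module.finBasis ℂ V
  let h : V → V → ℂ := fun v w => ∑ g : G, ∑ i, b.repr (ρ g v) i * conj (b.repr (ρ g w) i)
  have hself : ∀ v, h v v = ((∑ g : G, ∑ i, Complex.normSq (b.repr (ρ g v) i) : ℝ) : ℂ) := fun v => by
    simp [h, Complex.mul_conj]
  refine ⟨{ H := h, add_left := ?_, smul_left := ?_, conj_symm := ?_, inv := ?_, im_self := ?_,
            nonneg := ?_, definite := ?_ }⟩
  · intro u v w; simp [h, add_mul, Finset.sum_add_distrib]
  · intro a v w; simp [h, Finset.mul_sum, mul_assoc]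
  · intro v w; simp [h, mul_comm]
  · intro x v w
    simp only [h, ← Module.End.mul_apply, ← map_mul]
    exact Fintype.sum_equiv (Equiv.mulRight x) _ _ fun g => rfl
  · intro v; rw [hself]; simp
  · intro v; rw [hself, Complex.ofReal_re]
    exact Finset.sum_nonneg fun g _ => Finset.sum_nonneg fun i _ => Complex.normSq_nonneg _
  · intro v hv
    rw [hself, Complex.ofReal_eq_zero,
      Finset.sum_eq_zero_iff_of_nonneg fun g _ =>
        Finset.sum_nonneg fun i _ => Complex.normSq_nonneg _] at hv
    have h1 := hv 1 (Finset.mem_univ _)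
    rw [Finset.sum_eq_zero_iff_of_nonneg fun i _ => Complex.normSq_nonneg _] at h1
    apply b.repr.injective
    ext i
    simpa using h1 i (Finset.mem_univ _)

/-- An equivariant endomorphism of an irreducible representation is a scalar. -/
theorem exists_scalar [FiniteDimensional ℂ V] {ρ : Representation ℂ G V} (hirr : ρ.IsIrreducible)
    [Nontrivial V] (S : Module.End ℂ V) (hS : ∀ g v, S (ρ g v) = ρ g (S v)) :
    ∃ c : ℂ, ∀ v, S v = c • v := by
  obtain ⟨c, hc⟩ := Module.End.exists_eigenvalue S
  refine ⟨c, fun v => ?_⟩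
  let U : Subrepresentation ρ := ⟨S.eigenspace c, fun g w hw => by
    rw [Module.End.mem_eigenspace_iff] at hw ⊢
    rw [hS, hw, map_smul]⟩
  rcases hirr.eq_bot_or_eq_top U with e | e
  · exact absurd (congrArg Subrepresentation.toSubmodule e) hc
  · have hv : v ∈ S.eigenspace c :=
      (show S.eigenspace c = ⊤ from congrArg Subrepresentation.toSubmodule e) ▸ Submodule.mem_top
    exact Module.End.mem_eigenspace_iff.1 hv

/-- The frame identity: a monomial orbit of unit vectors in an irreducible representation. -/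
theorem frame_dim [FiniteDimensional ℂ V] {ρ : Representation ℂ G V} (hirr : ρ.IsIrreducible)
    [Nontrivial V] (B : InvForm ρ) {X : Type*} [Fintype X] (v : X → V)
    (hmon : ∀ g : G, ∃ π : X ≃ X, ∃ ω : X → ℂ, ∀ x,
      conj (ω x) * ω x = 1 ∧ ρ g (v x) = ω x • v (π x))
    (hunit : ∀ x, B.H (v x) (v x) = 1) (x₀ : X) :
    (finrank ℂ V : ℂ) * ∑ x, B.H (v x₀) (v x) * conj (B.H (v x₀) (v x)) = Fintype.card X := by
  let f : X → (V →ₗ[ℂ] ℂ) := fun x =>
    { toFun := fun w => B.H w (v x)
      map_add' := fun a b => B.add_left a b _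
      map_smul' := fun a b => B.smul_left a b _ }
  let S : Module.End ℂ V := ∑ x, (f x).smulRight (v x)
  have hSapp : ∀ w, S w = ∑ x, B.H w (v x) • v x := fun w => by
    simp [S, f, LinearMap.sum_apply]
  obtain ⟨c, hc⟩ := exists_scalar hirr S (fun g w => by
    obtain ⟨π, ω, hω⟩ := hmon g
    rw [hSapp, hSapp, map_sum, ← Equiv.sum_comp π]
    refine Finset.sum_congr rfl fun x _ => ?_
    have e : v (π x) = conj (ω x) • ρ g (v x) := by rw [(hω x).2, smul_smul, (hω x).1, one_smul]
    rw [e, B.smul_right, B.inv, smul_smul, map_smul, Complex.conj_conj]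
    congr 1
    rw [mul_right_comm, mul_comm (ω x), (hω x).1, one_mul])
  have htr : c * (finrank ℂ V : ℂ) = Fintype.card X := by
    have h1 : S = c • (1 : Module.End ℂ V) := LinearMap.ext fun w => by simp [hc w]
    have h2 := congrArg (LinearMap.trace ℂ V) h1
    rw [map_smul, LinearMap.trace_one, map_sum] at h2
    simp only [LinearMap.trace_smulRight, smul_eq_mul] at h2
    rw [← h2]
    simp [f, hunit]
  have h3 := congrArg (fun w => B.H w (v x₀)) (hc (v x₀))
  simp only [hSapp, B.sum_left, B.smul_left, hunit, mul_one] at h3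
  have e : ∑ x, B.H (v x₀) (v x) * conj (B.H (v x₀) (v x)) = c := by
    rw [← h3]
    exact Finset.sum_congr rfl fun x _ => by rw [B.conj_symm]
  rw [e, mul_comm, htr]

end CfsgLib.Classical.OMinDeg
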