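import Cfsg.Agent.Lib.Classical.OMinDegChar
import Cfsg.Agent.Lib.Classical.OMinDegForm

/-!
# The flip of a pair, and orthogonality of eigenspaces
-/

set_option autoImplicit false

namespace CfsgLib.Classical.OMinDeg

open CfsgLib.Geom CfsgLib.Classical CfsgLib.Classical.SLMinDeg Module
open QuadraticMap (polar)
open scoped ComplexConjugate

variable {F V : Type*} [Field F] [AddCommGroup V] [Module F V] {Q : QuadraticForm F V}

theorem siegel_swap {x w : V} (hx : Q x = 0) (hw : Q w = 0) (hxw : polar Q x w = 0) :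
    siegel Q x w = siegel Q w (-x) := by
  have h : polar Q w (-x) = 0 := by
    rw [QuadraticMap.polar_neg_right, QuadraticMap.polar_comm, hxw, neg_zero]
  refine quadIsoms_ext Q fun z => ?_
  rw [siegel_apply Q hx hxw, siegel_apply Q hw h, QuadraticMap.map_neg, hx, hw,
    QuadraticMap.polar_neg_left]
  module

namespace Pair

variable (P : Pair Q)

/-- A pair of the complement, as a pair of the space. -/
def lower (P' : Pair P.QW) : Pair Q := ⟨P'.e, P'.f, P'.he, P'.hf, P'.hef⟩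

theorem extend_rad_eq (P' : Pair P.QW) (x : P'.W) :
    P.extend (P'.rad x).1 = siegel Q (P'.e : V) ((x : P.W) : V) := P.extend_siegel _ _

/-- The swap of two pairs of hyperbolic pairs. -/
theorem exists_flip (P' : Pair P.QW) :
    ∃ n : ↥(siegelGroup Q), n.1.1 P.e = -P.f ∧ n.1.1 P.f = -P.e ∧
      ∀ z : V, polar Q (P'.e : V) z = 0 → polar Q (P'.f : V) z = 0 →
        polar Q P.e z = 0 → polar Q P.f z = 0 → n.1.1 z = z := by
  let E₂ : V := P'.e
  let F₂ : V := P'.f
  have he2 : Q E₂ = 0 := P'.he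
  have hf2 : Q F₂ = 0 := P'.hf
  have h22 : polar Q E₂ F₂ = 1 := P'.hef
  have h22' : polar Q F₂ E₂ = 1 := by rw [QuadraticMap.polar_comm]; exact h22
  have a1 : polar Q P.e E₂ = 0 := P.W_e _
  have a2 : polar Q P.e F₂ = 0 := P.W_e _
  have a3 : polar Q P.f E₂ = 0 := P.W_f _
  have a4 : polar Q P.f F₂ = 0 := P.W_f _
  have b1 : polar Q E₂ P.e = 0 := P.e_W _
  have b2 : polar Q F₂ P.e = 0 := P.e_W _
  have b3 : polar Q E₂ P.f = 0 := P.f_W _
  have b4 : polar Q F₂ P.f = 0 := P.f_W _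
  let n : ↥(siegelGroup Q) :=
    (⟨siegel Q P.e E₂, siegel_mem Q _ _⟩ * ⟨siegel Q P.f F₂, siegel_mem Q _ _⟩ *
      ⟨siegel Q P.e E₂, siegel_mem Q _ _⟩) *
    (⟨siegel Q P.e F₂, siegel_mem Q _ _⟩ * ⟨siegel Q P.f E₂, siegel_mem Q _ _⟩ *
      ⟨siegel Q P.e F₂, siegel_mem Q _ _⟩)
  refine ⟨n, ?_, ?_, fun z c1 c2 c3 c4 => ?_⟩
  all_goals
    simp only [n, Subgroup.coe_mul, LinearEquiv.mul_apply, map_add, map_sub, map_smul, map_neg,
      siegel_apply Q P.he a1, siegel_apply Q P.hf a4, siegel_apply Q P.he a2, siegel_apply Q P.hf a3,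
      QuadraticMap.polar_add_right, QuadraticMap.polar_sub_right, QuadraticMap.polar_smul_right,
      QuadraticMap.polar_neg_right, polar_self_of_singular Q P.he, polar_self_of_singular Q P.hf,
      polar_self_of_singular Q he2, polar_self_of_singular Q hf2, P.hef, P.hfe, h22, h22',
      a1, a2, a3, a4, b1, b2, b3, b4, he2, hf2, smul_eq_mul]
  · module
  · module
  · simp only [c3, c4, show polar Q E₂ z = 0 from c1, show polar Q F₂ z = 0 from c2]
    module

variable [Finite F] [FiniteDimensional F V] [Fintype P.W]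
  {E : Type*} [AddCommGroup E] [Module ℂ E] [FiniteDimensional ℂ E]
  (ρ : Representation ℂ ↥(siegelGroup Q) E) (B : InvForm ρ) (ψ : AddChar F ℂ)

include B

/-- Eigenvectors of different characters of the radical are orthogonal. -/
theorem eigen_orth {χ χ' : AddChar P.W ℂ} (hne : χ ≠ χ') {v v' : E} (hv : v ∈ eigen ρ P.rad χ)
    (hv' : v' ∈ eigen ρ P.rad χ') : B.H v v' = 0 := by
  obtain ⟨w, hw⟩ : ∃ w, χ w ≠ χ' w := by
    by_contra h
    push Not at h
    exact hne (DFunLike.ext _ _ h)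
  refine B.orth_of_eigen (hv w) (hv' w) ?_ hw
  rw [← AddChar.map_neg_eq_conj, ← AddChar.map_add_eq_mul, neg_add_cancel, AddChar.map_zero_eq_one]

omit [Finite F] [FiniteDimensional F V] [Fintype P.W] [FiniteDimensional ℂ E] B in
/-- A vector fixed by the radical and by the stabiliser of the pair is fixed by the stabiliser of
the first vector. -/
theorem fixed_stab {v : E} (hv : v ∈ eigen ρ P.rad 1)
    (hL : ∀ g : ↥(siegelGroup Q), g.1.1 P.e = P.e → g.1.1 P.f = P.f → ρ g v = v)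
    {g : ↥(siegelGroup Q)} (hg : g.1.1 P.e = P.e) : ρ g v = v := by
  obtain ⟨w, hw⟩ : ∃ w, w = P.pr (g.1.1 P.f) := ⟨_, rfl⟩
  have h1 : polar Q P.e (g.1.1 P.f) = 1 := by
    conv_lhs => rw [← hg, polar_quadIsom g.1.2, P.hef]
  have h2 := P.quad_coords (g.1.1 P.f)
  rw [mem_quadIsoms.1 g.1.2, P.hf, h1, mul_one, ← hw, P.QW_apply] at h2
  have hf : (P.rad w).1.1 P.f = g.1.1 P.f := by
    rw [P.rad_f]
    conv_rhs => rw [P.split (g.1.1 P.f), h1, ← hw]
    rw [show polar Q P.f (g.1.1 P.f) = -Q (w : V) by linear_combination -h2]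
    module
  have he' : ((P.rad w)⁻¹ * g).1.1 P.e = P.e := by
    change (P.rad w).1.1.symm (g.1.1 P.e) = _
    rw [hg]; exact (LinearEquiv.symm_apply_eq _).2 (P.rad_e w).symm
  have hf' : ((P.rad w)⁻¹ * g).1.1 P.f = P.f := by
    change (P.rad w).1.1.symm (g.1.1 P.f) = _
    exact (LinearEquiv.symm_apply_eq _).2 hf.symm
  have h3 := hL _ he' hf'
  rw [show g = P.rad w * ((P.rad w)⁻¹ * g) by group, map_mul, Module.End.mul_apply, h3]
  exact (mem_eigen_one ρ P.rad).1 hv w

end Pair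

end CfsgLib.Classical.OMinDeg
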