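import Cfsg.Agent.Lib.Classical.OMinDegPair
import Cfsg.Agent.Lib.Geom.OmegaIndex
import Cfsg.Agent.Lib.Geom.ClassRefl

/-!
# Isotropic quadratic spaces of dimension at least three: reflections modulo Siegel transformations
-/

set_option autoImplicit false

namespace CfsgLib.Classical.OMinDeg

open CfsgLib.Geom CfsgLib.Classical
open QuadraticMap (polar)

variable {F V : Type*} [Field F] [AddCommGroup V] [Module F V] {Q : QuadraticForm F V}

namespace Pair

variable (P : Pair Q)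

/-- The torus element `e ↦ a e`, `f ↦ a⁻¹ f`. -/
noncomputable def torus (a : Fˣ) : quadIsoms Q :=
  ⟨P.coords.trans (((LinearEquiv.smulOfUnit a).prodCongr
      ((LinearEquiv.smulOfUnit a⁻¹).prodCongr (LinearEquiv.refl F P.W))).trans P.coords.symm),
    fun z => by
      set y := (P.coords.trans (((LinearEquiv.smulOfUnit a).prodCongr
        ((LinearEquiv.smulOfUnit a⁻¹).prodCongr (LinearEquiv.refl F P.W))).trans P.coords.symm)) z
      have h : P.coords y = ((a : F) * polar Q P.f z, (↑a⁻¹ : F) * polar Q P.e z, P.pr z) :=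
        P.coords.apply_symm_apply _
      change (polar Q P.f y, polar Q P.e y, P.pr y) = _ at h
      simp only [Prod.mk.injEq] at h
      rw [P.quad_coords z, P.quad_coords y, h.1, h.2.1, h.2.2, mul_mul_mul_comm, Units.mul_inv,
        one_mul]⟩

theorem torus_apply (a : Fˣ) (z : V) :
    (P.torus a).1 z = ((a : F) * polar Q P.f z) • P.e + ((↑a⁻¹ : F) * polar Q P.e z) • P.f +
      (P.pr z : V) := rfl

/-- The monomial element of a non-singular vector of the complement. -/
noncomputable def mono (v : P.W) : quadIsoms Q :=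
  siegel Q P.e v * siegel Q P.f ((Q (v : V))⁻¹ • (v : V)) * siegel Q P.e v

theorem mono_mem (v : P.W) : P.mono v ∈ siegelGroup Q :=
  mul_mem (mul_mem (siegel_mem Q _ _) (siegel_mem Q _ _)) (siegel_mem Q _ _)

theorem mono_apply {v : P.W} (hv : Q (v : V) ≠ 0) (z : V) :
    (P.mono v).1 z = (-(Q (v : V)) * polar Q P.e z) • P.e +
      (-(Q (v : V))⁻¹ * polar Q P.f z) • P.f +
      ((P.pr z : V) - ((Q (v : V))⁻¹ * polar Q (v : V) (P.pr z : V)) • (v : V)) := by
  have h1 : polar Q P.e (v : V) = 0 := P.W_e v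
  have h2 : polar Q P.f ((Q (v : V))⁻¹ • (v : V)) = 0 := by
    rw [QuadraticMap.polar_smul_right, P.W_f, smul_zero]
  conv_lhs => rw [P.split z]
  simp only [mono, Subgroup.coe_mul, LinearEquiv.mul_apply, map_add, map_smul, map_sub,
    siegel_apply Q P.he h1, siegel_apply Q P.hf h2, QuadraticMap.polar_add_right,
    QuadraticMap.polar_sub_right, QuadraticMap.polar_smul_right, QuadraticMap.polar_smul_left,
    polar_self_of_singular Q P.he, polar_self_of_singular Q P.hf, P.hef, P.hfe, P.W_e, P.W_f, P.e_W,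
    P.f_W, polar_self_two, quad_smul, smul_eq_mul]
  match_scalars <;> field_simp <;> ring

/-- Two monomial elements give a torus element times two reflections. -/
theorem mono_mul_apply {v v' : P.W} (hv : Q (v : V) ≠ 0) (hv' : Q (v' : V) ≠ 0)
    (a : Fˣ) (ha : (a : F) = Q (v : V) / Q (v' : V)) (z : V) :
    (P.mono v * P.mono v').1 z = (P.torus a).1 z - (P.pr z : V) +
      ((P.pr z : V) - ((Q (v' : V))⁻¹ * polar Q (v' : V) (P.pr z : V)) • (v' : V) -
        ((Q (v : V))⁻¹ * polar Q (v : V) ((P.pr z : V) -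
          ((Q (v' : V))⁻¹ * polar Q (v' : V) (P.pr z : V)) • (v' : V))) • (v : V)) := by
  rw [Subgroup.coe_mul, LinearEquiv.mul_apply, P.mono_apply hv, P.torus_apply, Units.val_inv_eq_inv_val,
    ha]
  set y := (P.mono v').1 z with hy
  rw [P.mono_apply hv'] at hy
  obtain ⟨u, hu⟩ : ∃ u : P.W, (u : V) =
      (P.pr z : V) - ((Q (v' : V))⁻¹ * polar Q (v' : V) (P.pr z : V)) • (v' : V) :=
    ⟨P.pr z - ((Q (v' : V))⁻¹ * polar Q (v' : V) (P.pr z : V)) • v', rfl⟩
  rw [← hu] at hy
  have hc : P.coords y = (-(Q (v' : V)) * polar Q P.e z, -(Q (v' : V))⁻¹ * polar Q P.f z, u) := by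
    rw [hy]; exact P.coords.apply_symm_apply (_, _, u)
  change (polar Q P.f y, polar Q P.e y, P.pr y) = _ at hc
  simp only [Prod.mk.injEq] at hc
  rw [hc.1, hc.2.1, hc.2.2, ← hu]
  rw [show (polar Q P.e z) = polar Q P.e z from rfl]
  field_simp
  abel

/-- Square torus elements lie in the group of Siegel transformations. -/
theorem torus_sq_mem {v : P.W} (hv : Q (v : V) ≠ 0) (d : Fˣ) :
    P.torus (d ^ 2) ∈ siegelGroup Q := by
  have hdv : Q (((↑d⁻¹ : F) • v : P.W) : V) ≠ 0 := by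
    rw [Submodule.coe_smul, quad_smul]
    exact mul_ne_zero (mul_ne_zero (Units.ne_zero _) (Units.ne_zero _)) hv
  have h : P.torus (d ^ 2) = P.mono v * P.mono ((↑d⁻¹ : F) • v) := by
    refine quadIsoms_ext Q fun z => ?_
    rw [P.mono_mul_apply hv hdv (d ^ 2) (by
      rw [Submodule.coe_smul, quad_smul, Units.val_pow_eq_pow_val, Units.val_inv_eq_inv_val]
      field_simp)]
    simp only [Submodule.coe_smul, QuadraticMap.polar_sub_right, QuadraticMap.polar_smul_right,
      QuadraticMap.polar_smul_left, quad_smul, polar_self_two, smul_eq_mul,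
      Units.val_inv_eq_inv_val]
    have hd0 := d.ne_zero
    match_scalars <;> field_simp <;> ring
  rw [h]
  exact mul_mem (P.mono_mem _) (P.mono_mem _)

/-- Every singular point can be moved to the first one. -/
theorem siegel_to_e (hQ : ∀ x, (∀ y, polar Q x y = 0) → x = 0) {v : P.W} (hv : Q (v : V) ≠ 0)
    {x : V} (hx : Q x = 0) (hx0 : x ≠ 0) :
    ∃ g ∈ siegelGroup Q, ∃ a : F, a ≠ 0 ∧ g.1 x = a • P.e := by
  have hB : ∀ y, Q y = 0 → polar Q P.f y ≠ 0 → ∃ g ∈ siegelGroup Q, ∃ a : F, a ≠ 0 ∧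
      g.1 y = a • P.e := by
    intro y hy hfy
    have h1 : polar Q P.f ((polar Q P.f y)⁻¹ • y) = 1 := by
      rw [QuadraticMap.polar_smul_right, smul_eq_mul, inv_mul_cancel₀ hfy]
    refine ⟨siegel Q P.f (P.e - (polar Q P.f y)⁻¹ • y), siegel_mem Q _ _, polar Q P.f y, hfy, ?_⟩
    have h := siegel_move Q P.hf h1 P.hfe (by rw [quad_smul, hy, mul_zero, P.he])
    have h' := congrArg (fun z => polar Q P.f y • z) h
    rwa [← map_smul, smul_inv_smul₀ hfy] at h'
  by_cases hfx : polar Q P.f x = 0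
  swap
  · exact hB x hx hfx
  by_cases hex : polar Q P.e x = 0
  · have hxW : x ∈ P.W := P.mem_W.2 ⟨hex, hfx⟩
    obtain ⟨w, hw⟩ : ∃ w : P.W, polar Q (w : V) x ≠ 0 := by
      by_contra h
      push Not at h
      have h0 := P.sep_W hQ ⟨x, hxW⟩ fun w => by
        rw [P.polar_QW, QuadraticMap.polar_comm]; exact h w
      exact hx0 (congrArg Subtype.val h0)
    have e : (P.rad w).1.1 x = x - polar Q (w : V) x • P.e := P.rad_W w ⟨x, hxW⟩
    obtain ⟨g, hg, a, ha, hga⟩ := hB ((P.rad w).1.1 x)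
      (by rw [mem_quadIsoms.1 (P.rad w).1.2, hx]) (by
        rw [e, QuadraticMap.polar_sub_right, QuadraticMap.polar_smul_right, hfx, P.hfe, smul_eq_mul,
          mul_one, zero_sub]
        exact neg_ne_zero.2 hw)
    exact ⟨g * (P.rad w).1, mul_mem hg (P.rad w).2, a, ha, hga⟩
  · have e : (P.mono v).1 x = (-(Q (v : V)) * polar Q P.e x) • P.e +
        ((P.pr x : V) - ((Q (v : V))⁻¹ * polar Q (v : V) (P.pr x : V)) • (v : V)) := by
      rw [P.mono_apply hv, hfx, mul_zero, zero_smul, add_zero]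
    obtain ⟨g, hg, a, ha, hga⟩ := hB ((P.mono v).1 x)
      (by rw [mem_quadIsoms.1 (P.mono v).2, hx]) (by
        rw [e]
        simp [QuadraticMap.polar_add_right, QuadraticMap.polar_sub_right,
          QuadraticMap.polar_smul_right, P.hfe, P.W_f, hv, hex])
    exact ⟨g * P.mono v, mul_mem hg (P.mono_mem v), a, ha, hga⟩

theorem refl_line_apply (c : Fˣ) (h : Q (P.f + (c : F) • P.e) ≠ 0) (z : V) :
    reflEquiv Q (P.f + (c : F) • P.e) h z = (-(c : F) * polar Q P.e z) • P.e +
      (-(↑c⁻¹ : F) * polar Q P.f z) • P.f + (P.pr z : V) := by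
  have hq : Q (P.f + (c : F) • P.e) = (c : F) := by
    rw [quad_map_add_smul, P.hf, P.he, P.hfe]; ring
  rw [reflEquiv_apply, hq, QuadraticMap.polar_add_left, QuadraticMap.polar_smul_left, smul_eq_mul,
    Units.val_inv_eq_inv_val, P.coe_pr]
  have := c.ne_zero
  match_scalars <;> field_simp <;> ring

theorem quad_line (c : Fˣ) : Q (P.f + (c : F) • P.e) = (c : F) := by
  rw [quad_map_add_smul, P.hf, P.he, P.hfe]; ring

/-- The reflection in `f + c e`. -/
noncomputable def lineRefl (c : Fˣ) : quadIsoms Q :=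
  ⟨reflEquiv Q (P.f + (c : F) • P.e) (by rw [P.quad_line]; exact c.ne_zero), reflEquiv_mem Q _ _⟩

theorem coords_mk (x y : F) (u : P.W) :
    polar Q P.f (x • P.e + y • P.f + (u : V)) = x ∧ polar Q P.e (x • P.e + y • P.f + (u : V)) = y ∧
      P.pr (x • P.e + y • P.f + (u : V)) = u := by
  have h : P.coords (x • P.e + y • P.f + (u : V)) = (x, y, u) :=
    P.coords.apply_symm_apply (x, y, u)
  change (_, _, _) = _ at h
  simpa only [Prod.mk.injEq] using h

theorem lineRefl_mul (c c' : Fˣ) : P.lineRefl c * P.lineRefl c' = P.torus (c * c'⁻¹) := by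
  refine quadIsoms_ext Q fun z => ?_
  rw [Subgroup.coe_mul, LinearEquiv.mul_apply, lineRefl, lineRefl, P.refl_line_apply,
    P.refl_line_apply]
  obtain ⟨h1, h2, h3⟩ := P.coords_mk (-(c' : F) * polar Q P.e z) (-(↑c'⁻¹ : F) * polar Q P.f z)
    (P.pr z)
  rw [h1, h2, h3, P.torus_apply]
  simp [mul_assoc, mul_left_comm, mul_comm]

theorem torus_mul_lineRefl (a c : Fˣ) : P.torus a * P.lineRefl c = P.lineRefl (a * c) := by
  refine quadIsoms_ext Q fun z => ?_
  rw [Subgroup.coe_mul, LinearEquiv.mul_apply, lineRefl, lineRefl, P.refl_line_apply,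
    P.refl_line_apply, P.torus_apply]
  obtain ⟨h1, h2, h3⟩ := P.coords_mk (-(c : F) * polar Q P.e z) (-(↑c⁻¹ : F) * polar Q P.f z)
    (P.pr z)
  rw [h1, h2, h3]
  simp [mul_assoc, mul_left_comm, mul_comm]

/-- Every reflection is, modulo Siegel transformations, one in a vector `f + c e`. -/
theorem refl_mod (hQ : ∀ x, (∀ y, polar Q x y = 0) → x = 0) {v : P.W} (hv : Q (v : V) ≠ 0)
    {u : V} (hu : Q u ≠ 0) :
    ∃ c : Fˣ, ∃ g ∈ siegelGroup Q,
      (⟨reflEquiv Q u hu, reflEquiv_mem Q u hu⟩ : quadIsoms Q) = g⁻¹ * P.lineRefl c * g := by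
  obtain ⟨x, hx, hxu⟩ : ∃ x, Q x = 0 ∧ polar Q x u ≠ 0 := by
    by_contra hall
    push Not at hall
    refine hu ?_
    have huW : u ∈ P.W := P.mem_W.2 ⟨hall _ P.he, hall _ P.hf⟩
    have h0 := P.sep_W hQ ⟨u, huW⟩ fun w => by
      have h := hall ((P.rad w).1.1 P.f) (by rw [mem_quadIsoms.1 (P.rad w).1.2, P.hf])
      rw [P.rad_f, QuadraticMap.polar_sub_left, QuadraticMap.polar_add_left,
        QuadraticMap.polar_smul_left, hall _ P.he, hall _ P.hf, smul_zero, sub_zero, zero_add] at h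
      rw [P.polar_QW, QuadraticMap.polar_comm]; exact h
    rw [show u = 0 from congrArg Subtype.val h0, QuadraticMap.map_zero]
  have hx0 : x ≠ 0 := fun h => hxu (by rw [h, QuadraticMap.polar_zero_left])
  obtain ⟨g, hg, a, ha, hga⟩ := P.siegel_to_e hQ hv hx hx0
  have hb : polar Q P.e (g.1 u) ≠ 0 := fun h => hxu (by
    rw [← polar_quadIsom g.2 x u, hga, QuadraticMap.polar_smul_left, h, smul_zero])
  obtain ⟨b, hbdef⟩ : ∃ b, b = polar Q P.e (g.1 u) := ⟨_, rfl⟩
  rw [← hbdef] at hb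
  have h1 : polar Q P.e (b⁻¹ • g.1 u) = 1 := by
    rw [QuadraticMap.polar_smul_right, ← hbdef, smul_eq_mul, inv_mul_cancel₀ hb]
  let c : Fˣ := Units.mk0 (Q (b⁻¹ • g.1 u)) (by
    rw [quad_smul, mem_quadIsoms.1 g.2]
    exact mul_ne_zero (mul_ne_zero (inv_ne_zero hb) (inv_ne_zero hb)) hu)
  have h2 : polar Q P.e (P.f + (c : F) • P.e) = 1 := by
    simp [QuadraticMap.polar_add_right, QuadraticMap.polar_smul_right,
      polar_self_of_singular Q P.he, P.hef]
  have hmove := siegel_move Q P.he h1 h2 (by rw [P.quad_line]; rfl)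
  set s := siegel Q P.e (P.f + (c : F) • P.e - b⁻¹ • g.1 u) with hs
  refine ⟨c, s * g, mul_mem (siegel_mem Q _ _) hg, ?_⟩
  have hgu : (s * g).1 u = b • (P.f + (c : F) • P.e) := by
    change s.1 (g.1 u) = _
    nth_rw 1 [show g.1 u = b • b⁻¹ • g.1 u from (smul_inv_smul₀ hb _).symm]
    rw [map_smul, hmove]
  have hconj := conj_reflEquiv Q (s * g).2 u hu
  have hne : Q (b • (P.f + (c : F) • P.e)) ≠ 0 := by
    rw [← hgu, mem_quadIsoms.1 (s * g).2]; exact hu
  simp only [hgu] at hconj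
  rw [reflEquiv_smul Q (by rw [P.quad_line]; exact c.ne_zero) hne] at hconj
  refine Subtype.ext ?_
  change reflEquiv Q u hu =
    (s * g).1⁻¹ * reflEquiv Q (P.f + (c : F) • P.e) (by rw [P.quad_line]; exact c.ne_zero) * (s * g).1
  rw [← hconj]
  group

end Pair

end CfsgLib.Classical.OMinDeg
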