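import Cfsg.Agent.Lib.Classical.OMinDegCases
import Cfsg.Agent.Lib.Classical.OMinDegBounds

/-!
# Minimal degree of orthogonal groups, by type
-/

set_option autoImplicit false

namespace CfsgLib.Classical.OMinDeg

open CfsgLib.Geom CfsgLib.Classical CfsgLib.Classical.SLMinDeg Module
open QuadraticMap (polar)

theorem nofix_of_irreducible {G : Type*} [Group G] {E : Type*} [AddCommGroup E] [Module ℂ E]
    [FiniteDimensional ℂ E] {ρ : Representation ℂ G E} (hirr : ρ.IsIrreducible)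
    (hd : 2 ≤ finrank ℂ E) (x : E) (hx : ∀ g, ρ g x = x) : x = 0 := by
  by_contra hx0
  let U : Subrepresentation ρ := ⟨ℂ ∙ x, fun g w hw => by
    obtain ⟨c, rfl⟩ := Submodule.mem_span_singleton.1 hw
    rw [map_smul, hx]; exact Submodule.smul_mem _ c (Submodule.mem_span_singleton_self x)⟩
  rcases hirr.eq_bot_or_eq_top U with e | e
  · exact hx0 (Submodule.span_singleton_eq_bot.1 (congrArg Subrepresentation.toSubmodule e))
  · have h1 := finrank_span_singleton (K := ℂ) hx0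
    rw [show (ℂ ∙ x) = (⊤ : Submodule ℂ E) from congrArg Subrepresentation.toSubmodule e,
      finrank_top] at h1
    omega

theorem exists_primitive_char {F : Type*} [Field F] [Fintype F] :
    ∃ ψ : AddChar F ℂ, ψ.IsPrimitive := by
  obtain ⟨φ, hφ⟩ := AddChar.exists_apply_ne_zero.2 (one_ne_zero (α := F))
  exact ⟨φ, AddChar.IsPrimitive.of_ne_one fun e => hφ (by simp [e])⟩

variable {F V : Type*} [Field F] [Fintype F] [AddCommGroup V] [Module F V] [FiniteDimensional F V]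
  {Q : QuadraticForm F V}

theorem gen_of_dim (hQ : ∀ x, (∀ y, polar Q x y = 0) → x = 0) (h : finrank F V ≠ 4) : Gen Q :=
  fun _ hg => by rwa [quadIsoms_eq_closure Q hQ (Or.inr h)] at hg

theorem gen_cases {P' : Pair Q} (hQ : ∀ x, (∀ y, polar Q x y = 0) → x = 0) :
    Gen Q ∨ Gen (V := ↥P'.W) P'.QW := by
  by_cases h : finrank F V = 4
  · exact Or.inr (gen_of_dim (V := ↥P'.W) (P'.sep_W hQ) (by have := P'.finrank_W; omega))
  · exact Or.inl (gen_of_dim hQ h)

theorem natCard_sing [Finite V] :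
    (Nat.card {x : V // x ≠ 0 ∧ Q x = 0} : ℝ) + 1 = (Nat.card {z : V // Q z = 0} : ℝ) := by
  classical
  have := Fintype.ofFinite V
  have e : Finset.univ.filter (fun z : V => Q z = 0) =
      insert 0 (Finset.univ.filter fun z : V => z ≠ 0 ∧ Q z = 0) := by
    ext z
    by_cases hz : z = 0 <;> simp [hz]
  simp only [Nat.card_eq_fintype_card, Fintype.card_subtype]
  rw [e, Finset.card_insert_of_notMem (by simp)]
  push_cast
  rfl

/-- Two independent vectors of one value in an anisotropic plane. -/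
theorem exists_pair_of_plane (h : EvenType Q 1 (-1)) :
    ∃ v v' : V, LinearIndependent F ![v, v'] ∧ Q v = Q v' ∧ Q v ≠ 0 := by
  classical
  have : Finite V := Module.finite_of_finite F
  have := Fintype.ofFinite V
  obtain ⟨u, hu⟩ := exists_nonsingular h.sep (by rw [h.dim]; norm_num)
  have h1 := h.level (Q u) hu
  have hq : (2 : ℝ) ≤ (Nat.card F : ℝ) := by
    rw [Nat.card_eq_fintype_card]; exact_mod_cast Fintype.one_lt_card
  have h3 : 2 < (Finset.univ.filter fun z : V => Q z = Q u).card := by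
    rw [← Fintype.card_subtype, ← Nat.card_eq_fintype_card, ← Nat.cast_lt (α := ℝ)]
    refine lt_of_mul_lt_mul_right ?_ (show (0 : ℝ) ≤ (Nat.card F : ℝ) by linarith)
    rw [h1]; push_cast; nlinarith
  obtain ⟨x, hx, y, hy, z, hz, hxy, hxz, hyz⟩ := Finset.two_lt_card.1 h3
  simp only [Finset.mem_filter, Finset.mem_univ, true_and] at hx hy hz
  have hx0 : x ≠ 0 := fun e => hu (by rw [← hx, e, QuadraticMap.map_zero])
  have key : ∀ y', Q y' = Q u → ¬ LinearIndependent F ![x, y'] → y' = x ∨ y' = -x := by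
    intro y' hy' hli
    rw [LinearIndependent.pair_iff' hx0] at hli
    push Not at hli
    obtain ⟨a, rfl⟩ := hli
    rw [quad_smul, hx] at hy'
    rcases mul_self_eq_one_iff.1 (mul_right_cancel₀ hu (hy'.trans (one_mul _).symm)) with rfl | rfl
    · exact Or.inl (one_smul _ _)
    · exact Or.inr (neg_one_smul _ _)
  by_cases hl : LinearIndependent F ![x, y]
  · exact ⟨x, y, hl, hx.trans hy.symm, by rwa [hx]⟩
  by_cases hl' : LinearIndependent F ![x, z]
  · exact ⟨x, z, hl', hx.trans hz.symm, by rwa [hx]⟩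
  rcases key y hy hl with rfl | rfl
  · exact absurd rfl hxy
  rcases key z hz hl' with rfl | rfl
  · exact absurd rfl hxz
  · exact absurd rfl hyz

variable {E : Type*} [AddCommGroup E] [Module ℂ E] [FiniteDimensional ℂ E] [Finite ↥(siegelGroup Q)]
  (ρ : Representation ℂ ↥(siegelGroup Q) E)

/-- Odd dimension, `q ≥ 5`. -/
theorem odd_bound {m : ℕ} (hm : 2 ≤ m) (hq : 5 ≤ Fintype.card F) (hV : OddType Q (m + 1))
    (hirr : ρ.IsIrreducible) (hd : 2 ≤ finrank ℂ E) :
    (Fintype.card F : ℝ) ^ (2 * (m + 1)) - 1 ≤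
      (finrank ℂ E : ℝ) * ((Fintype.card F : ℝ) ^ 2 - 1) := by
  classical
  have := Fintype.ofFinite ↥(siegelGroup Q)
  have : Finite V := Module.finite_of_finite F
  have : Nontrivial E := nontrivial_of_finrank_pos (R := ℂ) (by omega)
  set q : ℝ := (Fintype.card F : ℝ) with hq'
  have hcF : (Nat.card F : ℝ) = q := by rw [Nat.card_eq_fintype_card]
  have hq5 : (5 : ℝ) ≤ q := by rw [hq']; exact_mod_cast hq
  obtain ⟨ψ, hψ⟩ := exists_primitive_char (F := F)
  obtain ⟨x, hx0, hx⟩ := exists_singular Q hV.sep (by rw [hV.dim]; omega)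
  obtain ⟨P, -⟩ := exists_pair hV.sep hx hx0
  have hW := P.oddType hV
  have := Fintype.ofFinite P.W
  obtain ⟨x', hx0', hx'⟩ := exists_singular P.QW hW.sep (by rw [hW.dim]; omega)
  obtain ⟨P', -⟩ := exists_pair hW.sep hx' hx0'
  obtain ⟨l, rfl⟩ : ∃ l, m = l + 2 := ⟨m - 2, by omega⟩
  have hX : OddType P'.QW (l + 1) := P'.oddType hW
  have hqpow : (1 : ℝ) < q := by linarith
  obtain ⟨x'', hx0'', hx''⟩ := exists_singular_of_zeros (V := ↥P'.W) (Q := P'.QW) (by
    rw [hX.zeros, hcF]; exact one_lt_pow₀ hqpow (by omega))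
  obtain ⟨P'', -⟩ := exists_pair (V := ↥P'.W) hX.sep hx'' hx0''
  set y : ℝ := q ^ (l + 2) with hy
  have hLW : (Fintype.card P.W : ℝ) = q * y ^ 2 := by
    rw [← Nat.card_eq_fintype_card, hW.card, hcF, hy]; ring
  have hS : (Nat.card {w : P.W // w ≠ 0 ∧ Q (w : V) = 0} : ℝ) = y ^ 2 - 1 := by
    have h := natCard_sing (Q := P.QW)
    rw [hW.zeros, hcF] at h
    rw [show (Nat.card {w : P.W // w ≠ 0 ∧ Q (w : V) = 0} : ℝ) =
      (Nat.card {w : P.W // w ≠ 0 ∧ P.QW w = 0} : ℝ) from rfl, hy]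
    linear_combination h
  have hXc : (Nat.card P'.W : ℝ) * q = y ^ 2 := by rw [hX.card, hcF, hy]; ring
  have hy25 : 25 ≤ y := by
    have h1 : (5 : ℝ) ^ 2 ≤ q ^ (l + 2) :=
      (pow_le_pow_left₀ (by norm_num) hq5 2).trans (pow_le_pow_right₀ hqpow.le (by omega))
    rw [hy]; linarith
  have hlev : ∀ c : F, c ≠ 0 → |(Nat.card {w : P.W // Q (w : V) = c} : ℝ) - y ^ 2| ≤ y := fun c hc => by
    have h := hW.level c hc
    rw [hcF] at h
    rw [hy, ← pow_mul, mul_comm (l + 2) 2]; exact h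
  have hy5 : q ≤ y := by
    rw [hy]; exact le_self_pow₀ hqpow.le (by omega)
  have goal : q ^ (2 * (l + 2 + 1)) - 1 = q ^ 2 * y ^ 2 - 1 := by rw [hy]; ring
  rw [goal]
  rcases P.trichotomy ρ ψ hV.sep (by rw [hW.dim]; omega) hψ P' P''
      (by have := P''.finrank_W; rw [hX.dim] at this; omega) (gen_cases hX.sep)
      (Or.inr (Or.inl (by omega))) (by
        refine lt_of_mul_lt_mul_right ?_ (show (0 : ℝ) ≤ q by linarith)
        rw [hS, ← hq']
        nlinarith)
      hirr (nofix_of_irreducible hirr hd) (y ^ 2) y hlev with ⟨u, hu, hne⟩ | hB | ⟨α, β, hfr, hcase⟩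
  · obtain ⟨-, h2⟩ := P.level_bounds ρ ψ hV.sep (by rw [hW.dim]; omega) hψ hu hne (y ^ 2 - y)
      fun c hc => by
        have h := (abs_le.1 (hlev c hc)).1
        exact (by linarith : y ^ 2 - y ≤ (Nat.card {w : P.W // Q (w : V) = c} : ℝ))
    have h3 := h2 (by nlinarith)
    rw [← hq'] at h3
    have h4 : 2 * (y ^ 2 - y) ≤ (finrank ℂ E : ℝ) := by nlinarith
    have h5 : q ^ 2 * y ^ 2 ≤ 2 * (y ^ 2 - y) * (q ^ 2 - 1) := by
      have a1 : 24 / 25 * y ^ 2 ≤ y ^ 2 - y := by nlinarith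
      have a2 : 24 / 25 * q ^ 2 ≤ q ^ 2 - 1 := by nlinarith
      nlinarith [mul_le_mul a1 a2 (by positivity) (by nlinarith), sq_nonneg (q * y)]
    nlinarith [mul_le_mul_of_nonneg_right h4 (show (0 : ℝ) ≤ q ^ 2 - 1 by nlinarith)]
  · rw [hS] at hB
    nlinarith [mul_le_mul_of_nonneg_right hB (show (0 : ℝ) ≤ q ^ 2 - 1 by nlinarith),
      mul_nonneg (sub_nonneg.2 (show (1 : ℝ) ≤ y ^ 2 by nlinarith))
        (show (0 : ℝ) ≤ q ^ 2 - 2 by nlinarith)]
  · rw [hLW, hS, ← hq'] at hfr hcase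
    exact odd_frame (by linarith) hy5 (Nat.cast_nonneg _) hfr hcase

/-- Even dimension: either the bound, or a non-singular character occurs. -/
theorem even_core {m : ℕ} (hm : 3 ≤ m) {ε : ℝ} (hε : ε = 1 ∨ ε = -1)
    (h4 : ε = 1 → 4 ≤ Fintype.card F) (hV : EvenType Q (m + 1) ε) (P : Pair Q) [Fintype P.W]
    {ψ : AddChar F ℂ} (hψ : ψ.IsPrimitive) (hirr : ρ.IsIrreducible) (hd : 2 ≤ finrank ℂ E) :
    ((Fintype.card F : ℝ) ^ (m + 1) - ε) * ((Fintype.card F : ℝ) ^ m + ε * (Fintype.card F : ℝ)) ≤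
        (finrank ℂ E : ℝ) * ((Fintype.card F : ℝ) ^ 2 - 1) ∨
      ∃ u : P.W, Q (u : V) ≠ 0 ∧ eigen ρ P.rad (P.chi ψ u) ≠ ⊥ := by
  classical
  have := Fintype.ofFinite ↥(siegelGroup Q)
  have : Finite V := Module.finite_of_finite F
  have : Nontrivial E := nontrivial_of_finrank_pos (R := ℂ) (by omega)
  set q : ℝ := (Fintype.card F : ℝ) with hq'
  have hcF : (Nat.card F : ℝ) = q := by rw [Nat.card_eq_fintype_card]
  have hq2 : (2 : ℝ) ≤ q := by rw [hq']; exact_mod_cast Fintype.one_lt_card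
  have hW := P.evenType hV
  obtain ⟨x', hx0', hx'⟩ := exists_singular P.QW hW.sep (by rw [hW.dim]; omega)
  obtain ⟨P', -⟩ := exists_pair hW.sep hx' hx0'
  obtain ⟨l, rfl⟩ : ∃ l, m = l + 3 := ⟨m - 3, by omega⟩
  have hX : EvenType P'.QW (l + 2) ε := P'.evenType hW
  have hqpow : (1 : ℝ) < q := by linarith
  have hz : 1 < (Nat.card {z : P'.W // P'.QW z = 0} : ℝ) := by
    refine lt_of_mul_lt_mul_right ?_ (show (0 : ℝ) ≤ q by linarith)
    rw [← hcF, hX.zeros, hcF, one_mul]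
    have h2 : q ^ 2 ≤ q ^ (l + 2) := pow_le_pow_right₀ hqpow.le (by omega)
    have h3 : q ^ (2 * (l + 2)) = q ^ (l + 2) * q ^ (l + 2) := by ring
    rw [h3]
    generalize q ^ (l + 2) = p at h2
    rcases hε with rfl | rfl <;>
      nlinarith [mul_nonneg (sub_nonneg.2 h2) (show (0 : ℝ) ≤ q by linarith)]
  obtain ⟨x'', hx0'', hx''⟩ := exists_singular_of_zeros (V := ↥P'.W) (Q := P'.QW) hz
  obtain ⟨P'', -⟩ := exists_pair (V := ↥P'.W) hX.sep hx'' hx0''
  set y : ℝ := q ^ (l + 2) with hy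
  have hy4 : 4 ≤ y := by
    have h1 : (2 : ℝ) ^ 2 ≤ q ^ (l + 2) :=
      (pow_le_pow_left₀ (by norm_num) hq2 2).trans (pow_le_pow_right₀ hqpow.le (by omega))
    rw [hy]; linarith
  have hLW : (Fintype.card P.W : ℝ) = q ^ 2 * y ^ 2 := by
    rw [← Nat.card_eq_fintype_card, hW.card, hcF, hy]; ring
  have hS : (Nat.card {w : P.W // w ≠ 0 ∧ Q (w : V) = 0} : ℝ) =
      q * y ^ 2 + ε * (q * y - y) - 1 := by
    have h := natCard_sing (Q := P.QW)
    have hz' := hW.zeros
    rw [← h, hcF] at hz'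
    rw [show (Nat.card {w : P.W // w ≠ 0 ∧ Q (w : V) = 0} : ℝ) =
      (Nat.card {w : P.W // w ≠ 0 ∧ P.QW w = 0} : ℝ) from rfl]
    refine mul_right_cancel₀ (show q ≠ 0 by linarith) ?_
    rw [hy]
    linear_combination hz'
  have hXc : (Nat.card P'.W : ℝ) = y ^ 2 := by rw [hX.card, hcF, hy]; ring
  have hlev : ∀ c : F, c ≠ 0 →
      |(Nat.card {w : P.W // Q (w : V) = c} : ℝ) - (q * y ^ 2 - ε * y)| ≤ 0 := fun c hc => by
    have h := hW.level c hc
    rw [hcF] at h
    rw [abs_nonpos_iff, sub_eq_zero]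
    refine mul_right_cancel₀ (show q ≠ 0 by linarith) ?_
    change (Nat.card {w : P.W // P.QW w = c} : ℝ) * q = _
    rw [h, hy]; ring
  have goal : (q ^ (l + 3 + 1) - ε) * (q ^ (l + 3) + ε * q) = (q ^ 2 * y - ε) * (q * y + ε * q) := by
    rw [hy]; ring
  rw [goal]
  have hperf : 5 ≤ finrank F P'.W ∨ 4 ≤ Fintype.card F ∨ (finrank F P''.W = 2 ∧ ∃ v v' : P''.W,
      LinearIndependent F ![v, v'] ∧ P'.QW (v : P'.W) = P'.QW (v' : P'.W) ∧
        P'.QW (v : P'.W) ≠ 0) := by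
    rcases hε with rfl | rfl
    · exact Or.inr (Or.inl (h4 rfl))
    rcases Nat.eq_zero_or_pos l with rfl | hl
    · have hR : EvenType (V := ↥P''.W) P''.QW 1 (-1) := P''.evenType hX
      refine Or.inr (Or.inr ⟨hR.dim, ?_⟩)
      exact exists_pair_of_plane (V := ↥P''.W) hR
    · exact Or.inl (by rw [hX.dim]; omega)
  rcases P.trichotomy ρ ψ hV.sep (by rw [hW.dim]; omega) hψ P' P''
      (by have := P''.finrank_W; rw [hX.dim] at this; omega) (gen_cases hX.sep) hperf (by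
        rw [hS, hXc, ← hq']
        rcases hε with rfl | rfl
        · have : (4 : ℝ) ≤ q := by rw [hq']; exact_mod_cast h4 rfl
          nlinarith [mul_nonneg (mul_nonneg (show (0 : ℝ) ≤ q - 4 by linarith) (show (0 : ℝ) ≤ y by linarith))
            (show (0 : ℝ) ≤ y - 4 by linarith)]
        · nlinarith)
      hirr (nofix_of_irreducible hirr hd) (q * y ^ 2 - ε * y) 0 hlev with hA | hB | ⟨α, β, hfr, hcase⟩
  · exact Or.inr hA
  · left
    rw [hS] at hB
    refine le_trans ?_ (mul_le_mul_of_nonneg_right hB (by nlinarith))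
    rcases hε with rfl | rfl
    · have hq4 : (4 : ℝ) ≤ q := by rw [hq']; exact_mod_cast h4 rfl
      have e : 2 * (q * y ^ 2 + 1 * (q * y - y) - 1) * (q ^ 2 - 1) =
          2 * ((q * y - 1) * (y + 1)) * (q ^ 2 - 1) := by ring
      have k : (q ^ 2 * y - 1) ≤ 2 * (q * y - 1) * (q - 1) := by nlinarith
      rw [e]
      calc (q ^ 2 * y - 1) * (q * y + 1 * q) = (q ^ 2 * y - 1) * (q * (y + 1)) := by ring
        _ ≤ (2 * (q * y - 1) * (q - 1)) * ((q + 1) * (y + 1)) :=
          mul_le_mul k (by nlinarith) (by nlinarith) (by nlinarith)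
        _ = _ := by ring
    · have e : 2 * (q * y ^ 2 + -1 * (q * y - y) - 1) * (q ^ 2 - 1) =
          2 * ((q * y + 1) * (y - 1)) * (q ^ 2 - 1) := by ring
      have k : (q ^ 2 * y + 1) * q ≤ 2 * (q * y + 1) * (q ^ 2 - 1) := by
        have a : q ≤ 2 * (q ^ 2 - 1) := by nlinarith
        nlinarith [mul_le_mul_of_nonneg_left a (show (0 : ℝ) ≤ 1 by norm_num),
          mul_nonneg (mul_nonneg (show (0 : ℝ) ≤ q by linarith) (show (0 : ℝ) ≤ y by linarith))
            (show (0 : ℝ) ≤ q ^ 2 - 2 by nlinarith)]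
      rw [e]
      calc (q ^ 2 * y - -1) * (q * y + -1 * q) = ((q ^ 2 * y + 1) * q) * (y - 1) := by ring
        _ ≤ (2 * (q * y + 1) * (q ^ 2 - 1)) * (y - 1) :=
          mul_le_mul_of_nonneg_right k (by linarith)
        _ = _ := by ring
  · left
    rw [hLW, hS, ← hq'] at hfr hcase
    exact even_frame hε hq2 (fun h => by rw [hq']; exact_mod_cast h4 h) hy4 (Nat.cast_nonneg _) rfl
      hfr hcase

/-- Even dimension with `q ≥ 4`, or minus type of dimension eight. -/
theorem even_bound {m : ℕ} (hm : 3 ≤ m) {ε : ℝ} (hε : ε = 1 ∨ ε = -1)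
    (hq : 4 ≤ Fintype.card F ∨ (ε = -1 ∧ m = 3)) (hV : EvenType Q (m + 1) ε)
    (hirr : ρ.IsIrreducible) (hd : 2 ≤ finrank ℂ E) :
    ((Fintype.card F : ℝ) ^ (m + 1) - ε) * ((Fintype.card F : ℝ) ^ m + ε * (Fintype.card F : ℝ)) ≤
      (finrank ℂ E : ℝ) * ((Fintype.card F : ℝ) ^ 2 - 1) := by
  classical
  have : Finite V := Module.finite_of_finite F
  obtain ⟨ψ, hψ⟩ := exists_primitive_char (F := F)
  obtain ⟨x, hx0, hx⟩ := exists_singular Q hV.sep (by rw [hV.dim]; omega)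
  obtain ⟨P, -⟩ := exists_pair hV.sep hx hx0
  have := Fintype.ofFinite P.W
  have hW := P.evenType hV
  have h4 : ε = 1 → 4 ≤ Fintype.card F := fun h => by
    rcases hq with h' | ⟨h', -⟩
    · exact h'
    · linarith
  rcases even_core ρ hm hε h4 hV P hψ hirr hd with h | ⟨u, hu, hne⟩
  · exact h
  set q : ℝ := (Fintype.card F : ℝ) with hq'
  have hcF : (Nat.card F : ℝ) = q := by rw [Nat.card_eq_fintype_card]
  have hq2 : (2 : ℝ) ≤ q := by rw [hq']; exact_mod_cast Fintype.one_lt_card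
  obtain ⟨l, rfl⟩ : ∃ l, m = l + 3 := ⟨m - 3, by omega⟩
  set y : ℝ := q ^ (l + 2) with hy
  obtain ⟨hL1, hL2⟩ := P.level_bounds ρ ψ hV.sep (by rw [hW.dim]; omega) hψ hu hne
    (q * y ^ 2 - ε * y) fun c hc => by
      refine le_of_mul_le_mul_right ?_ (show (0 : ℝ) < q by linarith)
      rw [← hcF, hW.level c hc, hcF, hy]
      exact le_of_eq (by ring)
  have goal : (q ^ (l + 3 + 1) - ε) * (q ^ (l + 3) + ε * q) = (q ^ 2 * y - ε) * (q * y + ε * q) := by
    rw [hy]; ring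
  rw [goal]
  have hy4 : q ^ 2 ≤ y := by rw [hy]; exact pow_le_pow_right₀ (by linarith) (by omega)
  by_cases h4q : 4 ≤ Fintype.card F
  · have hq4 : (4 : ℝ) ≤ q := by rw [hq']; exact_mod_cast h4q
    have h0 : 0 ≤ q * y ^ 2 - ε * y := by
      have a : 16 ≤ y := by nlinarith
      have b : 1 ≤ q * y := by nlinarith
      rcases hε with rfl | rfl <;>
        nlinarith [mul_le_mul_of_nonneg_right b (show (0 : ℝ) ≤ y by linarith)]
    have h3 := mul_le_mul_of_nonneg_right (hL2 h0) (show (0 : ℝ) ≤ q ^ 2 - 1 by nlinarith)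
    have k1 : ∀ y : ℝ, 16 ≤ y → q ≤ y → 2 * (q ^ 2 * y + 1) * (q * (y + 1)) ≤
        (q - 1) * y * (q * y - 1) * (q ^ 2 - 1) := by
      intro y hy16 hqy
      have a1 : q ^ 2 * y + 1 ≤ (1 + 1 / 16) * (q ^ 2 * y) := by nlinarith
      have a2 : q * (y + 1) ≤ (1 + 1 / 16) * (q * y) := by nlinarith
      have a3 : (1 - 1 / 16) * (q * y) ≤ q * y - 1 := by nlinarith
      have a4 : (1 - 1 / 16) * q ^ 2 ≤ q ^ 2 - 1 := by nlinarith
      have a5 : 3 ≤ q - 1 := by linarith
      calc 2 * (q ^ 2 * y + 1) * (q * (y + 1))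
          ≤ 2 * ((1 + 1 / 16) * (q ^ 2 * y)) * ((1 + 1 / 16) * (q * y)) :=
            mul_le_mul (mul_le_mul_of_nonneg_left a1 (by norm_num)) a2 (by positivity) (by positivity)
        _ ≤ 3 * y * ((1 - 1 / 16) * (q * y)) * ((1 - 1 / 16) * q ^ 2) := by
            nlinarith [show (0 : ℝ) ≤ q ^ 3 * y ^ 2 by positivity]
        _ ≤ _ := mul_le_mul (mul_le_mul (mul_le_mul_of_nonneg_right a5 (by linarith)) a3
            (by positivity) (by nlinarith)) a4 (by positivity) (by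
              have : 0 ≤ q * y - 1 := by nlinarith
              positivity)
    have hk := k1 y (by nlinarith) (by nlinarith)
    have hz1 : (q ^ 2 * y - ε) * (q * y + ε * q) ≤ (q ^ 2 * y + 1) * (q * (y + 1)) :=
      mul_le_mul (by rcases hε with rfl | rfl <;> linarith)
        (by rcases hε with rfl | rfl <;> linarith) (by rcases hε with rfl | rfl <;> nlinarith)
        (by nlinarith)
    have hz2 : (q - 1) * y * (q * y - 1) * (q ^ 2 - 1) ≤
        (q - 1) * (q * y ^ 2 - ε * y) * (q ^ 2 - 1) := by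
      refine mul_le_mul_of_nonneg_right ?_ (by nlinarith)
      rw [mul_assoc]
      refine mul_le_mul_of_nonneg_left ?_ (by linarith)
      rcases hε with rfl | rfl <;> nlinarith
    nlinarith [hk, hz1, hz2, h3]
  · obtain ⟨rfl, hl0⟩ := hq.resolve_left h4q
    obtain rfl : l = 0 := by omega
    have h3 := mul_le_mul_of_nonneg_right hL1 (show (0 : ℝ) ≤ q ^ 2 - 1 by nlinarith)
    have hq3 : Fintype.card F = 2 ∨ Fintype.card F = 3 := by
      have := Fintype.one_lt_card (α := F); omega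
    rcases hq3 with h | h <;> rw [hq', h] at h3 hy <;> rw [hq', h] <;> rw [hy] at h3 ⊢ <;>
      norm_num at h3 ⊢ <;> linarith

end CfsgLib.Classical.OMinDeg
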