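import Cfsg.Agent.Lib.Classical.OrthSimple
import Cfsg.Agent.Lib.Classical.Counts

/-!
# A quadratic space with a chosen hyperbolic pair
-/

set_option autoImplicit false

namespace CfsgLib.Classical.OMinDeg

open CfsgLib.Geom CfsgLib.Classical
open QuadraticMap (polar)

variable {F V : Type*} [Field F] [AddCommGroup V] [Module F V]

/-- A hyperbolic pair. -/
structure Pair (Q : QuadraticForm F V) where
  /-- the first singular vector -/
  e : V
  /-- the second singular vector -/
  f : V
  he : Q e = 0
  hf : Q f = 0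
  hef : polar Q e f = 1

namespace Pair

variable {Q : QuadraticForm F V} (P : Pair Q)

theorem hfe : polar Q P.f P.e = 1 := by rw [QuadraticMap.polar_comm]; exact P.hef

theorem e_ne : P.e ≠ 0 := fun h => by
  have := P.hef
  rw [h, QuadraticMap.polar_zero_left] at this
  exact zero_ne_one this

theorem f_ne : P.f ≠ 0 := fun h => by
  have := P.hef
  rw [h, QuadraticMap.polar_zero_right] at this
  exact zero_ne_one this

/-- The pair in the other order. -/
def swap : Pair Q := ⟨P.f, P.e, P.hf, P.he, P.hfe⟩

/-- The orthogonal complement of the pair. -/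
def W : Submodule F V :=
  LinearMap.ker (QuadraticMap.polarBilin Q P.e) ⊓ LinearMap.ker (QuadraticMap.polarBilin Q P.f)

theorem mem_W {z : V} : z ∈ P.W ↔ polar Q P.e z = 0 ∧ polar Q P.f z = 0 := Iff.rfl

theorem W_e (w : P.W) : polar Q P.e (w : V) = 0 := w.2.1

theorem W_f (w : P.W) : polar Q P.f (w : V) = 0 := w.2.2

theorem e_W (w : P.W) : polar Q (w : V) P.e = 0 := by rw [QuadraticMap.polar_comm]; exact P.W_e w

theorem f_W (w : P.W) : polar Q (w : V) P.f = 0 := by rw [QuadraticMap.polar_comm]; exact P.W_f w

/-- The form on the complement. -/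
noncomputable def QW : QuadraticForm F P.W := Q.comp P.W.subtype

theorem QW_apply (w : P.W) : P.QW w = Q (w : V) := rfl

theorem polar_QW (w w' : P.W) : polar P.QW w w' = polar Q (w : V) (w' : V) := rfl

/-- The projection to the complement. -/
noncomputable def pr : V →ₗ[F] P.W :=
  LinearMap.codRestrict P.W
    (LinearMap.id - (QuadraticMap.polarBilin Q P.f).smulRight P.e -
      (QuadraticMap.polarBilin Q P.e).smulRight P.f)
    fun z => P.mem_W.2 (by
      constructor <;>
      simp [QuadraticMap.polar_sub_right, QuadraticMap.polar_smul_right,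
        polar_self_of_singular Q P.he, polar_self_of_singular Q P.hf, P.hef, P.hfe])

theorem coe_pr (z : V) :
    (P.pr z : V) = z - polar Q P.f z • P.e - polar Q P.e z • P.f := by
  simp [pr, LinearMap.codRestrict_apply]

theorem split (z : V) : z = polar Q P.f z • P.e + polar Q P.e z • P.f + (P.pr z : V) := by
  rw [P.coe_pr]; abel

theorem pr_W (w : P.W) : P.pr (w : V) = w :=
  Subtype.ext (by rw [P.coe_pr, P.W_f, P.W_e]; simp)

/-- Coordinates with respect to the pair. -/
noncomputable def coords : V ≃ₗ[F] F × F × P.W where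
  toFun z := (polar Q P.f z, polar Q P.e z, P.pr z)
  map_add' a b := by simp [QuadraticMap.polar_add_right, map_add]
  map_smul' c a := by simp [QuadraticMap.polar_smul_right, map_smul]
  invFun p := p.1 • P.e + p.2.1 • P.f + (p.2.2 : V)
  left_inv z := (P.split z).symm
  right_inv := fun ⟨a, b, w⟩ => by
    have h1 : polar Q P.f (a • P.e + b • P.f + (w : V)) = a := by
      simp [QuadraticMap.polar_add_right, QuadraticMap.polar_smul_right,
        polar_self_of_singular Q P.hf, P.hfe, P.W_f]
    have h2 : polar Q P.e (a • P.e + b • P.f + (w : V)) = b := by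
      simp [QuadraticMap.polar_add_right, QuadraticMap.polar_smul_right,
        polar_self_of_singular Q P.he, P.hef, P.W_e]
    refine Prod.ext h1 (Prod.ext h2 (Subtype.ext ?_))
    change ((P.pr (a • P.e + b • P.f + (w : V))) : V) = w
    rw [P.coe_pr, h1, h2]; abel

theorem coords_symm (a b : F) (w : P.W) :
    P.coords.symm (a, b, w) = a • P.e + b • P.f + (w : V) := rfl

theorem quad_coords (z : V) :
    Q z = polar Q P.f z * polar Q P.e z + P.QW (P.pr z) := by
  conv_lhs => rw [P.split z]
  rw [QuadraticMap.map_add (Q : QuadraticMap F V F), QuadraticMap.map_add (Q : QuadraticMap F V F),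
    quad_smul, quad_smul, P.he, P.hf]
  simp [QuadraticMap.polar_add_left, QuadraticMap.polar_smul_left, QuadraticMap.polar_smul_right,
    P.hef, P.W_e, P.W_f, QW_apply]
  ring

theorem sep_W (hQ : ∀ x, (∀ y, polar Q x y = 0) → x = 0) (w : P.W)
    (hw : ∀ w', polar P.QW w w' = 0) : w = 0 := by
  refine Subtype.ext (hQ _ fun z => ?_)
  have h := hw (P.pr z)
  rw [P.polar_QW] at h
  rw [P.split z, QuadraticMap.polar_add_right, QuadraticMap.polar_add_right,
    QuadraticMap.polar_smul_right, QuadraticMap.polar_smul_right, P.e_W, P.f_W, h]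
  simp

theorem finrank_W [FiniteDimensional F V] :
    Module.finrank F P.W + 2 = Module.finrank F V := by
  rw [P.coords.finrank_eq, Module.finrank_prod, Module.finrank_prod, Module.finrank_self]
  ring

theorem natCard_V [Finite F] [FiniteDimensional F V] :
    Nat.card V = Nat.card F ^ 2 * Nat.card P.W := by
  rw [Nat.card_congr P.coords.toEquiv, Nat.card_prod, Nat.card_prod]; ring

/-- The level sets of the space in terms of those of the complement. -/
theorem card_level [Fintype F] [Finite P.W] (c : F) :
    Nat.card {z : V // Q z = c} = Fintype.card F * Nat.card {w : P.W // P.QW w = c} +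
      (Fintype.card F - 1) * Nat.card P.W := by
  have h := card_hyperbolic_add (F := F) (ι := Unit) (fun w : P.W => P.QW w) c
  rw [Fintype.card_unit, pow_one, Nat.sub_self, pow_zero, mul_one] at h
  rw [← h]
  refine Nat.card_congr (Equiv.subtypeEquiv
    (P.coords.toEquiv.trans ((Equiv.funUnique Unit F).symm.prodCongr
      ((Equiv.funUnique Unit F).symm.prodCongr (Equiv.refl _)))) fun z => ?_)
  rw [P.quad_coords z]
  simp [coords]

/-- Extension of an isometry of the complement. -/
noncomputable def extend (g : quadIsoms P.QW) : quadIsoms Q :=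
  ⟨P.coords.trans (((LinearEquiv.refl F F).prodCongr ((LinearEquiv.refl F F).prodCongr g.1)).trans
    P.coords.symm), fun z => by
    conv_rhs => rw [P.quad_coords z, ← mem_quadIsoms.1 g.2 (P.pr z)]
    rw [P.quad_coords]
    set y := (P.coords.trans (((LinearEquiv.refl F F).prodCongr
      ((LinearEquiv.refl F F).prodCongr g.1)).trans P.coords.symm)) z with hy
    have h : P.coords y = (polar Q P.f z, polar Q P.e z, g.1 (P.pr z)) :=
      P.coords.apply_symm_apply _
    change (polar Q P.f y, polar Q P.e y, P.pr y) = _ at h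
    simp only [Prod.mk.injEq] at h
    rw [h.1, h.2.1, h.2.2]⟩

theorem extend_apply (g : quadIsoms P.QW) (z : V) :
    (P.extend g).1 z = polar Q P.f z • P.e + polar Q P.e z • P.f + (g.1 (P.pr z) : V) := rfl

theorem extend_W (g : quadIsoms P.QW) (w : P.W) : (P.extend g).1 w = (g.1 w : V) := by
  rw [P.extend_apply, P.pr_W, P.W_e, P.W_f]; simp

theorem extend_e (g : quadIsoms P.QW) : (P.extend g).1 P.e = P.e := by
  have h : P.pr P.e = 0 := Subtype.ext (by
    rw [P.coe_pr, P.hfe, polar_self_of_singular Q P.he]; simp)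
  rw [P.extend_apply, h, P.hfe, polar_self_of_singular Q P.he]; simp

theorem extend_f (g : quadIsoms P.QW) : (P.extend g).1 P.f = P.f := by
  have h : P.pr P.f = 0 := Subtype.ext (by
    rw [P.coe_pr, P.hef, polar_self_of_singular Q P.hf]; simp)
  rw [P.extend_apply, h, P.hef, polar_self_of_singular Q P.hf]; simp

/-- Extension as a homomorphism. -/
noncomputable def extendHom : quadIsoms P.QW →* quadIsoms Q where
  toFun := P.extend
  map_one' := quadIsoms_ext Q fun z => by
    rw [P.extend_apply]
    simpa using (P.split z).symm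
  map_mul' g h := quadIsoms_ext Q fun z => by
    change (P.extend (g * h)).1 z = (P.extend g).1 ((P.extend h).1 z)
    rw [P.extend_apply (g * h), P.extend_apply h z, map_add, map_add, map_smul, map_smul,
      P.extend_e, P.extend_f, P.extend_W]
    rfl

theorem extend_siegel (x w : P.W) : P.extend (siegel P.QW x w) = siegel Q (x : V) (w : V) := by
  by_cases h : P.QW x = 0 ∧ polar P.QW x w = 0
  · refine quadIsoms_ext Q fun z => ?_
    have h1 : Q (x : V) = 0 := h.1
    have h2 : polar Q (x : V) (w : V) = 0 := h.2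
    rw [P.extend_apply, siegel_apply P.QW h.1 h.2, siegel_apply Q h1 h2]
    simp only [Submodule.coe_sub, Submodule.coe_add, Submodule.coe_smul, P.polar_QW]
    have hx : polar Q (x : V) z = polar Q (x : V) (P.pr z : V) := by
      conv_lhs => rw [P.split z]
      simp [QuadraticMap.polar_add_right, QuadraticMap.polar_smul_right, P.e_W, P.f_W]
    have hw : polar Q (w : V) z = polar Q (w : V) (P.pr z : V) := by
      conv_lhs => rw [P.split z]
      simp [QuadraticMap.polar_add_right, QuadraticMap.polar_smul_right, P.e_W, P.f_W]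
    rw [hx, hw, P.QW_apply]
    conv_rhs => arg 1; arg 1; rw [P.split z]
    abel
  · have h' : ¬ (Q (x : V) = 0 ∧ polar Q (x : V) (w : V) = 0) := h
    rw [siegel_of_not P.QW h, siegel_of_not Q h']
    exact map_one P.extendHom

theorem extend_mem {g : quadIsoms P.QW} (hg : g ∈ siegelGroup P.QW) :
    P.extend g ∈ siegelGroup Q := by
  have : siegelGroup P.QW ≤ (siegelGroup Q).comap P.extendHom := by
    refine (Subgroup.closure_le _).2 ?_
    rintro _ ⟨⟨x, w⟩, rfl⟩
    show P.extend (siegel P.QW x w) ∈ siegelGroup Q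
    rw [P.extend_siegel]
    exact siegel_mem Q _ _
  exact this hg

/-- The radical of the stabiliser of the first vector. -/
noncomputable def rad : AddChar P.W ↥(siegelGroup Q) where
  toFun w := ⟨siegel Q P.e w, siegel_mem Q _ _⟩
  map_zero_eq_one' := Subtype.ext (by rw [ZeroMemClass.coe_zero]; exact siegel_zero Q P.e)
  map_add_eq_mul' a b := Subtype.ext (siegel_add Q P.he (P.W_e a) (P.W_e b))

theorem rad_apply (w : P.W) (z : V) :
    (P.rad w).1.1 z =
      z + polar Q P.e z • (w : V) - (polar Q (w : V) z + Q (w : V) * polar Q P.e z) • P.e :=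
  siegel_apply Q P.he (P.W_e w) z

theorem rad_e (w : P.W) : (P.rad w).1.1 P.e = P.e := by
  simp [P.rad_apply, polar_self_of_singular Q P.he, P.e_W]

theorem rad_f (w : P.W) :
    (P.rad w).1.1 P.f = P.f + (w : V) - Q (w : V) • P.e := by
  simp [P.rad_apply, P.hef, P.f_W]

theorem rad_W (w u : P.W) :
    (P.rad w).1.1 (u : V) = (u : V) - polar Q (w : V) (u : V) • P.e := by
  simp [P.rad_apply, P.W_e]

theorem siegel_e_pr {z : V} (hz : polar Q P.e z = 0) :
    siegel Q P.e z = siegel Q P.e (P.pr z : V) := by
  have hte : polar Q P.e (polar Q P.f z • P.e) = 0 := by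
    rw [QuadraticMap.polar_smul_right, polar_self_of_singular Q P.he, smul_zero]
  have h1 : siegel Q P.e (polar Q P.f z • P.e) = 1 := quadIsoms_ext Q fun y => by
    rw [siegel_apply Q P.he hte, QuadraticMap.polar_smul_left, quad_smul, P.he]
    simp [smul_eq_mul, mul_comm, smul_smul]
  conv_lhs => rw [P.split z, hz, zero_smul, add_zero]
  rw [siegel_add Q P.he hte (P.W_e _), h1, one_mul]

/-- Conjugation of the radical by an element fixing the point. -/
theorem conj_rad {g : ↥(siegelGroup Q)} {a : F} (hg : g.1.1 P.e = a • P.e) (ha : a ≠ 0) (w : P.W) :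
    g * P.rad w * g⁻¹ = P.rad (a • P.pr (g.1.1 w)) := by
  refine Subtype.ext ?_
  change g.1 * siegel Q P.e (w : V) * g.1⁻¹ = siegel Q P.e ((a • P.pr (g.1.1 w) : P.W) : V)
  have hp : polar Q P.e (g.1.1 w) = 0 := by
    have h := polar_quadIsom g.1.2 P.e (w : V)
    rw [hg, QuadraticMap.polar_smul_left, P.W_e, smul_eq_mul] at h
    exact (mul_eq_zero.1 h).resolve_left ha
  rw [siegel_conj, hg, siegel_smul Q P.he hp, siegel_e_pr P
    (by rw [QuadraticMap.polar_smul_right, hp, smul_zero]), map_smul]

/-- The induced isometry of the complement. -/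
theorem pr_isometry {g : ↥(siegelGroup Q)} {a : F} (hg : g.1.1 P.e = a • P.e) (ha : a ≠ 0)
    (u w : P.W) :
    polar Q (P.pr (g.1.1 u) : V) (P.pr (g.1.1 w) : V) = polar Q (u : V) (w : V) ∧
      Q (P.pr (g.1.1 u) : V) = Q (u : V) := by
  have hp : ∀ z : P.W, polar Q P.e (g.1.1 z) = 0 := fun z => by
    have h := polar_quadIsom g.1.2 P.e (z : V)
    rw [hg, QuadraticMap.polar_smul_left, P.W_e, smul_eq_mul] at h
    exact (mul_eq_zero.1 h).resolve_left ha
  refine ⟨?_, ?_⟩
  · conv_rhs => rw [← polar_quadIsom g.1.2 (u : V) (w : V), P.split (g.1.1 u), P.split (g.1.1 w)]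
    simp [hp, QuadraticMap.polar_add_left, QuadraticMap.polar_add_right,
      QuadraticMap.polar_smul_left, QuadraticMap.polar_smul_right, P.e_W, P.W_e,
      polar_self_of_singular Q P.he]
  · have h := P.quad_coords (g.1.1 u)
    rw [hp u, mul_zero, zero_add, mem_quadIsoms.1 g.1.2] at h
    exact h.symm

end Pair

end CfsgLib.Classical.OMinDeg
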