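import Cfsg.Agent.Lib.Classical.OMinDegPair

/-!
# Hyperplanes orthogonal to a non-singular vector
-/

set_option autoImplicit false

namespace CfsgLib.Classical.OMinDeg

open CfsgLib.Geom CfsgLib.Classical Module
open QuadraticMap (polar)

variable {F V : Type*} [Field F] [AddCommGroup V] [Module F V] {Q : QuadraticForm F V}

theorem eq_smul_of_perp (hQ : ∀ x, (∀ y, polar Q x y = 0) → x = 0) {z u : V} (hz : z ≠ 0)
    (h : ∀ y, polar Q z y = 0 → polar Q u y = 0) : ∃ t : F, u = t • z := by
  obtain ⟨y₀, hy₀⟩ : ∃ y, polar Q z y ≠ 0 := by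
    by_contra hall
    push Not at hall
    exact hz (hQ z hall)
  refine ⟨polar Q u y₀ / polar Q z y₀, sub_eq_zero.1 (hQ _ fun y => ?_)⟩
  have hy := h (y - (polar Q z y / polar Q z y₀) • y₀) (by
    rw [QuadraticMap.polar_sub_right, QuadraticMap.polar_smul_right, smul_eq_mul,
      div_mul_cancel₀ _ hy₀, sub_self])
  rw [QuadraticMap.polar_sub_right, QuadraticMap.polar_smul_right, sub_eq_zero, smul_eq_mul] at hy
  rw [QuadraticMap.polar_sub_left, QuadraticMap.polar_smul_left, smul_eq_mul, hy]
  field_simp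
  ring

theorem exists_singular_perp (P : Pair Q) {q₀ : P.W} (hq0 : q₀ ≠ 0) (hq : Q (q₀ : V) = 0) (z : V) :
    ∃ p : V, p ≠ 0 ∧ Q p = 0 ∧ polar Q z p = 0 := by
  by_cases h : polar Q z (q₀ : V) = 0
  · exact ⟨_, fun e => hq0 (Subtype.ext e), hq, h⟩
  refine ⟨polar Q z (q₀ : V) • P.e - polar Q z P.e • (q₀ : V), fun e => h ?_, ?_, ?_⟩
  · have := congrArg (polar Q P.f) e
    simpa [QuadraticMap.polar_sub_right, QuadraticMap.polar_smul_right, P.hfe, P.W_f] using this
  · rw [sub_eq_add_neg, ← neg_smul, quad_map_add_smul, quad_smul, P.he, hq,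
      QuadraticMap.polar_smul_left, P.W_e]
    simp
  · rw [QuadraticMap.polar_sub_right, QuadraticMap.polar_smul_right, QuadraticMap.polar_smul_right,
      smul_eq_mul, smul_eq_mul]
    ring

theorem eq_smul_of_singular_perp (hQ : ∀ x, (∀ y, polar Q x y = 0) → x = 0) {z u : V}
    (hz : Q z ≠ 0) (hp : ∃ p : V, p ≠ 0 ∧ Q p = 0 ∧ polar Q z p = 0)
    (h : ∀ x, Q x = 0 → polar Q z x = 0 → polar Q u x = 0) : ∃ t : F, u = t • z := by
  obtain ⟨p, hp0, hqp, hzp⟩ := hp
  have hz0 : z ≠ 0 := fun e => hz (by rw [e, QuadraticMap.map_zero])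
  obtain ⟨r, hzr, hpr⟩ : ∃ r, polar Q z r = 0 ∧ polar Q p r ≠ 0 := by
    by_contra hall
    push Not at hall
    obtain ⟨t, ht⟩ := eq_smul_of_perp hQ hz0 hall
    rw [ht, quad_smul, mul_eq_zero, or_iff_left hz, mul_self_eq_zero] at hqp
    exact hp0 (by rw [ht, hqp, zero_smul])
  have key : ∀ y, polar Q z y = 0 → polar Q p y ≠ 0 → polar Q u y = 0 := by
    intro y hzy hpy
    have hx := h (y + (-(Q y / polar Q p y)) • p) (by
      rw [quad_map_add_smul, hqp, QuadraticMap.polar_comm Q y p]
      field_simp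
      ring) (by
      rw [QuadraticMap.polar_add_right, QuadraticMap.polar_smul_right, hzy, hzp]; simp)
    rw [QuadraticMap.polar_add_right, QuadraticMap.polar_smul_right, h p hqp hzp] at hx
    simpa using hx
  refine eq_smul_of_perp hQ hz0 fun y hzy => ?_
  by_cases hpy : polar Q p y = 0
  · have h1 := key (y + r) (by rw [QuadraticMap.polar_add_right, hzy, hzr, add_zero])
      (by rw [QuadraticMap.polar_add_right, hpy, zero_add]; exact hpr)
    rwa [QuadraticMap.polar_add_right, key r hzr hpr, add_zero] at h1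
  · exact key y hzy hpy

theorem exists_polar_perp [FiniteDimensional F V] (hQ : ∀ x, (∀ y, polar Q x y = 0) → x = 0)
    (h5 : 5 ≤ finrank F V) (z x : V) :
    ∃ a b : V, polar Q z a = 0 ∧ polar Q x a = 0 ∧ polar Q z b = 0 ∧ polar Q x b = 0 ∧
      polar Q a b = -1 := by
  let B := QuadraticMap.polarBilin Q
  let U : Submodule F V := LinearMap.ker (B z) ⊓ LinearMap.ker (B x)
  obtain ⟨a, ha, b, hb, hab⟩ : ∃ a ∈ U, ∃ b ∈ U, polar Q a b ≠ 0 := by
    by_contra hall
    push Not at hall
    have hinj : Function.Injective B := (injective_iff_map_eq_zero B).2 fun v hv =>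
      hQ v fun y => LinearMap.congr_fun hv y
    have hle : U.map B ≤ U.dualAnnihilator := by
      rintro _ ⟨v, hv, rfl⟩
      exact (Submodule.mem_dualAnnihilator _).2 fun w hw => hall v hv w hw
    have h1 := Submodule.finrank_mono hle
    rw [(Submodule.equivMapOfInjective B hinj U).symm.finrank_eq] at h1
    have h2 : finrank F U + finrank F U.dualAnnihilator = finrank F V :=
      Subspace.finrank_add_finrank_dualAnnihilator_eq U
    have h1' : finrank F U ≤ finrank F V - finrank F U :=
      le_trans h1 (le_of_eq (by rw [← h2]; exact (Nat.add_sub_cancel_left _ _).symm))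
    have h3 : finrank F V ≤ finrank F U + 2 := by
      let T : V →ₗ[F] F × F := (B z).prod (B x)
      have h4 := LinearMap.finrank_range_add_finrank_ker T
      have h5' : finrank F (LinearMap.range T) ≤ 2 := by
        have := Submodule.finrank_le (LinearMap.range T)
        rwa [Module.finrank_prod, Module.finrank_self] at this
      have h6 : LinearMap.ker T = U := by rw [LinearMap.ker_prod]
      rw [h6] at h4
      omega
    omega
  refine ⟨a, (-(polar Q a b)⁻¹) • b, ha.1, ha.2, ?_, ?_, ?_⟩
  · rw [QuadraticMap.polar_smul_right, show polar Q z b = 0 from hb.1, smul_zero]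
  · rw [QuadraticMap.polar_smul_right, show polar Q x b = 0 from hb.2, smul_zero]
  · rw [QuadraticMap.polar_smul_right, smul_eq_mul, neg_mul, inv_mul_cancel₀ hab]

end CfsgLib.Classical.OMinDeg
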