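import Cfsg.Agent.Lib.Classical.OMinDegChar
import Cfsg.Agent.Lib.Classical.OMinDegSmallSpace
import Cfsg.Agent.Lib.Classical.OMinDegFlip

/-!
# One level of characters: the inner group moves the fixed space
-/

set_option autoImplicit false

namespace CfsgLib.Classical.OMinDeg

open CfsgLib.Geom CfsgLib.Classical CfsgLib.Classical.SLMinDeg Module
open QuadraticMap (polar)

theorem proj_apply_of_ne {G : Type*} [Group G] {X : Type*} [AddCommGroup X] [Fintype X]
    {V : Type*} [AddCommGroup V] [Module ℂ V] (ρ : Representation ℂ G V) (r : AddChar X G)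
    {χ χ' : AddChar X ℂ} (h : χ' ≠ χ) {v : V} (hv : v ∈ eigen ρ r χ) : proj ρ r χ' v = 0 := by
  have hne : χ * χ'⁻¹ ≠ 1 := fun e => h (mul_inv_eq_one.1 e).symm
  simp only [proj, LinearMap.smul_apply, LinearMap.sum_apply, mem_eigen ρ r |>.1 hv, smul_smul,
    ← Finset.sum_smul]
  rw [show ∑ x, χ' (-x) * χ x = ∑ x, (χ * χ'⁻¹) x from Finset.sum_congr rfl fun x _ => by
    rw [AddChar.mul_apply, AddChar.inv_apply, mul_comm], AddChar.sum_eq_zero_of_ne_one hne,
    mul_zero, zero_smul]

variable {F V : Type*} [Field F] [AddCommGroup V] [Module F V] {Q : QuadraticForm F V}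

namespace Pair

variable (P : Pair Q)

/-- The Siegel group of the complement inside that of the space. -/
noncomputable def extSub : ↥(siegelGroup P.QW) →* ↥(siegelGroup Q) :=
  (P.extendHom.comp (siegelGroup P.QW).subtype).codRestrict _ fun g => P.extend_mem g.2

theorem extSub_apply (k : ↥(siegelGroup P.QW)) : (P.extSub k).1 = P.extend k.1 := rfl

theorem extSub_e (k : ↥(siegelGroup P.QW)) : (P.extSub k).1.1 P.e = (1 : F) • P.e := by
  rw [one_smul, P.extSub_apply]; exact P.extend_e _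

variable {E : Type*} [AddCommGroup E] [Module ℂ E] (ρ : Representation ℂ ↥(siegelGroup Q) E)
  (ψ : AddChar F ℂ)

theorem eigen_extSub (k : ↥(siegelGroup P.QW)) {u : P.W} {v : E}
    (hv : v ∈ eigen ρ P.rad (P.chi ψ u)) :
    ρ (P.extSub k) v ∈ eigen ρ P.rad (P.chi ψ (k.1.1 u)) := by
  have h := P.eigen_map ρ ψ (P.extSub_e k) one_ne_zero hv
  rwa [inv_one, one_smul, P.extSub_apply, P.extend_W, P.pr_W] at h

variable [Fintype P.W]

theorem proj_extSub (hQ : ∀ x, (∀ y, polar Q x y = 0) → x = 0) (hψ : ψ.IsPrimitive)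
    (k : ↥(siegelGroup P.QW)) (u : P.W) (z : E) :
    proj ρ P.rad (P.chi ψ (k.1.1 u)) (ρ (P.extSub k) z) =
      ρ (P.extSub k) (proj ρ P.rad (P.chi ψ u) z) := by
  classical
  conv_lhs => rw [eq_sum_proj ρ P.rad z, map_sum, map_sum]
  rw [Finset.sum_eq_single (P.chi ψ u) (fun χ _ hχ => ?_) (by simp)]
  · exact proj_eq_self ρ P.rad (P.eigen_extSub ρ ψ k (proj_mem ρ P.rad _ z))
  · obtain ⟨w, rfl⟩ := P.chi_surjective hQ hψ χ
    refine proj_apply_of_ne ρ P.rad (fun e => hχ ?_) (P.eigen_extSub ρ ψ k (proj_mem ρ P.rad _ z))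
    rw [k.1.1.injective (P.chi_injective hQ hψ e)]

variable [Finite F] [FiniteDimensional F V] [FiniteDimensional ℂ E]

omit [Fintype P.W] [Finite F] [FiniteDimensional F V] in
theorem exists_smul_of_line {u : P.W} (hu : eigDim ρ P.rad (P.chi ψ u) ≤ 1) {v : E} (hv0 : v ≠ 0)
    (hv : v ∈ eigen ρ P.rad (P.chi ψ u)) (k : ↥(siegelGroup P.QW)) (hk : k.1.1 u = u) :
    ∃ c : ℂ, ρ (P.extSub k) v = c • v := by
  have hkv := P.eigen_extSub ρ ψ k hv
  rw [hk] at hkv
  have h1 : eigDim ρ P.rad (P.chi ψ u) = 1 := by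
    refine le_antisymm hu (Nat.one_le_iff_ne_zero.2 fun e => hv0 ?_)
    have h := Submodule.finrank_eq_zero.1 e
    rwa [h, Submodule.mem_bot] at hv
  obtain ⟨c, hc⟩ := exists_smul_eq_of_finrank_eq_one h1 (x := ⟨v, hv⟩)
    (fun e => hv0 (congrArg Subtype.val e)) ⟨_, hkv⟩
  exact ⟨c, (congrArg Subtype.val hc).symm⟩

omit [Finite F] in
/-- Radical elements of singular vectors orthogonal to `u` fix a line over `u`. -/
theorem rad_fix_line (hQ : ∀ x, (∀ y, polar Q x y = 0) → x = 0) (P' : Pair P.QW)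
    (h5 : 5 ≤ finrank F P'.W) {z : P'.W} (hz : eigDim ρ P.rad (P.chi ψ (z : P.W)) ≤ 1) {x : P'.W}
    (hx : P'.QW x = 0) (hxz : polar P'.QW z x = 0) {v : E}
    (hv : v ∈ eigen ρ P.rad (P.chi ψ (z : P.W))) : ρ (P.extSub (P'.rad x)) v = v := by
  by_cases hv0 : v = 0
  · rw [hv0, map_zero]
  obtain ⟨a, b, hza, hxa, hzb, hxb, hab⟩ :=
    exists_polar_perp (V := ↥P'.W) (P'.sep_W (P.sep_W hQ)) h5 z x
  have hsx : polar P'.QW x a = 0 := hxa
  let s : ↥(siegelGroup P.QW) := ⟨P'.extend (siegel P'.QW x a), P'.extend_mem (siegel_mem _ _ _)⟩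
  have hse : s.1.1 P'.e = (1 : F) • P'.e := by rw [one_smul]; exact P'.extend_e _
  have hsb : (siegel P'.QW x a).1 b = b + x := by
    rw [siegel_apply P'.QW hx hsx, hxb, hab]
    simp
  have hconj := P'.conj_rad hse one_ne_zero b
  rw [one_smul, show s.1.1 (b : P.W) = ((b + x : P'.W) : P.W) by
    rw [← hsb]; exact P'.extend_W _ b, P'.pr_W, AddChar.map_add_eq_mul] at hconj
  have hfix : ∀ w : P'.W, polar P'.QW z w = 0 → (P'.rad w).1.1 (z : P.W) = (z : P.W) := by
    intro w hw
    rw [P'.rad_W, show polar P.QW (w : P.W) (z : P.W) = 0 by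
      rw [QuadraticMap.polar_comm]; exact hw, zero_smul, sub_zero]
  have hsz : s.1.1 (z : P.W) = (z : P.W) := by
    rw [show s.1.1 (z : P.W) = (((siegel P'.QW x a).1 z : P'.W) : P.W) from P'.extend_W _ z,
      siegel_apply P'.QW hx hsx,
      show polar P'.QW x z = 0 by rw [QuadraticMap.polar_comm]; exact hxz,
      show polar P'.QW a z = 0 by rw [QuadraticMap.polar_comm]; exact hza]
    simp
  obtain ⟨c, hc⟩ := P.exists_smul_of_line ρ ψ hz hv0 hv s hsz
  obtain ⟨d, hd⟩ := P.exists_smul_of_line ρ ψ hz hv0 hv (P'.rad b) (hfix b hzb)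
  obtain ⟨e, he⟩ := P.exists_smul_of_line ρ ψ hz hv0 hv (P'.rad x) (hfix x hxz)
  have h := congrArg (fun g => ρ (P.extSub g) v) (mul_inv_eq_iff_eq_mul.1 hconj)
  simp only [map_mul, Module.End.mul_apply, hc, hd, he, map_smul, smul_smul] at h
  have h' := smul_left_injective ℂ hv0 h
  have hd0 : d ≠ 0 := fun hd0 => hv0 ((ρ.apply_bijective _).1 (by
    rw [hd, hd0, zero_smul, map_zero]))
  have hc0 : c ≠ 0 := fun hc0 => hv0 ((ρ.apply_bijective _).1 (by
    rw [hc, hc0, zero_smul, map_zero]))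
  have he1 : e = 1 := by
    refine mul_left_cancel₀ (mul_ne_zero hd0 hc0) ?_
    linear_combination -h'
  rw [he, he1, one_smul]

/-- The radical of the inner pair inside the Siegel group of the space. -/
noncomputable def innerRad (P' : Pair P.QW) : AddChar P'.W ↥(siegelGroup Q) :=
  P.extSub.compAddChar P'.rad

omit [Fintype P.W] [FiniteDimensional ℂ E] [Finite F] [FiniteDimensional F V] in
theorem innerRad_apply (P' : Pair P.QW) (x : P'.W) : P.innerRad P' x = P.extSub (P'.rad x) := rfl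

/-- Many vectors in an eigenspace of the inner radical. -/
theorem le_finrank_inner [Fintype F] (hQ : ∀ x, (∀ y, polar Q x y = 0) → x = 0)
    (h5V : 5 ≤ finrank F V) (hψ : ψ.IsPrimitive) (P' : Pair P.QW) (u'' : P'.W)
    (hlev : ∀ u : P.W, Q (u : V) = P'.QW u'' → eigDim ρ P.rad (P.chi ψ u) = 1) :
    2 * Nat.card Fˣ + 1 ≤ finrank ℂ (eigen ρ (P.innerRad P') (P'.chi ψ u'')) := by
  classical
  let Z : Submodule ℂ E := eigen ρ (P.innerRad P') (P'.chi ψ u'')
  obtain ⟨g₁, hg₁, hg₁e⟩ := siegel_transitive Q hQ h5V P.he (y := ((P'.e : P.W) : V)) P'.he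
    P.e_ne (fun e => P'.e_ne (Subtype.ext e))
  have hp : polar Q ((P'.e : P.W) : V) (g₁.1 P.f) = 1 := by
    rw [← hg₁e, polar_quadIsom g₁.2, P.hef]
  have hq : polar Q ((P'.e : P.W) : V) ((P'.f : P.W) : V) = 1 := P'.hef
  set s := siegel Q ((P'.e : P.W) : V) (((P'.f : P.W) : V) - g₁.1 P.f) with hs
  let g : ↥(siegelGroup Q) := ⟨s * g₁, mul_mem (siegel_mem Q _ _) hg₁⟩
  have heE' : Q ((P'.e : P.W) : V) = 0 := P'.he
  have hge : g.1.1 P.e = ((P'.e : P.W) : V) := by
    change s.1 (g₁.1 P.e) = _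
    rw [hg₁e, hs, siegel_apply Q heE' (by rw [QuadraticMap.polar_sub_right, hp, hq, sub_self]),
      polar_self_of_singular Q heE', QuadraticMap.polar_comm _ _ ((P'.e : P.W) : V),
      QuadraticMap.polar_sub_right, hp, hq]
    simp
  have hgf : g.1.1 P.f = ((P'.f : P.W) : V) :=
    siegel_move Q P'.he hp hq (by rw [mem_quadIsoms.1 g₁.2, P.hf]; exact P'.hf.symm)
  have hginv : ∀ y : V, polar Q ((P'.e : P.W) : V) y = 0 → polar Q ((P'.f : P.W) : V) y = 0 →
      g.1.1.symm y ∈ P.W := by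
    intro y h1 h2
    refine P.mem_W.2 ⟨?_, ?_⟩
    · rw [← polar_quadIsom g.1.2, hge, LinearEquiv.apply_symm_apply]; exact h1
    · rw [← polar_quadIsom g.1.2, hgf, LinearEquiv.apply_symm_apply]; exact h2
  have heE : Q ((P'.e : P.W) : V) = 0 := P'.he
  let D : Option (Fˣ ⊕ Fˣ) → V := fun i => (match i with
    | none => 0
    | some (.inl t) => (t : F) • P.e
    | some (.inr t) => (t : F) • P.f) + ((u'' : P.W) : V)
  have hDe : ∀ i, polar Q ((P'.e : P.W) : V) (D i) = 0 ∧ polar Q ((P'.f : P.W) : V) (D i) = 0 ∧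
      Q (D i) = P'.QW u'' := by
    have he' : polar Q ((P'.e : P.W) : V) ((u'' : P.W) : V) = 0 := P'.W_e u''
    have hf' : polar Q ((P'.f : P.W) : V) ((u'' : P.W) : V) = 0 := P'.W_f u''
    intro i
    rcases i with _ | t | t
    · refine ⟨?_, ?_, ?_⟩ <;> simp [D, he', hf']
      rfl
    all_goals
      refine ⟨?_, ?_, ?_⟩
      · simp [D, QuadraticMap.polar_add_right, QuadraticMap.polar_smul_right, P.e_W, P.f_W, he']
      · simp [D, QuadraticMap.polar_add_right, QuadraticMap.polar_smul_right, P.e_W, P.f_W, hf']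
      · simp only [D]
        rw [add_comm, quad_map_add_smul]
        simp [P.he, P.hf, P.e_W, P.f_W]
        rfl
  have hDinj : Function.Injective D := by
    intro i j hij
    have h1 := congrArg (polar Q P.f) hij
    have h2 := congrArg (polar Q P.e) hij
    rcases i with _ | t | t <;> rcases j with _ | t' | t' <;>
      simp [D, QuadraticMap.polar_add_right, QuadraticMap.polar_smul_right, P.W_e, P.W_f, P.hef,
        P.hfe, polar_self_of_singular Q P.he, polar_self_of_singular Q P.hf] at h1 h2 <;>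
      first | rfl | exact absurd h1 (Units.ne_zero _) | exact absurd h1.symm (Units.ne_zero _) |
        exact absurd h2 (Units.ne_zero _) | exact absurd h2.symm (Units.ne_zero _) | rw [Units.ext h1] | rw [Units.ext h2]
  let d : Option (Fˣ ⊕ Fˣ) → P.W := fun i => ⟨g.1.1.symm (D i), hginv _ (hDe i).1 (hDe i).2.1⟩
  have hdinj : Function.Injective d := fun i j h =>
    hDinj (g.1.1.symm.injective (congrArg Subtype.val h))
  have hdq : ∀ i, Q (d i : V) = P'.QW u'' := fun i => by
    rw [show Q (d i : V) = Q (g.1.1.symm (D i)) from rfl, ← mem_quadIsoms.1 g.1.2,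
      LinearEquiv.apply_symm_apply, (hDe i).2.2]
  have hex : ∀ i, ∃ v ∈ eigen ρ P.rad (P.chi ψ (d i)), v ≠ 0 := fun i => by
    refine (Submodule.ne_bot_iff _).1 fun h => ?_
    have := hlev _ (hdq i)
    rw [eigDim, h, finrank_bot] at this
    omega
  choose v hv hv0 using hex
  have hmem : ∀ i, ρ g (v i) ∈ Z := by
    intro i x
    obtain ⟨w, hw⟩ : ∃ w : P.W, (w : V) = g.1.1.symm ((x : P.W) : V) :=
      ⟨⟨_, hginv _ (P'.W_e x) (P'.W_f x)⟩, rfl⟩
    have hgw : g.1.1 (w : V) = ((x : P.W) : V) := by rw [hw, LinearEquiv.apply_symm_apply]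
    have e : P.innerRad P' x * g = g * P.rad w := by
      refine Subtype.ext ?_
      change P.extend (P'.rad x).1 * g.1 = g.1 * siegel Q P.e (w : V)
      have h := mul_inv_eq_iff_eq_mul.1 (siegel_conj Q g.1 P.e (w : V))
      rw [hge, hgw] at h
      rw [P.extend_rad_eq]; exact h.symm
    rw [← Module.End.mul_apply, ← map_mul, e, map_mul, Module.End.mul_apply, hv i w, map_smul]
    congr 1
    rw [P.chi_apply, P'.chi_apply, P.polar_QW]
    congr 1
    rw [← polar_quadIsom g.1.2 (d i : V) (w : V), hgw,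
      show g.1.1 (d i : V) = D i from g.1.1.apply_symm_apply _]
    rcases i with _ | t | t <;>
      simp [D, QuadraticMap.polar_add_left, QuadraticMap.polar_smul_left, P.W_e, P.W_f]
  have hli : LinearIndependent ℂ fun i => (⟨ρ g (v i), hmem i⟩ : Z) := by
    rw [Fintype.linearIndependent_iff]
    intro a ha i
    have h0 : ∑ j, a j • v j = 0 := (ρ.apply_bijective g).1 (by
      rw [map_zero, map_sum]
      simpa [map_smul] using congrArg (fun z : Z => (z : E)) ha)
    have h1 := congrArg (proj ρ P.rad (P.chi ψ (d i))) h0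
    rw [map_sum, map_zero, Finset.sum_eq_single i (fun j _ hj => by
      rw [map_smul, proj_apply_of_ne ρ P.rad (fun e => hj (hdinj (P.chi_injective hQ hψ e)).symm)
        (hv j), smul_zero]) (by simp), map_smul, proj_eq_self ρ P.rad (hv i)] at h1
    exact (smul_eq_zero.1 h1).resolve_right (hv0 i)
  have h := hli.fintype_card_le_finrank
  rw [Fintype.card_option, Fintype.card_sum] at h
  rw [Nat.card_eq_fintype_card]
  exact le_trans (by omega) h

/-- Few coordinates for that eigenspace. -/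
theorem finrank_inner_le [Fintype F] (hQ : ∀ x, (∀ y, polar Q x y = 0) → x = 0) (hψ : ψ.IsPrimitive)
    (P' : Pair P.QW) (h5 : 5 ≤ finrank F P'.W)
    (hsp : ∀ z : P'.W, ∃ p : P'.W, p ≠ 0 ∧ P'.QW p = 0 ∧ polar P'.QW z p = 0)
    (u'' : P'.W) (hc : P'.QW u'' ≠ 0)
    (hle : ∀ u : P.W, u ≠ 0 → eigDim ρ P.rad (P.chi ψ u) ≤ 1)
    (hoth : ∀ u : P.W, u ≠ 0 → Q (u : V) ≠ P'.QW u'' → eigen ρ P.rad (P.chi ψ u) = ⊥)
    (hC : ∀ k, ∀ v ∈ eigen ρ P.rad 1, ρ (P.extSub k) v = v) :
    finrank ℂ (eigen ρ (P.innerRad P') (P'.chi ψ u'')) ≤ 2 * Nat.card Fˣ := by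
  classical
  have hQW := P.sep_W hQ
  have hQX := P'.sep_W hQW
  let rep : Fˣ ⊕ Fˣ → P.W := fun i => match i with
    | .inl b => (P'.QW u'' / (b : F)) • P'.e + (b : F) • P'.f
    | .inr t => (t : F) • (u'' : P.W)
  have hrep : ∀ i, rep i ≠ 0 := by
    rintro (b | t)
    · intro e
      have := congrArg (polar P.QW P'.e) e
      simp [rep, QuadraticMap.polar_add_right, QuadraticMap.polar_smul_right,
        polar_self_of_singular P.QW P'.he, P'.hef] at this
    · exact smul_ne_zero t.ne_zero fun e => hc (by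
        rw [P'.QW_apply, e, QuadraticMap.map_zero])
  let Φ : ↥(eigen ρ (P.innerRad P') (P'.chi ψ u'')) →ₗ[ℂ] (i : Fˣ ⊕ Fˣ) → eigen ρ P.rad (P.chi ψ (rep i)) :=
    LinearMap.pi fun i => ((proj ρ P.rad (P.chi ψ (rep i))).comp (Submodule.subtype _)).codRestrict _
      fun z => proj_mem ρ P.rad _ _
  have hΦ : Function.Injective Φ := by
    refine (injective_iff_map_eq_zero Φ).2 fun z hz => Subtype.ext ?_
    have hr : ∀ i, proj ρ P.rad (P.chi ψ (rep i)) (z : E) = 0 := fun i =>
      congrArg Subtype.val (congrFun hz i)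
    have hA : ∀ x, ρ (P.extSub (P'.rad x)) (z : E) = P'.chi ψ u'' x • (z : E) := fun x => by
      rw [← P.innerRad_apply]; exact (mem_eigen ρ _).1 z.2 x
    have hshift : ∀ (x : P'.W) (w : P.W),
        P'.chi ψ u'' x • proj ρ P.rad (P.chi ψ ((P'.rad x).1.1 w)) (z : E) =
          ρ (P.extSub (P'.rad x)) (proj ρ P.rad (P.chi ψ w) (z : E)) := fun x w => by
      rw [← map_smul, ← hA x]
      exact P.proj_extSub ρ ψ hQ hψ (P'.rad x) w z
    have hback : ∀ (x : P'.W) (w : P.W),
        proj ρ P.rad (P.chi ψ ((P'.rad x).1.1 w)) (z : E) = 0 →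
          proj ρ P.rad (P.chi ψ w) (z : E) = 0 := fun x w h =>
      (ρ.apply_bijective (P.extSub (P'.rad x))).1 (by rw [map_zero, ← hshift x w, h, smul_zero])
    have hall : ∀ w, proj ρ P.rad (P.chi ψ w) (z : E) = 0 := by
      intro w
      by_cases hw0 : w = 0
      · subst hw0
        obtain ⟨x, hx⟩ : ∃ x, P'.chi ψ u'' x ≠ 1 := by
          by_contra hall
          push Not at hall
          have e : P'.chi ψ u'' = P'.chi ψ 0 := by
            rw [P'.chi_zero]; exact DFunLike.ext _ _ hall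
          exact hc (by rw [P'.chi_injective hQW hψ e, QuadraticMap.map_zero])
        have h := hshift x 0
        rw [map_zero, P.chi_zero,
          show ρ (P.extSub (P'.rad x)) (proj ρ P.rad 1 (z : E)) = proj ρ P.rad 1 (z : E) from
            hC (P'.rad x) _ (proj_mem ρ P.rad 1 _)] at h
        rw [P.chi_zero]
        by_contra h0
        exact hx (smul_left_injective ℂ h0 (h.trans (one_smul ℂ _).symm))
      by_cases hwc : Q (w : V) = P'.QW u''
      swap
      · have h := proj_mem ρ P.rad (P.chi ψ w) (z : E)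
        rwa [hoth w hw0 hwc, Submodule.mem_bot] at h
      by_cases hb : polar P.QW P'.e w = 0
      swap
      · obtain ⟨b, hbdef⟩ : ∃ b, b = polar P.QW P'.e w := ⟨_, rfl⟩
        rw [← hbdef] at hb
        let x : P'.W := -(b⁻¹ • P'.pr w)
        refine hback x w ?_
        have h1 : (P'.rad x).1.1 w = rep (.inl (Units.mk0 b hb)) := by
          have hw := P'.quad_coords w
          rw [P.QW_apply, hwc, ← hbdef] at hw
          conv_lhs => rw [P'.split w]
          simp only [rep, Units.val_mk0, map_add, map_smul, P'.rad_e, P'.rad_f, P'.rad_W, x,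
            ← hbdef, ← P'.QW_apply, ← P'.polar_QW, QuadraticMap.map_neg, quad_smul,
            QuadraticMap.polar_neg_left, QuadraticMap.polar_smul_left, polar_self_two,
            Submodule.coe_neg, Submodule.coe_smul, smul_eq_mul]
          rw [hw]
          match_scalars <;> field_simp <;> ring
        rw [h1]; exact hr (Sum.inl (Units.mk0 b hb))
      obtain ⟨y, hy⟩ : ∃ y : P'.W, y = P'.pr w := ⟨_, rfl⟩
      have hyc : P'.QW y = P'.QW u'' := by
        have h := P'.quad_coords w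
        rw [hb, mul_zero, zero_add, ← hy, P.QW_apply, hwc] at h
        exact h.symm
      have hy0 : y ≠ 0 := fun e => hc (by rw [← hyc, e, QuadraticMap.map_zero])
      have hyz : proj ρ P.rad (P.chi ψ (y : P.W)) (z : E) = 0 := by
        by_cases ht : ∃ t : F, y = t • u''
        · obtain ⟨t, rfl⟩ := ht
          exact hr (.inr (Units.mk0 t fun e => hy0 (by rw [e, zero_smul])))
        obtain ⟨x₁, hx₁, hyx₁, hux⟩ : ∃ x, P'.QW x = 0 ∧ polar P'.QW y x = 0 ∧
            polar P'.QW u'' x ≠ 0 := by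
          by_contra hall
          push Not at hall
          obtain ⟨t, e⟩ := eq_smul_of_singular_perp hQX (by rw [hyc]; exact hc) (hsp y) hall
          have ht0 : t ≠ 0 := fun h => hc (by rw [e, h, zero_smul, QuadraticMap.map_zero])
          exact ht ⟨t⁻¹, by rw [e, inv_smul_smul₀ ht0]⟩
        obtain ⟨r, hr'⟩ : ∃ r, ψ (r * polar P'.QW u'' x₁) ≠ 1 := by
          by_contra hall
          push Not at hall
          exact hψ hux (DFunLike.ext _ _ fun r => by
            rw [AddChar.mulShift_apply, AddChar.one_apply, mul_comm]; exact hall r)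
        have hx : P'.QW (r • x₁) = 0 := by rw [quad_smul, hx₁, mul_zero]
        have hyx : polar P'.QW y (r • x₁) = 0 := by
          rw [QuadraticMap.polar_smul_right, hyx₁, smul_zero]
        have hy0' : (y : P.W) ≠ 0 := fun e => hy0 (Subtype.ext e)
        have hfixy : (P'.rad (r • x₁)).1.1 (y : P.W) = (y : P.W) := by
          rw [P'.rad_W, show polar P.QW ((r • x₁ : P'.W) : P.W) (y : P.W) = 0 by
            rw [QuadraticMap.polar_comm]; exact hyx, zero_smul, sub_zero]
        have h := hshift (r • x₁) (y : P.W)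
        rw [hfixy, show ρ (P.extSub (P'.rad (r • x₁))) (proj ρ P.rad (P.chi ψ (y : P.W)) (z : E)) =
          proj ρ P.rad (P.chi ψ (y : P.W)) (z : E) from
          P.rad_fix_line ρ ψ hQ P' h5 (hle _ hy0') hx hyx (proj_mem ρ P.rad _ _)] at h
        by_contra h0
        refine hr' ?_
        have h2 := smul_left_injective ℂ h0 (h.trans (one_smul ℂ _).symm)
        rwa [P'.chi_apply, ← P'.polar_QW, QuadraticMap.polar_smul_right, smul_eq_mul] at h2
      obtain ⟨x₂, hx₂⟩ : ∃ x : P'.W, polar P'.QW x y = polar P.QW P'.f w := by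
        obtain ⟨x₀, hx₀⟩ : ∃ x : P'.W, polar P'.QW y x ≠ 0 := by
          by_contra hall
          push Not at hall
          exact hy0 (hQX y hall)
        refine ⟨(polar P.QW P'.f w / polar P'.QW y x₀) • x₀, ?_⟩
        rw [QuadraticMap.polar_smul_left, QuadraticMap.polar_comm _ x₀ y, smul_eq_mul,
          div_mul_cancel₀ _ hx₀]
      refine hback x₂ w ?_
      have h1 : (P'.rad x₂).1.1 w = (y : P.W) := by
        conv_lhs => rw [P'.split w]
        simp only [map_add, map_smul, P'.rad_e, hb, zero_smul, add_zero, P'.rad_W, ← hy]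
        rw [show polar P.QW (x₂ : P.W) (y : P.W) = polar P.QW P'.f w from hx₂]
        abel
      rw [h1]; exact hyz
    have e := eq_sum_proj ρ P.rad (z : E)
    rw [e]
    refine Finset.sum_eq_zero fun χ _ => ?_
    obtain ⟨w, rfl⟩ := P.chi_surjective hQ hψ χ
    exact hall w
  have hup := LinearMap.finrank_le_finrank_of_injective hΦ
  rw [Module.finrank_pi_fintype] at hup
  have h2 : ∑ i : Fˣ ⊕ Fˣ, finrank ℂ (eigen ρ P.rad (P.chi ψ (rep i))) ≤ ∑ _i : Fˣ ⊕ Fˣ, 1 :=
    Finset.sum_le_sum fun i _ => hle _ (hrep i)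
  rw [Finset.sum_const, Finset.card_univ, smul_eq_mul, mul_one, Fintype.card_sum] at h2
  rw [Nat.card_eq_fintype_card]
  exact hup.trans (h2.trans (by omega))

/-- With a single level, each eigenspace a line, the inner group acts non-trivially on the fixed
space of the radical. -/
theorem not_fixed_of_one_level [Fintype F] (hQ : ∀ x, (∀ y, polar Q x y = 0) → x = 0)
    (h5V : 5 ≤ finrank F V) (hψ : ψ.IsPrimitive) (P' : Pair P.QW) (h5 : 5 ≤ finrank F P'.W)
    (hsp : ∀ z : P'.W, ∃ p : P'.W, p ≠ 0 ∧ P'.QW p = 0 ∧ polar P'.QW z p = 0)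
    (u'' : P'.W) (hc : P'.QW u'' ≠ 0)
    (hlev : ∀ u : P.W, Q (u : V) = P'.QW u'' → eigDim ρ P.rad (P.chi ψ u) = 1)
    (hoth : ∀ u : P.W, u ≠ 0 → Q (u : V) ≠ P'.QW u'' → eigen ρ P.rad (P.chi ψ u) = ⊥) :
    ¬ ∀ k, ∀ v ∈ eigen ρ P.rad 1, ρ (P.extSub k) v = v := by
  intro hC
  have h1 := P.le_finrank_inner ρ ψ hQ h5V hψ P' u'' hlev
  have h2 := P.finrank_inner_le ρ ψ hQ hψ P' h5 hsp u'' hc (fun u hu => ?_) hoth hC
  · omega
  by_cases h : Q (u : V) = P'.QW u''
  · rw [hlev u h]
  · rw [eigDim, hoth u hu h, finrank_bot]; exact Nat.zero_le _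

end Pair

end CfsgLib.Classical.OMinDeg
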