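import Cfsg.Agent.Lib.Classical.OMinDegMain
import Cfsg.Agent.Lib.Classical.OMinDegSmall

/-!
# Minus type over the fields with two or three elements: induction on the dimension
-/

set_option autoImplicit false

namespace CfsgLib.Classical.OMinDeg

open CfsgLib.Geom CfsgLib.Classical CfsgLib.Classical.SLMinDeg Module
open QuadraticMap (polar)

universe u v

theorem two_le_finrank_of_moved {G : Type*} [Group G] {M : Type*} [AddCommGroup M] [Module ℂ M]
    [FiniteDimensional ℂ M] (σ : Representation ℂ G M) (hperf : ∀ φ : G →* ℂˣ, φ = 1) {g : G}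
    {x : M} (hx : σ g x ≠ x) : 2 ≤ finrank ℂ M := by
  by_contra hlt
  have hx0 : x ≠ 0 := fun e => hx (by rw [e, map_zero])
  have : Nontrivial M := ⟨⟨x, 0, hx0⟩⟩
  have h1 : finrank ℂ M = 1 := by
    have : 0 < finrank ℂ M := finrank_pos
    omega
  obtain ⟨c, hc⟩ := exists_smul_eq_of_finrank_eq_one h1 hx0 (σ g x)
  have hid : σ g = c • LinearMap.id := LinearMap.ext fun y => by
    obtain ⟨a, rfl⟩ := exists_smul_eq_of_finrank_eq_one h1 hx0 y
    rw [map_smul, ← hc, LinearMap.smul_apply, LinearMap.id_apply, smul_comm]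
  have h := DFunLike.congr_fun (hperf (MonoidHom.toHomUnits (LinearMap.det.comp σ))) g
  have h' : LinearMap.det (σ g) = 1 := congrArg Units.val h
  rw [hid, LinearMap.det_smul, h1, pow_one, LinearMap.det_id, mul_one] at h'
  exact hx (by rw [← hc, h', one_smul])

variable {F : Type*} [Field F] [Fintype F]

theorem exists_singular_minus {V : Type*} [AddCommGroup V] [Module F V] [FiniteDimensional F V]
    {Q : QuadraticForm F V} {k : ℕ} (hk : 2 ≤ k) (h : EvenType Q k (-1)) :
    ∃ x : V, x ≠ 0 ∧ Q x = 0 := by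
  have : Finite V := Module.finite_of_finite F
  refine exists_singular_of_zeros ?_
  obtain ⟨q, hq'⟩ : ∃ q : ℝ, (Nat.card F : ℝ) = q := ⟨_, rfl⟩
  have hq2 : (2 : ℝ) ≤ q := by
    rw [← hq', Nat.card_eq_fintype_card]; exact_mod_cast Fintype.one_lt_card
  refine lt_of_mul_lt_mul_right ?_ (show (0 : ℝ) ≤ q by linarith)
  rw [← hq', h.zeros, hq', one_mul]
  have h2 : q ^ 2 ≤ q ^ k := pow_le_pow_right₀ (by linarith) hk
  rw [show q ^ (2 * k) = q ^ k * q ^ k by ring]
  generalize q ^ k = r at h2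
  nlinarith [mul_nonneg (sub_nonneg.2 h2) (show (0 : ℝ) ≤ q by linarith)]

/-- Minus type over at most three elements. -/
theorem small_bound (hq : Fintype.card F ≤ 3) {m : ℕ} (hm : 3 ≤ m) :
    ∀ {V : Type u} [AddCommGroup V] [Module F V] [FiniteDimensional F V] {Q : QuadraticForm F V},
      EvenType Q (m + 1) (-1) → ∀ {E : Type v} [AddCommGroup E] [Module ℂ E] [FiniteDimensional ℂ E]
        (ρ : Representation ℂ ↥(siegelGroup Q) E), ρ.IsIrreducible → 2 ≤ finrank ℂ E →
      ((Fintype.card F : ℝ) ^ (m + 1) + 1) * ((Fintype.card F : ℝ) ^ m - (Fintype.card F : ℝ)) ≤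
        (finrank ℂ E : ℝ) * ((Fintype.card F : ℝ) ^ 2 - 1) := by
  classical
  induction m, hm using Nat.le_induction with
  | base =>
    intro V _ _ _ Q hV E _ _ _ ρ hirr hd
    have : Finite V := Module.finite_of_finite F
    have : Finite (V ≃ₗ[F] V) := Finite.of_injective _ DFunLike.coe_injective
    have : Finite (quadIsoms Q) := Subtype.finite
    have h := even_bound ρ le_rfl (Or.inr rfl : (-1 : ℝ) = 1 ∨ (-1 : ℝ) = -1)
      (Or.inr ⟨rfl, rfl⟩) hV hirr hd
    simpa [sub_neg_eq_add, ← sub_eq_add_neg] using h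
  | succ m hm ih =>
    intro V _ _ _ Q hV E _ _ _ ρ hirr hd
    have : Finite V := Module.finite_of_finite F
    have : Finite (V ≃ₗ[F] V) := Finite.of_injective _ DFunLike.coe_injective
    have : Finite (quadIsoms Q) := Subtype.finite
    obtain ⟨ψ, hψ⟩ := exists_primitive_char (F := F)
    obtain ⟨x, hx0, hx⟩ := exists_singular Q hV.sep (by rw [hV.dim]; omega)
    obtain ⟨P, -⟩ := exists_pair hV.sep hx hx0
    have := Fintype.ofFinite P.W
    rcases even_core ρ (by omega : 3 ≤ m + 1) (Or.inr rfl : (-1 : ℝ) = 1 ∨ (-1 : ℝ) = -1)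
      (fun h => absurd h (by norm_num)) hV P hψ hirr hd with h | ⟨u, hu, hne⟩
    · simpa [sub_neg_eq_add, ← sub_eq_add_neg] using h
    have hW := P.evenType hV
    obtain ⟨x', hx0', hx'⟩ := exists_singular P.QW hW.sep (by rw [hW.dim]; omega)
    obtain ⟨P', -⟩ := exists_pair hW.sep hx' hx0'
    have hX := P'.evenType hW
    set q : ℝ := (Fintype.card F : ℝ) with hq'
    have hcF : (Nat.card F : ℝ) = q := by rw [Nat.card_eq_fintype_card]
    have hq2 : (2 : ℝ) ≤ q := by rw [hq']; exact_mod_cast Fintype.one_lt_card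
    set y : ℝ := q ^ m with hy
    have hy8 : 8 ≤ y := by
      have h1 : (2 : ℝ) ^ 3 ≤ q ^ m :=
        (pow_le_pow_left₀ (by norm_num) hq2 3).trans (pow_le_pow_right₀ (by linarith) hm)
      rw [hy]; linarith
    have hlev : ∀ c : F, c ≠ 0 → ((Finset.univ.filter fun w : P.W => Q (w : V) = c).card : ℝ) =
        q * y ^ 2 + y := by
      intro c hc
      refine mul_right_cancel₀ (show q ≠ 0 by linarith) ?_
      have h := hW.level c hc
      rw [hcF, Nat.card_eq_fintype_card, Fintype.card_subtype] at h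
      change ((Finset.univ.filter fun w : P.W => P.QW w = c).card : ℝ) * q = _
      rw [h, hy]; ring
    have hsing : ((Finset.univ.filter fun w : P.W => w ≠ 0 ∧ Q (w : V) = 0).card : ℝ) =
        q * y ^ 2 - q * y + y - 1 := by
      have h := natCard_sing (Q := P.QW)
      have hz := hW.zeros
      rw [← h, hcF, Nat.card_eq_fintype_card, Fintype.card_subtype] at hz
      refine mul_right_cancel₀ (show q ≠ 0 by linarith) ?_
      change ((Finset.univ.filter fun w : P.W => w ≠ 0 ∧ P.QW w = 0).card : ℝ) * q = _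
      rw [hy]
      linear_combination hz
    have h5W : 5 ≤ finrank F P.W := by rw [hW.dim]; omega
    have hu0 : u ≠ 0 := fun e => hu (by rw [e]; simp)
    have hone : 1 ≤ eigDim ρ P.rad (P.chi ψ u) :=
      Nat.one_le_iff_ne_zero.2 fun e => hne (Submodule.finrank_eq_zero.1 e)
    have hgoal : (q ^ (m + 1 + 1) + 1) * (q ^ (m + 1) - q) = (q ^ 2 * y + 1) * (q * y - q) := by
      rw [hy]; ring
    rw [hgoal]
    let T := Finset.univ.filter fun w : P.W => Q (w : V) = Q (u : V)
    have hT : ∀ w ∈ T, w ≠ 0 ∧ eigDim ρ P.rad (P.chi ψ u) ≤ eigDim ρ P.rad (P.chi ψ w) ∧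
        eigDim ρ P.rad (P.chi ψ w) ≤ eigDim ρ P.rad (P.chi ψ u) := by
      intro w hw
      have hwu : Q (w : V) = Q (u : V) := (Finset.mem_filter.1 hw).2
      have hw0 : w ≠ 0 := fun e => hu (by rw [← hwu, e]; simp)
      exact ⟨hw0, P.eigDim_le_of_value ρ ψ hV.sep h5W hu0 hw0 one_ne_zero (by rw [hwu]; ring),
        P.eigDim_le_of_value ρ ψ hV.sep h5W hw0 hu0 one_ne_zero (by rw [hwu]; ring)⟩
    have hfin : ∀ a : ℝ, a ≤ (finrank ℂ E : ℝ) →
        (q ^ 2 * y + 1) * (q * y - q) ≤ a * (q ^ 2 - 1) →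
        (q ^ 2 * y + 1) * (q * y - q) ≤ (finrank ℂ E : ℝ) * (q ^ 2 - 1) := fun a ha h =>
      h.trans (mul_le_mul_of_nonneg_right ha (by nlinarith))
    -- a multiple eigenvalue
    by_cases hb : 2 ≤ eigDim ρ P.rad (P.chi ψ u)
    · refine hfin (2 * (q * y ^ 2 + y)) ?_ ?_
      · rw [← hlev _ hu]
        have h : 2 * T.card ≤ finrank ℂ E := by
          refine le_trans ?_ (P.sum_eigDim_le ρ ψ hV.sep hψ T)
          rw [mul_comm, ← smul_eq_mul, ← Finset.sum_const]
          exact Finset.sum_le_sum fun w hw => hb.trans (hT w hw).2.1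
        exact_mod_cast h
      · nlinarith [mul_nonneg (show 0 ≤ q * y ^ 2 + y by nlinarith) (show 0 ≤ q ^ 2 - 2 by nlinarith)]
    -- a second level
    by_cases h2 : ∃ w : P.W, w ≠ 0 ∧ Q (w : V) ≠ Q (u : V) ∧ eigen ρ P.rad (P.chi ψ w) ≠ ⊥
    · obtain ⟨w, hw0, hwu, hwne⟩ := h2
      let T₂ := Finset.univ.filter fun w' : P.W => w' ≠ 0 ∧ Q (w' : V) = Q (w : V)
      refine hfin ((q * y ^ 2 + y) + (q * y ^ 2 - q * y + y - 1)) ?_ ?_
      · have h : T.card + T₂.card ≤ finrank ℂ E := by
          rw [← Finset.card_union_of_disjoint (Finset.disjoint_left.2 fun z h1 h2 => hwu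
            ((Finset.mem_filter.1 h2).2.2.symm.trans (Finset.mem_filter.1 h1).2))]
          refine le_trans ?_ (P.sum_eigDim_le ρ ψ hV.sep hψ (T ∪ T₂))
          rw [Finset.card_eq_sum_ones]
          refine Finset.sum_le_sum fun z hz => ?_
          rcases Finset.mem_union.1 hz with h1 | h1
          · exact hone.trans (hT z h1).2.1
          · obtain ⟨hz0, hzw⟩ := (Finset.mem_filter.1 h1).2
            refine le_trans (Nat.one_le_iff_ne_zero.2 fun e => hwne (Submodule.finrank_eq_zero.1 e))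
              (P.eigDim_le_of_value ρ ψ hV.sep h5W hw0 hz0 one_ne_zero (by rw [hzw]; ring))
        have h2 : q * y ^ 2 - q * y + y - 1 ≤ (T₂.card : ℝ) := by
          by_cases hw : Q (w : V) = 0
          · rw [← hsing]; exact le_of_eq (by simp only [T₂, hw])
          · have e : T₂ = Finset.univ.filter fun z : P.W => Q (z : V) = Q (w : V) := by
              refine Finset.filter_congr fun z _ => ⟨fun h => h.2, fun h => ⟨fun e => hw ?_, h⟩⟩
              rw [← h, e]; simp
            rw [e, hlev _ hw]; nlinarith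
        have h1 : (T.card : ℝ) = q * y ^ 2 + y := hlev _ hu
        have h' : (T.card : ℝ) + (T₂.card : ℝ) ≤ (finrank ℂ E : ℝ) := by exact_mod_cast h
        linarith
      · have a : q ^ 2 * y + 1 ≤ 2 * (q ^ 2 * y) := by nlinarith
        nlinarith [mul_le_mul_of_nonneg_right a (show 0 ≤ q * y - q by nlinarith),
          mul_nonneg (show 0 ≤ q * y by nlinarith) (show 0 ≤ y - 8 by linarith),
          mul_nonneg (show 0 ≤ q * y by nlinarith) (show 0 ≤ q ^ 2 - 4 by nlinarith)]
    push Not at h2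
    -- the fixed space of the radical
    have h5X : 5 ≤ finrank F P'.W := by rw [hX.dim]; omega
    obtain ⟨u'', hu''⟩ : ∃ u'' : P'.W, P'.QW u'' = Q (u : V) := by
      have h := hX.level _ hu
      rw [hcF] at h
      by_contra hnone
      push Not at hnone
      have e : Nat.card {z : P'.W // P'.QW z = Q (u : V)} = 0 :=
        Nat.card_eq_zero.2 (Or.inl ⟨fun z => hnone z.1 z.2⟩)
      rw [e, Nat.cast_zero, zero_mul] at h
      nlinarith [pow_pos (show (0 : ℝ) < q by linarith) (2 * m),
        pow_pos (show (0 : ℝ) < q by linarith) m]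
    obtain ⟨x'', hx0'', hx''⟩ := exists_singular P'.QW hX.sep (by rw [hX.dim]; omega)
    obtain ⟨P'', -⟩ := exists_pair hX.sep hx'' hx0''
    obtain ⟨n, hn⟩ : ∃ n, m = n + 1 := ⟨m - 1, by omega⟩
    have hY : EvenType (V := ↥P''.W) P''.QW n (-1) := P''.evenType (hn ▸ hX)
    obtain ⟨q₀, hq₀0, hq₀⟩ := exists_singular_minus (V := ↥P''.W) (Q := P''.QW) (by omega : 2 ≤ n) hY
    have hc : P'.QW u'' ≠ 0 := hu''.symm ▸ hu
    have hmoved := P.not_fixed_of_one_level ρ ψ hV.sep (by rw [hV.dim]; omega) hψ P' h5X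
      (fun z => exists_singular_perp P'' hq₀0 hq₀ z) u'' hc
      (fun w hw => by
        have h := hT w (Finset.mem_filter.2 ⟨Finset.mem_univ _, hw.trans hu''⟩)
        omega)
      (fun w hw0 hw => h2 w hw0 (by rwa [hu''] at hw))
    push Not at hmoved
    obtain ⟨k, z, hz, hkz⟩ := hmoved
    let C : Submodule ℂ E := eigen ρ P.rad 1
    have hCinv : ∀ g, ∀ w ∈ C, (ρ.comp P.extSub : Representation ℂ _ E) g w ∈ C := fun g w hw => by
      have h := P.eigen_extSub ρ ψ g (u := 0) (v := w) (by rw [P.chi_zero]; exact hw)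
      rw [map_zero, P.chi_zero] at h
      exact h
    have : Finite P.W := Module.finite_of_finite F
    have : Finite (↥P.W ≃ₗ[F] ↥P.W) := Finite.of_injective _ DFunLike.coe_injective
    have : Finite (quadIsoms P.QW) := Subtype.finite
    let σ := restr (ρ.comp P.extSub : Representation ℂ _ E) C hCinv
    obtain ⟨p, hp, w, hw, hkw⟩ : ∃ p : Subrepresentation σ, p.toRepresentation.IsIrreducible ∧
        ∃ w ∈ p.toSubmodule, σ k w ≠ w := by
      by_contra hnone
      push Not at hnone
      have h0 := CfsgLib.Char.eq_zero_of_forall_irreducible σ (σ k - 1) fun p hp w hw => by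
        rw [LinearMap.sub_apply, Module.End.one_apply, hnone p hp w hw, sub_self]
      have h1 := LinearMap.congr_fun h0 ⟨z, hz⟩
      rw [LinearMap.sub_apply, Module.End.one_apply, LinearMap.zero_apply, sub_eq_zero] at h1
      exact hkz (congrArg Subtype.val h1)
    have hd2 : 2 ≤ finrank ℂ p.toSubmodule := by
      refine two_le_finrank_of_moved p.toRepresentation (fun φ =>
        P'.perfect_of hW.sep (v₀ := u'') hc (Or.inl h5W) φ) (g := k) (x := ⟨w, hw⟩) fun e => hkw ?_
      exact congrArg Subtype.val e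
    have hIH := ih hW p.toRepresentation hp hd2
    rw [show q ^ (m + 1) = q * y by rw [hy]; ring] at hIH
    refine hfin ((q * y ^ 2 + y) + (finrank ℂ p.toSubmodule : ℝ)) ?_ ?_
    · have h : T.card + finrank ℂ p.toSubmodule ≤ finrank ℂ E := by
        have h := P.sum_eigDim_le ρ ψ hV.sep hψ (insert 0 T)
        rw [Finset.sum_insert (fun h => (hT 0 h).1 rfl), P.chi_zero] at h
        have hC : finrank ℂ p.toSubmodule ≤ eigDim ρ P.rad 1 := Submodule.finrank_le _
        have hTs : T.card ≤ ∑ w ∈ T, eigDim ρ P.rad (P.chi ψ w) := by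
          rw [Finset.card_eq_sum_ones]
          exact Finset.sum_le_sum fun w hw => hone.trans (hT w hw).2.1
        omega
      rw [← hlev _ hu]
      exact_mod_cast h
    · nlinarith [hIH, mul_nonneg (show 0 ≤ q * y by nlinarith) (show 0 ≤ q ^ 2 - 1 by nlinarith)]

end CfsgLib.Classical.OMinDeg
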