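import Cfsg.Agent.Lib.Classical.OMinDegIsot

/-!
# The stabiliser of two hyperbolic pairs inside the group of Siegel transformations
-/

set_option autoImplicit false

namespace CfsgLib.Classical.OMinDeg

open CfsgLib.Geom CfsgLib.Classical
open QuadraticMap (polar)

variable {F V : Type*} [Field F] [AddCommGroup V] [Module F V] {Q : QuadraticForm F V}

/-- Reflections generate. -/
def Gen (Q : QuadraticForm F V) : Prop := quadIsoms Q ≤ Subgroup.closure (reflSet Q)

namespace Pair

variable (P : Pair Q)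

/-- An isometry fixing the pair is an extension. -/
theorem exists_restrict {g : quadIsoms Q} (he : g.1 P.e = P.e) (hf : g.1 P.f = P.f) :
    ∃ g' : quadIsoms P.QW, g = P.extend g' := by
  have hpres : ∀ k : quadIsoms Q, k.1 P.e = P.e → k.1 P.f = P.f → ∀ w : P.W, k.1 w ∈ P.W := by
    intro k he hf w
    refine P.mem_W.2 ⟨?_, ?_⟩
    · rw [← he, polar_quadIsom k.2]; exact P.W_e w
    · rw [← hf, polar_quadIsom k.2]; exact P.W_f w
  have he' : (g⁻¹).1 P.e = P.e := by
    conv_lhs => rw [← he]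
    exact g.1.symm_apply_apply _
  have hf' : (g⁻¹).1 P.f = P.f := by
    conv_lhs => rw [← hf]
    exact g.1.symm_apply_apply _
  let g₀ : P.W ≃ₗ[F] P.W :=
    { toFun := fun w => ⟨g.1 w, hpres g he hf w⟩
      map_add' := fun a b => Subtype.ext (map_add g.1 _ _)
      map_smul' := fun a b => Subtype.ext (map_smul g.1 _ _)
      invFun := fun w => ⟨(g⁻¹).1 w, hpres g⁻¹ he' hf' w⟩
      left_inv := fun w => Subtype.ext (g.1.symm_apply_apply _)
      right_inv := fun w => Subtype.ext (g.1.apply_symm_apply _) }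
  refine ⟨⟨g₀, fun w => mem_quadIsoms.1 g.2 _⟩, quadIsoms_ext Q fun z => ?_⟩
  conv_lhs => rw [P.split z]
  rw [map_add, map_add, map_smul, map_smul, he, hf, P.extend_apply]
  rfl

theorem extend_refl (u : P.W) (hu : P.QW u ≠ 0) :
    P.extend ⟨reflEquiv P.QW u hu, reflEquiv_mem P.QW u hu⟩ =
      ⟨reflEquiv Q (u : V) hu, reflEquiv_mem Q _ _⟩ := by
  refine quadIsoms_ext Q fun z => ?_
  rw [P.extend_apply]
  change _ + _ + ((reflEquiv P.QW u hu (P.pr z) : P.W) : V) = reflEquiv Q (u : V) hu z
  rw [reflEquiv_apply, Submodule.coe_sub, Submodule.coe_smul, P.polar_QW, P.QW_apply,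
    show reflEquiv Q (u : V) hu z = z - ((Q (u : V))⁻¹ * polar Q (u : V) z) • (u : V) from
      reflEquiv_apply Q (u : V) hu z]
  conv_rhs => arg 1; rw [P.split z]
  conv_rhs => arg 2; rw [P.split z]
  simp only [QuadraticMap.polar_add_right, QuadraticMap.polar_smul_right, P.e_W, P.f_W, smul_zero,
    zero_add]
  abel

theorem lineRefl_sq (c : Fˣ) : P.lineRefl c * P.lineRefl c = 1 :=
  Subtype.ext (reflEquiv_mul_self Q (P.f + (c : F) • P.e) (by rw [P.quad_line]; exact c.ne_zero))

theorem lineRefl_torus (c a : Fˣ) : P.lineRefl c * P.torus a = P.lineRefl (c * a⁻¹) := by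
  have h : P.torus a = P.lineRefl c * P.lineRefl (c * a⁻¹) := by
    rw [P.lineRefl_mul, mul_inv, inv_inv, mul_inv_cancel_left]
  rw [h, ← mul_assoc, P.lineRefl_sq, one_mul]

/-- Isometries are Siegel products, or such times one or two reflections of the plane. -/
theorem isom_cases (hQ : ∀ x, (∀ y, polar Q x y = 0) → x = 0) {v : P.W} (hv : Q (v : V) ≠ 0)
    (hex : Gen Q ∨ Gen P.QW) (g : quadIsoms Q) :
    ∃ s ∈ siegelGroup Q, g = s ∨ (∃ c, g = P.lineRefl c * s) ∨ ∃ a, g = P.torus a * s := by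
  have hn := siegelGroup_normal Q
  let X : Set (quadIsoms Q) := (siegelGroup Q : Set (quadIsoms Q)) ∪ Set.range P.lineRefl
  have hrefl : ∀ (u : V) (hu : Q u ≠ 0),
      (⟨reflEquiv Q u hu, reflEquiv_mem Q u hu⟩ : quadIsoms Q) ∈ Subgroup.closure X := by
    intro u hu
    obtain ⟨c, k, hk, e⟩ := P.refl_mod hQ hv hu
    rw [e]
    exact mul_mem (mul_mem (inv_mem (Subgroup.subset_closure (Or.inl hk)))
      (Subgroup.subset_closure (Or.inr ⟨c, rfl⟩))) (Subgroup.subset_closure (Or.inl hk))
  have hgen : g ∈ Subgroup.closure X := by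
    rcases hex with hex | hex
    · suffices ∀ t ∈ Subgroup.closure (reflSet Q), ∀ ht : t ∈ quadIsoms Q,
          (⟨t, ht⟩ : quadIsoms Q) ∈ Subgroup.closure X from this g.1 (hex g.2) g.2
      intro t ht
      induction ht using Subgroup.closure_induction with
      | mem t ht =>
        intro _
        obtain ⟨u, hu, rfl⟩ := ht
        exact hrefl u hu
      | one => intro _; exact one_mem _
      | mul a b ha hb iha ihb =>
        intro _
        exact mul_mem (iha (reflSet_closure_le Q ha)) (ihb (reflSet_closure_le Q hb))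
      | inv a ha iha => intro _; exact inv_mem (iha (reflSet_closure_le Q ha))
    · obtain ⟨s, hs, a, ha, hsa⟩ := P.siegel_to_e hQ hv
        (by rw [mem_quadIsoms.1 g.2, P.he] : Q (g.1 P.e) = 0)
        (fun h => P.e_ne (g.1.injective (h.trans (map_zero _).symm)))
      have hp : polar Q P.e (a • (s * g).1 P.f) = 1 := by
        have h := polar_quadIsom (s * g).2 P.e P.f
        rw [show (s * g).1 P.e = a • P.e from hsa, QuadraticMap.polar_smul_left, P.hef] at h
        rwa [QuadraticMap.polar_smul_right]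
      set s₂ := siegel Q P.e (P.f - a • (s * g).1 P.f) with hs₂
      have hf2 : (s₂ * (s * g)).1 P.f = a⁻¹ • P.f := by
        have h := siegel_move Q P.he hp P.hef
          (by rw [quad_smul, mem_quadIsoms.1 (s * g).2, P.hf, mul_zero])
        rw [map_smul] at h
        rw [← inv_smul_smul₀ ha ((s₂ * (s * g)).1 P.f)]
        exact congrArg _ h
      have he2 : (s₂ * (s * g)).1 P.e = a • P.e := by
        have h0 : polar Q P.e (P.f - a • (s * g).1 P.f) = 0 := by
          rw [QuadraticMap.polar_sub_right, hp, P.hef, sub_self]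
        have h1 : s₂.1 P.e = P.e := by
          rw [hs₂, siegel_apply Q P.he h0, polar_self_of_singular Q P.he,
            QuadraticMap.polar_comm _ _ P.e, h0]
          simp
        change s₂.1 (s.1 (g.1 P.e)) = _
        rw [hsa, map_smul, h1]
      let au : Fˣ := Units.mk0 a ha
      obtain ⟨g', hg'⟩ := P.exists_restrict (g := P.torus au⁻¹ * (s₂ * (s * g)))
        (by
          rw [Subgroup.coe_mul, LinearEquiv.mul_apply, he2, map_smul, P.torus_apply, P.hfe,
            polar_self_of_singular Q P.he, show P.pr P.e = 0 from Subtype.ext (by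
              rw [P.coe_pr, P.hfe, polar_self_of_singular Q P.he]; simp)]
          simp [au, smul_smul, ha])
        (by
          rw [Subgroup.coe_mul, LinearEquiv.mul_apply, hf2, map_smul, P.torus_apply, P.hef,
            polar_self_of_singular Q P.hf, show P.pr P.f = 0 from Subtype.ext (by
              rw [P.coe_pr, P.hef, polar_self_of_singular Q P.hf]; simp)]
          simp [au, smul_smul, ha])
      have hextend : P.extendHom g' ∈ Subgroup.closure X := by
        suffices ∀ t ∈ Subgroup.closure (reflSet P.QW), ∀ ht : t ∈ quadIsoms P.QW,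
            P.extendHom ⟨t, ht⟩ ∈ Subgroup.closure X from this g'.1 (hex g'.2) g'.2
        intro t ht
        induction ht using Subgroup.closure_induction with
        | mem t ht =>
          intro _
          obtain ⟨u, hu, rfl⟩ := ht
          have e : P.extendHom ⟨reflEquiv P.QW u hu, reflEquiv_mem P.QW u hu⟩ = _ :=
            P.extend_refl u hu
          exact e.symm ▸ hrefl _ hu
        | one =>
          intro h1
          rw [show (⟨1, h1⟩ : quadIsoms P.QW) = 1 from rfl, map_one]
          exact one_mem _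
        | mul a b ha hb iha ihb =>
          intro hab
          rw [show (⟨a * b, hab⟩ : quadIsoms P.QW) =
            ⟨a, reflSet_closure_le _ ha⟩ * ⟨b, reflSet_closure_le _ hb⟩ from rfl, map_mul]
          exact mul_mem (iha (reflSet_closure_le _ ha)) (ihb (reflSet_closure_le _ hb))
        | inv a ha iha =>
          intro hinv
          rw [show (⟨a⁻¹, hinv⟩ : quadIsoms P.QW) = (⟨a, reflSet_closure_le _ ha⟩)⁻¹ from rfl,
            map_inv]
          exact inv_mem (iha (reflSet_closure_le _ ha))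
      have hb : ∀ s' ∈ siegelGroup Q, s' ∈ Subgroup.closure X :=
        fun s' hs' => Subgroup.subset_closure (Or.inl hs')
      have htor : P.torus au⁻¹ ∈ Subgroup.closure X := by
        rw [show au⁻¹ = au⁻¹ * 1⁻¹ by simp, ← P.lineRefl_mul]
        exact mul_mem (Subgroup.subset_closure (Or.inr ⟨_, rfl⟩))
          (Subgroup.subset_closure (Or.inr ⟨_, rfl⟩))
      rw [show g = s⁻¹ * (s₂⁻¹ * ((P.torus au⁻¹)⁻¹ * P.extendHom g')) by
        rw [show P.extendHom g' = P.extend g' from rfl, ← hg']; group]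
      exact mul_mem (inv_mem (hb s hs)) (mul_mem (inv_mem (hb _ (siegel_mem Q _ _)))
        (mul_mem (inv_mem htor) hextend))
  let good : quadIsoms Q → Prop := fun g =>
    ∃ s ∈ siegelGroup Q, g = s ∨ (∃ c, g = P.lineRefl c * s) ∨ ∃ a, g = P.torus a * s
  have step : ∀ x ∈ X, ∀ y, good y → good (x * y) := by
    rintro x (hx | ⟨c, rfl⟩) y ⟨s, hs, h⟩
    · rcases h with rfl | ⟨c, rfl⟩ | ⟨a, rfl⟩
      · exact ⟨_, mul_mem hx hs, Or.inl rfl⟩
      · exact ⟨(P.lineRefl c)⁻¹ * x * P.lineRefl c * s, mul_mem (hn.conj_mem' x hx _) hs,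
          Or.inr (Or.inl ⟨c, by group⟩)⟩
      · exact ⟨(P.torus a)⁻¹ * x * P.torus a * s, mul_mem (hn.conj_mem' x hx _) hs,
          Or.inr (Or.inr ⟨a, by group⟩)⟩
    · rcases h with rfl | ⟨c', rfl⟩ | ⟨a, rfl⟩
      · exact ⟨y, hs, Or.inr (Or.inl ⟨c, rfl⟩)⟩
      · exact ⟨s, hs, Or.inr (Or.inr ⟨c * c'⁻¹, by rw [← mul_assoc, P.lineRefl_mul]⟩)⟩
      · exact ⟨s, hs, Or.inr (Or.inl ⟨c * a⁻¹, by rw [← mul_assoc, P.lineRefl_torus]⟩)⟩
  refine Subgroup.closure_induction_left (p := fun g _ => good g) ?_ ?_ ?_ hgen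
  · exact ⟨1, one_mem _, Or.inl rfl⟩
  · exact fun x hx y _ hy => step x hx y hy
  · intro x hx y _ hy
    refine step _ ?_ y hy
    rcases hx with hx | ⟨c, rfl⟩
    · exact Or.inl (inv_mem hx)
    · exact Or.inr ⟨c, (inv_eq_of_mul_eq_one_left (P.lineRefl_sq c)).symm⟩

variable [Finite F] [FiniteDimensional F V]

/-- The stabiliser of two pairs consists of Siegel products of the common complement. -/
theorem mem_stab (hQ : ∀ x, (∀ y, polar Q x y = 0) → x = 0) (h5 : 5 ≤ Module.finrank F V)
    (P' : Pair P.QW) (P'' : Pair P'.QW) {v : P''.W} (hv : P'.QW (v : P'.W) ≠ 0)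
    (hex : Gen P'.QW ∨ Gen (V := ↥P''.W) P''.QW)
    {g : quadIsoms Q} (hg : g ∈ siegelGroup Q) (he : g.1 P.e = P.e) (hf : g.1 P.f = P.f)
    (he' : g.1 (P'.e : V) = (P'.e : V)) (hf' : g.1 (P'.f : V) = (P'.f : V)) :
    ∃ s ∈ siegelGroup P'.QW, g = P.extend (P'.extend s) := by
  obtain ⟨g₁, rfl⟩ := P.exists_restrict he hf
  rw [P.extend_W] at he' hf'
  obtain ⟨g₂, rfl⟩ := P'.exists_restrict (Subtype.ext he') (Subtype.ext hf')
  have hQW := P.sep_W hQ
  have hex5 := exGen_of_five Q hQ h5
  let E : quadIsoms P'.QW →* quadIsoms Q := P.extendHom.comp P'.extendHom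
  have hcl : quadIsoms Q = Subgroup.closure (reflSet Q) := quadIsoms_eq_closure Q hQ hex5
  let Φ : quadIsoms Q →* Multiplicative (ZMod 2) × SqClass F :=
    (reflHom Q hQ).comp (MulEquiv.subgroupCongr hcl).toMonoidHom
  have hS : ∀ x ∈ siegelGroup Q, Φ x = 1 := fun x hx => by
    rw [← commutator_eq_siegelGroup Q hQ h5] at hx
    exact Abelianization.commutator_subset_ker Φ hx
  have hE : ∀ x ∈ siegelGroup P'.QW, Φ (E x) = 1 := fun x hx =>
    hS _ (P.extend_mem (P'.extend_mem hx))
  have hline : ∀ c : Fˣ, Φ (E (P''.lineRefl c)) = (Multiplicative.ofAdd 1, sqClass c.ne_zero) := by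
    intro c
    have hq : P'.QW (P''.f + (c : F) • P''.e) ≠ 0 := by rw [P''.quad_line]; exact c.ne_zero
    have e : E (P''.lineRefl c) =
        ⟨reflEquiv Q ((P''.f + (c : F) • P''.e : P'.W) : P.W) hq, reflEquiv_mem Q _ _⟩ := by
      change P.extend (P'.extend _) = _
      exact (congrArg P.extend (P'.extend_refl _ hq)).trans (P.extend_refl _ hq)
    rw [e]
    refine (reflHom_refl Q hQ _ hq).trans (Prod.ext rfl ?_)
    exact congrArg (sqProj F) (Units.ext (P''.quad_line c))
  obtain ⟨s, hs, h⟩ := P''.isom_cases (P'.sep_W hQW) hv hex g₂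
  have hg1 : Φ (E g₂) = 1 := hS _ hg
  rcases h with rfl | ⟨c, rfl⟩ | ⟨a, rfl⟩
  · exact ⟨g₂, hs, rfl⟩
  · exfalso
    rw [map_mul, map_mul, hE s hs, mul_one, hline] at hg1
    have h := congrArg Prod.fst hg1
    exact absurd (show Multiplicative.ofAdd (1 : ZMod 2) = 1 from h) (by decide)
  · rw [map_mul, map_mul, hE s hs, mul_one] at hg1
    rw [show a = a * 1⁻¹ by simp, ← P''.lineRefl_mul, map_mul, map_mul, hline, hline,
      Prod.ext_iff] at hg1
    have hsq : sqClass a.ne_zero = 1 := by
      have h1 : sqClass (one_ne_zero : (1 : F) ≠ 0) = 1 := by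
        simp [sqClass]
      have := hg1.2
      simpa [h1] using this
    rw [sqClass, Units.mk0_val] at hsq
    obtain ⟨d, hd⟩ := (QuotientGroup.eq_one_iff a).1 hsq
    rw [powMonoidHom_apply] at hd
    subst hd
    exact ⟨_, mul_mem (P''.torus_sq_mem hv d) hs, rfl⟩

omit [Finite F] [FiniteDimensional F V] in
/-- The group of Siegel transformations has no non-trivial abelian image, given an element scaling
the point without fixing anything on the complement. -/
theorem hom_trivial (hQ : ∀ x, (∀ y, polar Q x y = 0) → x = 0) {v : P.W} (hv : Q (v : V) ≠ 0)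
    [Finite P.W] {κ : F} (hκ : κ ≠ 0) (t : ↥(siegelGroup Q)) (hte : t.1.1 P.e = κ • P.e)
    (htw : ∀ w : P.W, κ • P.pr (t.1.1 w) = w → w = 0)
    {A : Type*} [CommGroup A] (φ : ↥(siegelGroup Q) →* A) : φ = 1 := by
  have hrad : ∀ w, φ (P.rad w) = 1 := by
    let L : P.W →ₗ[F] P.W :=
      κ • (P.pr.comp ((t.1.1 : V →ₗ[F] V).comp P.W.subtype)) - LinearMap.id
    have hinj : Function.Injective L := by
      refine (injective_iff_map_eq_zero L).2 fun w hw => htw w ?_
      simpa [L, sub_eq_zero] using hw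
    intro w
    obtain ⟨u, rfl⟩ := (Finite.injective_iff_surjective.1 hinj) w
    have h1 := congrArg φ (P.conj_rad hte hκ u)
    rw [map_mul, map_mul, map_inv, mul_inv_cancel_comm] at h1
    have e : L u = κ • P.pr (t.1.1 u) - u := rfl
    have h3 : P.rad (κ • P.pr (t.1.1 u)) = P.rad (L u) * P.rad u := by
      rw [← AddChar.map_add_eq_mul, e, sub_add_cancel]
    rw [h3, map_mul] at h1
    exact (right_eq_mul.1 h1)
  have hall : siegelGroup Q ≤ (φ.ker.map (siegelGroup Q).subtype) := by
    refine (Subgroup.closure_le _).2 ?_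
    rintro _ ⟨⟨x, w⟩, rfl⟩
    refine ⟨⟨siegel Q x w, siegel_mem Q x w⟩, MonoidHom.mem_ker.2 ?_, rfl⟩
    by_cases hc : Q x = 0 ∧ polar Q x w = 0 ∧ x ≠ 0
    swap
    · have h1 : siegel Q x w = 1 := by
        by_cases hd : Q x = 0 ∧ polar Q x w = 0
        · have hx0 : x = 0 := by_contra fun h => hc ⟨hd.1, hd.2, h⟩
          exact quadIsoms_ext Q fun z => by rw [siegel_apply Q hd.1 hd.2]; simp [hx0]
        · exact siegel_of_not Q hd
      exact (congrArg φ (Subtype.ext h1)).trans (map_one φ)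
    obtain ⟨hx, hw, hx0⟩ := hc
    obtain ⟨g, hg, a, ha, hga⟩ := P.siegel_to_e hQ hv hx hx0
    have hp : polar Q P.e (g.1 w) = 0 := by
      have h := polar_quadIsom g.2 x w
      rw [hga, QuadraticMap.polar_smul_left, hw, smul_eq_mul] at h
      exact (mul_eq_zero.1 h).resolve_left ha
    have e : (⟨g, hg⟩ : ↥(siegelGroup Q)) * ⟨siegel Q x w, siegel_mem Q x w⟩ * ⟨g, hg⟩⁻¹ =
        P.rad (a • P.pr (g.1 w)) := by
      refine Subtype.ext ?_
      change g * siegel Q x w * g⁻¹ = siegel Q P.e ((a • P.pr (g.1 w) : P.W) : V)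
      rw [siegel_conj, hga, siegel_smul Q P.he hp, siegel_e_pr P
        (by rw [QuadraticMap.polar_smul_right, hp, smul_zero]), map_smul]
    have h2 := congrArg φ e
    rwa [hrad, map_mul, map_mul, map_inv, mul_inv_cancel_comm] at h2
  refine MonoidHom.ext fun g => ?_
  obtain ⟨g', hg', e⟩ := hall g.2
  rw [← Subtype.ext e, MonoidHom.one_apply]
  exact MonoidHom.mem_ker.1 hg'

end Pair

end CfsgLib.Classical.OMinDeg
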