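import Cfsg.Agent.Lib.Classical.OMinDegMain
import Cfsg.Agent.Lib.Classical.OrthOmega
import Cfsg.Agent.Lib.Char.Basic

/-!
# Minimal degree of orthogonal groups: transfer to the standard matrix groups
-/

set_option autoImplicit false

namespace CfsgLib.Classical.OMinDeg

open CfsgLib.Geom CfsgLib.Classical Module
open QuadraticMap (polar)

variable {F : Type*} [Field F] [Finite F] {ι : Type} [Fintype ι] [DecidableEq ι]

/-- An irreducible representation of `Cfsg.Omega` seen on the group generated by Siegel elements. -/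
theorem exists_transfer (Q : QuadraticForm F (ι → F))
    (hQ : ∀ x, (∀ y, polar Q x y = 0) → x = 0) (h5 : 5 ≤ finrank F (ι → F))
    {f : (ι → F) → F} (hf : ∀ v, Q v = f v) {k : ℕ}
    (ρ : Representation ℂ (Cfsg.Omega F f) (Fin k → ℂ)) (hirr : ρ.IsIrreducible) :
    ∃ ρ' : Representation ℂ ↥(siegelGroup Q) (Fin k → ℂ), ρ'.IsIrreducible := by
  obtain rfl : (⇑Q) = f := funext hf
  have e : ↥(siegelGroup Q) ≃* ↥(Cfsg.Omega F (⇑Q)) :=
    (MulEquiv.subgroupCongr (commutator_eq_siegelGroup Q hQ h5).symm).trans (omegaEquiv Q)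
  haveI := hirr
  exact ⟨ρ.comp e.toMonoidHom, CfsgLib.Char.isIrreducible_comp_surjective ρ e.toMonoidHom e.surjective⟩

omit [Fintype ι] [DecidableEq ι] in
theorem finite_siegelGroup [Finite ι] (Q : QuadraticForm F (ι → F)) : Finite ↥(siegelGroup Q) := by
  have : Finite ((ι → F) ≃ₗ[F] (ι → F)) := Finite.of_injective _ DFunLike.coe_injective
  have : Finite (quadIsoms Q) := Subtype.finite
  infer_instance

theorem div_le_of_real {N D k : ℕ} (h : (N : ℝ) ≤ (k : ℝ) * (D : ℝ)) : N / D ≤ k := by
  refine Nat.div_le_of_le_mul ?_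
  rw [mul_comm]
  exact_mod_cast h

end CfsgLib.Classical.OMinDeg
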