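import Cfsg.Agent.Lib.Classical.OMinDegFlip

/-!
# The singular vectors relative to a pair; common eigenvectors of a cyclic family
-/

set_option autoImplicit false

namespace CfsgLib.Classical.OMinDeg

open CfsgLib.Geom CfsgLib.Classical Module
open QuadraticMap (polar)

variable {F V : Type*} [Field F] [AddCommGroup V] [Module F V] {Q : QuadraticForm F V}
variable {E : Type*} [AddCommGroup E] [Module ℂ E] [FiniteDimensional ℂ E]

omit [FiniteDimensional ℂ E] in
/-- A cyclic family of operators on a space has a common eigenvector. -/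
theorem exists_eigen_family [FiniteDimensional ℂ E] {A : Type*} [CommGroup A] [IsCyclic A]
    (D : A →* Module.End ℂ E) [Nontrivial E] :
    ∃ v ≠ 0, ∀ a, ∃ c : ℂ, D a v = c • v := by
  obtain ⟨g, hg⟩ := IsCyclic.exists_generator (α := A)
  obtain ⟨c, hc⟩ := Module.End.exists_eigenvalue (D g)
  obtain ⟨v, hv, hv0⟩ := hc.exists_hasEigenvector
  refine ⟨v, hv0, fun a => ?_⟩
  have hgv : D g v = c • v := Module.End.mem_eigenspace_iff.1 hv
  have hc0 : c ≠ 0 := fun h => hv0 (by
    have h1 := congrArg (D g⁻¹) hgv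
    rw [h, zero_smul, map_zero, ← Module.End.mul_apply, ← map_mul, inv_mul_cancel, map_one] at h1
    exact h1)
  obtain ⟨k, rfl⟩ := hg a
  induction k with
  | zero => exact ⟨1, by simp⟩
  | succ i hi =>
    obtain ⟨d, hd⟩ := hi
    refine ⟨d * c, ?_⟩
    simp only [] at hd ⊢
    rw [zpow_add_one, map_mul, Module.End.mul_apply, hgv, map_smul, hd, smul_smul, mul_comm]
  | pred i hi =>
    obtain ⟨d, hd⟩ := hi
    refine ⟨d / c, ?_⟩
    simp only [] at hd ⊢
    have e : D g⁻¹ v = c⁻¹ • v := by
      have h1 := congrArg (D g⁻¹) hgv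
      rw [← Module.End.mul_apply, ← map_mul, inv_mul_cancel, map_one, map_smul,
        Module.End.one_apply] at h1
      rw [eq_inv_smul_iff₀ hc0]; exact h1.symm
    rw [zpow_sub_one, map_mul, Module.End.mul_apply, e, map_smul, hd, smul_smul, div_eq_inv_mul]

namespace Pair

variable (P : Pair Q)

/-- The singular non-zero vectors, by their position relative to the pair. -/
noncomputable def singParam : (Fˣ × P.W) ⊕ (Fˣ ⊕ (F × {w : P.W // w ≠ 0 ∧ Q (w : V) = 0})) →
    {x : V // x ≠ 0 ∧ Q x = 0}
  | .inl (b, w) => ⟨(b : F) • (P.rad w).1.1 P.f,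
      smul_ne_zero b.ne_zero fun h => P.f_ne ((P.rad w).1.1.injective (h.trans (map_zero _).symm)),
      by rw [quad_smul, mem_quadIsoms.1 (P.rad w).1.2, P.hf, mul_zero]⟩
  | .inr (.inl a) => ⟨(a : F) • P.e, smul_ne_zero a.ne_zero P.e_ne,
      by rw [quad_smul, P.he, mul_zero]⟩
  | .inr (.inr (a, w)) => ⟨a • P.e + (w.1 : V), fun h => w.2.1 (by
        have := congrArg (fun z => P.pr z) h
        have he : P.pr P.e = 0 := Subtype.ext (by
          rw [P.coe_pr, P.hfe, polar_self_of_singular Q P.he]; simp)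
        simpa [map_add, map_smul, P.pr_W, he] using this), by
        rw [QuadraticMap.map_add (Q : QuadraticMap F V F), quad_smul, P.he, w.2.2,
          QuadraticMap.polar_smul_left, P.W_e]; simp⟩

theorem singParam_bijective : Function.Bijective P.singParam := by
  have hc3 : ∀ p, P.coords (P.singParam p).1 = match p with
      | .inl (b, w) => (-(b : F) * Q (w : V), (b : F), (b : F) • w)
      | .inr (.inl a) => ((a : F), 0, 0)
      | .inr (.inr (a, w)) => (a, 0, w.1) := by
    intro p
    refine (LinearEquiv.eq_symm_apply _).1 ?_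
    rcases p with ⟨b, w⟩ | a | ⟨a, w⟩ <;> rw [P.coords_symm] <;> dsimp only [singParam]
    · rw [P.rad_f, Submodule.coe_smul]; module
    · simp
    · simp
  refine ⟨fun p p' h => ?_, fun x => ?_⟩
  · have h' := congrArg (fun z : {x : V // x ≠ 0 ∧ Q x = 0} => P.coords z.1) h
    simp only [hc3] at h'
    rcases p with ⟨b, w⟩ | a | ⟨a, w⟩ <;> rcases p' with ⟨b', w'⟩ | a' | ⟨a', w'⟩ <;>
      simp only [Prod.mk.injEq] at h'
    · obtain ⟨-, hb, hw⟩ := h'
      obtain rfl := Units.ext hb
      rw [smul_right_injective _ b.ne_zero hw]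
    · exact absurd h'.2.1 b.ne_zero
    · exact absurd h'.2.1 b.ne_zero
    · exact absurd h'.2.1.symm b'.ne_zero
    · rw [Units.ext h'.1]
    · exact absurd h'.2.2.symm w'.2.1
    · exact absurd h'.2.1.symm b'.ne_zero
    · exact absurd h'.2.2 w.2.1
    · rw [h'.1, Subtype.ext h'.2.2]
  · have hq := P.quad_coords x.1
    rw [x.2.2, P.QW_apply] at hq
    by_cases hb : polar Q P.e x.1 = 0
    · rw [hb, mul_zero, zero_add] at hq
      by_cases hw : P.pr x.1 = 0
      · have hs := P.split x.1
        rw [hb, hw, zero_smul, ZeroMemClass.coe_zero, add_zero, add_zero] at hs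
        have ha : polar Q P.f x.1 ≠ 0 := fun h => x.2.1 (by rw [hs, h, zero_smul])
        exact ⟨.inr (.inl (Units.mk0 _ ha)), Subtype.ext hs.symm⟩
      · refine ⟨.inr (.inr (polar Q P.f x.1, ⟨P.pr x.1, hw, hq.symm⟩)), Subtype.ext ?_⟩
        have hs := P.split x.1
        rw [hb, zero_smul, add_zero] at hs
        exact hs.symm
    · refine ⟨.inl (Units.mk0 _ hb, (polar Q P.e x.1)⁻¹ • P.pr x.1), Subtype.ext ?_⟩
      refine P.coords.injective ?_
      refine (hc3 (.inl (Units.mk0 _ hb, (polar Q P.e x.1)⁻¹ • P.pr x.1))).trans ?_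
      change _ = (polar Q P.f x.1, polar Q P.e x.1, P.pr x.1)
      simp only [Units.val_mk0, Prod.mk.injEq, smul_inv_smul₀ hb, true_and, and_true,
        Submodule.coe_smul, quad_smul]
      field_simp
      linear_combination hq

end Pair

end CfsgLib.Classical.OMinDeg
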