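import Mathlib

/-!
# Inequalities for the minimal index of the orthogonal groups
-/

set_option autoImplicit false
set_option linter.unusedVariables false

namespace CfsgLib.Classical.OMinIdx.Num

theorem dom {a b q z : ℕ} (h : a ≤ b * (q * q)) (hz : q * q ≤ z) : a * z ≤ b * (z * z) := by
  calc a * z ≤ b * (q * q) * z := Nat.mul_le_mul_right z h
    _ ≤ b * z * z := Nat.mul_le_mul_right z (Nat.mul_le_mul_left b hz)
    _ = b * (z * z) := mul_assoc _ _ _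

theorem sq16 (r : ℕ) : 16 ≤ (r + 4) * (r + 4) := by nlinarith

theorem sq25 (r : ℕ) : 25 ≤ (r + 5) * (r + 5) := by nlinarith

theorem one_le_of_sq {q z : ℕ} (hz : (q + 1) * (q + 1) ≤ z) : 1 ≤ z :=
  le_trans (Nat.mul_pos (Nat.succ_pos q) (Nat.succ_pos q)) hz

section Plus

variable {r z T n₀ n n' : ℕ} (hz : (r + 4) * (r + 4) ≤ z)
  (hT : (r + 3) * T + 1 = (r + 4) * ((r + 4) * z) ^ 2 + (r + 3) * ((r + 4) * z))
  (hn₀ : n₀ + 1 = (r + 4) * z ^ 2 + (r + 3) * z) (hn : n + z = (r + 4) * z ^ 2)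
  (hn' : n' + z = (r + 4) * z ^ 2)
include hz hT

theorem plus_eq (hn₀ : n₀ + 1 = (r + 4) * z ^ 2 + (r + 3) * z) :
    (r + 3) * T = (r + 3) * ((r + 4) ^ 2 * z ^ 2) + (r + 4) * n₀ + (r + 3) := by
  have h := congrArg ((r + 4) * ·) hn₀
  linarith

theorem plus_pos (hn₀ : n₀ + 1 = (r + 4) * z ^ 2 + (r + 3) * z) : 0 < n₀ := by
  have h1 : 1 ≤ z := one_le_of_sq (q := r + 3) hz
  have h2 : 1 * 1 ≤ z * z := Nat.mul_le_mul h1 h1
  nlinarith

theorem plus_two : T ≤ 2 * ((r + 4) ^ 2 * z ^ 2) := by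
  refine Nat.le_of_mul_le_mul_left ?_ (by omega : 0 < r + 3)
  have h := dom (a := (r + 3) * (r + 4)) (b := (r + 2) * ((r + 4) * (r + 4))) (le_trans (by nlinarith) (Nat.mul_le_mul_left _ (sq16 r))) hz
  linarith

theorem plus_regular (hn : n + z = (r + 4) * z ^ 2) : 2 * T ≤ 2 * ((r + 4) ^ 2 * z ^ 2) + 3 * n := by
  refine Nat.le_of_mul_le_mul_left ?_ (by omega : 0 < r + 3)
  have h := dom (a := (r + 3) * (2 * (r + 4) + 3)) (b := (r + 4) * (r + 1)) (le_trans (by nlinarith) (Nat.mul_le_mul_left _ (sq16 r))) hz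
  have h' := congrArg ((r + 3) * ·) hn
  linarith

theorem plus_all : T + 2 ≤ 2 * ((r + 4) ^ 2 * z ^ 2) := by
  refine Nat.le_of_mul_le_mul_left ?_ (by omega : 0 < r + 3)
  have h := dom (a := 2 * (r + 3) * (r + 4)) (b := (r + 2) * ((r + 4) * (r + 4))) (le_trans (by nlinarith) (Nat.mul_le_mul_left _ (sq16 r))) hz
  have h1 : 1 ≤ z := one_le_of_sq (q := r + 3) hz
  have h2 := Nat.mul_le_mul_left ((r + 3) * (r + 4)) h1
  nlinarith

theorem plus_classes (hn : n + z = (r + 4) * z ^ 2) (hn' : n' + z = (r + 4) * z ^ 2) :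
    T ≤ (r + 4) * (n + n') := by
  refine Nat.le_of_mul_le_mul_left ?_ (by omega : 0 < r + 3)
  have h := dom (a := 3 * (r + 3) * (r + 4)) (b := (r + 2) * ((r + 4) * (r + 4))) (le_trans (by nlinarith) (Nat.mul_le_mul_left _ (sq16 r))) hz
  have h1 := congrArg ((r + 3) * (r + 4) * ·) hn
  have h2 := congrArg ((r + 3) * (r + 4) * ·) hn'
  linarith

theorem plus_mixed (hn₀ : n₀ + 1 = (r + 4) * z ^ 2 + (r + 3) * z) (hn : n + z = (r + 4) * z ^ 2) :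
    T ≤ (r + 4) * n + 2 * n₀ := by
  refine Nat.le_of_mul_le_mul_left ?_ (by omega : 0 < r + 3)
  have h := dom (a := 2 * (r + 3) * (r + 4)) (b := (r + 4) * (r + 2)) (le_trans (by nlinarith) (Nat.mul_le_mul_left _ (sq16 r))) hz
  have h1 : 1 ≤ z := one_le_of_sq (q := r + 3) hz
  have h2 := Nat.mul_le_mul_left ((r + 3) * (r + 3)) h1
  have e1 := congrArg ((r + 3) * (r + 4) * ·) hn
  have e2 := congrArg (2 * (r + 3) * ·) hn₀
  nlinarith

theorem plus_four (hn : n + z = (r + 4) * z ^ 2) : 3 * (r + 4) * T ≤ 2 * (z * z) * n := by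
  have h1 : 1 ≤ z := one_le_of_sq (q := r + 3) hz
  have hA := plus_two hz hT
  have hzz := Nat.mul_le_mul_left z h1
  have hN : (r + 3) * (z * z) ≤ n := by linarith
  have h4 : 6 ≤ 2 * (r + 3) * (r + 4) := by nlinarith
  have h5 : 6 * ((r + 4) * (r + 4) * (r + 4)) ≤
      2 * (r + 3) * ((r + 4) * (r + 4) * ((r + 4) * (r + 4))) := by
    calc 6 * ((r + 4) * (r + 4) * (r + 4))
        ≤ 2 * (r + 3) * (r + 4) * ((r + 4) * (r + 4) * (r + 4)) := Nat.mul_le_mul_right _ h4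
      _ = _ := by ring
  calc 3 * (r + 4) * T ≤ 3 * (r + 4) * (2 * ((r + 4) ^ 2 * z ^ 2)) := Nat.mul_le_mul_left _ hA
    _ = 6 * ((r + 4) * (r + 4) * (r + 4)) * (z * z) := by ring
    _ ≤ 2 * (r + 3) * ((r + 4) * (r + 4) * ((r + 4) * (r + 4))) * (z * z) := Nat.mul_le_mul_right _ h5
    _ ≤ 2 * (r + 3) * (z * z) * (z * z) :=
        Nat.mul_le_mul_right _ (Nat.mul_le_mul_left _ (Nat.mul_le_mul hz hz))
    _ = 2 * (z * z) * ((r + 3) * (z * z)) := by ring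
    _ ≤ _ := Nat.mul_le_mul_left _ hN

theorem plus_singular (hn₀ : n₀ + 1 = (r + 4) * z ^ 2 + (r + 3) * z) {Z : ℕ}
    (hZ : (r + 4) * (r + 4) ≤ Z) : T ≤ (Z + 1) * n₀ := by
  refine le_trans ?_ (Nat.mul_le_mul_right n₀ (Nat.add_le_add_right hZ 1))
  refine Nat.le_of_mul_le_mul_left ?_ (by omega : 0 < r + 3)
  obtain ⟨q, hq⟩ : ∃ q, q = r + 4 := ⟨_, rfl⟩
  have ha : (r + 3) * (r + 4) + (r + 3) * ((r + 4) * (r + 4) + 1) ≤
      ((r + 2) * ((r + 4) * (r + 4) * (r + 4))) * ((r + 4) * (r + 4)) := by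
    have h1 : (r + 3) * (r + 4) + (r + 3) * ((r + 4) * (r + 4) + 1) ≤ (r + 4) * ((r + 4) * (r + 4)) * 3 := by
      nlinarith
    have h2 : 3 ≤ (r + 2) * ((r + 4) * (r + 4)) := by nlinarith
    calc _ ≤ _ := h1
      _ ≤ (r + 4) * ((r + 4) * (r + 4)) * ((r + 2) * ((r + 4) * (r + 4))) := Nat.mul_le_mul_left _ h2
      _ = _ := by ring
  have h := dom ha hz
  have h1 : 1 ≤ z := one_le_of_sq (q := r + 3) hz
  have h2 := Nat.mul_le_mul_left ((r + 3) * ((r + 4) * (r + 4) + 1)) h1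
  have e := congrArg ((r + 3) * ((r + 4) * (r + 4) + 1) * ·) hn₀
  nlinarith

theorem plus_extreme (hn₀ : n₀ + 1 = (r + 4) * z ^ 2 + (r + 3) * z) (hn : n + z = (r + 4) * z ^ 2)
    (hz' : z = (r + 4) ^ 2) :
    (r + 5) * n₀ = ((r + 4) ^ 3 - 1) * ((r + 5) * ((r + 4) ^ 2 + 1)) ∧
    T = (r + 4) ^ 3 * ((r + 5) * ((r + 4) ^ 2 + 1)) + (r + 5) * ((r + 4) ^ 2 + 1) ∧
    (r + 5) * ((r + 4) ^ 2 + 1) ≤ n₀ ∧ (r + 5) * ((r + 4) ^ 2 + 1) ≤ n ∧
    (r + 5) * ((r + 4) ^ 2 + 1) * ((r + 5) * ((r + 4) ^ 2 + 1)) <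
      4 * ((r + 4) ^ 3 * ((r + 5) * ((r + 4) ^ 2 + 1))) := by
  subst hz'
  obtain ⟨e, he⟩ : ∃ e, (r + 4) ^ 3 = e + 1 :=
    ⟨(r + 4) ^ 3 - 1, (Nat.sub_add_cancel (Nat.one_le_pow _ _ (by omega))).symm⟩
  have h1 : n₀ = e * ((r + 4) ^ 2 + 1) := by
    have := congrArg (· * (r + 4) ^ 2) he
    linarith
  have hM : (r + 5) * ((r + 4) ^ 2 + 1) + (r + 4) ^ 2 ≤ (r + 4) ^ 5 := by
    have h3 : (r + 5) * ((r + 4) ^ 2 + 1) + (r + 4) ^ 2 ≤ 3 * (r + 4) ^ 3 := by nlinarith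
    exact le_trans h3 (le_trans (Nat.mul_le_mul_right _ (by nlinarith : 3 ≤ (r + 4) ^ 2)) (le_of_eq (by ring)))
  refine ⟨?_, ?_, ?_, ?_, ?_⟩
  · rw [he, Nat.add_sub_cancel, h1]; ring
  · refine Nat.eq_of_mul_eq_mul_left (by omega : 0 < r + 3) ?_
    linarith
  · rw [h1]
    exact Nat.mul_le_mul_right _ (by nlinarith)
  · linarith
  · rw [← mul_assoc 4]
    exact Nat.mul_lt_mul_of_pos_right (by nlinarith) (by positivity)

end Plus

section Minus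

variable {r z T n₀ n n' : ℕ} (hz : (r + 2) * (r + 2) ≤ z)
  (hT : (r + 1) * T + 1 + (r + 1) * ((r + 2) * z) = (r + 2) * ((r + 2) * z) ^ 2)
include hz hT

theorem minus_eq (hn₀ : n₀ + 1 + (r + 1) * z = (r + 2) * z ^ 2) :
    (r + 1) * T = (r + 1) * ((r + 2) ^ 2 * z ^ 2) + (r + 2) * n₀ + (r + 1) := by
  have h := congrArg ((r + 2) * ·) hn₀
  linarith

theorem minus_pos (hn₀ : n₀ + 1 + (r + 1) * z = (r + 2) * z ^ 2) : 0 < n₀ := by
  have h1 : 2 ≤ z := le_trans (by nlinarith) hz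
  nlinarith [Nat.mul_le_mul_left ((r + 2) * z) h1]

theorem minus_two : T ≤ 2 * ((r + 2) ^ 2 * z ^ 2) := by
  refine Nat.le_of_mul_le_mul_left ?_ (by omega : 0 < r + 1)
  have h := Nat.zero_le (r * ((r + 2) * z) ^ 2)
  have h' := Nat.zero_le ((r + 1) * ((r + 2) * z))
  linarith

theorem minus_regular_two (hn : n = (r + 2) * z ^ 2 + z) (hr : r = 0) :
    T ≤ (r + 2) ^ 2 * z ^ 2 + 2 * n := by
  subst hr
  linarith

theorem minus_regular (hn : n = (r + 2) * z ^ 2 + z) (hr : 1 ≤ r) :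
    2 * T ≤ 2 * ((r + 2) ^ 2 * z ^ 2) + 3 * n := by
  refine Nat.le_of_mul_le_mul_left ?_ (by omega : 0 < r + 1)
  have h : 2 * (r + 2) ≤ 3 * (r + 1) := by omega
  have h' := Nat.mul_le_mul_right ((r + 2) * z ^ 2) h
  have h₂ := Nat.zero_le ((r + 1) * z)
  have h₃ := Nat.zero_le ((r + 1) * ((r + 2) * z))
  subst hn
  linarith

theorem minus_all : T + 2 ≤ 2 * ((r + 2) ^ 2 * z ^ 2) := by
  refine Nat.le_of_mul_le_mul_left ?_ (by omega : 0 < r + 1)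
  have h1 : 2 * 1 ≤ (r + 2) * z := Nat.mul_le_mul (by omega) (le_trans (by nlinarith) hz)
  have h2 := Nat.mul_le_mul_left (r + 1) h1
  have h := Nat.zero_le (r * ((r + 2) * z) ^ 2)
  have h' := Nat.zero_le ((r + 1) * ((r + 2) * z))
  linarith

theorem minus_classes (hn : n = (r + 2) * z ^ 2 + z) (hn' : n' = (r + 2) * z ^ 2 + z) :
    T ≤ (r + 2) * (n + n') := by
  have h := minus_two hz hT
  subst hn hn'
  linarith [Nat.zero_le ((r + 2) * z)]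

theorem minus_mixed (hn₀ : n₀ + 1 + (r + 1) * z = (r + 2) * z ^ 2) (hn : n = (r + 2) * z ^ 2 + z) :
    T ≤ (r + 2) * n + 2 * n₀ := by
  refine Nat.le_of_mul_le_mul_left ?_ (by omega : 0 < r + 1)
  have h1 : 1 ≤ z := one_le_of_sq (q := r + 1) hz
  have h2 := Nat.mul_le_mul_left (r + 1) h1
  have h3 := Nat.zero_le (r * (r + 2) * z ^ 2)
  have e := congrArg ((r + 1) * ·) hn₀
  subst hn
  linarith

theorem minus_four (hn : n = (r + 2) * z ^ 2 + z) : 3 * (r + 2) * T ≤ 2 * (z * z) * n := by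
  have hA := minus_two hz hT
  have h4 : 3 ≤ (r + 2) * (r + 2) := by nlinarith
  have h5 : 3 * ((r + 2) * (r + 2)) ≤ z * z :=
    le_trans (Nat.mul_le_mul_right _ h4) (Nat.mul_le_mul hz hz)
  subst hn
  calc 3 * (r + 2) * T ≤ 3 * (r + 2) * (2 * ((r + 2) ^ 2 * z ^ 2)) := Nat.mul_le_mul_left _ hA
    _ = 2 * (r + 2) * (z * z) * (3 * ((r + 2) * (r + 2))) := by ring
    _ ≤ 2 * (r + 2) * (z * z) * (z * z) := Nat.mul_le_mul_left _ h5
    _ = 2 * (z * z) * ((r + 2) * z ^ 2) := by ring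
    _ ≤ _ := Nat.mul_le_mul_left _ (Nat.le_add_right _ _)

theorem minus_singular (hn₀ : n₀ + 1 + (r + 1) * z = (r + 2) * z ^ 2) {Z : ℕ}
    (hZ : (r + 2) * (r + 2) ≤ Z) : T ≤ (Z + 1) * n₀ := by
  refine le_trans ?_ (Nat.mul_le_mul_right n₀ (Nat.add_le_add_right hZ 1))
  refine Nat.le_of_mul_le_mul_left ?_ (by omega : 0 < r + 1)
  have h := dom (a := (r + 1) * ((r + 2) * (r + 2) * (r + 2))) (b := (r + 1) * (r + 2))
    (le_of_eq (by ring)) hz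
  have h1 : 1 ≤ z := one_le_of_sq (q := r + 1) hz
  have h2 := Nat.mul_le_mul_left ((r + 1) * ((r + 2) * (r + 2) + 1)) h1
  have h3 := Nat.zero_le (r * ((r + 2) * (r + 2) * (r + 2)) * z ^ 2)
  have e := congrArg ((r + 1) * ((r + 2) * (r + 2) + 1) * ·) hn₀
  linarith

end Minus

section PlusTwo

variable {z B T n₀ n : ℕ} (hz : 4 ≤ z) (hB : B + 2 * z = 8 * z ^ 2) (hT : T + 1 = 8 * z ^ 2 + 2 * z)
include hz hB hT

theorem two_le : B ≤ T := by omega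

theorem two_eq (hn₀ : n₀ + 1 = 2 * z ^ 2 + z) : T = 4 * z ^ 2 + 2 * n₀ + 1 := by omega

theorem two_regular (hn : n + z = 2 * z ^ 2) : B ≤ 4 * z ^ 2 + 2 * n := by omega

theorem two_all : B + 2 ≤ 2 * (4 * z ^ 2) := by omega

theorem two_mixed (hn₀ : n₀ + 1 = 2 * z ^ 2 + z) (hn : n + z = 2 * z ^ 2) :
    B ≤ 2 * n + 2 * n₀ := by omega

theorem two_four (hn : n + z = 2 * z ^ 2) : 3 * 2 * B ≤ 2 * (z * z) * n := by
  obtain ⟨s, rfl⟩ : ∃ s, z = s + 4 := ⟨z - 4, by omega⟩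
  have e := congrArg (2 * ((s + 4) * (s + 4)) * ·) hn
  nlinarith [Nat.zero_le (s ^ 4), Nat.zero_le (s ^ 3), Nat.zero_le (s ^ 2)]

theorem two_singular (hn₀ : n₀ + 1 = 2 * z ^ 2 + z) {Z : ℕ} (hZ : 4 ≤ Z) : B ≤ (Z + 1) * n₀ := by
  refine le_trans ?_ (Nat.mul_le_mul_right n₀ (Nat.add_le_add_right hZ 1))
  omega

end PlusTwo

section Odd

variable {r y T n₀ n n' : ℕ} (hy : (r + 5) * (r + 5) ≤ y) (hT : (r + 4) * T + 1 = ((r + 5) * y) ^ 2)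
include hy hT

theorem odd_eq (hn₀ : n₀ + 1 = y ^ 2) :
    (r + 4) * T = (r + 4) * ((r + 5) * y ^ 2) + (r + 5) * n₀ + (r + 4) := by
  have h := congrArg ((r + 5) * ·) hn₀
  linarith

theorem odd_pos (hn₀ : n₀ + 1 = y ^ 2) : 0 < n₀ := by
  have h1 : 2 ≤ y := le_trans (by nlinarith) hy
  nlinarith [Nat.mul_le_mul h1 h1]

theorem odd_two : T ≤ 2 * ((r + 5) * y ^ 2) := by
  refine Nat.le_of_mul_le_mul_left ?_ (by omega : 0 < r + 4)
  have h := Nat.zero_le ((r + 3) * (r + 5) * y ^ 2)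
  linarith

theorem odd_regular (hn : y ^ 2 ≤ n + y) : 2 * T ≤ 2 * ((r + 5) * y ^ 2) + 3 * n := by
  refine Nat.le_of_mul_le_mul_left ?_ (by omega : 0 < r + 4)
  have h := dom (a := 3 * (r + 4)) (b := r + 2) (le_trans (by nlinarith) (Nat.mul_le_mul_left _ (sq25 r))) hy
  have e := Nat.mul_le_mul_left (3 * (r + 4)) hn
  linarith

theorem odd_all : T + 2 ≤ 2 * ((r + 5) * y ^ 2) := by
  refine Nat.le_of_mul_le_mul_left ?_ (by omega : 0 < r + 4)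
  have h1 : 1 * 1 ≤ y * y :=
    Nat.mul_le_mul (one_le_of_sq (q := r + 4) hy) (one_le_of_sq (q := r + 4) hy)
  have h2 : 2 * (r + 4) ≤ (r + 3) * (r + 5) := by nlinarith
  have h3 := Nat.mul_le_mul h2 h1
  linarith

theorem odd_classes (hn : y ^ 2 ≤ n + y) (hn' : y ^ 2 ≤ n' + y) : T ≤ (r + 5) * (n + n') := by
  refine Nat.le_of_mul_le_mul_left ?_ (by omega : 0 < r + 4)
  have h := dom (a := 2 * (r + 4) * (r + 5)) (b := (r + 3) * (r + 5)) (le_trans (by nlinarith) (Nat.mul_le_mul_left _ (sq25 r))) hy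
  have e := Nat.mul_le_mul_left ((r + 4) * (r + 5)) hn
  have e' := Nat.mul_le_mul_left ((r + 4) * (r + 5)) hn'
  linarith

theorem odd_mixed (hn₀ : n₀ + 1 = y ^ 2) (hn : y ^ 2 ≤ n + y) : T ≤ (r + 5) * n + 2 * n₀ := by
  refine Nat.le_of_mul_le_mul_left ?_ (by omega : 0 < r + 4)
  have h := dom (a := (r + 4) * (r + 5) + 2 * (r + 4)) (b := r + 3) (le_trans (by ring_nf; nlinarith) (Nat.mul_le_mul_left _ (le_refl ((r + 5) * (r + 5))))) hy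
  have h1 := Nat.mul_le_mul_left (2 * (r + 4)) (one_le_of_sq (q := r + 4) hy)
  have e := Nat.mul_le_mul_left ((r + 4) * (r + 5)) hn
  have e' := congrArg (2 * (r + 4) * ·) hn₀
  linarith

theorem odd_singular (hn₀ : n₀ + 1 = y ^ 2) {Z : ℕ} (hZ : (r + 5) * (r + 5) ≤ Z) : T ≤ (Z + 1) * n₀ := by
  refine le_trans ?_ (Nat.mul_le_mul_right n₀ (Nat.add_le_add_right hZ 1))
  refine Nat.le_of_mul_le_mul_left ?_ (by omega : 0 < r + 4)
  have h2y : 2 * 1 ≤ y * y :=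
    Nat.mul_le_mul (le_trans (by nlinarith) hy) (one_le_of_sq (q := r + 4) hy)
  have h3 : (r + 4) * ((r + 5) * (r + 5) + 1) ≤ ((r + 3) * ((r + 5) * (r + 5)) + (r + 4)) * 2 := by
    nlinarith
  have h4 := Nat.mul_le_mul_left ((r + 3) * ((r + 5) * (r + 5)) + (r + 4)) h2y
  have e := congrArg ((r + 4) * ((r + 5) * (r + 5) + 1) * ·) hn₀
  linarith

theorem odd_extreme (hn₀ : n₀ + 1 = y ^ 2) (hn : y ^ 2 ≤ n + y) (hy' : y = (r + 5) ^ 2) :
    (r + 6) * n₀ = ((r + 5) ^ 2 - 1) * ((r + 6) * ((r + 5) ^ 2 + 1)) ∧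
    T = (r + 5) ^ 2 * ((r + 6) * ((r + 5) ^ 2 + 1)) + (r + 6) ∧
    r + 6 ≤ n₀ ∧ r + 6 ≤ n ∧
    (r + 6) * (r + 6) < 4 * ((r + 5) ^ 2 * ((r + 6) * ((r + 5) ^ 2 + 1))) := by
  subst hy'
  obtain ⟨e, he⟩ : ∃ e, (r + 5) ^ 2 = e + 1 :=
    ⟨(r + 5) ^ 2 - 1, (Nat.sub_add_cancel (Nat.one_le_pow _ _ (by omega))).symm⟩
  have h25 : 25 ≤ (r + 5) ^ 2 := by nlinarith
  have hlo : r + 6 ≤ (r + 5) ^ 2 := by nlinarith
  have hbig : 2 * (r + 5) ^ 2 + 1 ≤ ((r + 5) ^ 2) ^ 2 := by nlinarith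
  refine ⟨?_, ?_, ?_, ?_, ?_⟩
  · rw [he, Nat.add_sub_cancel]
    rw [he] at hn₀
    have h1 : n₀ = e * (e + 1 + 1) := by linarith
    rw [h1]; ring
  · refine Nat.eq_of_mul_eq_mul_left (by omega : 0 < r + 4) ?_
    linarith
  · linarith
  · linarith
  · calc (r + 6) * (r + 6) = 1 * (r + 6) * (r + 6) := by ring
      _ ≤ (r + 5) ^ 2 * (r + 6) * ((r + 5) ^ 2 + 1) :=
          Nat.mul_le_mul (Nat.mul_le_mul_right _ (by omega)) (by omega)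
      _ < 4 * ((r + 5) ^ 2 * ((r + 6) * ((r + 5) ^ 2 + 1))) := by
          rw [mul_assoc ((r + 5) ^ 2)]
          have : 0 < (r + 5) ^ 2 * ((r + 6) * ((r + 5) ^ 2 + 1)) := by positivity
          omega

end Odd

section Three

variable {y B T n₀ n n' : ℕ} (hy : 9 ≤ y) (hB : 2 * B + 3 * y = 9 * y ^ 2) (hT : 2 * T + 1 = 9 * y ^ 2)
include hy hB hT

theorem three_le : B ≤ T := by omega

theorem three_eq (hn₀ : n₀ + 1 = y ^ 2) : 2 * T = 2 * (3 * y ^ 2) + 3 * n₀ + 2 := by omega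

theorem three_pos (hn₀ : n₀ + 1 = y ^ 2) : 0 < n₀ := by nlinarith

theorem three_two : B ≤ 2 * (3 * y ^ 2) := by omega

theorem three_regular (hn : y ^ 2 ≤ n + y) : 2 * B ≤ 2 * (3 * y ^ 2) + 3 * n := by omega

theorem three_all : B + 2 ≤ 2 * (3 * y ^ 2) := by
  have := Nat.mul_le_mul hy hy
  nlinarith

theorem three_classes (hn : y ^ 2 ≤ n + y) (hn' : y ^ 2 ≤ n' + y) : B ≤ 3 * (n + n') := by
  have := Nat.mul_le_mul_right y hy
  nlinarith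

theorem three_mixed (hn₀ : n₀ + 1 = y ^ 2) (hn : y ^ 2 ≤ n + y) : B ≤ 3 * n + 2 * n₀ := by
  have := Nat.mul_le_mul_right y hy
  nlinarith

theorem three_singular (hn₀ : n₀ + 1 = y ^ 2) {Z : ℕ} (hZ : 9 ≤ Z) : B ≤ (Z + 1) * n₀ := by
  refine le_trans ?_ (Nat.mul_le_mul_right n₀ (Nat.add_le_add_right hZ 1))
  have := Nat.mul_le_mul_right y hy
  nlinarith

end Three

end CfsgLib.Classical.OMinIdx.Num
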