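import Cfsg.Agent.Lib.Classical.OrthOmega

/-!
# Subgroups of `PΩ` from subgroups of the group of Siegel transformations, and point stabilisers
-/

set_option autoImplicit false
set_option linter.unusedSectionVars false

namespace CfsgLib.Classical.OMinIdx

open CfsgLib.Geom CfsgLib.Classical
open QuadraticMap (polar)
open Projectivization
open scoped LinearAlgebra.Projectivization

section Points

variable {F V : Type*} [Field F] [Finite F] [AddCommGroup V] [Module F V] [FiniteDimensional F V]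
  (Q : QuadraticForm F V) {c : F} (hc : ∀ t : F, t ≠ 0 → t * t * c = c)
include hc

theorem rep_value_iff (v : V) (hv : v ≠ 0) : Q (mk F v hv).rep = c ↔ Q v = c := by
  obtain ⟨a, ha⟩ := exists_smul_eq_mk_rep F v hv
  rw [← ha, Units.smul_def, quad_smul]
  refine ⟨fun h => ?_, fun h => by rw [h, hc _ a.ne_zero]⟩
  have h0 := hc _ (a⁻¹).ne_zero
  nth_rewrite 1 [← h] at h0
  rw [← h0, Units.val_inv_eq_inv_val]
  field_simp

theorem card_points_mul :
    Nat.card {p : ℙ F V // Q p.rep = c} * (Nat.card F - 1) = Nat.card {v : V // v ≠ 0 ∧ Q v = c} := by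
  classical
  haveI := Fintype.ofFinite F
  rw [Nat.card_eq_fintype_card (α := F), ← Fintype.card_units, ← Nat.card_eq_fintype_card,
    ← Nat.card_prod]
  refine Nat.card_congr (Equiv.ofBijective
    (fun x => ⟨(x.2 : F) • x.1.1.rep, smul_ne_zero x.2.ne_zero x.1.1.rep_nonzero,
      by rw [quad_smul, x.1.2, hc _ x.2.ne_zero]⟩) ⟨fun x y e => ?_, fun v => ?_⟩)
  · have e' : (x.2 : F) • x.1.1.rep = (y.2 : F) • y.1.1.rep := congrArg Subtype.val e
    have hp : x.1.1 = y.1.1 := by
      rw [← mk_rep x.1.1, ← mk_rep y.1.1, mk_eq_mk_iff']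
      exact ⟨(x.2 : F)⁻¹ * (y.2 : F), by rw [mul_smul, ← e', inv_smul_smul₀ x.2.ne_zero]⟩
    rw [hp] at e'
    exact Prod.ext (Subtype.ext hp) (Units.ext (smul_left_injective F y.1.1.rep_nonzero e'))
  · obtain ⟨a, ha⟩ := exists_smul_eq_mk_rep F v.1 v.2.1
    exact ⟨(⟨mk F v.1 v.2.1, (rep_value_iff Q hc _ _).2 v.2.2⟩, a⁻¹),
      Subtype.ext (by simp [← ha, Units.smul_def, smul_smul])⟩

end Points

variable {F : Type*} [Field F] [Finite F] {ι : Type} [Fintype ι] [DecidableEq ι]
  (Q : QuadraticForm F (ι → F)) (hQ : ∀ x, (∀ y, polar Q x y = 0) → x = 0)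
  (h5 : 5 ≤ Module.finrank F (ι → F))
include hQ h5

/-- A proper subgroup of `PΩ` gives one of the same index of the Siegel group. -/
theorem exists_subgroup {H : Subgroup (Cfsg.POmega F (⇑Q))} (hH : H ≠ ⊤) :
    ∃ K : Subgroup ↥(siegelGroup Q), K ≠ ⊤ ∧ K.index = H.index := by
  let f : ↥(siegelGroup Q) →* Cfsg.POmega F (⇑Q) :=
    (QuotientGroup.mk' (Subgroup.center ↥(Cfsg.Omega F (⇑Q)))).comp
      ((MulEquiv.subgroupCongr (commutator_eq_siegelGroup Q hQ h5).symm).trans (omegaEquiv Q)).toMonoidHom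
  have hf : Function.Surjective f :=
    (QuotientGroup.mk'_surjective _).comp (MulEquiv.surjective _)
  refine ⟨H.comap f, fun h => hH ?_, Subgroup.index_comap_of_surjective H hf⟩
  rw [← Subgroup.index_eq_one] at h ⊢
  rwa [Subgroup.index_comap_of_surjective H hf] at h

/-- The stabiliser of a point of given value. -/
theorem exists_index {c : F} (hc : ∀ t : F, t ≠ 0 → t * t * c = c) (v : ι → F) (hv : v ≠ 0)
    (hvc : Q v = c) {B : ℕ} (hB : Nat.card {w : ι → F // w ≠ 0 ∧ Q w = c} = (Nat.card F - 1) * B) :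
    ∃ H : Subgroup (Cfsg.POmega F (⇑Q)), H.index = B := by
  let f : ↥(commutator (quadIsoms Q)) →* Cfsg.POmega F (⇑Q) :=
    (QuotientGroup.mk' (Subgroup.center ↥(Cfsg.Omega F (⇑Q)))).comp (omegaEquiv Q).toMonoidHom
  have hf : Function.Surjective f :=
    (QuotientGroup.mk'_surjective _).comp (MulEquiv.surjective _)
  refine ⟨(MulAction.stabilizer ↥(commutator (quadIsoms Q)) (mk F v hv)).map f, ?_⟩
  rw [Subgroup.index_map_eq _ hf, MulAction.index_stabilizer]
  · have horb : MulAction.orbit ↥(commutator (quadIsoms Q)) (mk F v hv) =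
        {p : ℙ F (ι → F) | Q p.rep = c} := by
      ext p
      induction p using Projectivization.ind with | _ w hw =>
      rw [Set.mem_ofPred_eq, rep_value_iff Q hc]
      constructor
      · rintro ⟨g, hg⟩
        have hg' : mk F (g.1.1 v) (fun h => hv (g.1.1.injective (h.trans (map_zero g.1.1).symm))) =
            mk F w hw := hg
        obtain ⟨a, ha⟩ := (mk_eq_mk_iff' F _ _ _ _).1 hg'
        have ha0 : a ≠ 0 := fun e => hv (g.1.1.injective (by rw [← ha, e, zero_smul, map_zero]))
        have h := mem_quadIsoms.1 g.1.2 v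
        rw [← ha, quad_smul, hvc] at h
        exact mul_left_cancel₀ (mul_ne_zero ha0 ha0) (h.trans (hc a ha0).symm)
      · intro hwc
        obtain ⟨g, hg, hgv⟩ : ∃ g ∈ siegelGroup Q, g.1 v = w := by
          by_cases hc0 : c = 0
          · exact siegel_transitive Q hQ h5 (hvc.trans hc0) (hwc.trans hc0) hv hw
          · exact siegel_transitive_value Q hQ h5 (u := v) (v := w) (hvc.symm ▸ hc0) (hvc.trans hwc.symm)
        refine ⟨⟨g, by rw [commutator_eq_siegelGroup Q hQ h5]; exact hg⟩, ?_⟩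
        simp only [omega_mk_smul, hgv]
    rw [horb, ← Nat.card_coe_set_eq]
    have hq : 1 < Nat.card F := Finite.one_lt_card
    refine Nat.eq_of_mul_eq_mul_right (show 0 < Nat.card F - 1 by omega) ?_
    rw [mul_comm B, ← hB]
    exact card_points_mul Q hc
  · intro g hg
    have hgc : omegaEquiv Q g ∈ Subgroup.center ↥(Cfsg.Omega F (⇑Q)) :=
      (QuotientGroup.eq_one_iff _).1 (MonoidHom.mem_ker.1 hg)
    have hgc' : g ∈ Subgroup.center ↥(commutator (quadIsoms Q)) :=
      Subgroup.mem_center_iff.2 fun k => (omegaEquiv Q).injective (by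
        rw [map_mul, map_mul]; exact Subgroup.mem_center_iff.1 hgc (omegaEquiv Q k))
    obtain ⟨a, ha⟩ := (mem_center_commutator_iff Q hQ h5 g).1 hgc'
    refine MulAction.mem_stabilizer_iff.2 ?_
    rw [omega_mk_smul]
    exact (mk_eq_mk_iff' F _ _ _ _).2 ⟨a, (ha v).symm⟩

end CfsgLib.Classical.OMinIdx
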