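import Cfsg.Agent.Lib.Classical.OMinDegFlip

/-!
# Singular vectors in hyperplanes of a quadratic space of dimension at least five
-/

set_option autoImplicit false
set_option linter.unusedSectionVars false

namespace CfsgLib.Classical.OMinIdx

open CfsgLib.Geom CfsgLib.Classical CfsgLib.Classical.OMinDeg Module
open QuadraticMap (polar)

variable {F V : Type*} [Field F] [Finite F] [AddCommGroup V] [Module F V] [FiniteDimensional F V]
  {Q : QuadraticForm F V} (hQ : ∀ x, (∀ y, polar Q x y = 0) → x = 0)
include hQ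

/-- What is orthogonal to everything orthogonal to three vectors is a combination of them. -/
theorem exists_comb_of_perp {a b c v : V}
    (h : ∀ z, polar Q a z = 0 → polar Q b z = 0 → polar Q c z = 0 → polar Q v z = 0) :
    ∃ r s t : F, v = r • a + s • b + t • c := by
  have hle := mem_span_of_iInf_ker_le_ker
    (L := fun i : Fin 3 => QuadraticMap.polarBilin Q (![a, b, c] i))
    (K := QuadraticMap.polarBilin Q v) fun z hz => by
      simp only [Submodule.mem_iInf, LinearMap.mem_ker] at hz ⊢
      exact h z (hz 0) (hz 1) (hz 2)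
  rw [Submodule.mem_span_range_iff_exists_fun] at hle
  obtain ⟨co, hco⟩ := hle
  refine ⟨co 0, co 1, co 2, sub_eq_zero.1 (hQ _ fun y => ?_)⟩
  have h' := LinearMap.congr_fun hco y
  simp [Fin.sum_univ_three] at h'
  simp [QuadraticMap.polar_sub_left, QuadraticMap.polar_add_left, QuadraticMap.polar_smul_left, ← h']

variable (h5 : 5 ≤ finrank F V)
include h5

/-- A singular pair orthogonal to a given vector and independent of it. -/
theorem exists_perp_pair {u : V} (hu : u ≠ 0) :
    ∃ R : Pair Q, polar Q u R.e = 0 ∧ polar Q u R.f = 0 := by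
  obtain ⟨c, hc, hc0, huc, hind⟩ : ∃ c, Q c = 0 ∧ c ≠ 0 ∧ polar Q u c = 0 ∧
      LinearIndependent F ![c, u] := by
    by_cases hqu : Q u = 0
    · obtain ⟨p, hp⟩ := exists_partner Q hQ hu
      obtain ⟨c, hc, hc0, huc, -, hind⟩ := exists_singular_perp_indep Q hQ h5 hu p
      exact ⟨c, hc, hc0, huc, (hind (by rw [hp]; exact one_ne_zero)).1⟩
    · obtain ⟨c, hc0, huc, -, hc⟩ := exists_perp_singular Q hQ h5 u u
      exact ⟨c, hc, hc0, huc, (LinearIndependent.pair_iff' hc0).2 fun r hr => hqu (by
        rw [← hr, quad_smul, hc, mul_zero])⟩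
  obtain ⟨z, hz1, hz2⟩ := exists_dual_pair Q hQ hind 1 0
  refine ⟨⟨c, z + (-Q z) • c, hc, ?_, ?_⟩, huc, ?_⟩
  · rw [quad_map_add_smul, QuadraticMap.polar_comm _ z c, hz1, hc]; ring
  · rw [QuadraticMap.polar_add_right, hz1, QuadraticMap.polar_smul_right, polar_self_of_singular Q hc,
      smul_zero, add_zero]
  · rw [QuadraticMap.polar_add_right, hz2, QuadraticMap.polar_smul_right, huc, smul_zero, add_zero]

/-- A singular vector orthogonal to `u` but not to a vector off the line of `u`. -/
theorem exists_sing_sep {u v : V} (hu : u ≠ 0) (hv : ∀ t : F, v ≠ t • u) :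
    ∃ a, Q a = 0 ∧ polar Q a u = 0 ∧ polar Q a v ≠ 0 := by
  obtain ⟨R, hue, huf⟩ := exists_perp_pair hQ h5 hu
  by_contra hall
  push Not at hall
  have hev : polar Q R.e v = 0 := hall _ R.he (by rw [QuadraticMap.polar_comm]; exact hue)
  have hfv : polar Q R.f v = 0 := hall _ R.hf (by rw [QuadraticMap.polar_comm]; exact huf)
  obtain ⟨r, s, t, hrst⟩ := exists_comb_of_perp hQ (a := R.e) (b := R.f) (c := u) (v := v)
    fun z hze hzf hzu => by
      have hq : Q (R.f + z + (-Q z) • R.e) = 0 := by
        rw [quad_map_add_smul, QuadraticMap.map_add (Q : QuadraticMap F V F), R.hf, R.he,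
          QuadraticMap.polar_add_left, R.hfe, QuadraticMap.polar_comm _ z R.e, hze, hzf]
        ring
      have h := hall _ hq (by
        rw [QuadraticMap.polar_add_left, QuadraticMap.polar_add_left, QuadraticMap.polar_smul_left,
          QuadraticMap.polar_comm _ R.f u, huf, QuadraticMap.polar_comm _ z u, hzu,
          QuadraticMap.polar_comm _ R.e u, hue]
        simp)
      rw [QuadraticMap.polar_add_left, QuadraticMap.polar_add_left, QuadraticMap.polar_smul_left, hev,
        hfv, smul_zero, add_zero, zero_add] at h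
      rw [QuadraticMap.polar_comm]; exact h
  have hs : s = 0 := by
    rw [hrst] at hev
    simpa [QuadraticMap.polar_add_right, QuadraticMap.polar_smul_right, R.hef,
      polar_self_of_singular Q R.he, QuadraticMap.polar_comm _ R.e u, hue] using hev
  have hr : r = 0 := by
    rw [hrst] at hfv
    simpa [QuadraticMap.polar_add_right, QuadraticMap.polar_smul_right, R.hfe,
      polar_self_of_singular Q R.hf, QuadraticMap.polar_comm _ R.f u, huf] using hfv
  exact hv t (by rw [hrst, hs, hr, zero_smul, zero_smul, zero_add, zero_add])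

/-- Two vectors orthogonal to two given ones with product one. -/
theorem exists_perp_pol_one (a u : V) :
    ∃ b b', polar Q a b = 0 ∧ polar Q u b = 0 ∧ polar Q a b' = 0 ∧ polar Q u b' = 0 ∧
      polar Q b b' = 1 := by
  obtain ⟨T, hT⟩ : ∃ T : V →ₗ[F] F × F,
      T = (QuadraticMap.polarBilin Q a).prod (QuadraticMap.polarBilin Q u) := ⟨_, rfl⟩
  have hT' : ∀ z, z ∈ LinearMap.ker T ↔ polar Q a z = 0 ∧ polar Q u z = 0 := fun z => by
    rw [LinearMap.mem_ker, hT]
    simp
  by_contra hall
  push Not at hall
  have hzero : ∀ b ∈ LinearMap.ker T, ∀ b' ∈ LinearMap.ker T, polar Q b b' = 0 := fun b hb b' hb' => by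
    by_contra h
    refine hall b ((polar Q b b')⁻¹ • b') ((hT' b).1 hb).1 ((hT' b).1 hb).2 ?_ ?_ ?_
    · rw [QuadraticMap.polar_smul_right, ((hT' b').1 hb').1, smul_zero]
    · rw [QuadraticMap.polar_smul_right, ((hT' b').1 hb').2, smul_zero]
    · rw [QuadraticMap.polar_smul_right, smul_eq_mul, inv_mul_cancel₀ h]
  have hle : LinearMap.ker T ≤ Submodule.span F (Set.range ![a, u]) := fun b hb => by
    obtain ⟨r, s, t, h⟩ := exists_comb_of_perp hQ (a := a) (b := u) (c := u) (v := b)
      fun z h1 h2 _ => hzero b hb z ((hT' z).2 ⟨h1, h2⟩)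
    rw [h]
    have ha : a ∈ Submodule.span F (Set.range ![a, u]) := Submodule.subset_span ⟨0, rfl⟩
    have hu : u ∈ Submodule.span F (Set.range ![a, u]) := Submodule.subset_span ⟨1, rfl⟩
    exact add_mem (add_mem (Submodule.smul_mem _ r ha) (Submodule.smul_mem _ s hu))
      (Submodule.smul_mem _ t hu)
  have h1 := Submodule.finrank_mono hle
  have h2 : finrank F (Submodule.span F (Set.range ![a, u])) ≤ 2 := by
    simpa [Set.finrank] using finrank_range_le_card (R := F) ![a, u]
  have h3 := LinearMap.finrank_range_add_finrank_ker T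
  have h4 := Submodule.finrank_le (LinearMap.range T)
  simp at h4
  omega

/-- Another vector of the same value orthogonal to `u`, off its line. -/
theorem exists_same_value {u : V} (hu : u ≠ 0) :
    ∃ u', polar Q u u' = 0 ∧ Q u' = Q u ∧ ∀ t : F, u' ≠ t • u := by
  obtain ⟨R, hue, huf⟩ := exists_perp_pair hQ h5 hu
  refine ⟨R.f + Q u • R.e, ?_, ?_, fun t ht => ?_⟩
  · rw [QuadraticMap.polar_add_right, QuadraticMap.polar_smul_right, hue, huf, smul_zero, add_zero]
  · rw [quad_map_add_smul, R.hf, R.he, R.hfe]; ring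
  · have h := congrArg (fun z => polar Q R.e z) ht
    simp [QuadraticMap.polar_add_right, QuadraticMap.polar_smul_right, R.hef,
      polar_self_of_singular Q R.he, QuadraticMap.polar_comm _ R.e u, hue] at h

end CfsgLib.Classical.OMinIdx
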