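import Cfsg.Agent.Lib.Classical.OMinIdxOrbit
import Cfsg.Agent.Lib.Classical.OMinIdxGeom

/-!
# Annihilators through a vector of small multiplicity are lines or everything
-/

set_option autoImplicit false
set_option linter.unusedSectionVars false

namespace CfsgLib.Classical.OMinIdx

open CfsgLib.Geom CfsgLib.Classical CfsgLib.Classical.OMinDeg Module
open QuadraticMap (polar)

variable {F V : Type*} [Field F] [Finite F] [AddCommGroup V] [Module F V] [FiniteDimensional F V]
  {Q : QuadraticForm F V}

/-- Powers of a Siegel transformation. -/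
theorem siegel_pow {x w : V} (hx : Q x = 0) (hw : polar Q x w = 0) (n : ℕ) :
    siegel Q x w ^ n = siegel Q x (n • w) := by
  induction n with
  | zero => rw [pow_zero, zero_smul, siegel_zero]
  | succ n ih =>
    rw [pow_succ, ih, ← siegel_add Q hx (by rw [← Nat.cast_smul_eq_nsmul F,
      QuadraticMap.polar_smul_right, hw, smul_zero]) hw, succ_nsmul]

variable (P : Pair Q) {X : Type*} [MulAction ↥(siegelGroup Q) X] [Finite X]
  (ψ : AddChar F ℂ)

variable (X) in
/-- The number of irregular orbits whose annihilator contains a vector. -/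
noncomputable def mult (u : P.W) : ℕ :=
  Nat.card {o : Orb P X // orbA P ψ o ≠ ⊤ ∧ u ∈ orbA P ψ o}

theorem mult_smul (k : ↥(siegelGroup P.QW)) (u : P.W) :
    mult P X ψ (k.1.1 u) = mult P X ψ u := by
  refine (Nat.card_congr (Equiv.subtypeEquiv (MulAction.toPerm k) fun o => ?_)).symm
  simp only [MulAction.toPerm_apply, ne_eq, orbA_smul_top, mem_orbA_smul]

theorem one_le_mult {u : P.W} {o : Orb P X} (ho : orbA P ψ o ≠ ⊤) (hu : u ∈ orbA P ψ o) :
    1 ≤ mult P X ψ u :=
  Nat.card_pos_iff.2 ⟨⟨⟨o, ho, hu⟩⟩, inferInstance⟩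

variable (hQ : ∀ x, (∀ y, polar Q x y = 0) → x = 0) (h5 : 5 ≤ finrank F P.W)
include hQ h5

theorem mult_eq_of_value {u u' : P.W} (hu : u ≠ 0) (hu' : u' ≠ 0) (h : Q (u : V) = Q (u' : V)) :
    mult P X ψ u = mult P X ψ u' := by
  by_cases h0 : Q (u : V) = 0
  · obtain ⟨k, hk, hku⟩ := siegel_transitive P.QW (P.sep_W hQ) h5 h0 (h ▸ h0 : P.QW u' = 0) hu hu'
    rw [← hku]
    exact (mult_smul P ψ ⟨k, hk⟩ u).symm
  · obtain ⟨k, hk, hku⟩ := siegel_transitive_value P.QW (P.sep_W hQ) h5 (u := u) (v := u') h0 h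
    rw [← hku]
    exact (mult_smul P ψ ⟨k, hk⟩ u).symm

omit h5 in
/-- Elements of order dividing `p` fixing a vector of small multiplicity fix its orbits. -/
theorem smul_eq_of_small {p : ℕ} (hp : p.Prime) {u : P.W} {k : ↥(siegelGroup P.QW)} (hku : k.1.1 u = u)
    (hkp : k ^ p = 1) (hm : mult P X ψ u = 1 ∨ mult P X ψ u < p) {o : Orb P X}
    (ho : orbA P ψ o ≠ ⊤) (hu : u ∈ orbA P ψ o) : k • o = o := by
  classical
  have hmem : ∀ n : ℕ, orbA P ψ (k ^ n • o) ≠ ⊤ ∧ u ∈ orbA P ψ (k ^ n • o) := by
    intro n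
    refine ⟨fun h => ho ((orbA_smul_top P ψ _ _).1 h), ?_⟩
    have hn : (k ^ n).1.1 u = u := by
      induction n with
      | zero => simp
      | succ n ih =>
        rw [pow_succ, Subgroup.coe_mul, Subgroup.coe_mul, LinearEquiv.mul_apply, hku, ih]
    have h := (mem_orbA_smul P ψ (k ^ n) o u).2 hu
    rwa [hn] at h
  rcases hm with hm | hm
  · obtain ⟨hss, -⟩ := Nat.card_eq_one_iff_unique.1 hm
    have h := hmem 1
    rw [pow_one] at h
    exact congrArg Subtype.val (Subsingleton.elim
      (⟨k • o, h⟩ : {o : Orb P X // orbA P ψ o ≠ ⊤ ∧ u ∈ orbA P ψ o}) ⟨o, ho, hu⟩)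
  · by_contra hne
    have hper : MulAction.period k o = p := by
      have hd : MulAction.period k o ∣ p :=
        MulAction.pow_smul_eq_iff_period_dvd.1 (by rw [hkp, one_smul])
      rcases hp.eq_one_or_self_of_dvd _ hd with h | h
      · exact absurd (MulAction.period_eq_one_iff.1 h) hne
      · exact h
    let f : Fin p → {o : Orb P X // orbA P ψ o ≠ ⊤ ∧ u ∈ orbA P ψ o} := fun i => ⟨_, hmem i⟩
    have key : ∀ i j : Fin p, (i : ℕ) ≤ j → f i = f j → i = j := by
      intro i j hij h
      have h' : k ^ (i : ℕ) • o = k ^ (j : ℕ) • o := congrArg Subtype.val h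
      rw [show (j : ℕ) = i + (j - i) by omega, pow_add, mul_smul] at h'
      have hd : MulAction.period k o ∣ (j : ℕ) - i :=
        MulAction.pow_smul_eq_iff_period_dvd.1 (MulAction.injective _ h').symm
      rw [hper] at hd
      have := Nat.eq_zero_of_dvd_of_lt hd (by omega)
      exact Fin.ext (by omega)
    have hf : Function.Injective f := fun i j h => by
      rcases le_total (i : ℕ) j with hij | hij
      · exact key i j hij h
      · exact (key j i hij h.symm).symm
    have := Nat.card_le_card_of_injective f hf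
    rw [Nat.card_fin] at this
    exact absurd this (Nat.not_le.2 hm)

variable {p : ℕ} [CharP F p]

/-- An annihilator through a vector of multiplicity one or less than `p` is a line or everything. -/
theorem line_of_small (hp : p.Prime) {u : P.W} (hu0 : u ≠ 0) (hm : mult P X ψ u = 1 ∨ mult P X ψ u < p)
    {o : Orb P X} (ho : orbA P ψ o ≠ ⊤) (hu : u ∈ orbA P ψ o) {v : P.W} (hv : v ∈ orbA P ψ o) :
    ∃ t : F, v = t • u := by
  by_contra hline
  push Not at hline
  have hW := P.sep_W hQ
  -- stability under the root elements fixing a vector of the same value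
  have hinv : ∀ w : P.W, w ≠ 0 → Q (w : V) = Q (u : V) → w ∈ orbA P ψ o → ∀ a b : P.W, P.QW a = 0 →
      polar P.QW a b = 0 → polar P.QW a w = 0 → polar P.QW b w = 0 → ∀ z ∈ orbA P ψ o,
      z + polar P.QW a z • b - (polar P.QW b z + P.QW b * polar P.QW a z) • a ∈ orbA P ψ o := by
    intro w hw0 hwu hw a b ha hab haw hbw z hz
    let k : ↥(siegelGroup P.QW) := ⟨siegel P.QW a b, siegel_mem P.QW a b⟩
    have hkw : k.1.1 w = w := by
      change (siegel P.QW a b).1 w = w
      rw [siegel_apply P.QW ha hab, haw, hbw]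
      simp
    have hkp : k ^ p = 1 := Subtype.ext (by
      rw [Subgroup.coe_pow, OneMemClass.coe_one]
      change siegel P.QW a b ^ p = 1
      rw [siegel_pow ha hab, ← Nat.cast_smul_eq_nsmul F, CharP.cast_eq_zero, zero_smul, siegel_zero])
    have hm' : mult P X ψ w = 1 ∨ mult P X ψ w < p := by
      rwa [mult_eq_of_value P ψ hQ h5 hw0 hu0 hwu]
    have hko := smul_eq_of_small P ψ hQ hp hkw hkp hm' ho hw
    have h := (mem_orbA_smul P ψ k o z).2 hz
    rw [hko] at h
    have e : k.1.1 z = z + polar P.QW a z • b - (polar P.QW b z + P.QW b * polar P.QW a z) • a :=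
      siegel_apply P.QW ha hab z
    rwa [e] at h
  -- a whole hyperplane lies in the annihilator
  have hperp : ∀ w : P.W, w ≠ 0 → Q (w : V) = Q (u : V) → w ∈ orbA P ψ o →
      ∀ z, polar P.QW w z = 0 → z ∈ orbA P ψ o := by
    intro w hw0 hwu hw
    obtain ⟨v', hv', hind⟩ : ∃ v' ∈ orbA P ψ o, ∀ t : F, v' ≠ t • w := by
      by_contra hall
      push Not at hall
      obtain ⟨t, ht⟩ := hall u hu
      obtain ⟨s, hs⟩ := hall v hv
      have ht0 : t ≠ 0 := fun h => hu0 (by rw [ht, h, zero_smul])
      exact hline (s * t⁻¹) (by rw [ht, smul_smul, mul_assoc, inv_mul_cancel₀ ht0, mul_one, hs])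
    have hstep : ∀ a v : P.W, P.QW a = 0 → polar P.QW a w = 0 → v ∈ orbA P ψ o → polar P.QW a v ≠ 0 →
        (∀ r : F, r • a ∈ orbA P ψ o) ∧
          ∀ b, polar P.QW a b = 0 → polar P.QW b w = 0 → b ∈ orbA P ψ o := by
      intro a v ha haw hv hav
      have hE : ∀ b, polar P.QW a b = 0 → polar P.QW b w = 0 →
          polar P.QW a v • b - (polar P.QW b v + P.QW b * polar P.QW a v) • a ∈ orbA P ψ o := by
        intro b hab hbw
        have h := sub_mem (hinv w hw0 hwu hw a b ha hab haw hbw v hv) hv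
        rwa [add_sub_assoc, add_sub_cancel_left] at h
      obtain ⟨b, b', hab, hwb, hab', hwb', hbb⟩ := exists_perp_pol_one hW h5 a w
      have hr : ∀ r : F, r • a ∈ orbA P ψ o := by
        intro r
        obtain ⟨s, hs⟩ : ∃ s : F, s = -r / polar P.QW a v := ⟨_, rfl⟩
        have hbs : polar P.QW a (s • b') = 0 := by rw [QuadraticMap.polar_smul_right, hab', smul_zero]
        have hbs' : polar P.QW (s • b') w = 0 := by
          rw [QuadraticMap.polar_smul_left, QuadraticMap.polar_comm _ b' w, hwb', smul_zero]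
        have hbw : polar P.QW b w = 0 := by rw [QuadraticMap.polar_comm]; exact hwb
        have h := sub_mem (sub_mem (hE (b + s • b')
          (by rw [QuadraticMap.polar_add_right, hab, hbs, add_zero])
          (by rw [QuadraticMap.polar_add_left, hbw, hbs', add_zero])) (hE b hab hbw)) (hE _ hbs hbs')
        convert h using 1
        have hq : P.QW (b + s • b') = P.QW b + P.QW (s • b') + s := by
          rw [QuadraticMap.map_add (P.QW : QuadraticMap F P.W F), QuadraticMap.polar_smul_right, hbb,
            smul_eq_mul, mul_one]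
        rw [hq, QuadraticMap.polar_add_left]
        match_scalars <;> simp only [mul_one, mul_zero, add_zero, zero_add]
        · rw [hs]; field_simp; ring
        all_goals ring
      refine ⟨hr, fun b hab hbw => ?_⟩
      have h1 : ∀ b, polar P.QW a b = 0 → polar P.QW b w = 0 → polar P.QW a v • b ∈ orbA P ψ o := by
        intro b hab hbw
        have h := add_mem (hE b hab hbw) (hr (polar P.QW b v + P.QW b * polar P.QW a v))
        rwa [sub_add_cancel] at h
      have h := h1 ((polar P.QW a v)⁻¹ • b) (by rw [QuadraticMap.polar_smul_right, hab, smul_zero])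
        (by rw [QuadraticMap.polar_smul_left, hbw, smul_zero])
      rwa [smul_inv_smul₀ hav] at h
    obtain ⟨a, ha, haw, hav⟩ := exists_sing_sep hW h5 hw0 hind
    obtain ⟨hFa, hperpA⟩ := hstep a v' ha haw hv' hav
    intro z hz
    by_cases hmul : ∀ t : F, a ≠ t • w
    swap
    · push Not at hmul
      obtain ⟨t, rfl⟩ := hmul
      exact hperpA z (by rw [QuadraticMap.polar_smul_left, hz, smul_zero])
        (by rw [QuadraticMap.polar_comm]; exact hz)
    obtain ⟨a2, ha2, ha2w, ha2a⟩ := exists_sing_sep hW h5 hw0 hmul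
    obtain ⟨hFa2, -⟩ := hstep a2 a ha2 ha2w (by simpa using hFa 1) ha2a
    have h1 : polar P.QW a (z - (polar P.QW a z / polar P.QW a2 a) • a2) = 0 := by
      rw [QuadraticMap.polar_sub_right, QuadraticMap.polar_smul_right, QuadraticMap.polar_comm _ a a2,
        smul_eq_mul, div_mul_cancel₀ _ ha2a, sub_self]
    have h2 : polar P.QW (z - (polar P.QW a z / polar P.QW a2 a) • a2) w = 0 := by
      rw [QuadraticMap.polar_sub_left, QuadraticMap.polar_smul_left, ha2w, smul_zero, sub_zero,
        QuadraticMap.polar_comm]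
      exact hz
    have h := add_mem (hperpA _ h1 h2) (hFa2 (polar P.QW a z / polar P.QW a2 a))
    rwa [sub_add_cancel] at h
  obtain ⟨u', hu'u, hu'q, hu'i⟩ := exists_same_value hW h5 hu0
  have hu'0 : u' ≠ 0 := fun h => hu'i 0 (by rw [h, zero_smul])
  have hu'A : u' ∈ orbA P ψ o := hperp u hu0 rfl hu u' hu'u
  obtain ⟨z, hz1, hz2⟩ := exists_dual_pair P.QW hW
    ((LinearIndependent.pair_iff' hu0).2 fun t ht => hu'i t ht.symm) 1 0
  refine ho ((AddSubgroup.eq_top_iff' _).2 fun y => ?_)
  have h1 : polar P.QW u (y - polar P.QW u y • z) = 0 := by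
    rw [QuadraticMap.polar_sub_right, QuadraticMap.polar_smul_right, hz1, smul_eq_mul, mul_one, sub_self]
  have h2 : polar P.QW u' (polar P.QW u y • z) = 0 := by
    rw [QuadraticMap.polar_smul_right, hz2, smul_zero]
  have h := add_mem (hperp u hu0 rfl hu _ h1) (hperp u' hu'0 hu'q hu'A _ h2)
  rwa [sub_add_cancel] at h

end CfsgLib.Classical.OMinIdx
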