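import Cfsg.Agent.Lib.Classical.OMinIdxFix

/-!
# Counting points through annihilators
-/

set_option autoImplicit false
set_option linter.unusedSectionVars false

namespace CfsgLib.Classical.OMinIdx

open CfsgLib.Geom CfsgLib.Classical CfsgLib.Classical.OMinDeg Module
open QuadraticMap (polar)

variable {F V : Type*} [Field F] [AddCommGroup V] [Module F V] {Q : QuadraticForm F V} (P : Pair Q)
  {X : Type*} [MulAction ↥(siegelGroup Q) X]

theorem card_orbA_smul (ψ : AddChar F ℂ) (k : ↥(siegelGroup P.QW)) (o : Orb P X) :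
    Nat.card (orbA P ψ (k • o)) = Nat.card (orbA P ψ o) :=
  (Nat.card_congr (Equiv.subtypeEquiv k.1.1.toEquiv fun u => (mem_orbA_smul P ψ k o u).symm)).symm

/-- A set of orbits stable under the Levi complement. -/
def Stable (S : Set (Orb P X)) : Prop :=
  ∀ (k : ↥(siegelGroup P.QW)) (o : Orb P X), k • o ∈ S ↔ o ∈ S

theorem stable_irregular (ψ : AddChar F ℂ) : Stable P {o : Orb P X | orbA P ψ o ≠ ⊤} :=
  fun k o => not_congr (orbA_smul_top P ψ k o)

theorem stable_orbit (o : Orb P X) : Stable P (MulAction.orbit ↥(siegelGroup P.QW) o) := fun k o' =>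
  ⟨fun h => by simpa using MulAction.mem_orbit_of_mem_orbit k⁻¹ h, MulAction.mem_orbit_of_mem_orbit k⟩

/-- The number of orbits of a set whose annihilator contains a vector. -/
noncomputable def through (ψ : AddChar F ℂ) (S : Set (Orb P X)) (u : P.W) : ℕ :=
  Nat.card {o : Orb P X // o ∈ S ∧ u ∈ orbA P ψ o}

theorem mult_eq_through (ψ : AddChar F ℂ) (u : P.W) :
    mult P X ψ u = through P ψ {o : Orb P X | orbA P ψ o ≠ ⊤} u := rfl

variable [Finite X]

theorem one_le_through (ψ : AddChar F ℂ) {S : Set (Orb P X)} {o : Orb P X} (ho : o ∈ S) {u : P.W}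
    (hu : u ∈ orbA P ψ o) : 1 ≤ through P ψ S u :=
  Nat.card_pos_iff.2 ⟨⟨⟨o, ho, hu⟩⟩, inferInstance⟩

theorem through_mono (ψ : AddChar F ℂ) {S T : Set (Orb P X)} (h : S ⊆ T) (u : P.W) :
    through P ψ S u ≤ through P ψ T u :=
  Nat.card_le_card_of_injective (fun o => ⟨o.1, h o.2.1, o.2.2⟩) fun _ _ e =>
    Subtype.ext (congrArg (fun o => o.1) e)

variable [Finite P.W] [Fintype P.W] (hQ : ∀ x, (∀ y, polar Q x y = 0) → x = 0)
  {ψ : AddChar F ℂ} (hψ : ψ.IsPrimitive)
include hQ hψ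

/-- The points of a set of orbits. -/
theorem card_points (S : Set (Orb P X)) [Fintype S] :
    Nat.card {x : X // Orb.mk P x ∈ S} = ∑ o : S, Nat.card (orbA P ψ o.1) := by
  rw [← Nat.card_congr (Equiv.sigmaFiberEquiv (fun x : {x : X // Orb.mk P x ∈ S} =>
    (⟨Orb.mk P x.1, x.2⟩ : S))), Nat.card_sigma]
  refine Finset.sum_congr rfl fun o _ => ?_
  rw [← card_orbA P hQ hψ o.1]
  exact Nat.card_congr
    { toFun := fun x => ⟨x.1.1, congrArg Subtype.val x.2⟩
      invFun := fun x => ⟨⟨x.1, x.2.symm ▸ o.2⟩, Subtype.ext x.2⟩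
      left_inv := fun _ => rfl
      right_inv := fun _ => rfl }

theorem card_points_const {S : Set (Orb P X)} {s : ℕ}
    (hs : ∀ o ∈ S, Nat.card (orbA P ψ o) = s) :
    Nat.card {x : X // Orb.mk P x ∈ S} = s * S.ncard := by
  haveI := Fintype.ofFinite S
  rw [card_points P hQ hψ S, Finset.sum_congr rfl fun o _ => hs o.1 o.2, Finset.sum_const,
    Finset.card_univ, smul_eq_mul, mul_comm, ← Nat.card_coe_set_eq, Nat.card_eq_fintype_card]

omit hQ hψ in
/-- Double counting of incidences. -/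
theorem mul_ncard_le_sum (S : Set (Orb P X)) [Fintype S] (C : Set P.W) {m : ℕ}
    (h : ∀ u ∈ C, m ≤ through P ψ S u) :
    m * C.ncard ≤ ∑ o : S, Nat.card {u : C // u.1 ∈ orbA P ψ o.1} := by
  haveI := Fintype.ofFinite C
  let e : (Σ o : S, {u : C // u.1 ∈ orbA P ψ o.1}) ≃ Σ u : C, {o : S // u.1 ∈ orbA P ψ o.1} :=
    { toFun := fun p => ⟨p.2.1, p.1, p.2.2⟩
      invFun := fun p => ⟨p.2.1, p.1, p.2.2⟩
      left_inv := fun _ => rfl
      right_inv := fun _ => rfl }
  rw [← Nat.card_sigma, Nat.card_congr e, Nat.card_sigma, ← Nat.card_coe_set_eq,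
    Nat.card_eq_fintype_card, mul_comm, ← smul_eq_mul, ← Finset.card_univ, ← Finset.sum_const]
  refine Finset.sum_le_sum fun u _ => le_trans (h u.1 u.2) (le_of_eq ?_)
  exact Nat.card_congr
    { toFun := fun o => ⟨⟨o.1, o.2.1⟩, o.2.2⟩
      invFun := fun o => ⟨o.1.1, o.1.2, o.2⟩
      left_inv := fun _ => rfl
      right_inv := fun _ => rfl }

omit hQ hψ in
/-- An annihilator has more elements than non-zero incidences. -/
theorem card_inter_lt {C : Set P.W} (h0 : (0 : P.W) ∉ C) (A : AddSubgroup P.W) :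
    Nat.card {u : C // u.1 ∈ A} + 1 ≤ Nat.card A := by
  have e : Nat.card (Option {u : C // u.1 ∈ A}) = Nat.card {u : C // u.1 ∈ A} + 1 :=
    Finite.card_option
  rw [← e]
  refine Nat.card_le_card_of_injective
    (fun o => o.elim (0 : A) fun u => ⟨u.1.1, u.2⟩) fun a b hab => ?_
  rcases a with _ | a <;> rcases b with _ | b
  · rfl
  · have e' : b.1.1 = 0 := (congrArg Subtype.val hab).symm
    exact absurd b.1.2 (e'.symm ▸ h0)
  · have e' : a.1.1 = 0 := congrArg Subtype.val hab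
    exact absurd a.1.2 (e'.symm ▸ h0)
  · exact congrArg some (Subtype.ext (Subtype.ext (congrArg Subtype.val hab :)))

/-- The main count. -/
theorem count_le (S : Set (Orb P X)) {C : Set P.W} (h0 : (0 : P.W) ∉ C) {m : ℕ}
    (h : ∀ u ∈ C, m ≤ through P ψ S u) :
    m * C.ncard + S.ncard ≤ Nat.card {x : X // Orb.mk P x ∈ S} := by
  haveI := Fintype.ofFinite S
  rw [card_points P hQ hψ S, ← Nat.card_coe_set_eq S, Nat.card_eq_fintype_card, ← Finset.card_univ,
    Finset.card_eq_sum_ones]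
  refine le_trans (Nat.add_le_add_right (mul_ncard_le_sum P S C h) _) ?_
  rw [← Finset.sum_add_distrib]
  exact Finset.sum_le_sum fun o _ => card_inter_lt P h0 _

/-- The count for two disjoint sets of vectors. -/
theorem count_le_two (S : Set (Orb P X)) {C C' : Set P.W} (h0 : (0 : P.W) ∉ C)
    (h0' : (0 : P.W) ∉ C') (hd : Disjoint C C') {m m' : ℕ}
    (h : ∀ u ∈ C, m ≤ through P ψ S u) (h' : ∀ u ∈ C', m' ≤ through P ψ S u) :
    m * C.ncard + m' * C'.ncard + S.ncard ≤ Nat.card {x : X // Orb.mk P x ∈ S} := by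
  haveI := Fintype.ofFinite S
  rw [card_points P hQ hψ S, ← Nat.card_coe_set_eq S, Nat.card_eq_fintype_card, ← Finset.card_univ,
    Finset.card_eq_sum_ones]
  refine le_trans (Nat.add_le_add_right (Nat.add_le_add (mul_ncard_le_sum P S C h)
    (mul_ncard_le_sum P S C' h')) _) ?_
  rw [← Finset.sum_add_distrib, ← Finset.sum_add_distrib]
  refine Finset.sum_le_sum fun o _ => le_trans ?_ (card_inter_lt P (C := C ∪ C')
    (fun e => e.elim h0 h0') (orbA P ψ o.1))
  rw [Nat.add_le_add_iff_right, ← Nat.card_sum]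
  let f : {u : C // u.1 ∈ orbA P ψ o.1} ⊕ {u : C' // u.1 ∈ orbA P ψ o.1} →
      {u : ↥(C ∪ C') // u.1 ∈ orbA P ψ o.1} := fun x => match x with
    | .inl u => ⟨⟨u.1.1, Or.inl u.1.2⟩, u.2⟩
    | .inr u => ⟨⟨u.1.1, Or.inr u.1.2⟩, u.2⟩
  refine Nat.card_le_card_of_injective f fun a b hab => ?_
  have hv : (f a).1.1 = (f b).1.1 := congrArg (fun u => u.1.1) hab
  rcases a with a | a <;> rcases b with b | b <;> simp only [f] at hv
  · exact congrArg _ (Subtype.ext (Subtype.ext hv))
  · exact absurd b.1.2 (Set.disjoint_left.1 hd (hv ▸ a.1.2))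
  · exact absurd a.1.2 (Set.disjoint_left.1 hd (hv ▸ b.1.2))
  · exact congrArg _ (Subtype.ext (Subtype.ext hv))

omit hQ hψ in
/-- If every annihilator meets the set at most `r` times, there are many orbits. -/
theorem mul_ncard_le (S : Set (Orb P X)) (C : Set P.W) {m r : ℕ}
    (h : ∀ u ∈ C, m ≤ through P ψ S u)
    (hr : ∀ o ∈ S, Nat.card {u : C // u.1 ∈ orbA P ψ o} ≤ r) :
    m * C.ncard ≤ r * S.ncard := by
  haveI := Fintype.ofFinite S
  refine le_trans (mul_ncard_le_sum P S C h) (le_trans (Finset.sum_le_sum fun o _ => hr o.1 o.2) ?_)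
  rw [Finset.sum_const, Finset.card_univ, smul_eq_mul, mul_comm, ← Nat.card_coe_set_eq,
    Nat.card_eq_fintype_card]

omit hQ hψ in
theorem card_points_le (S : Set (Orb P X)) : Nat.card {x : X // Orb.mk P x ∈ S} ≤ Nat.card X :=
  Nat.card_le_card_of_injective _ Subtype.val_injective

omit hQ hψ in
theorem card_points_add (S : Set (Orb P X)) :
    Nat.card {x : X // Orb.mk P x ∈ S} + Nat.card {x : X // Orb.mk P x ∈ Sᶜ} = Nat.card X := by
  classical
  rw [← Nat.card_sum]
  exact Nat.card_congr (Equiv.sumCompl _)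

variable [Finite F] [FiniteDimensional F V] (h5 : 5 ≤ finrank F P.W)
include h5

omit hψ in
theorem through_eq_of_value {S : Set (Orb P X)} (hS : Stable P S) {u u' : P.W} (hu : u ≠ 0)
    (hu' : u' ≠ 0) (h : Q (u : V) = Q (u' : V)) :
    through P ψ S u = through P ψ S u' := by
  obtain ⟨k, hk, hku⟩ : ∃ k ∈ siegelGroup P.QW, k.1 u = u' := by
    by_cases h0 : Q (u : V) = 0
    · exact siegel_transitive P.QW (P.sep_W hQ) h5 h0 (h ▸ h0 : P.QW u' = 0) hu hu'
    · exact siegel_transitive_value P.QW (P.sep_W hQ) h5 (u := u) (v := u') h0 h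
  refine Nat.card_congr (Equiv.subtypeEquiv
    (MulAction.toPerm (⟨k, hk⟩ : ↥(siegelGroup P.QW)) : Equiv.Perm (Orb P X)) fun o => ?_)
  rw [MulAction.toPerm_apply, hS, ← hku]
  exact and_congr_right fun _ => (mem_orbA_smul P ψ ⟨k, hk⟩ o u).symm

omit hψ in
/-- An annihilator that is not a line has all multiplicities at least two. -/
theorem two_le_mult {o : Orb P X} (ho : orbA P ψ o ≠ ⊤) {u v : P.W} (hu : u ∈ orbA P ψ o)
    (hu0 : u ≠ 0) (hv : v ∈ orbA P ψ o) (hind : ∀ t : F, v ≠ t • u) : 2 ≤ mult P X ψ u := by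
  obtain ⟨p, hp⟩ := CharP.exists F
  have hp' : p.Prime := (CharP.char_is_prime_or_zero F p).resolve_right (CharP.char_ne_zero_of_finite F p)
  have h1 := one_le_mult P ψ ho hu
  by_contra h
  obtain ⟨t, ht⟩ := line_of_small P ψ hQ h5 hp' hu0 (Or.inl (by omega)) ho hu hv
  exact hind t ht

end CfsgLib.Classical.OMinIdx
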