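import Cfsg.Agent.Lib.Classical.OMinIdxStab

/-!
# Counts when the radical has no regular orbit
-/

set_option autoImplicit false
set_option linter.unusedSectionVars false

namespace CfsgLib.Classical.OMinIdx

open CfsgLib.Geom CfsgLib.Classical CfsgLib.Classical.OMinDeg Module
open QuadraticMap (polar)

variable {F V : Type*} [Field F] [Finite F] [AddCommGroup V] [Module F V] [FiniteDimensional F V]
  {Q : QuadraticForm F V} (P : Pair Q) {X : Type*} [MulAction ↥(siegelGroup Q) X]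
  (hQ : ∀ x, (∀ y, polar Q x y = 0) → x = 0) (h5 : 5 ≤ finrank F P.W) (ψ : AddChar F ℂ)
include hQ h5

/-- A translate whose annihilator contains a given vector. -/
theorem exists_in_translate {o : Orb P X} {u u' : P.W} (hu : u ∈ orbA P ψ o) (hu0 : u ≠ 0)
    (hu'0 : u' ≠ 0) (h : Q (u : V) = Q (u' : V)) :
    ∃ o' ∈ MulAction.orbit ↥(siegelGroup P.QW) o, u' ∈ orbA P ψ o' := by
  obtain ⟨k, hk, hku⟩ : ∃ k ∈ siegelGroup P.QW, k.1 u = u' := by
    by_cases h0 : Q (u : V) = 0
    · exact siegel_transitive P.QW (P.sep_W hQ) h5 h0 (h ▸ h0 : P.QW u' = 0) hu0 hu'0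
    · exact siegel_transitive_value P.QW (P.sep_W hQ) h5 (u := u) (v := u') h0 h
  exact ⟨_, MulAction.mem_orbit _ ⟨k, hk⟩, hku ▸ (mem_orbA_smul P ψ ⟨k, hk⟩ o u).2 hu⟩

omit hQ h5 in
theorem singular_translate {o o' : Orb P X} (ho' : o' ∈ MulAction.orbit ↥(siegelGroup P.QW) o)
    (hA : ∀ z ∈ orbA P ψ o, P.QW z = 0) : ∀ z ∈ orbA P ψ o', P.QW z = 0 := by
  obtain ⟨k, rfl⟩ := ho'
  intro z hz
  have h := hA _ ((mem_orbA_smul' P ψ k o z).1 hz)
  rwa [← mem_quadIsoms.1 k.1.2 (k.1.1.symm z), LinearEquiv.apply_symm_apply] at h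

omit hQ h5 in
theorem card_translate {o o' : Orb P X} (ho' : o' ∈ MulAction.orbit ↥(siegelGroup P.QW) o) :
    Nat.card (orbA P ψ o') = Nat.card (orbA P ψ o) := by
  obtain ⟨k, rfl⟩ := ho'
  exact card_orbA_smul P ψ k o

omit hQ h5 in
theorem exists_indep_partner {A : AddSubgroup P.W} {u v : P.W} (hu : u ∈ A) (hv : v ∈ A) (hu0 : u ≠ 0)
    (hind : ∀ t : F, v ≠ t • u) (z : P.W) : ∃ z' ∈ A, ∀ t : F, z' ≠ t • z := by
  by_contra h
  push Not at h
  obtain ⟨s, hs⟩ := h u hu
  obtain ⟨t, ht⟩ := h v hv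
  have hs0 : s ≠ 0 := fun e => hu0 (by rw [hs, e, zero_smul])
  exact hind (t * s⁻¹) (by rw [hs, smul_smul, mul_assoc, inv_mul_cancel₀ hs0, mul_one, ht])

variable [Finite X] [Fintype P.W] {ψ} (hψ : ψ.IsPrimitive)
  (hnone : ∀ o : Orb P X, orbA P ψ o ≠ ⊤)
include hψ hnone

/-- A non-line with an anisotropic vector. -/
theorem irregular_nonsingular {o : Orb P X} {u v : P.W} (hu : u ∈ orbA P ψ o) (hQu : P.QW u ≠ 0)
    (hv : v ∈ orbA P ψ o) (hind : ∀ t : F, v ≠ t • u) :
    2 * (Nat.card P.W - 1) ≤ Nat.card X ∨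
    (∃ c c' : F, c ≠ 0 ∧ c' ≠ 0 ∧ c ≠ c' ∧ Nat.card F * (Nat.card {z : P.W // P.QW z = c} +
      Nat.card {z : P.W // P.QW z = c'}) ≤ Nat.card X) ∨
    (∃ c : F, c ≠ 0 ∧ Nat.card F * Nat.card {z : P.W // P.QW z = c} +
      2 * Nat.card {z : P.W // z ≠ 0 ∧ Q (z : V) = 0} ≤ Nat.card X) ∨
    ((2 : F) = 0 ∧ ∃ c : F, c ≠ 0 ∧ 2 * Nat.card F ^ (finrank F P.W - 2) *
      Nat.card {z : P.W // P.QW z = c} ≤ 3 * Nat.card F * Nat.card X) := by
  classical
  have hu0 : u ≠ 0 := fun e => hQu (by rw [e, QuadraticMap.map_zero])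
  have hv0 : v ≠ 0 := fun e => hind 0 (by rw [e, zero_smul])
  have hstab : Stable P (Set.univ : Set (Orb P X)) := fun _ _ => by simp
  have hmult : ∀ w, mult P X ψ w = through P ψ (Set.univ : Set (Orb P X)) w := fun w => by
    rw [mult_eq_through]
    congr 1
    exact Set.eq_univ_of_forall hnone
  have htwo : ∀ z ∈ orbA P ψ o, z ≠ 0 → ∀ z' : P.W, z' ≠ 0 → Q (z : V) = Q (z' : V) →
      2 ≤ through P ψ (Set.univ : Set (Orb P X)) z' := by
    intro z hz hz0 z' hz'0 e
    obtain ⟨z₁, hz₁, hzind⟩ := exists_indep_partner P hu hv hu0 hind z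
    rw [← through_eq_of_value P hQ h5 hstab hz0 hz'0 e, ← hmult]
    exact two_le_mult P hQ h5 (hnone o) hz hz0 hz₁ hzind
  by_cases hall : ∀ c : F, ∃ z ∈ orbA P ψ o, z ≠ 0 ∧ P.QW z = c
  · left
    have h := count_le P hQ hψ (Set.univ : Set (Orb P X)) (C := ({0}ᶜ : Set P.W)) (by simp) (m := 2)
      fun z' hz' => by
        obtain ⟨z, hz, hz0, e⟩ := hall (P.QW z')
        exact htwo z hz hz0 z' hz' e
    rw [Set.ncard_compl, Set.ncard_singleton] at h
    exact le_trans (Nat.le_add_right _ _) (h.trans (card_points_le P _))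
  -- many orbits through each anisotropic vector of the annihilator
  have hbig : ∀ z ∈ orbA P ψ o, P.QW z ≠ 0 → ∀ z' : P.W, P.QW z' = P.QW z →
      Nat.card F ≤ through P ψ (Set.univ : Set (Orb P X)) z' := by
    intro z hz hQz z' e
    have hz0 : z ≠ 0 := fun e => hQz (by rw [e, QuadraticMap.map_zero])
    have hz'0 : z' ≠ 0 := fun e' => hQz (by rw [← e, e', QuadraticMap.map_zero])
    rw [← through_eq_of_value P hQ h5 hstab hz0 hz'0 e.symm]
    by_contra h
    obtain ⟨z₁, hz₁, hzind⟩ := exists_indep_partner P hu hv hu0 hind z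
    exact hall (all_values_of_few P ψ hQ h5 hstab (Set.mem_univ o) hz hQz hz₁ hzind (Nat.lt_of_not_le h))
  obtain ⟨c, hc⟩ : ∃ c, c = P.QW u := ⟨_, rfl⟩
  have hc0 : c ≠ 0 := hc ▸ hQu
  have hC0 : ∀ d : F, d ≠ 0 → (0 : P.W) ∉ {z : P.W | P.QW z = d} := fun d hd e =>
    hd (e.symm.trans (QuadraticMap.map_zero _))
  right
  by_cases hsec : ∃ z ∈ orbA P ψ o, P.QW z ≠ 0 ∧ P.QW z ≠ c
  · obtain ⟨z, hz, hQz, hzc⟩ := hsec
    refine Or.inl ⟨c, P.QW z, hc0, hQz, Ne.symm hzc, ?_⟩
    have h := count_le_two P hQ hψ (Set.univ : Set (Orb P X)) (hC0 c hc0) (hC0 _ hQz)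
      (Set.disjoint_left.2 fun x hx hx' => hzc (hx'.symm.trans hx)) (m := Nat.card F) (m' := Nat.card F)
      (fun z' hz' => hbig u hu hQu z' (hz'.trans hc)) (fun z' hz' => hbig z hz hQz z' hz')
    rw [← Nat.card_coe_set_eq, ← Nat.card_coe_set_eq] at h
    have := h.trans (card_points_le P _)
    rw [mul_add]
    exact le_trans (Nat.le_add_right _ _) this
  push Not at hsec
  by_cases hsing : ∃ z ∈ orbA P ψ o, z ≠ 0 ∧ P.QW z = 0
  · obtain ⟨z, hz, hz0, hQz⟩ := hsing
    refine Or.inr (Or.inl ⟨c, hc0, ?_⟩)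
    have h := count_le_two P hQ hψ (Set.univ : Set (Orb P X)) (hC0 c hc0)
      (C' := {z : P.W | z ≠ 0 ∧ Q (z : V) = 0}) (fun e => e.1 rfl)
      (Set.disjoint_left.2 fun x hx hx' => hc0 (hx.symm.trans hx'.2)) (m := Nat.card F) (m' := 2)
      (fun z' hz' => hbig u hu hQu z' (hz'.trans hc))
      (fun z' hz' => htwo z hz hz0 z' hz'.1 (hQz.trans hz'.2.symm))
    rw [← Nat.card_coe_set_eq, ← Nat.card_coe_set_eq] at h
    exact le_trans (Nat.le_add_right _ _) (h.trans (card_points_le P _))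
  push Not at hsing
  refine Or.inr (Or.inr ?_)
  have hval : ∀ z ∈ orbA P ψ o, z ≠ 0 → P.QW z = c := fun z hz hz0 =>
    hsec z hz (hsing z hz hz0)
  have hne : ∀ {x y : P.W}, (∀ t : F, y ≠ t • x) → x ≠ y ∧ x + y ≠ 0 := fun hxy =>
    ⟨fun e => hxy 1 (by rw [← e, one_smul]),
      fun e => hxy (-1) (by rw [neg_one_smul, eq_neg_iff_add_eq_zero, add_comm]; exact e)⟩
  have h2 : (2 : F) = 0 := by
    by_contra h2
    have huu : u + u ≠ 0 := by
      rw [← two_smul F u]; exact smul_ne_zero h2 hu0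
    have hcu : P.QW u = c := hc.symm
    have hcv : P.QW v = c := hval v hv hv0
    have e1 := hval _ (add_mem hu hu) huu
    rw [← two_smul F u, quad_smul, hcu] at e1
    have e2 := hval _ (add_mem hu hv) (hne hind).2
    rw [QuadraticMap.map_add (P.QW : QuadraticMap F P.W F), hcu, hcv] at e2
    have e3 := hval _ (sub_mem hu hv) (sub_ne_zero.2 (hne hind).1)
    rw [sub_eq_add_neg, QuadraticMap.map_add (P.QW : QuadraticMap F P.W F), QuadraticMap.map_neg, hcu,
      hcv, QuadraticMap.polar_neg_right] at e3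
    have hp : 2 * polar P.QW u v = 0 := by linear_combination e2 - e3
    have hp0 := (mul_eq_zero.1 hp).resolve_left h2
    rw [hp0] at e2
    exact hc0 (by linear_combination e2)
  refine ⟨h2, c, hc0, ?_⟩
  have hxx : ∀ x : P.W, x + x = 0 := fun x => by
    rw [← two_smul F x, h2, zero_smul]
  have hA4 : ∀ z ∈ orbA P ψ o, z = 0 ∨ z = u ∨ z = v ∨ z = u + v := by
    intro z hz
    by_contra h
    push Not at h
    obtain ⟨hz0, hzu, hzv, hzuv⟩ := h
    have hpol : ∀ x ∈ orbA P ψ o, ∀ y ∈ orbA P ψ o, x ≠ 0 → y ≠ 0 → x + y ≠ 0 → polar P.QW x y = c := by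
      intro x hx y hy hx0 hy0 hxy
      have e := hval _ (add_mem hx hy) hxy
      rw [QuadraticMap.map_add (P.QW : QuadraticMap F P.W F), hval x hx hx0, hval y hy hy0] at e
      linear_combination e - c * h2
    have hadd : ∀ {x y : P.W}, x ≠ y → x + y ≠ 0 := fun {x y} hxy e => hxy (by
      rw [← add_zero x, ← hxx y, ← add_assoc, e, zero_add])
    have huv : u + v ≠ 0 := (hne hind).2
    have e := hval _ (add_mem (add_mem hu hv) hz) (hadd (Ne.symm hzuv))
    rw [QuadraticMap.map_add (P.QW : QuadraticMap F P.W F), QuadraticMap.polar_add_left,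
      hval _ (add_mem hu hv) huv, hval z hz hz0, hpol u hu z hz hu0 hz0 (hadd (Ne.symm hzu)),
      hpol v hv z hz hv0 hz0 (hadd (Ne.symm hzv))] at e
    exact hc0 (by linear_combination e - c * h2)
  have hcard : Nat.card (orbA P ψ o) = 4 := by
    have hset : (orbA P ψ o : Set P.W) = {0, u, v, u + v} := by
      ext z
      simp only [SetLike.mem_coe, Set.mem_insert_iff, Set.mem_singleton_iff]
      refine ⟨hA4 z, ?_⟩
      rintro (rfl | rfl | rfl | rfl)
      exacts [zero_mem _, hu, hv, add_mem hu hv]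
    rw [← SetLike.coe_sort_coe, Nat.card_coe_set_eq, hset, Set.ncard_insert_of_notMem,
      Set.ncard_insert_of_notMem, Set.ncard_insert_of_notMem, Set.ncard_singleton]
    · simp [hu0]
    · simp [(hne hind).1, hv0]
    · simp [hu0.symm, hv0.symm, (hne hind).2.symm]
  -- the stabiliser of the annihilator is small
  obtain ⟨a, ha, hau, hav⟩ := exists_sing_sep (P.sep_W hQ) h5 hu0 hind
  have hkeep : Nat.card (keep P ψ a u ha o) ≤ 2 * Nat.card F := by
    have hb : ∀ b : keep P ψ a u ha o, v + polar P.QW a v • b.1.1 -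
        (polar P.QW b.1.1 v + P.QW b.1.1 * polar P.QW a v) • a = v ∨
        v + polar P.QW a v • b.1.1 - (polar P.QW b.1.1 v + P.QW b.1.1 * polar P.QW a v) • a = u + v := by
      intro b
      have hz := keep_apply P ψ b.2 hv
      have hp : polar P.QW a (v + polar P.QW a v • b.1.1 -
          (polar P.QW b.1.1 v + P.QW b.1.1 * polar P.QW a v) • a) = polar P.QW a v := by
        rw [QuadraticMap.polar_sub_right, QuadraticMap.polar_add_right, QuadraticMap.polar_smul_right,
          QuadraticMap.polar_smul_right, perpTwo_left P b.1, polar_self_of_singular P.QW ha]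
        simp
      rcases hA4 _ hz with e | e | e | e
      · rw [e, QuadraticMap.polar_zero_right] at hp; exact absurd hp.symm hav
      · rw [e, hau] at hp; exact absurd hp.symm hav
      · exact Or.inl e
      · exact Or.inr e
    let f : keep P ψ a u ha o → Bool × F := fun b =>
      (decide (v + polar P.QW a v • b.1.1 -
        (polar P.QW b.1.1 v + P.QW b.1.1 * polar P.QW a v) • a = v),
      polar P.QW b.1.1 v + P.QW b.1.1 * polar P.QW a v)
    refine le_trans (Nat.card_le_card_of_injective f fun b b' e => ?_) (by simp [Nat.card_prod])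
    simp only [f, Prod.mk.injEq, decide_eq_decide] at e
    have hvu : u + v ≠ v := fun h => hu0 (add_eq_right.1 h)
    have key : v + polar P.QW a v • b.1.1 - (polar P.QW b.1.1 v + P.QW b.1.1 * polar P.QW a v) • a =
        v + polar P.QW a v • b'.1.1 - (polar P.QW b'.1.1 v + P.QW b'.1.1 * polar P.QW a v) • a := by
      rcases hb b with h | h <;> rcases hb b' with h' | h'
      · rw [h, h']
      · exact absurd (h'.symm.trans (e.1.1 h)) hvu
      · exact absurd (h.symm.trans (e.1.2 h')) hvu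
      · rw [h, h']
    rw [e.2, sub_left_inj, add_right_inj] at key
    exact Subtype.ext (Subtype.ext (smul_right_injective P.W hav key))
  have hS := stable_orbit P o
  have hidx : Nat.card F ^ (finrank F P.W - 2) ≤
      2 * Nat.card F * through P ψ (MulAction.orbit ↥(siegelGroup P.QW) o) u := by
    have h := index_keep_le P ψ ha hau hS (MulAction.mem_orbit_self o) hu (T := ∅)
      (Set.empty_subset _) fun b h => h.elim
    rw [Set.ncard_empty, add_zero] at h
    calc Nat.card F ^ (finrank F P.W - 2) ≤ Nat.card (perpTwo P a u) := card_perpTwo P a u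
      _ = _ := card_perpTwo_eq P ψ
      _ ≤ _ := by
        rw [mul_comm]
        exact Nat.mul_le_mul hkeep (h.trans (annSet_le_through P ψ _ u))
  have hcnt := count_le P hQ hψ (MulAction.orbit ↥(siegelGroup P.QW) o) (hC0 c hc0)
    (m := through P ψ (MulAction.orbit ↥(siegelGroup P.QW) o) u) fun z hz => le_of_eq
      (through_eq_of_value P hQ h5 hS hu0 (fun e => hC0 c hc0 (e ▸ hz)) (hc.symm.trans hz.symm))
  rw [card_points_const P hQ hψ fun o' ho' => (card_translate P ψ ho').trans hcard,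
    ← Nat.card_coe_set_eq] at hcnt
  have hpts := card_points_le P (X := X) (MulAction.orbit ↥(siegelGroup P.QW) o)
  rw [card_points_const P hQ hψ fun o' ho' => (card_translate P ψ ho').trans hcard] at hpts
  have hmul := Nat.mul_le_mul_right (Nat.card {z : P.W // P.QW z = c}) hidx
  change through P ψ _ u * Nat.card {z : P.W // P.QW z = c} + _ ≤ _ at hcnt
  nlinarith [hcnt, hpts, hmul, Nat.zero_le (Nat.card F)]

omit hnone in
/-- A totally singular non-line: its translates give a large set of points. -/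
theorem irregular_singular {w : ℕ}
    (hw : ∀ D : Submodule F P.W, (∀ x ∈ D, P.QW x = 0) → Nat.card D ≤ Nat.card F ^ w)
    (hwd : w + 2 ≤ finrank F P.W) {o : Orb P X} (hA : ∀ z ∈ orbA P ψ o, P.QW z = 0) {u v : P.W}
    (hu : u ∈ orbA P ψ o) (hu0 : u ≠ 0) (hv : v ∈ orbA P ψ o) (hind : ∀ t : F, v ≠ t • u) :
    Nat.card (orbA P ψ o) ≤ Nat.card F ^ w ∧
    (∀ z : P.W, z ≠ 0 → P.QW z = 0 → Nat.card F ^ (finrank F P.W - 2 - w) + 1 ≤
      (annSet P ψ (MulAction.orbit ↥(siegelGroup P.QW) o) z).ncard) ∧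
    (Nat.card F ^ (finrank F P.W - 2 - w) + 1) * Nat.card {z : P.W // z ≠ 0 ∧ Q (z : V) = 0} +
      (MulAction.orbit ↥(siegelGroup P.QW) o).ncard ≤
      Nat.card (orbA P ψ o) * (MulAction.orbit ↥(siegelGroup P.QW) o).ncard ∧
    Nat.card (orbA P ψ o) * (MulAction.orbit ↥(siegelGroup P.QW) o).ncard ≤ Nat.card X := by
  classical
  have hann : ∀ z : P.W, z ≠ 0 → P.QW z = 0 → Nat.card F ^ (finrank F P.W - 2 - w) + 1 ≤
      (annSet P ψ (MulAction.orbit ↥(siegelGroup P.QW) o) z).ncard := by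
    intro z hz0 hz
    obtain ⟨o', ho', hzo⟩ := exists_in_translate P hQ h5 ψ hu hu0 hz0 ((hA u hu).trans hz.symm)
    have hA' := singular_translate P ψ ho' hA
    obtain ⟨k, rfl⟩ := ho'
    obtain ⟨z₁, hz₁, hzind⟩ := exists_indep_partner P ((mem_orbA_smul P ψ k o u).2 hu)
      ((mem_orbA_smul P ψ k o v).2 hv) (fun e => hu0 (k.1.1.injective (by rw [e, map_zero])))
      (fun t e => hind t (k.1.1.injective (by rw [e, map_smul]))) z
    exact le_annSet P ψ hQ h5 hw hwd (stable_orbit P o) (MulAction.mem_orbit _ k) hA' hzo hz0 hz₁ hzind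
  refine ⟨?_, hann, ?_, ?_⟩
  · refine le_trans ?_ (hw _ (singular_span P hA))
    exact Nat.card_le_card_of_injective (fun z => ⟨z.1, Submodule.subset_span z.2⟩)
      fun z z' e => Subtype.ext (congrArg (fun z => z.1) e :)
  · rw [← card_points_const P hQ hψ fun o' ho' => card_translate P ψ ho']
    have h := count_le P hQ hψ (MulAction.orbit ↥(siegelGroup P.QW) o)
      (C := {z : P.W | z ≠ 0 ∧ Q (z : V) = 0}) (fun e => e.1 rfl)
      (m := Nat.card F ^ (finrank F P.W - 2 - w) + 1)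
      fun z hz => (hann z hz.1 hz.2).trans (annSet_le_through P ψ _ z)
    rw [← Nat.card_coe_set_eq] at h
    exact h
  · rw [← card_points_const P hQ hψ fun o' ho' => card_translate P ψ ho']
    exact card_points_le P _

end CfsgLib.Classical.OMinIdx
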