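import Cfsg.Agent.Lib.Classical.OMinIdxRegular
import Cfsg.Agent.Lib.Classical.OMinIdxIrregular

/-!
# Maximal totally singular annihilators
-/

set_option autoImplicit false
set_option linter.unusedSectionVars false

namespace CfsgLib.Classical.OMinIdx

open CfsgLib.Geom CfsgLib.Classical CfsgLib.Classical.OMinDeg Module
open QuadraticMap (polar)

theorem arith_small {q n s σ N W M S T : ℕ} (h1 : (q + 1) * n + σ ≤ s * σ) (h2 : s * σ ≤ N)
    (hM : (q + 1) * n = W * M) (hT : T = (W + 1) * M + S) (hS : S ≤ M) (hN : N < T)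
    (hs : 2 * s ≤ W + 1) (hW : 1 ≤ W) : False := by
  obtain ⟨W, rfl⟩ : ∃ W', W = W' + 1 := ⟨W - 1, by omega⟩
  rw [hM] at h1
  have h3 := Nat.mul_le_mul_right σ hs
  rw [mul_assoc] at h3
  have h4 : 2 * ((W + 1) * M) ≤ W * σ := by linarith
  have h5 : 2 * M ≤ σ := by
    by_contra h
    have h6 : W * σ ≤ W * (2 * M) := Nat.mul_le_mul_left _ (by omega)
    linarith
  linarith

theorem arith_ge {q n σ W M : ℕ} (h1 : (q + 1) * n + σ ≤ (W + 1) * σ)
    (hM : (q + 1) * n = W * M) (hW : 1 ≤ W) : M ≤ σ := by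
  rw [hM] at h1
  exact Nat.le_of_mul_le_mul_left (by linarith : W * M ≤ W * σ) hW

theorem arith_through {q n σ N W M S T : ℕ} (h1 : (q + 2) * n + σ ≤ (W + 1) * σ)
    (h2 : (W + 1) * σ ≤ N) (hM : (q + 1) * n = W * M) (hσ : M ≤ σ) (hS : S ≤ n)
    (hT : T = (W + 1) * M + S) (hN : N < T) : False := by
  linarith

theorem arith_out {n σ c N R W M S T : ℕ} (h1 : 1 * n + c ≤ R) (hS : S ≤ n)
    (hsum : (W + 1) * σ + R = N) (hσ : M ≤ σ) (hT : T = (W + 1) * M + S) (hN : N < T) : False := by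
  have := Nat.mul_le_mul_left (W + 1) hσ
  linarith

theorem arith_dvd {σ N W M S T f g : ℕ} (hsum : (W + 1) * σ + f = N) (hσ : M ≤ σ)
    (hT : T = (W + 1) * M + S) (hg : T = N + g) (hsq : S * S < 4 * ((W + 1) * M)) : g * f < N := by
  have h0 := Nat.mul_le_mul_left (W + 1) hσ
  have h1 : g + f ≤ S := by linarith
  have h2 := Nat.mul_le_mul h1 h1
  have h3 : 4 * (g * f) ≤ (g + f) * (g + f) := by nlinarith [sq_nonneg ((g : ℤ) - f)]
  linarith

variable {F V : Type*} [Field F] [Finite F] [AddCommGroup V] [Module F V] [FiniteDimensional F V]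
  {Q : QuadraticForm F V} {X : Type*} [MulAction ↥(siegelGroup Q) X]

/-- Fixed by a whole root group. -/
def FixBy (Q : QuadraticForm F V) {X : Type*} [MulAction ↥(siegelGroup Q) X] (v : V) (y : X) : Prop :=
  ∀ z, polar Q v z = 0 → rootEl Q v z • y = y

theorem fixBy_smul (g : ↥(siegelGroup Q)) (v : V) (y : X) :
    FixBy Q (g.1.1 v) (g • y) ↔ FixBy Q v y := by
  constructor
  · intro h z hz
    have h' := h (g.1.1 z) (by rwa [polar_quadIsom g.1.2])
    rw [← rootEl_conj, ← mul_smul, inv_mul_cancel_right, mul_smul] at h'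
    exact MulAction.injective g h'
  · intro h z hz
    obtain ⟨z, rfl⟩ := g.1.1.surjective z
    rw [polar_quadIsom g.1.2] at hz
    rw [← rootEl_conj, ← mul_smul, inv_mul_cancel_right, mul_smul, h z hz]

theorem fixBy_scale {t : F} {v : V} {y : X} (ht : t ≠ 0) (hv : Q v = 0) (h : FixBy Q v y) :
    FixBy Q (t • v) y := by
  intro z hz
  rw [QuadraticMap.polar_smul_left, smul_eq_zero] at hz
  have hz' := hz.resolve_left ht
  have e : (rootEl Q (t • v) z : ↥(siegelGroup Q)) = rootEl Q v (t • z) :=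
    Subtype.ext (siegel_smul Q hv hz' t)
  rw [e]
  exact h _ (by rw [QuadraticMap.polar_smul_right, hz', smul_zero])

variable (P : Pair Q)

/-- A value avoided by the orthogonal of a maximal totally singular subspace. -/
theorem exists_avoided_value {A K : Submodule F P.W} (hAK : A ≤ K) (hA : ∀ x ∈ A, P.QW x = 0)
    (hperp : ∀ x ∈ A, ∀ z ∈ K, polar P.QW x z = 0)
    (hK : Nat.card K = Nat.card A ∨ (Nat.card K ≤ Nat.card F * Nat.card A ∧ (2 : F) ≠ 0)) :
    ∃ c : F, c ≠ 0 ∧ ∀ z ∈ K, P.QW z ≠ c := by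
  classical
  haveI := Fintype.ofFinite F
  haveI : Finite P.W := Module.finite_of_finite F
  by_cases hex : ∃ z ∈ K, z ∉ A
  swap
  · push Not at hex
    exact ⟨1, one_ne_zero, fun z hz e => one_ne_zero (α := F) (e.symm.trans (hA z (hex z hz)))⟩
  obtain ⟨z, hz, hzA⟩ := hex
  have hlt : Nat.card A < Nat.card K := by
    refine lt_of_le_of_ne (Nat.card_le_card_of_injective _ (Submodule.inclusion_injective hAK)) fun e => ?_
    exact hzA (Submodule.eq_of_le_of_finrank_eq hAK (by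
      rw [Module.natCard_eq_pow_finrank (K := F) (V := A), Module.natCard_eq_pow_finrank (K := F) (V := K)] at e
      exact Nat.pow_right_injective Finite.one_lt_card e) ▸ hz)
  obtain ⟨hle, h2⟩ := hK.resolve_left fun e => by omega
  have hsurj : ∀ y ∈ K, ∃ x ∈ A, ∃ t : F, y = x + t • z := by
    let f : A × F → K := fun p => ⟨p.1.1 + p.2 • z, add_mem (hAK p.1.2) (K.smul_mem _ hz)⟩
    have hf : Function.Injective f := by
      intro p p' e
      have e' : p.1.1 + p.2 • z = p'.1.1 + p'.2 • z := congrArg Subtype.val e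
      have ht : p.2 = p'.2 := by
        by_contra hne
        refine hzA ?_
        have h : (p.2 - p'.2) • z = p'.1.1 - p.1.1 := by
          rw [sub_smul, eq_sub_iff_add_eq, sub_add_eq_add_sub, sub_eq_iff_eq_add, add_comm, e']
        rw [← inv_smul_smul₀ (sub_ne_zero.2 hne) z, h]
        exact A.smul_mem _ (sub_mem p'.1.2 p.1.2)
      rw [ht, add_left_inj] at e'
      exact Prod.ext (Subtype.ext e') ht
    have hbij := (Nat.bijective_iff_injective_and_card f).2 ⟨hf, le_antisymm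
      (Nat.card_le_card_of_injective f hf) (by rw [Nat.card_prod, mul_comm]; exact hle)⟩
    intro y hy
    obtain ⟨p, hp⟩ := hbij.2 ⟨y, hy⟩
    exact ⟨p.1.1, p.1.2, p.2, (congrArg Subtype.val hp).symm⟩
  obtain ⟨c, hc0, hc⟩ : ∃ c : F, c ≠ 0 ∧ ∀ t : F, t * t * P.QW z ≠ c := by
    by_cases hQz : P.QW z = 0
    · exact ⟨1, one_ne_zero, fun t => by rw [hQz, mul_zero]; exact zero_ne_one⟩
    obtain ⟨ν, hν⟩ := FiniteField.exists_nonsquare (F := F) fun h => h2 (by
      haveI := ringChar.of_eq h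
      exact CharTwo.two_eq_zero)
    refine ⟨ν * P.QW z, mul_ne_zero (fun h => hν (h ▸ IsSquare.zero)) hQz, fun t ht => hν ⟨t, ?_⟩⟩
    exact (mul_right_cancel₀ hQz ht).symm
  refine ⟨c, hc0, fun y hy e => ?_⟩
  obtain ⟨x, hx, t, rfl⟩ := hsurj y hy
  rw [QuadraticMap.map_add (P.QW : QuadraticMap F P.W F), hA x hx, quad_smul,
    QuadraticMap.polar_smul_right, hperp x hx z hz, smul_zero, zero_add, add_zero] at e
  exact hc t e

variable [Finite X] [hX : MulAction.IsPretransitive ↥(siegelGroup Q) X] [Fintype P.W]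
  (hQ : ∀ x, (∀ y, polar Q x y = 0) → x = 0) (h5 : 5 ≤ finrank F P.W)
  {ψ : AddChar F ℂ} (hψ : ψ.IsPrimitive)
include hX hQ h5 hψ

/-- The extreme case: the number of points is at least the number of singular points. -/
theorem singular_extreme (hq4 : 4 ≤ Nat.card F) {w : ℕ}
    (hw : ∀ D : Submodule F P.W, (∀ x ∈ D, P.QW x = 0) → Nat.card D ≤ Nat.card F ^ w)
    (hd : finrank F P.W = w + 3) (hd2 : finrank F P.W = 2 * w ∨ (finrank F P.W = 2 * w + 1 ∧ (2 : F) ≠ 0))
    {T M₀ S₀ : ℕ}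
    (hT : Nat.card {v : V // v ≠ 0 ∧ Q v = 0} = (Nat.card F - 1) * T)
    (hM : (Nat.card F + 1) * Nat.card {z : P.W // z ≠ 0 ∧ Q (z : V) = 0} = (Nat.card F ^ w - 1) * M₀)
    (hTS : T = Nat.card F ^ w * M₀ + S₀) (hS₀ : S₀ ≤ M₀)
    (hn0 : S₀ ≤ Nat.card {z : P.W // z ≠ 0 ∧ Q (z : V) = 0})
    (hn : ∀ c : F, c ≠ 0 → S₀ ≤ Nat.card {z : P.W // P.QW z = c})
    (hsq : S₀ * S₀ < 4 * (Nat.card F ^ w * M₀))
    {o : Orb P X} (hA : ∀ z ∈ orbA P ψ o, P.QW z = 0) {u v : P.W}
    (hu : u ∈ orbA P ψ o) (hu0 : u ≠ 0) (hv : v ∈ orbA P ψ o) (hind : ∀ t : F, v ≠ t • u) :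
    T ≤ Nat.card X := by
  classical
  by_contra hlt
  push Not at hlt
  haveI : Finite P.W := Module.finite_of_finite F
  obtain ⟨hs, hann, hcount, hpts⟩ :=
    irregular_singular P hQ h5 hψ hw (by omega) hA hu hu0 hv hind
  rw [show finrank F P.W - 2 - w = 1 by omega, pow_one] at hcount hann
  obtain ⟨S, hSdef⟩ : ∃ S, S = MulAction.orbit ↥(siegelGroup P.QW) o := ⟨_, rfl⟩
  rw [← hSdef] at hcount hpts hann
  have hstab : Stable P S := hSdef ▸ stable_orbit P o
  have hocard : ∀ o' ∈ S, Nat.card (orbA P ψ o') = Nat.card (orbA P ψ o) := fun o' ho' =>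
    card_translate P ψ (hSdef ▸ ho')
  obtain ⟨n₀, hn₀⟩ : ∃ n, n = Nat.card {z : P.W // z ≠ 0 ∧ Q (z : V) = 0} := ⟨_, rfl⟩
  rw [← hn₀] at hcount hM hn0
  obtain ⟨q, hq⟩ : ∃ q, q = Nat.card F := ⟨_, rfl⟩
  rw [← hq] at hq4 hw hT hM hTS hsq hcount hann hs
  obtain ⟨W₀, hW₀⟩ : ∃ W₀, q ^ w = W₀ + 1 := ⟨q ^ w - 1, (Nat.sub_add_cancel (Nat.one_le_pow _ _ (by omega))).symm⟩
  rw [hW₀, Nat.add_sub_cancel] at hM
  rw [hW₀] at hTS hs hsq
  have hW1 : 1 ≤ W₀ := by
    have : 2 ≤ Nat.card (orbA P ψ o) :=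
      Finite.one_lt_card_iff_nontrivial.2 ⟨⟨u, hu⟩, 0, fun e => hu0 (congrArg Subtype.val e)⟩
    omega
  -- the annihilators are maximal
  have hsW : Nat.card (orbA P ψ o) = W₀ + 1 := by
    by_contra hne
    obtain ⟨p, hp⟩ := CharP.exists F
    haveI := Fintype.ofFinite F
    obtain ⟨n, hp', hqn⟩ := FiniteField.card F p
    have hdvd := AddSubgroup.card_addSubgroup_dvd_card (orbA P ψ o)
    rw [Module.natCard_eq_pow_finrank (K := F) (V := P.W), Nat.card_eq_fintype_card (α := F), hqn,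
      ← pow_mul] at hdvd
    obtain ⟨i, -, hi⟩ := (Nat.dvd_prime_pow hp').1 hdvd
    rw [hq, Nat.card_eq_fintype_card (α := F), hqn, ← pow_mul] at hW₀
    have hilt : i < n * w := by
      rw [hi, ← hW₀] at hne hs
      exact lt_of_le_of_ne ((Nat.pow_le_pow_iff_right hp'.one_lt).1 hs) fun e => hne (by rw [e])
    have h2 : 2 * Nat.card (orbA P ψ o) ≤ W₀ + 1 := by
      rw [hi, ← hW₀]
      calc 2 * p ^ i ≤ p * p ^ i := Nat.mul_le_mul_right _ hp'.two_le
        _ = p ^ (i + 1) := by rw [pow_succ, mul_comm]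
        _ ≤ p ^ ((n : ℕ) * w) := Nat.pow_le_pow_right hp'.pos hilt
    exact arith_small hcount hpts hM hTS hS₀ hlt h2 hW1
  rw [hsW] at hcount hpts
  have hM₀ : M₀ ≤ S.ncard := arith_ge hcount hM hW1
  -- exactly q + 1 orbits through each vector
  have hthr : ∀ z : P.W, z ≠ 0 → P.QW z = 0 → through P ψ S z ≤ q + 1 := by
    intro z hz0 hz
    by_contra h
    push Not at h
    have hc := count_le P hQ hψ S (C := {z : P.W | z ≠ 0 ∧ Q (z : V) = 0}) (fun e => e.1 rfl)
      (m := q + 2) fun z' hz' => by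
        rw [← through_eq_of_value P hQ h5 hstab hz0 hz'.1 (hz.trans hz'.2.symm)]
        exact h
    rw [card_points_const P hQ hψ hocard, hsW, ← Nat.card_coe_set_eq] at hc
    change (q + 2) * Nat.card {z : P.W // z ≠ 0 ∧ Q (z : V) = 0} + _ ≤ _ at hc
    rw [← hn₀] at hc
    exact arith_through hc hpts hM hM₀ hn0 hTS hlt
  -- an annihilator determines its orbit
  have hinj : ∀ z : P.W, z ≠ 0 → P.QW z = 0 →
      Set.InjOn (orbA P ψ) {o' | o' ∈ S ∧ z ∈ orbA P ψ o'} := fun z hz0 hz => by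
    refine Set.injOn_of_ncard_image_eq (le_antisymm (Set.ncard_image_le (Set.toFinite _)) ?_) (Set.toFinite _)
    refine le_trans ?_ (hann z hz0 hz)
    rw [← Nat.card_coe_set_eq]
    exact hthr z hz0 hz
  -- everything else is fixed by the radical
  have hout : ∀ o' ∉ S, ∀ z ∈ orbA P ψ o', z = 0 := by
    intro o' ho' z hz
    by_contra hz0
    have hc := count_le P hQ hψ Sᶜ (C := {x : P.W | x ≠ 0 ∧ P.QW x = P.QW z}) (fun e => e.1 rfl) (m := 1)
      fun x hx => by
        rw [← through_eq_of_value P hQ h5 (fun k o'' => not_congr (hstab k o'')) hz0 hx.1 hx.2.symm]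
        exact one_le_through P ψ ho' hz
    have hsum := card_points_add P S (X := X)
    rw [card_points_const P hQ hψ hocard, hsW] at hsum
    rw [← Nat.card_coe_set_eq] at hc
    have hclass : S₀ ≤ Nat.card {x : P.W // x ≠ 0 ∧ P.QW x = P.QW z} := by
      by_cases h0 : P.QW z = 0
      · rw [h0]; exact le_trans hn0 (le_of_eq hn₀)
      · refine le_trans (hn _ h0) (le_of_eq (Nat.card_congr (Equiv.subtypeEquivRight fun x => ?_)))
        exact ⟨fun e => ⟨fun ex => h0 (by rw [← e, ex, QuadraticMap.map_zero]), e⟩, And.right⟩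
    change 1 * Nat.card {x : P.W // x ≠ 0 ∧ P.QW x = P.QW z} + _ ≤ _ at hc
    exact arith_out hc hclass hsum hM₀ hTS hlt
  have hfixed : ∀ y : X, FixBy Q P.e y ↔ Orb.mk P y ∈ Sᶜ := by
    intro y
    have hiff : FixBy Q P.e y ↔ ∀ r, P.rad r • y = y := by
      refine ⟨fun h r => h r (P.W_e r), fun h z hz => ?_⟩
      have e : rootEl Q P.e z = P.rad (P.pr z) := Subtype.ext (P.siegel_e_pr hz)
      rw [e, h]
    rw [hiff]
    constructor
    · intro h hy
      have h1 : stabW P y = ⊤ := (AddSubgroup.eq_top_iff' _).2 fun r => (mem_stabW P).2 (h r)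
      have h2 := card_ann P hQ hψ (stabW P y)
      rw [h1, AddSubgroup.index_top, ← h1, ← orbA_mk, hocard _ hy, hsW] at h2
      have : 2 ≤ Nat.card (orbA P ψ o) :=
        Finite.one_lt_card_iff_nontrivial.2 ⟨⟨u, hu⟩, 0, fun e => hu0 (congrArg Subtype.val e)⟩
      omega
    · intro hy r
      refine (mem_stabW P).1 (mem_of_ann P hQ hψ fun z hz => ?_)
      rw [hout _ hy z hz]
      simp [P.chi_apply]
  -- there are no fixed points
  have hempty : ∀ o' : Orb P X, o' ∈ S := by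
    have hdvd := dvd_of_pairs (X := X) hQ (five_le P hQ h5) (FixBy Q) fixBy_smul
      (fun t v y ht hv h => fixBy_scale ht hv h) P.he P.e_ne (hq ▸ hT)
    rw [Nat.card_congr (Equiv.subtypeEquivRight hfixed)] at hdvd
    have hsum := card_points_add P S (X := X)
    rw [card_points_const P hQ hψ hocard, hsW] at hsum
    obtain ⟨f, hf⟩ : ∃ f, f = Nat.card {y : X // Orb.mk P y ∈ Sᶜ} := ⟨_, rfl⟩
    rw [← hf] at hdvd hsum
    obtain ⟨g, hg⟩ : ∃ g, T = Nat.card X + g := ⟨T - Nat.card X, by omega⟩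
    have hdvd' : Nat.card X ∣ g * f := by
      have h := Nat.dvd_sub hdvd (dvd_mul_right (Nat.card X) f)
      rwa [hg, add_mul, Nat.add_sub_cancel_left] at h
    have hgf : g * f < Nat.card X := arith_dvd hsum hM₀ hTS hg hsq
    have hf0 : f = 0 := by
      rcases Nat.mul_eq_zero.1 (Nat.eq_zero_of_dvd_of_lt hdvd' hgf) with h | h
      · omega
      · exact h
    intro o'
    by_contra ho'
    obtain ⟨y, rfl⟩ := exists_rep P o'
    have hpos : 0 < Nat.card {y : X // Orb.mk P y ∈ Sᶜ} := Nat.card_pos_iff.2 ⟨⟨⟨y, ho'⟩⟩, inferInstance⟩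
    omega
  -- the annihilator of the orbit is a subspace
  have hsub : ∀ o' : Orb P X, ∀ z ∈ orbA P ψ o', ∀ t : F, t • z ∈ orbA P ψ o' := by
    intro o' z hz t
    have hA' := singular_translate P ψ (hSdef ▸ hempty o') hA
    obtain ⟨D, hD⟩ : ∃ D, D = Submodule.span F (orbA P ψ o' : Set P.W) := ⟨_, rfl⟩
    have hle : (orbA P ψ o' : Set P.W) ⊆ D := hD ▸ Submodule.subset_span
    have heq : (orbA P ψ o' : Set P.W) = D := by
      refine Set.eq_of_subset_of_ncard_le hle ?_ (Set.toFinite _)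
      rw [← Nat.card_coe_set_eq, ← Nat.card_coe_set_eq]
      exact (hw D (hD ▸ singular_span P hA')).trans
        (le_of_eq (by rw [hW₀]; exact ((hocard _ (hempty o')).trans hsW).symm))
    rw [← SetLike.mem_coe, heq] at hz ⊢
    exact D.smul_mem t hz
  have hperp : ∀ (y : X) (r : P.W), P.rad r • y = y ↔ ∀ z ∈ orbA P ψ (Orb.mk P y), polar P.QW z r = 0 := by
    intro y r
    constructor
    · intro h z hz
      by_contra hne
      refine hψ hne (DFunLike.ext _ _ fun s => ?_)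
      have h1 := hsub _ z hz s
      rw [orbA_mk, mem_ann] at h1
      have h2 := h1 r ((mem_stabW P).2 h)
      rw [P.chi_apply, Submodule.coe_smul, QuadraticMap.polar_smul_left, ← P.polar_QW, smul_eq_mul,
        mul_comm] at h2
      rw [AddChar.mulShift_apply, AddChar.one_apply]
      exact h2
    · intro h
      refine (mem_stabW P).1 (mem_of_ann P hQ hψ fun z hz => ?_)
      rw [P.chi_apply, ← P.polar_QW, h z hz, AddChar.map_zero_eq_one]
  obtain ⟨y₀, hy₀⟩ := exists_rep P o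
  obtain ⟨A, hAm⟩ : ∃ A : Submodule F P.W, ∀ z, z ∈ A ↔ z ∈ orbA P ψ o :=
    ⟨{ carrier := orbA P ψ o
       add_mem' := fun ha hb => add_mem ha hb
       zero_mem' := zero_mem _
       smul_mem' := fun t z hz => hsub o z hz t }, fun z => Iff.rfl⟩
  obtain ⟨K, hKm⟩ : ∃ K : Submodule F P.W, ∀ z, z ∈ K ↔ ∀ x ∈ orbA P ψ o, polar P.QW x z = 0 :=
    ⟨⨅ x ∈ orbA P ψ o, LinearMap.ker (QuadraticMap.polarBilin P.QW x), fun z => by simp⟩
  obtain ⟨c, hc0, hc⟩ := exists_avoided_value P (A := A) (K := K)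
    (fun z hz => (hKm z).2 fun x hx => by
      have h := hA _ (add_mem hx ((hAm z).1 hz))
      rw [QuadraticMap.map_add (P.QW : QuadraticMap F P.W F), hA x hx, hA z ((hAm z).1 hz), zero_add,
        zero_add] at h
      exact h)
    (fun x hx => hA x ((hAm x).1 hx)) (fun x hx z hz => (hKm z).1 hz x ((hAm x).1 hx)) (by
      have hAc : Nat.card A = Nat.card (orbA P ψ o) := Nat.card_congr (Equiv.subtypeEquivRight hAm)
      have hKc : Nat.card K = Nat.card (stabW P y₀) :=
        Nat.card_congr (Equiv.subtypeEquivRight fun z => by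
          rw [hKm, mem_stabW, hperp, hy₀])
      have hmul := (stabW P y₀).index_mul_card
      rw [← card_ann P hQ hψ, ← orbA_mk, hy₀, hsW, ← hW₀, ← hKc,
        Module.natCard_eq_pow_finrank (K := F) (V := P.W), ← hq] at hmul
      rw [hAc, hsW, ← hW₀]
      rcases hd2 with e | ⟨e, e2⟩
      · left
        rw [e, two_mul, pow_add] at hmul
        exact Nat.eq_of_mul_eq_mul_left (pow_pos (by omega) w) hmul
      · right
        refine ⟨le_of_eq ?_, e2⟩
        rw [e, two_mul, pow_succ, pow_add, mul_assoc] at hmul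
        rw [Nat.eq_of_mul_eq_mul_left (pow_pos (by omega) w) hmul, mul_comm, hq])
  -- no radical element of that value fixes anything
  have hfpf : ∀ (r : P.W), P.QW r = c → ∀ y : X, P.rad r • y ≠ y := by
    intro r hr y hy
    rw [hperp] at hy
    obtain ⟨k, hk⟩ := (hSdef ▸ hempty (Orb.mk P y) : Orb.mk P y ∈ MulAction.orbit ↥(siegelGroup P.QW) o)
    refine hc (k.1.1.symm r) ((hKm _).2 fun x hx => ?_) ?_
    · have h := hy (k.1.1 x) (by rw [← hk]; exact (mem_orbA_smul P ψ k o x).2 hx)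
      rwa [← k.1.1.apply_symm_apply r, polar_quadIsom k.1.2] at h
    · rw [← mem_quadIsoms.1 k.1.2 (k.1.1.symm r), LinearEquiv.apply_symm_apply, hr]
  -- a root element of that value
  have hWsep := P.sep_W hQ
  obtain ⟨b, hb⟩ : ∃ b : P.W, P.QW b = c := by
    obtain ⟨x, hx0, hx⟩ := exists_singular P.QW hWsep h5
    obtain ⟨z, hz⟩ := exists_partner P.QW hWsep hx0
    refine ⟨z + (c - P.QW z) • x, ?_⟩
    rw [quad_map_add_smul, hx, QuadraticMap.polar_comm _ z x, hz]; ring
  have hb0 : b ≠ 0 := fun e => hc0 (by rw [← hb, e, QuadraticMap.map_zero])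
  obtain ⟨R, hbe, -⟩ := exists_perp_pair hWsep h5 hb0
  obtain ⟨o', ho', hao'⟩ := exists_in_translate P hQ h5 ψ hu hu0 R.e_ne ((hA u hu).trans R.he.symm)
  have hA' := singular_translate P ψ ho' hA
  rw [← hSdef] at ho'
  have hab : polar P.QW R.e b = 0 := by rw [QuadraticMap.polar_comm]; exact hbe
  have hbline : ∀ t : F, b ≠ t • R.e := fun t e => hc0 (by
    rw [← hb, e, quad_smul, R.he, mul_zero])
  have hpolA : ∀ x ∈ orbA P ψ o', polar P.QW R.e x = 0 := fun x hx => by
    have h := hA' _ (add_mem hao' hx)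
    rw [QuadraticMap.map_add (P.QW : QuadraticMap F P.W F), hA' _ hao', hA' x hx, zero_add, zero_add] at h
    exact h
  have hko : kk P R.e b • o' = o' := by
    have hmem : ∀ x ∈ orbA P ψ o', x ∈ orbA P ψ (kk P R.e b • o') := by
      intro x hx
      have hx' : x + polar P.QW b x • R.e ∈ orbA P ψ o' := add_mem hx (hsub o' _ hao' _)
      have h := (mem_orbA_smul P ψ (kk P R.e b) o' _).2 hx'
      rw [kk_apply P R.he hab, QuadraticMap.polar_add_right, QuadraticMap.polar_smul_right, hpolA x hx,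
        polar_self_of_singular P.QW R.he, QuadraticMap.polar_add_right, QuadraticMap.polar_smul_right,
        hbe] at h
      simpa using h
    have hle : orbA P ψ o' ≤ orbA P ψ (kk P R.e b • o') := hmem
    refine hinj R.e R.e_ne R.he ⟨(hstab _ _).2 ho', hmem _ hao'⟩ ⟨ho', hao'⟩ ?_
    exact (AddSubgroup.eq_of_le_of_card_ge hle (le_of_eq (card_orbA_smul P ψ _ _))).symm
  -- a torus element fixes exactly one point of the orbit
  haveI := Fintype.ofFinite F
  obtain ⟨d, hd'⟩ : ∃ d : Fˣ, (d : F) ^ 2 ≠ 1 := by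
    by_contra h
    push Not at h
    have hle : (Finset.univ : Finset Fˣ).card ≤ ({1, -1} : Finset Fˣ).card := by
      refine Finset.card_le_card fun x _ => ?_
      rcases sq_eq_one_iff.1 (h x) with e | e
      · simp [Units.ext_iff, e]
      · simp [Units.ext_iff, e]
    rw [Finset.card_univ, Fintype.card_units, ← Nat.card_eq_fintype_card, ← hq] at hle
    have := Finset.card_le_two (a := (1 : Fˣ)) (b := -1)
    omega
  obtain ⟨v₁, -, -, hv₁⟩ := exists_perp_anisotropic P.QW hWsep h5 0 0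
  obtain ⟨α, hα⟩ : ∃ α : F, α = ((d ^ 2 : Fˣ) : F) := ⟨_, rfl⟩
  have hα0 : α ≠ 0 := hα ▸ Units.ne_zero _
  have hα1 : 1 - α ≠ 0 := sub_ne_zero.2 fun e => hd' (by rw [e, hα, Units.val_pow_eq_pow_val])
  let t : ↥(siegelGroup Q) := ⟨P.torus (d ^ 2), P.torus_sq_mem hv₁ d⟩
  have htW : ∀ r : P.W, t.1.1 (r : V) = (r : V) := fun r => by
    change (P.torus (d ^ 2)).1 (r : V) = _
    rw [P.torus_apply, P.pr_W, P.W_e, P.W_f]; simp
  have hte : t.1.1 P.e = α • P.e := by
    have hpe : P.pr P.e = 0 := Subtype.ext (by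
      rw [P.coe_pr, P.hfe, polar_self_of_singular Q P.he]; simp)
    change (P.torus (d ^ 2)).1 P.e = _
    rw [P.torus_apply, hpe, P.hfe, polar_self_of_singular Q P.he, hα]; simp
  have htr : ∀ r (y : X), t • P.rad r • y = P.rad (α • r) • t • y := fun r y => by
    have h := P.conj_rad hte hα0 r
    rw [htW, P.pr_W] at h
    rw [← mul_smul, ← mul_smul, mul_inv_eq_iff_eq_mul.1 h]
  obtain ⟨y₁, hy₁⟩ := exists_rep P o'
  have hto : Orb.mk P (t • y₁) = o' := by
    have heqA : orbA P ψ (Orb.mk P (t • y₁)) = orbA P ψ o' := by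
      rw [← hy₁, orbA_mk, orbA_mk]
      congr 1
      ext r
      obtain ⟨r, rfl⟩ : ∃ r', α • r' = r := ⟨α⁻¹ • r, smul_inv_smul₀ hα0 r⟩
      rw [mem_stabW, mem_stabW, ← htr, (MulAction.injective t).eq_iff, hperp, hperp]
      simp [QuadraticMap.polar_smul_right, hα0]
    exact hinj R.e R.e_ne R.he ⟨hempty _, heqA ▸ hao'⟩ ⟨ho', hao'⟩ heqA
  obtain ⟨s, hs'⟩ := (orb_mk_eq P).1 (hy₁.trans hto.symm)
  obtain ⟨y, hydef⟩ : ∃ y, y = P.rad ((1 - α)⁻¹ • s) • y₁ := ⟨_, rfl⟩
  have hy : t • y = y := by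
    rw [hydef, htr, ← hs', ← mul_smul, ← AddChar.map_add_eq_mul]
    congr 2
    match_scalars
    field_simp
    ring
  have hyo : Orb.mk P y = o' := by rw [hydef, orb_mk_rad, hy₁]
  have huniq : ∀ y', Orb.mk P y' = o' → t • y' = y' → y' = y := by
    intro y' hy' hfix
    obtain ⟨r, rfl⟩ := (orb_mk_eq P).1 (hyo.trans hy'.symm)
    rw [htr, hy] at hfix
    have h1 : P.rad (-(α • r) + r) • y = y := by
      rw [AddChar.map_add_eq_mul, mul_smul, ← hfix, ← mul_smul, ← AddChar.map_add_eq_mul, neg_add_cancel,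
        AddChar.map_zero_eq_one, one_smul]
    rw [hperp] at h1 ⊢
    intro z hz
    have h2 := h1 z hz
    rw [QuadraticMap.polar_add_right, QuadraticMap.polar_neg_right, QuadraticMap.polar_smul_right,
      smul_eq_mul] at h2
    exact (mul_eq_zero.1 (show (1 - α) * polar P.QW z r = 0 by linear_combination h2)).resolve_left hα1
  -- the root element commutes with the torus
  obtain ⟨k, hk⟩ : ∃ k : ↥(siegelGroup Q), k = levi P (kk P R.e b) := ⟨_, rfl⟩
  have hkr : k = rootEl Q (R.e : V) (b : V) :=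
    hk.trans (Subtype.ext (P.extend_siegel R.e b))
  have hky : k • y = y := by
    refine huniq _ ?_ ?_
    · rw [hk, ← smul_mk, hyo, hko]
    · rw [← mul_smul, hkr, rootEl_comm (htW R.e) (htW b), mul_smul, hy]
  obtain ⟨g, r, -, hr, he⟩ := exists_conj_rad P hQ h5 R.he R.e_ne hab hbline
  refine hfpf r (hr.trans hb) (g • y) ?_
  rw [← he, ← mul_smul, inv_mul_cancel_right, mul_smul]
  exact congrArg (g • ·) (hk ▸ hky)

end CfsgLib.Classical.OMinIdx
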