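import Cfsg.Agent.Lib.Classical.OMinIdxGeom

/-!
# Vectors orthogonal to three given ones
-/

set_option autoImplicit false
set_option linter.unusedSectionVars false

namespace CfsgLib.Classical.OMinIdx

open CfsgLib.Geom CfsgLib.Classical CfsgLib.Classical.OMinDeg Module
open QuadraticMap (polar)

variable {F V : Type*} [Field F] [Finite F] [AddCommGroup V] [Module F V] [FiniteDimensional F V]
  {Q : QuadraticForm F V} (hQ : ∀ x, (∀ y, polar Q x y = 0) → x = 0) (h5 : 5 ≤ finrank F V)
include hQ h5

/-- A vector orthogonal to three given ones, off a given line. -/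
theorem exists_perp3_off (a b c w : V) :
    ∃ z, polar Q a z = 0 ∧ polar Q b z = 0 ∧ polar Q c z = 0 ∧ ∀ r : F, z ≠ r • w := by
  obtain ⟨T, hT⟩ : ∃ T : V →ₗ[F] F × F × F, T = (QuadraticMap.polarBilin Q a).prod
      ((QuadraticMap.polarBilin Q b).prod (QuadraticMap.polarBilin Q c)) := ⟨_, rfl⟩
  have hT' : ∀ z, z ∈ LinearMap.ker T ↔ polar Q a z = 0 ∧ polar Q b z = 0 ∧ polar Q c z = 0 :=
    fun z => by rw [LinearMap.mem_ker, hT]; simp
  by_contra hall
  push Not at hall
  have hle : LinearMap.ker T ≤ Submodule.span F {w} := fun z hz => by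
    obtain ⟨r, hr⟩ := hall z ((hT' z).1 hz).1 ((hT' z).1 hz).2.1 ((hT' z).1 hz).2.2
    exact Submodule.mem_span_singleton.2 ⟨r, hr.symm⟩
  have h1 := Submodule.finrank_mono hle
  have h2 : finrank F (Submodule.span F ({w} : Set V)) ≤ 1 := by
    simpa using finrank_span_le_card (R := F) ({w} : Set V)
  have h3 := LinearMap.finrank_range_add_finrank_ker T
  have h4 := Submodule.finrank_le (LinearMap.range T)
  simp at h4
  omega

/-- An anisotropic vector orthogonal to three given ones, when these span little of their common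
orthogonal. -/
theorem exists_perp3_anisotropic (a b c : V)
    (h : ∀ r s t : F, polar Q b (r • a + s • b + t • c) = 0 → polar Q c (r • a + s • b + t • c) = 0 →
      polar Q a (r • a + s • b + t • c) = 0 → ∃ r' : F, r • a + s • b + t • c = r' • a) :
    ∃ z, polar Q a z = 0 ∧ polar Q b z = 0 ∧ polar Q c z = 0 ∧ Q z ≠ 0 := by
  by_contra hall
  push Not at hall
  obtain ⟨z, haz, hbz, hcz, hz⟩ := exists_perp3_off hQ h5 a b c a
  obtain ⟨r, s, t, hrst⟩ := exists_comb_of_perp hQ (a := a) (b := b) (c := c) (v := z)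
    fun y hay hby hcy => by
      have h1 := hall z haz hbz hcz
      have h2 := hall y hay hby hcy
      have h3 := hall (z + y) (by rw [QuadraticMap.polar_add_right, haz, hay, add_zero])
        (by rw [QuadraticMap.polar_add_right, hbz, hby, add_zero])
        (by rw [QuadraticMap.polar_add_right, hcz, hcy, add_zero])
      rw [QuadraticMap.map_add (Q : QuadraticMap F V F), h1, h2, zero_add, zero_add] at h3
      exact h3
  obtain ⟨r', hr'⟩ := h r s t (hrst ▸ hbz) (hrst ▸ hcz) (hrst ▸ haz)
  exact hz r' (hrst.trans hr')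

end CfsgLib.Classical.OMinIdx
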