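import Cfsg.Agent.Lib.Classical.OMinIdxFix
import Cfsg.Agent.Lib.Classical.OMinIdxPerp
import Cfsg.Agent.Lib.Classical.OMinDegIsot

/-!
# The radical does not act regularly
-/

set_option autoImplicit false
set_option linter.unusedSectionVars false

namespace CfsgLib.Classical.OMinIdx

open CfsgLib.Geom CfsgLib.Classical CfsgLib.Classical.OMinDeg Module
open QuadraticMap (polar)

variable {F V : Type*} [Field F] [Finite F] [AddCommGroup V] [Module F V] [FiniteDimensional F V]
  {Q : QuadraticForm F V} (P : Pair Q) (hQ : ∀ x, (∀ y, polar Q x y = 0) → x = 0)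
  (h5 : 5 ≤ finrank F P.W)

/-- A root element. -/
noncomputable def rootEl (Q : QuadraticForm F V) (a b : V) : ↥(siegelGroup Q) := ⟨siegel Q a b, siegel_mem Q a b⟩

theorem rootEl_conj (g : ↥(siegelGroup Q)) (a b : V) :
    g * rootEl Q a b * g⁻¹ = (rootEl Q (g.1.1 a) (g.1.1 b) : ↥(siegelGroup Q)) :=
  Subtype.ext (siegel_conj Q g.1 a b)

theorem rootEl_comm {g : ↥(siegelGroup Q)} {a b : V} (ha : g.1.1 a = a) (hb : g.1.1 b = b) :
    g * rootEl Q a b = rootEl Q a b * g := by
  have h := rootEl_conj g a b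
  rw [ha, hb] at h
  exact mul_inv_eq_iff_eq_mul.1 h

/-- The product of the reflections in a list of vectors. -/
def reflProd (Q : QuadraticForm F V) (L : List V) (z : V) : V :=
  L.foldr (fun a y => y + polar Q a y • a) z

theorem reflProd_sub_mem (L : List V) (z : V) :
    reflProd Q L z - z ∈ Submodule.span F {x : V | x ∈ L} := by
  induction L with
  | nil => simp [reflProd]
  | cons a L ih =>
    change reflProd Q L z + polar Q a (reflProd Q L z) • a - z ∈ _
    rw [add_sub_right_comm]
    exact add_mem (Submodule.span_mono (fun x hx => List.mem_cons_of_mem a hx) ih)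
      (Submodule.smul_mem _ _ (Submodule.subset_span List.mem_cons_self))

theorem reflProd_of_perp {L : List V} {z : V} (h : ∀ a ∈ L, polar Q a z = 0) : reflProd Q L z = z := by
  induction L with
  | nil => rfl
  | cons a L ih =>
    change reflProd Q L z + polar Q a (reflProd Q L z) • a = z
    rw [ih fun b hb => h b (List.mem_cons_of_mem a hb), h a List.mem_cons_self, zero_smul, add_zero]

/-- Reflections in independent vectors fix only what is orthogonal to all of them. -/
theorem perp_of_reflProd {L : List V} (hL : LinearIndependent F (fun i : Fin L.length => L.get i))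
    {z : V} (h : reflProd Q L z = z) : ∀ a ∈ L, polar Q a z = 0 := by
  induction L with
  | nil => simp
  | cons a L ih =>
    have h' : reflProd Q L z + polar Q a (reflProd Q L z) • a = z := h
    have hcons : LinearIndependent F (Fin.cons a (fun i : Fin L.length => L.get i) : Fin _ → V) := by
      have e : (Fin.cons a (fun i : Fin L.length => L.get i) : Fin (L.length + 1) → V) =
          fun i => (a :: L).get i := by
        funext i
        refine Fin.cases ?_ (fun j => ?_) i <;> simp
      rw [e]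
      exact hL
    rw [linearIndependent_finCons] at hcons
    have hspan : Submodule.span F {x : V | x ∈ L} =
        Submodule.span F (Set.range fun i : Fin L.length => L.get i) := by
      congr 1; ext x; simp [List.mem_iff_get]
    have hc : polar Q a (reflProd Q L z) = 0 := by
      by_contra hne
      refine hcons.2 ?_
      have hm := reflProd_sub_mem (Q := Q) L z
      have e : reflProd Q L z - z = -(polar Q a (reflProd Q L z) • a) := by
        nth_rewrite 2 [← h']; abel
      rw [e, neg_mem_iff, hspan, Submodule.smul_mem_iff _ hne] at hm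
      exact hm
    rw [hc, zero_smul, add_zero] at h'
    intro b hb
    rcases List.mem_cons.1 hb with rfl | hb
    · rwa [h'] at hc
    · exact ih hcons.1 h' b hb

theorem reflProd_comm {g : quadIsoms Q} {L : List V} (hg : ∀ a ∈ L, g.1 a = a) (z : V) :
    g.1 (reflProd Q L z) = reflProd Q L (g.1 z) := by
  induction L with
  | nil => rfl
  | cons a L ih =>
    change g.1 (reflProd Q L z + polar Q a (reflProd Q L z) • a) =
      reflProd Q L (g.1 z) + polar Q a (reflProd Q L (g.1 z)) • a
    rw [← ih fun b hb => hg b (List.mem_cons_of_mem a hb), map_add, map_smul, hg a List.mem_cons_self]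
    congr 2
    conv_rhs => rw [← hg a List.mem_cons_self, polar_quadIsom g.2]

section Two

variable (hF : Nat.card F = 2)
include hF

omit [FiniteDimensional F V] in
theorem two_cases (x : F) : x = 0 ∨ x = 1 := by
  obtain ⟨a, b, hab, hu⟩ := Nat.card_eq_two_iff.1 hF
  have h : ∀ y : F, y = a ∨ y = b := fun y => by simpa using Set.eq_univ_iff_forall.1 hu y
  rcases h x with rfl | rfl <;> rcases h 0 with h0 | h0 <;> rcases h 1 with h1 | h1 <;>
    first
      | exact Or.inl h0.symm
      | exact Or.inr h1.symm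
      | exact absurd (h0.trans h1.symm) zero_ne_one

omit [FiniteDimensional F V] in
theorem two_add (x : F) : x + x = 0 := by
  rcases two_cases hF (1 + 1 : F) with h | h
  · rw [← two_mul, ← one_add_one_eq_two, h, zero_mul]
  · exact absurd (add_eq_left.1 h) one_ne_zero

/-- Two monomial elements give two reflections. -/
theorem mono_two {a b : P.W} (ha : Q (a : V) = 1) (hb : Q (b : V) = 1) (z : V) :
    (P.mono a * P.mono b).1 z =
      z + polar Q (b : V) z • (b : V) +
        polar Q (a : V) (z + polar Q (b : V) z • (b : V)) • (a : V) := by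
  have hpr : ∀ w : P.W, polar Q (w : V) (P.pr z : V) = polar Q (w : V) z := fun w => by
    conv_rhs => rw [P.split z]
    simp [QuadraticMap.polar_add_right, QuadraticMap.polar_smul_right, P.e_W, P.f_W]
  have hneg : ∀ v : V, -v = v := fun v => by
    rw [neg_eq_iff_add_eq_zero, ← one_smul F v, ← add_smul, two_add hF, zero_smul]
  rw [P.mono_mul_apply (by rw [ha]; exact one_ne_zero) (by rw [hb]; exact one_ne_zero) 1
    (by rw [ha, hb, div_one, Units.val_one]), P.torus_apply, ha, hb]
  have hs : ∀ x y : V, x - y = x + y := fun x y => by rw [sub_eq_add_neg, hneg]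
  simp only [inv_one, one_mul, hpr, hs, QuadraticMap.polar_add_right, QuadraticMap.polar_smul_right,
    Units.val_one, smul_eq_mul]
  conv_rhs => arg 1; arg 1; rw [P.split z]
  rw [← sub_eq_zero]
  simp only [← hpr]
  abel_nf
  simp only [two_smul, ← add_smul, two_add hF, zero_smul, add_zero, zero_add]
  exact neg_eq_iff_add_eq_zero.1 (hneg _)

/-- An even number of reflections in vectors of value one lies in the group. -/
theorem exists_reflProd : ∀ {L : List P.W}, (∀ a ∈ L, Q (a : V) = 1) → Even L.length →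
    ∃ g : ↥(siegelGroup Q), ∀ z, g.1.1 z = reflProd Q (L.map Subtype.val) z
  | [], _, _ => ⟨1, fun z => rfl⟩
  | [_], _, h => absurd h (by simp)
  | a :: b :: L, hL, h => by
    obtain ⟨g, hg⟩ := exists_reflProd (L := L) (fun x hx => hL x (by simp [hx]))
      (by simpa [Nat.even_add_one] using h)
    refine ⟨⟨P.mono a * P.mono b, mul_mem (P.mono_mem a) (P.mono_mem b)⟩ * g, fun z => ?_⟩
    change (P.mono a * P.mono b).1 (g.1.1 z) = _
    rw [mono_two P hF (hL a (by simp)) (hL b (by simp)), hg]
    rfl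

end Two

variable {X : Type*} [MulAction ↥(siegelGroup Q) X] [Nonempty X]
  (hfree : ∀ (w : P.W) (x : X), P.rad w • x = x → w = 0)
  (htr : ∀ x y : X, ∃ w : P.W, P.rad w • x = y)
include hQ h5 hfree htr

/-- Root elements fix nothing. -/
theorem root_fpf {a b : V} (ha : Q a = 0) (ha0 : a ≠ 0) (hab : polar Q a b = 0)
    (hb : ∀ t : F, b ≠ t • a) (y : X) : rootEl Q a b • y ≠ y := by
  intro hy
  have h5' : 5 ≤ finrank F V := by have := P.finrank_W; omega
  obtain ⟨g, hg, hga⟩ := siegel_transitive Q hQ h5' ha P.he ha0 P.e_ne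
  have hp : polar Q P.e (g.1 b) = 0 := by rw [← hga, polar_quadIsom g.2]; exact hab
  have he : (⟨g, hg⟩ : ↥(siegelGroup Q)) * rootEl Q a b * (⟨g, hg⟩ : ↥(siegelGroup Q))⁻¹ =
      P.rad (P.pr (g.1 b)) := by
    rw [rootEl_conj]
    refine Subtype.ext ?_
    change siegel Q (g.1 a) (g.1 b) = siegel Q P.e (P.pr (g.1 b) : V)
    rw [hga, P.siegel_e_pr hp]
  have h := hfree (P.pr (g.1 b)) ((⟨g, hg⟩ : ↥(siegelGroup Q)) • y) (by
    rw [← he, ← mul_smul, inv_mul_cancel_right, mul_smul, hy])
  have hs := P.split (g.1 b)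
  rw [hp, h, zero_smul, ZeroMemClass.coe_zero, add_zero, add_zero, ← hga, ← map_smul] at hs
  exact hb _ (g.1.injective hs)

theorem exists_unique_fixed {g : ↥(siegelGroup Q)} {T : P.W → P.W}
    (hg : ∀ r, g * P.rad r = P.rad (T r) * g) (hinj : Function.Injective fun r => r - T r) :
    ∃ y : X, g • y = y ∧ ∀ y', g • y' = y' → y' = y := by
  obtain ⟨x₀⟩ := ‹Nonempty X›
  have hgr : ∀ r (x : X), g • P.rad r • x = P.rad (T r) • g • x := fun r x => by
    rw [← mul_smul, hg, mul_smul]
  obtain ⟨s, hs⟩ := htr x₀ (g • x₀)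
  haveI : Finite P.W := Module.finite_of_finite F
  obtain ⟨r, hr⟩ := (Finite.injective_iff_surjective.1 hinj) s
  have hy : g • P.rad r • x₀ = P.rad r • x₀ := by
    rw [hgr, ← hs, ← mul_smul, ← AddChar.map_add_eq_mul, ← hr, add_sub_cancel]
  refine ⟨P.rad r • x₀, hy, fun y' hy' => ?_⟩
  obtain ⟨r', rfl⟩ := htr (P.rad r • x₀) y'
  have h0 : T 0 = 0 := hfree (T 0) x₀ (by
    have := hgr 0 (g⁻¹ • x₀)
    rw [smul_inv_smul, AddChar.map_zero_eq_one, one_smul, smul_inv_smul] at this
    exact this.symm)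
  rw [hgr, hy] at hy'
  have e : P.rad (-r' + T r') • P.rad r • x₀ = P.rad r • x₀ := by
    rw [AddChar.map_add_eq_mul, mul_smul, hy', ← mul_smul, ← AddChar.map_add_eq_mul, neg_add_cancel,
      AddChar.map_zero_eq_one, one_smul]
  have e' := hfree _ _ e
  have hr0 : r' = 0 := hinj (by
    change r' - T r' = 0 - T 0
    rw [h0, sub_zero, sub_eq_zero]
    exact neg_add_eq_zero.1 e')
  rw [hr0, AddChar.map_zero_eq_one, one_smul]

/-- A root element commuting with an element with exactly one fixed point. -/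
theorem no_unique_fixed {g : ↥(siegelGroup Q)} {T : P.W → P.W}
    (hg : ∀ r, g * P.rad r = P.rad (T r) * g) (hinj : Function.Injective fun r => r - T r)
    {a b : V} (ha : Q a = 0) (ha0 : a ≠ 0) (hab : polar Q a b = 0) (hb : ∀ t : F, b ≠ t • a)
    (hga : g.1.1 a = a) (hgb : g.1.1 b = b) : False := by
  obtain ⟨y, hy, hun⟩ := exists_unique_fixed P hQ h5 hfree htr hg hinj
  refine root_fpf P hQ h5 hfree htr ha ha0 hab hb y (hun _ ?_)
  rw [← mul_smul, rootEl_comm hga hgb, mul_smul, hy]

omit hfree htr [Nonempty X] in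
theorem exists_root : ∀ u u' : P.W, ∃ a b : P.W, Q (a : V) = 0 ∧ (a : V) ≠ 0 ∧
    polar Q (a : V) (b : V) = 0 ∧ (∀ t : F, (b : V) ≠ t • (a : V)) ∧ polar Q (u : V) (a : V) = 0 ∧
    polar Q (u' : V) (a : V) = 0 ∧ polar Q (u : V) (b : V) = 0 ∧ polar Q (u' : V) (b : V) = 0 := by
  intro u u'
  obtain ⟨a, ha0, hua, hu'a, ha⟩ := exists_perp_singular P.QW (P.sep_W hQ) h5 u u'
  obtain ⟨b, hab, hub, hu'b, hb⟩ := exists_perp3_off (P.sep_W hQ) h5 a u u' a
  exact ⟨a, b, ha, fun h => ha0 (Subtype.ext h), hab, fun t h => hb t (Subtype.ext h), hua, hu'a, hub,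
    hu'b⟩

/-- At least four field elements: a torus element has a single fixed point. -/
theorem false_of_four (hq : 4 ≤ Nat.card F) : False := by
  classical
  haveI := Fintype.ofFinite F
  obtain ⟨d, hd⟩ : ∃ d : Fˣ, (d : F) ^ 2 ≠ 1 := by
    by_contra h
    push Not at h
    have hle : (Finset.univ : Finset Fˣ).card ≤ ({1, -1} : Finset Fˣ).card := by
      refine Finset.card_le_card fun x _ => ?_
      rcases sq_eq_one_iff.1 (h x) with e | e
      · simp [Units.ext_iff, e]
      · simp [Units.ext_iff, e]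
    rw [Finset.card_univ, Fintype.card_units, ← Nat.card_eq_fintype_card] at hle
    have := Finset.card_le_two (a := (1 : Fˣ)) (b := -1)
    omega
  obtain ⟨v, -, -, hv⟩ := exists_perp_anisotropic P.QW (P.sep_W hQ) h5 0 0
  have hW : ∀ w : P.W, (P.torus (d ^ 2)).1 (w : V) = (w : V) := fun w => by
    rw [P.torus_apply, P.pr_W, P.W_e, P.W_f]; simp
  have he : (P.torus (d ^ 2)).1 P.e = ((d ^ 2 : Fˣ) : F) • P.e := by
    have hpe : P.pr P.e = 0 := Subtype.ext (by
      rw [P.coe_pr, P.hfe, polar_self_of_singular Q P.he]; simp)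
    rw [P.torus_apply, hpe, P.hfe, polar_self_of_singular Q P.he]; simp
  obtain ⟨a, b, ha, ha0, hab, hb, -, -, -, -⟩ := exists_root P hQ h5 0 0
  refine no_unique_fixed P hQ h5 hfree htr
    (g := ⟨P.torus (d ^ 2), P.torus_sq_mem hv d⟩) (T := fun r => ((d ^ 2 : Fˣ) : F) • r)
    (fun r => ?_) (fun r r' h => ?_) ha ha0 hab hb (hW a) (hW b)
  · have h := P.conj_rad (g := ⟨P.torus (d ^ 2), P.torus_sq_mem hv d⟩) he (Units.ne_zero _) r
    rw [hW, P.pr_W] at h
    exact mul_inv_eq_iff_eq_mul.1 h
  · have h' : (1 - ((d ^ 2 : Fˣ) : F)) • (r - r') = 0 := by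
      have h1 : r - ((d ^ 2 : Fˣ) : F) • r = r' - ((d ^ 2 : Fˣ) : F) • r' := h
      rw [smul_sub, sub_smul, sub_smul, one_smul, one_smul, h1, sub_self]
    rcases smul_eq_zero.1 h' with e | e
    · exact absurd (sub_eq_zero.1 e).symm (by rw [Units.val_pow_eq_pow_val]; exact hd)
    · exact sub_eq_zero.1 e

/-- Three field elements. -/
theorem false_of_three (hq : Nat.card F = 3) : False := by
  classical
  haveI := Fintype.ofFinite F
  have h3 : (3 : F) = 0 := by
    have := FiniteField.cast_card_eq_zero F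
    rwa [← Nat.card_eq_fintype_card, hq, Nat.cast_ofNat] at this
  have h2 : (2 : F) ≠ 0 := fun h => one_ne_zero (α := F) (by linear_combination h3 - h)
  have hW := P.sep_W hQ
  obtain ⟨R₀, -, -⟩ : ∃ R : Pair P.QW, True ∧ True := by
    obtain ⟨x, hx0, hx⟩ := exists_singular P.QW hW h5
    obtain ⟨z, hz⟩ := exists_partner P.QW hW hx0
    exact ⟨⟨x, z + (-P.QW z) • x, hx,
      by rw [quad_map_add_smul, hx, QuadraticMap.polar_comm _ z x, hz]; ring,
      by rw [QuadraticMap.polar_add_right, hz, QuadraticMap.polar_smul_right,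
        polar_self_of_singular P.QW hx, smul_zero, add_zero]⟩, trivial, trivial⟩
  obtain ⟨v, hv⟩ : ∃ v : P.W, P.QW v = 1 := ⟨R₀.e + R₀.f, by
    rw [QuadraticMap.map_add (P.QW : QuadraticMap F P.W F), R₀.he, R₀.hf, R₀.hef]; ring⟩
  have hv0 : v ≠ 0 := fun h => by rw [h, QuadraticMap.map_zero] at hv; exact zero_ne_one hv
  obtain ⟨R, hve, hvf⟩ := exists_perp_pair hW h5 hv0
  obtain ⟨v', hv'⟩ : ∃ v' : P.W, v' = -v + (R.e + R.f) := ⟨_, rfl⟩
  have hQv' : P.QW v' = -1 := by
    rw [hv', QuadraticMap.map_add (P.QW : QuadraticMap F P.W F), QuadraticMap.map_neg, hv,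
      QuadraticMap.map_add (P.QW : QuadraticMap F P.W F), R.he, R.hf, R.hef,
      QuadraticMap.polar_neg_left, QuadraticMap.polar_add_right, hve, hvf]
    linear_combination h3
  have hpol : polar P.QW v v' = 1 := by
    rw [hv', QuadraticMap.polar_add_right, QuadraticMap.polar_add_right, QuadraticMap.polar_neg_right,
      hve, hvf, polar_self_two, hv]
    linear_combination -h3
  obtain ⟨a, b, ha, ha0, hab, hb, hua, hu'a, hub, hu'b⟩ := exists_root P hQ h5 v v'
  have hQv : Q (v : V) = 1 := hv
  have hQv'' : Q (v' : V) = -1 := hQv'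
  let g : ↥(siegelGroup Q) := ⟨P.mono v * P.mono v', mul_mem (P.mono_mem v) (P.mono_mem v')⟩
  have happ : ∀ z : V, g.1.1 z = (-(polar Q P.f z)) • P.e + (-(polar Q P.e z)) • P.f + ((P.pr z : V) +
      polar Q (v' : V) (P.pr z : V) • (v' : V) -
      (polar Q (v : V) (P.pr z : V) + polar Q (v' : V) (P.pr z : V)) • (v : V)) := by
    intro z
    change (P.mono v * P.mono v').1 z = _
    rw [P.mono_mul_apply (by rw [hQv]; exact one_ne_zero)
      (by rw [hQv'']; exact neg_ne_zero.2 one_ne_zero) (-1) (by rw [hQv, hQv'']; simp),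
      P.torus_apply, hQv, hQv'']
    have hp : polar Q (v : V) (v' : V) = 1 := hpol
    simp [QuadraticMap.polar_sub_right, QuadraticMap.polar_smul_right, hp]
  have hge : g.1.1 P.e = (-1 : F) • P.e := by
    have hpe : P.pr P.e = 0 := Subtype.ext (by
      rw [P.coe_pr, P.hfe, polar_self_of_singular Q P.he]; simp)
    rw [happ, hpe, P.hfe, polar_self_of_singular Q P.he]; simp
  have hgW : ∀ r : P.W, g.1.1 (r : V) = (r : V) + polar P.QW v' r • (v' : V) -
      (polar P.QW v r + polar P.QW v' r) • (v : V) := fun r => by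
    rw [happ, P.pr_W, P.W_e, P.W_f]; simp [P.polar_QW]
  have hga : ∀ r : P.W, polar P.QW v r = 0 → polar P.QW v' r = 0 → g.1.1 (r : V) = (r : V) :=
    fun r h h' => by rw [hgW, h, h']; simp
  refine no_unique_fixed P hQ h5 hfree htr (g := g)
    (T := fun r => (-1 : F) • P.pr (g.1.1 (r : V))) (fun r => ?_) (fun r r' h => ?_) ha ha0 hab hb
    (hga a hua hu'a) (hga b hub hu'b)
  · exact mul_inv_eq_iff_eq_mul.1 (P.conj_rad hge (neg_ne_zero.2 one_ne_zero) r)
  · have hd : ∀ x : P.W, x - (-1 : F) • P.pr (g.1.1 (x : V)) =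
        (2 : F) • x + polar P.QW v' x • v' - (polar P.QW v x + polar P.QW v' x) • v := fun x => by
      rw [hgW, map_sub, map_add, map_smul, map_smul, P.pr_W, P.pr_W, P.pr_W, neg_one_smul, two_smul]
      abel
    have h' : r - (-1 : F) • P.pr (g.1.1 (r : V)) = r' - (-1 : F) • P.pr (g.1.1 (r' : V)) := h
    rw [hd, hd] at h'
    obtain ⟨x, hx⟩ : ∃ x, x = r - r' := ⟨_, rfl⟩
    have hx0 : (2 : F) • x + polar P.QW v' x • v' - (polar P.QW v x + polar P.QW v' x) • v = 0 := by
      rw [← sub_eq_zero.2 h', hx, QuadraticMap.polar_sub_right, QuadraticMap.polar_sub_right]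
      module
    have e1 := congrArg (polar P.QW v) hx0
    have e2 := congrArg (polar P.QW v') hx0
    simp [QuadraticMap.polar_add_right, QuadraticMap.polar_sub_right, QuadraticMap.polar_smul_right,
      polar_self_two, hpol, QuadraticMap.polar_comm _ v' v, hv, hQv'] at e1 e2
    have hp' : polar P.QW v' x = 0 := by linear_combination -e1
    have hp : polar P.QW v x = 0 := by linear_combination -e2 + (0 : F) * h3 - hp'
    rw [hp, hp', zero_smul, zero_add, add_zero, zero_smul, sub_zero] at hx0
    exact sub_eq_zero.1 (hx ▸ (smul_eq_zero.1 hx0).resolve_left h2)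

omit hQ h5 hfree htr [Nonempty X] in
/-- Translations are the only regular action of a four-element group on itself. -/
theorem eq_add_of_four (hq : Nat.card F = 2) {v v' a b c : P.W}
    (hmem : ∀ x ∈ ({a, b, c, a + b} : Set P.W), ∃ s t : F, x = s • v + t • v')
    (ha : a ≠ 0) (hb : b ≠ 0) (hc : c ≠ 0) (hab : a ≠ b) (hac : a ≠ c) (hbc : b ≠ c) :
    c = a + b := by
  classical
  haveI := Fintype.ofFinite F
  have hxx : ∀ x : P.W, x + x = 0 := fun x => by
    rw [← one_smul F x, ← add_smul, two_add hq, zero_smul]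
  by_contra hne
  have hcard : ({0, a, b, c, a + b} : Finset P.W).card = 5 := by
    have h0 : a + b ≠ 0 := fun h => hab (by
      rw [← add_zero a, ← hxx b, ← add_assoc, h, zero_add])
    have h1 : a + b ≠ a := fun h => hb (add_eq_left.1 h)
    have h2 : a + b ≠ b := fun h => ha (add_eq_right.1 h)
    rw [Finset.card_insert_of_notMem, Finset.card_insert_of_notMem, Finset.card_insert_of_notMem,
      Finset.card_insert_of_notMem, Finset.card_singleton]
    · simp [hne]
    · simp [hbc, h2.symm]
    · simp [hab, hac, h1.symm]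
    · simp [ha.symm, hb.symm, hc.symm, h0.symm]
  have hle : ({0, a, b, c, a + b} : Finset P.W).card ≤
      ((Finset.univ : Finset (F × F)).image fun st => st.1 • v + st.2 • v').card := by
    refine Finset.card_le_card fun x hx => Finset.mem_image.2 ?_
    rcases Finset.mem_insert.1 hx with rfl | hx
    · exact ⟨(0, 0), Finset.mem_univ _, by simp⟩
    · obtain ⟨s, t, rfl⟩ := hmem x (by simpa using hx)
      exact ⟨(s, t), Finset.mem_univ _, rfl⟩
  have h4 := Finset.card_image_le (s := (Finset.univ : Finset (F × F)))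
    (f := fun st => st.1 • v + st.2 • v')
  rw [Finset.card_univ, Fintype.card_prod, ← Nat.card_eq_fintype_card, hq] at h4
  omega

omit hfree htr [Nonempty X] in
theorem exists_two_plane (hq : Nat.card F = 2) :
    ∃ v v' : P.W, P.QW v = 1 ∧ P.QW v' = 1 ∧ polar P.QW v v' = 1 := by
  have hW := P.sep_W hQ
  obtain ⟨x, hx0, hx⟩ := exists_singular P.QW hW h5
  obtain ⟨z, hz⟩ := exists_partner P.QW hW hx0
  obtain ⟨w, hxw, hzw, hw⟩ := exists_perp_anisotropic P.QW hW h5 x z
  have h1 : ∀ y : P.W, P.QW y ≠ 0 → P.QW y = 1 := fun y => (two_cases hq _).resolve_left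
  obtain ⟨f, hf⟩ : ∃ f, f = z + P.QW z • x := ⟨_, rfl⟩
  have hQf : P.QW f = 0 := by
    rw [hf, quad_map_add_smul, hx, QuadraticMap.polar_comm _ z x, hz]
    simpa using two_add hq (P.QW z)
  have hxf : polar P.QW x f = 1 := by
    rw [hf, QuadraticMap.polar_add_right, hz, QuadraticMap.polar_smul_right,
      polar_self_of_singular P.QW hx, smul_zero, add_zero]
  have hwf : polar P.QW w f = 0 := by
    rw [hf, QuadraticMap.polar_add_right, QuadraticMap.polar_smul_right, QuadraticMap.polar_comm _ w z,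
      hzw, QuadraticMap.polar_comm _ w x, hxw, smul_zero, add_zero]
  refine ⟨x + f, x + w, ?_, ?_, ?_⟩
  · rw [QuadraticMap.map_add (P.QW : QuadraticMap F P.W F), hx, hQf, hxf]; ring
  · rw [QuadraticMap.map_add (P.QW : QuadraticMap F P.W F), hx, hxw, h1 w hw]; ring
  · rw [QuadraticMap.polar_add_left, QuadraticMap.polar_add_right, QuadraticMap.polar_add_right,
      polar_self_of_singular P.QW hx, hxw, QuadraticMap.polar_comm _ f x, hxf,
      QuadraticMap.polar_comm _ f w, hwf]
    ring

omit hfree htr [Nonempty X] in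
/-- Vectors of value one span the orthogonal of the plane. -/
theorem mem_span_value_one (hq : Nat.card F = 2) {v v' x : P.W} (hp : polar P.QW v v' = 1)
    (hvx : polar P.QW v x = 0) (hv'x : polar P.QW v' x = 0) :
    x ∈ Submodule.span F {y : P.W | polar P.QW v y = 0 ∧ polar P.QW v' y = 0 ∧ P.QW y = 1} := by
  rcases two_cases hq (P.QW x) with h0 | h1
  swap
  · exact Submodule.subset_span ⟨hvx, hv'x, h1⟩
  obtain ⟨z, hxz, hvz, hv'z, hz⟩ := exists_perp3_anisotropic (P.sep_W hQ) h5 x v v'
    fun r s t hs ht _ => by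
      simp [QuadraticMap.polar_add_right, QuadraticMap.polar_smul_right, hvx, hv'x,
        polar_self_two, hp, QuadraticMap.polar_comm _ v' v] at hs ht
      have h2 : (2 : F) = 0 := by rw [← one_add_one_eq_two]; exact two_add hq 1
      refine ⟨r, ?_⟩
      have hs' : t = 0 := by simpa [h2] using hs
      have ht' : s = 0 := by simpa [h2] using ht
      rw [hs', ht']; simp
  have hz1 : P.QW z = 1 := (two_cases hq _).resolve_left hz
  have e : x = (x + z) - z := by rw [add_sub_cancel_right]
  rw [e]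
  refine sub_mem (Submodule.subset_span ⟨?_, ?_, ?_⟩) (Submodule.subset_span ⟨hvz, hv'z, hz1⟩)
  · rw [QuadraticMap.polar_add_right, hvx, hvz, add_zero]
  · rw [QuadraticMap.polar_add_right, hv'x, hv'z, add_zero]
  · rw [QuadraticMap.map_add (P.QW : QuadraticMap F P.W F), h0, hz1, hxz]; ring

/-- Two field elements. -/
theorem false_of_two [Finite X] (hq : Nat.card F = 2) (hev : Even (finrank F P.W)) : False := by
  classical
  haveI : Fact (Nat.Prime 3) := ⟨Nat.prime_three⟩
  haveI := Fintype.ofFinite X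
  haveI : Finite P.W := Module.finite_of_finite F
  have hW := P.sep_W hQ
  have h2 : (2 : F) = 0 := by rw [← one_add_one_eq_two]; exact two_add hq 1
  have hVV : ∀ x : V, x + x = 0 := fun x => by
    rw [← one_smul F x, ← add_smul, two_add hq, zero_smul]
  have hWW : ∀ x : P.W, x + x = 0 := fun x => Subtype.ext (hVV x)
  obtain ⟨v, v', hv, hv', hp⟩ := exists_two_plane P hQ h5 hq
  have hp' : polar P.QW v' v = 1 := by rw [QuadraticMap.polar_comm]; exact hp
  have hpV : polar Q (v : V) (v' : V) = 1 := hp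
  have hself : ∀ {w : P.W}, polar P.QW w w = 0 := fun {w} => by rw [polar_self_two, h2, zero_mul]
  let h : ↥(siegelGroup Q) := ⟨P.mono v * P.mono v', mul_mem (P.mono_mem v) (P.mono_mem v')⟩
  have hh : ∀ z : V, h.1.1 z = z + polar Q (v' : V) z • (v' : V) +
      (polar Q (v : V) z + polar Q (v' : V) z) • (v : V) := fun z => by
    change (P.mono v * P.mono v').1 z = _
    rw [mono_two P hq hv hv', QuadraticMap.polar_add_right, QuadraticMap.polar_smul_right, hpV,
      smul_eq_mul, mul_one]
  have hhW : ∀ r : P.W, h.1.1 (r : V) = ((r + polar P.QW v' r • v' +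
      (polar P.QW v r + polar P.QW v' r) • v : P.W) : V) := fun r => by
    rw [hh]; simp [P.polar_QW]
  have hhe : h.1.1 P.e = (1 : F) • P.e := by rw [hh, P.e_W, P.e_W]; simp
  obtain ⟨T, hT⟩ : ∃ T : P.W → P.W, ∀ r, T r = r + polar P.QW v' r • v' +
      (polar P.QW v r + polar P.QW v' r) • v := ⟨_, fun r => rfl⟩
  have hhr : ∀ r (y : X), h • P.rad r • y = P.rad (T r) • h • y := fun r y => by
    have e := P.conj_rad hhe one_ne_zero r
    rw [hhW, P.pr_W, one_smul, ← hT] at e
    rw [← mul_smul, ← mul_smul, mul_inv_eq_iff_eq_mul.1 e]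
  have h3 : h ^ 3 = 1 := Subtype.ext (quadIsoms_ext Q fun z => by
    change h.1.1 (h.1.1 (h.1.1 z)) = z
    rw [hh, hh, hh]
    simp only [QuadraticMap.polar_add_right, QuadraticMap.polar_smul_right, smul_eq_mul, hpV,
      QuadraticMap.polar_comm _ (v' : V) (v : V), polar_self_two, h2, zero_mul, mul_zero, mul_one,
      add_zero, zero_add]
    obtain ⟨p₁, hp₁⟩ : ∃ p₁, polar Q (v : V) z = p₁ := ⟨_, rfl⟩
    obtain ⟨p₂, hp₂⟩ : ∃ p₂, polar Q (v' : V) z = p₂ := ⟨_, rfl⟩
    simp only [hp₁, hp₂]
    match_scalars <;> first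
      | ring1
      | linear_combination (4 * p₂ + 2 * p₁) * h2
      | linear_combination (4 * p₁ + 6 * p₂) * h2
      | linear_combination (p₁ + 3 * p₂) * h2
      | linear_combination (3 * p₁ + 5 * p₂) * h2
      | linear_combination (-p₁ - p₂) * h2
      | linear_combination (5 * p₁ + 3 * p₂) * h2
      | linear_combination (3 * p₁ + p₂) * h2)
  -- a fixed point of the rotation
  obtain ⟨x₀⟩ := ‹Nonempty X›
  have hcardX : Fintype.card X = 2 ^ finrank F P.W := by
    rw [← hq, ← Module.natCard_eq_pow_finrank (K := F) (V := P.W), ← Nat.card_eq_fintype_card]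
    refine (Nat.card_congr (Equiv.ofBijective (fun w => P.rad w • x₀)
      ⟨fun w w' e => ?_, fun y => htr x₀ y⟩)).symm
    have e' := hfree (-w' + w) x₀ (by
      change P.rad w • x₀ = P.rad w' • x₀ at e
      rw [AddChar.map_add_eq_mul, mul_smul, e, ← mul_smul, ← AddChar.map_add_eq_mul, neg_add_cancel,
        AddChar.map_zero_eq_one, one_smul])
    exact (neg_add_eq_zero.1 e').symm
  obtain ⟨y₀, hy₀⟩ := Equiv.Perm.exists_fixed_point_of_prime (α := X) (p := 3) (n := 1)
    (by rw [hcardX]; exact fun hd => absurd (Nat.prime_three.dvd_of_dvd_pow hd) (by norm_num))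
    (σ := MulAction.toPermHom ↥(siegelGroup Q) X h) (by rw [pow_one, ← map_pow, h3, map_one])
  replace hy₀ : h • y₀ = y₀ := hy₀
  -- reflections in a basis of the orthogonal of the plane
  obtain ⟨b, hbsub, hbspan, hbli⟩ := exists_linearIndependent F
    {y : P.W | polar P.QW v y = 0 ∧ polar P.QW v' y = 0 ∧ P.QW y = 1}
  obtain ⟨D, hD⟩ : ∃ D : Submodule F P.W, ∀ x, x ∈ D ↔ polar P.QW v x = 0 ∧ polar P.QW v' x = 0 :=
    ⟨LinearMap.ker (QuadraticMap.polarBilin P.QW v) ⊓ LinearMap.ker (QuadraticMap.polarBilin P.QW v'),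
      fun x => Iff.rfl⟩
  have hspanD : Submodule.span F b = D := by
    rw [hbspan]
    refine le_antisymm (Submodule.span_le.2 fun y hy => (hD y).2 ⟨hy.1, hy.2.1⟩) fun x hx => ?_
    exact mem_span_value_one P hQ h5 hq hp ((hD x).1 hx).1 ((hD x).1 hx).2
  have hbfin : b.Finite := Set.toFinite b
  haveI := hbfin.fintype
  let L : List P.W := b.toFinset.toList
  have hmemL : ∀ x, x ∈ L ↔ x ∈ b := fun x => by simp [L]
  have hsplit : ∀ r : P.W, r + polar P.QW v' r • v + polar P.QW v r • v' ∈ D := fun r => by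
    rw [hD]
    simp [QuadraticMap.polar_add_right, QuadraticMap.polar_smul_right, hp, hp', hself, two_add hq]
  have hlen : Even L.length := by
    have hfr : finrank F D + 2 = finrank F P.W := by
      have hsurj : LinearMap.range ((QuadraticMap.polarBilin P.QW v).prod
          (QuadraticMap.polarBilin P.QW v')) = ⊤ := by
        refine LinearMap.range_eq_top.2 fun st => ⟨st.2 • v + st.1 • v', ?_⟩
        refine Prod.ext ?_ ?_ <;>
          simp [hp, hp', hself]
      have h' := LinearMap.finrank_range_add_finrank_ker ((QuadraticMap.polarBilin P.QW v).prod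
          (QuadraticMap.polarBilin P.QW v'))
      rw [hsurj, finrank_top, Module.finrank_prod, Module.finrank_self, LinearMap.ker_prod] at h'
      have hDeq : D = LinearMap.ker (QuadraticMap.polarBilin P.QW v) ⊓
          LinearMap.ker (QuadraticMap.polarBilin P.QW v') :=
        Submodule.ext fun x => (hD x).trans Iff.rfl
      rw [hDeq]
      omega
    have hlb : L.length = finrank F D := by
      rw [← hspanD, finrank_span_set_eq_card hbli]
      simp [L]
    rw [hlb]
    obtain ⟨k, hk⟩ := hev
    exact ⟨k - 1, by omega⟩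
  have hLval : ∀ a ∈ L, Q (a : V) = 1 := fun a ha => (hbsub ((hmemL a).1 ha)).2.2
  obtain ⟨g, hg⟩ := exists_reflProd P hq hLval hlen
  have hLli : LinearIndependent F
      (fun i : Fin (L.map Subtype.val).length => (L.map Subtype.val).get i) := by
    have hli := hbli.map' P.W.subtype P.W.ker_subtype
    let f : Fin (L.map Subtype.val).length → b := fun i =>
      ⟨L.get (i.cast (List.length_map _)), (hmemL _).1 (List.get_mem _ _)⟩
    have hf : Function.Injective f := fun i j e => by
      have := (b.toFinset.nodup_toList).injective_get (congrArg Subtype.val e)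
      exact Fin.cast_injective _ this
    have e : (fun i : Fin (L.map Subtype.val).length => (L.map Subtype.val).get i) =
        (P.W.subtype ∘ Subtype.val) ∘ f := funext fun i => by simp [f]
    rw [e]
    exact hli.comp f hf
  -- what the reflections fix in the complement
  have hfix : ∀ r : P.W, g.1.1 (r : V) = (r : V) →
      r = polar P.QW v' r • v + polar P.QW v r • v' := by
    intro r hr
    rw [hg] at hr
    have hperp := perp_of_reflProd hLli hr
    have hD' : ∀ x ∈ D, polar P.QW x r = 0 := by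
      intro x hx
      rw [← hspanD] at hx
      refine Submodule.span_induction (fun y hy => ?_) (by simp) (fun y z _ _ h h' => ?_)
        (fun c y _ h => ?_) hx
      · exact hperp _ (List.mem_map.2 ⟨y, (hmemL y).2 hy, rfl⟩)
      · rw [QuadraticMap.polar_add_left, h, h', add_zero]
      · rw [QuadraticMap.polar_smul_left, h, smul_zero]
    obtain ⟨x, hx⟩ : ∃ x, x = r + polar P.QW v' r • v + polar P.QW v r • v' := ⟨_, rfl⟩
    have hxD : x ∈ D := hx ▸ hsplit r
    have hx0 : x = 0 := hW x fun y => by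
      have h' := hsplit y
      have hxy : polar P.QW x (y + polar P.QW v' y • v + polar P.QW v y • v') = 0 := by
        rw [QuadraticMap.polar_comm]
        conv_lhs => rw [hx]
        rw [QuadraticMap.polar_add_right, QuadraticMap.polar_add_right, hD' _ h',
          QuadraticMap.polar_smul_right, QuadraticMap.polar_smul_right,
          QuadraticMap.polar_comm _ _ v, QuadraticMap.polar_comm _ _ v', ((hD _).1 h').1,
          ((hD _).1 h').2]
        simp
      rw [QuadraticMap.polar_add_right, QuadraticMap.polar_add_right, QuadraticMap.polar_smul_right,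
        QuadraticMap.polar_smul_right, QuadraticMap.polar_comm _ x v, QuadraticMap.polar_comm _ x v',
        ((hD _).1 hxD).1, ((hD _).1 hxD).2] at hxy
      simpa using hxy
    rw [hx, add_assoc] at hx0
    rw [← sub_eq_zero, sub_eq_add_neg, ← hx0]
    congr 1
    exact neg_eq_of_add_eq_zero_left (hWW _)
  -- the reflections commute with the rotation and fix a point
  have hge : g.1.1 P.e = (1 : F) • P.e := by
    rw [hg, reflProd_of_perp, one_smul]
    intro a ha
    obtain ⟨a', -, rfl⟩ := List.mem_map.1 ha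
    exact P.e_W a'
  have hgW : ∀ r : P.W, ∃ r' : P.W, g.1.1 (r : V) = (r' : V) ∧
      r' - r ∈ D := fun r => by
    have hmem := reflProd_sub_mem (Q := Q) (L.map Subtype.val) (r : V)
    have hle : Submodule.span F {x : V | x ∈ L.map Subtype.val} ≤ D.map P.W.subtype :=
      Submodule.span_le.2 fun x hx => by
        obtain ⟨a, ha, rfl⟩ := List.mem_map.1 hx
        exact ⟨a, hspanD ▸ Submodule.subset_span ((hmemL a).1 ha), rfl⟩
    obtain ⟨d, hd, hde⟩ := hle hmem
    refine ⟨r + d, ?_, by rwa [add_sub_cancel_left]⟩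
    rw [hg, Submodule.coe_add, ← Submodule.coe_subtype (p := P.W)]
    rw [hde]
    simp
  have hgr : ∀ r r' : P.W, g.1.1 (r : V) = (r' : V) → ∀ y : X,
      g • P.rad r • y = P.rad r' • g • y := fun r r' hrr y => by
    have e := P.conj_rad hge one_ne_zero r
    rw [hrr, P.pr_W, one_smul] at e
    rw [← mul_smul, ← mul_smul, mul_inv_eq_iff_eq_mul.1 e]
  have hcomm : g * h = h * g := Subtype.ext (quadIsoms_ext Q fun z => by
    change g.1.1 (h.1.1 z) = h.1.1 (g.1.1 z)
    rw [hg, hg]
    refine (reflProd_comm (g := h.1) (fun a ha => ?_) z).symm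
    obtain ⟨a', ha', rfl⟩ := List.mem_map.1 ha
    have hm := hbsub ((hmemL a').1 ha')
    rw [hhW, hm.1, hm.2.1]
    simp)
  obtain ⟨s, hs⟩ := htr y₀ (g • y₀)
  have hTs : T s = s := by
    have e : h • P.rad s • y₀ = P.rad s • y₀ := by
      rw [hs, ← mul_smul, ← hcomm, mul_smul, hy₀]
    rw [hhr, hy₀] at e
    refine (neg_add_eq_zero.1 (hfree (-s + T s) y₀ ?_)).symm
    rw [AddChar.map_add_eq_mul, mul_smul, e, ← mul_smul, ← AddChar.map_add_eq_mul, neg_add_cancel,
      AddChar.map_zero_eq_one, one_smul]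
  have hsD : s ∈ D := by
    rw [hT, add_assoc, add_eq_left] at hTs
    have e1 := congrArg (polar P.QW v) hTs
    have e2 := congrArg (polar P.QW v') hTs
    simp [QuadraticMap.polar_add_right, QuadraticMap.polar_smul_right, hp, hp', hself] at e1 e2
    rw [hD]
    refine ⟨?_, e1⟩
    simpa [e1] using e2
  choose γ hγ hγD using hgW
  have hγdiff : ∀ r r' : P.W, r - γ r = r' - γ r' → g.1.1 ((r - r' : P.W) : V) = ((r - r' : P.W) : V) := by
    intro r r' e
    rw [Submodule.coe_sub, map_sub, hγ, hγ, ← Submodule.coe_sub, ← Submodule.coe_sub,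
      sub_eq_sub_iff_sub_eq_sub.1 e]
  obtain ⟨⟨r, hrD⟩, hr⟩ : ∃ r : D, r.1 - γ r.1 = s := by
    have hinj : Function.Injective fun r : D => (⟨r.1 - γ r.1,
        by rw [← neg_sub]; exact neg_mem (hγD r.1)⟩ : D) := by
      intro r r' e
      have hd := hfix _ (hγdiff r.1 r'.1 (congrArg Subtype.val e))
      have hm := (hD _).1 (sub_mem r.2 r'.2)
      rw [hm.1, hm.2, zero_smul, zero_smul, add_zero, sub_eq_zero] at hd
      exact Subtype.ext hd
    obtain ⟨r, hr⟩ := Finite.injective_iff_surjective.1 hinj ⟨s, hsD⟩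
    exact ⟨r, congrArg Subtype.val hr⟩
  obtain ⟨y₁, rfl⟩ : ∃ y₁, y₁ = P.rad r • y₀ := ⟨_, rfl⟩
  have hy₁ : g • P.rad r • y₀ = P.rad r • y₀ := by
    rw [hgr r (γ r) (hγ r), ← hs, ← mul_smul, ← AddChar.map_add_eq_mul, ← hr, add_sub_cancel]
  generalize P.rad r • y₀ = y at hy₁
  -- the four fixed points
  obtain ⟨E, hE⟩ : ∃ E : P.W → Prop, ∀ x, E x ↔ g.1.1 (x : V) = (x : V) := ⟨_, fun x => Iff.rfl⟩
  have hEpt : ∀ z : X, g • z = z → ∃ x, E x ∧ P.rad x • y = z := by
    intro z hz
    obtain ⟨x, hx⟩ := htr y z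
    refine ⟨x, (hE x).2 ?_, hx⟩
    rw [← hx, hgr x (γ x) (hγ x), hy₁] at hz
    have e := hfree (-x + γ x) y (by
      rw [AddChar.map_add_eq_mul, mul_smul, hz, ← mul_smul, ← AddChar.map_add_eq_mul, neg_add_cancel,
        AddChar.map_zero_eq_one, one_smul])
    rw [hγ, ← neg_add_eq_zero.1 e]
  have hinjy : ∀ x x' : P.W, P.rad x • y = P.rad x' • y → x = x' := fun x x' e => by
    refine (neg_add_eq_zero.1 (hfree (-x + x') y ?_))
    rw [AddChar.map_add_eq_mul, mul_smul, ← e, ← mul_smul, ← AddChar.map_add_eq_mul, neg_add_cancel,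
      AddChar.map_zero_eq_one, one_smul]
  have hEv : E v ∧ E v' := by
    constructor <;> rw [hE, hg] <;> refine reflProd_of_perp fun a ha => ?_ <;>
      obtain ⟨a', ha', rfl⟩ := List.mem_map.1 ha <;> rw [QuadraticMap.polar_comm]
    · exact (hbsub ((hmemL a').1 ha')).1
    · exact (hbsub ((hmemL a').1 ha')).2.1
  have hEadd : ∀ {x x'}, E x → E x' → E (x + x') := fun hx hx' => by
    rw [hE] at hx hx' ⊢; rw [Submodule.coe_add, map_add, hx, hx']
  have hgf : g.1.1 P.f = P.f := by
    rw [hg, reflProd_of_perp]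
    intro a ha
    obtain ⟨a', -, rfl⟩ := List.mem_map.1 ha
    exact P.f_W a'
  have hmono : ∀ u : P.W, E u → u ≠ 0 → Q (u : V) = 1 → ∃ a, E a ∧ ∀ x, E x →
      (⟨P.mono u, P.mono_mem u⟩ : ↥(siegelGroup Q)) • P.rad x • y = P.rad (a + x) • y := by
    intro u hu hu0 hQu
    have hfu : ∀ t : F, (u : V) ≠ t • P.f := fun t e => by
      have h1 := P.W_e u
      rw [e, QuadraticMap.polar_smul_right, P.hef, smul_eq_mul, mul_one] at h1
      exact hu0 (Subtype.ext (by rw [e, h1, zero_smul]; rfl))
    have hS : ∀ z : X, rootEl Q P.f (u : V) • z ≠ z :=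
      root_fpf P hQ h5 hfree htr P.hf P.f_ne (P.W_f u) hfu
    have hS2 : rootEl Q P.f (u : V) * rootEl Q P.f (u : V) = 1 := Subtype.ext (by
      change siegel Q P.f (u : V) * siegel Q P.f (u : V) = 1
      rw [← siegel_add Q P.hf (P.W_f u) (P.W_f u), hVV, siegel_zero])
    have hSfix : ∀ x, E x → ∃ x', E x' ∧ P.rad x' • y = rootEl Q P.f (u : V) • P.rad x • y := by
      intro x hx
      refine hEpt _ ?_
      rw [← mul_smul, rootEl_comm hgf ((hE u).1 hu), mul_smul, hgr x x ((hE x).1 hx), hy₁]
    obtain ⟨a, haE, ha⟩ := hSfix 0 ((hE 0).2 (by simp))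
    rw [AddChar.map_zero_eq_one, one_smul] at ha
    have ha0 : a ≠ 0 := fun e => hS y (by rw [← ha, e, AddChar.map_zero_eq_one, one_smul])
    have htrans : ∀ x, E x → rootEl Q P.f (u : V) • P.rad x • y = P.rad (a + x) • y := by
      intro x hx
      by_cases hx0 : x = 0
      · rw [hx0, AddChar.map_zero_eq_one, one_smul, add_zero, ha]
      by_cases hxa : x = a
      · rw [hxa, hWW, AddChar.map_zero_eq_one, one_smul, ha, ← mul_smul, hS2, one_smul]
      obtain ⟨c, hcE, hc⟩ := hSfix x hx
      have hca : c = a + x := by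
        refine eq_add_of_four P hq (v := v) (v' := v') (fun z hz => ?_) ha0 hx0 (fun e => ?_)
          (fun e => hxa e.symm) (fun e => ?_) (fun e => ?_)
        · simp only [Set.mem_insert_iff, Set.mem_singleton_iff] at hz
          refine ⟨_, _, hfix z ((hE z).1 ?_)⟩
          rcases hz with rfl | rfl | rfl | rfl
          exacts [haE, hx, hcE, hEadd haE hx]
        · rw [e, AddChar.map_zero_eq_one, one_smul] at hc
          exact hxa (hinjy x a (by
            rw [ha]; conv_rhs => rw [hc, ← mul_smul, hS2, one_smul]))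
        · rw [← e, ha] at hc
          exact hx0 (hinjy x 0 (by
            rw [AddChar.map_zero_eq_one, one_smul]; exact (MulAction.injective _ hc).symm))
        · exact hS _ (by rw [← hc, ← e])
      rw [← hc, hca]
    refine ⟨a, haE, fun x hx => ?_⟩
    have hmono : (⟨P.mono u, P.mono_mem u⟩ : ↥(siegelGroup Q)) =
        P.rad u * rootEl Q P.f (u : V) * P.rad u := Subtype.ext (by
      change P.mono u = siegel Q P.e (u : V) * siegel Q P.f (u : V) * siegel Q P.e (u : V)
      rw [Pair.mono, hQu, inv_one, one_smul])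
    rw [hmono, mul_smul, mul_smul, ← mul_smul (P.rad u) (P.rad x), ← AddChar.map_add_eq_mul,
      htrans _ (hEadd hu hx), ← mul_smul, ← AddChar.map_add_eq_mul]
    congr 2
    rw [← add_assoc, add_comm u a, add_assoc, ← add_assoc u, hWW, zero_add]
  have hv0 : v ≠ 0 := fun e => by rw [e, QuadraticMap.map_zero] at hv; exact zero_ne_one hv
  have hv'0 : v' ≠ 0 := fun e => by rw [e, QuadraticMap.map_zero] at hv'; exact zero_ne_one hv'
  obtain ⟨a, haE, ha⟩ := hmono v hEv.1 hv0 hv
  obtain ⟨a', ha'E, ha'⟩ := hmono v' hEv.2 hv'0 hv'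
  have hhx : ∀ x, E x → h • P.rad x • y = P.rad (a + (a' + x)) • y := fun x hx => by
    rw [← ha _ (hEadd ha'E hx), ← ha' x hx]
    exact mul_smul (⟨P.mono v, P.mono_mem v⟩ : ↥(siegelGroup Q)) ⟨P.mono v', P.mono_mem v'⟩
      (P.rad x • y)
  have e := hhr v y
  rw [hhx v hEv.1] at e
  have e0 := hhx 0 ((hE 0).2 (by simp))
  rw [AddChar.map_zero_eq_one, one_smul, add_zero] at e0
  rw [e0, ← mul_smul, ← AddChar.map_add_eq_mul] at e
  have e' := hinjy _ _ e
  have hTv : T v = v' := by
    rw [hT, hp', hself, one_smul, zero_add, one_smul, add_right_comm, hWW, zero_add]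
  rw [hTv] at e'
  have e'' : v = v' := by
    rw [add_comm v', ← add_assoc] at e'
    exact add_left_cancel e'
  rw [e'', hself] at hp
  exact zero_ne_one hp

end CfsgLib.Classical.OMinIdx
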