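import Cfsg.Agent.Lib.Classical.OMinIdxBig

/-!
# Fixed points of root elements, and some annihilator is not a line
-/

set_option autoImplicit false
set_option linter.unusedSectionVars false

namespace CfsgLib.Classical.OMinIdx

open CfsgLib.Geom CfsgLib.Classical CfsgLib.Classical.OMinDeg Module
open QuadraticMap (polar)

/-- Conjugate elements fix equally many points. -/
theorem card_fixed_conj {G X : Type*} [Group G] [MulAction G X] (g h : G) :
    Nat.card {x : X // (g * h * g⁻¹) • x = x} = Nat.card {x : X // h • x = x} :=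
  (Nat.card_congr (Equiv.subtypeEquiv (MulAction.toPerm g : Equiv.Perm X) fun x => by
    rw [MulAction.toPerm_apply, ← mul_smul, inv_mul_cancel_right, mul_smul]
    exact (MulAction.injective g).eq_iff.symm)).symm

variable {F V : Type*} [Field F] [Finite F] [AddCommGroup V] [Module F V] [FiniteDimensional F V]
  {Q : QuadraticForm F V} (P : Pair Q) {X : Type*} [MulAction ↥(siegelGroup Q) X]
  (hQ : ∀ x, (∀ y, polar Q x y = 0) → x = 0) (h5 : 5 ≤ finrank F P.W)
include hQ h5

theorem five_le : 5 ≤ finrank F V := by have := P.finrank_W; omega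

/-- Radical elements of one value fix equally many points. -/
theorem card_fixed_rad_eq {u u' : P.W} (hu : u ≠ 0) (hu' : u' ≠ 0) (h : Q (u : V) = Q (u' : V)) :
    Nat.card {y : X // P.rad u • y = y} = Nat.card {y : X // P.rad u' • y = y} := by
  obtain ⟨k, hk⟩ : ∃ k : ↥(siegelGroup P.QW), k.1.1 u = u' := by
    by_cases h0 : Q (u : V) = 0
    · obtain ⟨k, hk, hku⟩ := siegel_transitive P.QW (P.sep_W hQ) h5 h0 (h ▸ h0 : P.QW u' = 0) hu hu'
      exact ⟨⟨k, hk⟩, hku⟩
    · obtain ⟨k, hk, hku⟩ := siegel_transitive_value P.QW (P.sep_W hQ) h5 (u := u) (v := u') h0 h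
      exact ⟨⟨k, hk⟩, hku⟩
  rw [← hk, ← card_fixed_conj (levi P k) (P.rad u), levi_rad, mul_inv_cancel_right]

/-- A root element of the Levi complement is conjugate to a radical element of the same value. -/
theorem exists_conj_rad {a b : P.W} (ha : P.QW a = 0) (ha0 : a ≠ 0) (hab : polar P.QW a b = 0)
    (hb : ∀ t : F, b ≠ t • a) :
    ∃ (g : ↥(siegelGroup Q)) (w : P.W), w ≠ 0 ∧ Q (w : V) = P.QW b ∧
      g * levi P ⟨siegel P.QW a b, siegel_mem P.QW a b⟩ * g⁻¹ = P.rad w := by
  obtain ⟨g, hg, hga⟩ := siegel_transitive Q hQ (five_le P hQ h5) (x := (a : V)) (y := P.e) ha P.he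
    (fun h => ha0 (Subtype.ext h)) P.e_ne
  have hp : polar Q P.e (g.1 (b : V)) = 0 := by
    rw [← hga, polar_quadIsom g.2]; exact hab
  refine ⟨⟨g, hg⟩, P.pr (g.1 (b : V)), fun h0 => ?_, ?_, Subtype.ext ?_⟩
  · have hs := P.split (g.1 (b : V))
    rw [hp, h0, zero_smul, ZeroMemClass.coe_zero, add_zero, add_zero, ← hga, ← map_smul] at hs
    exact hb _ (Subtype.ext (g.1.injective hs))
  · have h := P.quad_coords (g.1 (b : V))
    rw [mem_quadIsoms.1 g.2, hp, mul_zero, zero_add] at h
    exact h.symm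
  · change g * P.extend (siegel P.QW a b) * g⁻¹ = siegel Q P.e (P.pr (g.1 (b : V)) : V)
    rw [P.extend_siegel, siegel_conj, hga, P.siegel_e_pr hp]

/-- The root element fixes as many points as any radical element of the same value. -/
theorem card_fixed_levi {a b w : P.W} (ha : P.QW a = 0) (ha0 : a ≠ 0) (hab : polar P.QW a b = 0)
    (hb : ∀ t : F, b ≠ t • a) (hw : w ≠ 0) (hwb : Q (w : V) = P.QW b) :
    Nat.card {y : X // levi P ⟨siegel P.QW a b, siegel_mem P.QW a b⟩ • y = y} =
      Nat.card {y : X // P.rad w • y = y} := by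
  obtain ⟨g, w', hw', hq, he⟩ := exists_conj_rad P hQ h5 ha ha0 hab hb
  rw [← card_fixed_conj g, he]
  exact card_fixed_rad_eq P hQ h5 hw' hw (hq.trans hwb.symm)

/-- If the radical acts trivially, everything does. -/
theorem smul_eq_of_rad (h : ∀ (w : P.W) (y : X), P.rad w • y = y) (g : ↥(siegelGroup Q)) (y : X) :
    g • y = y := by
  obtain ⟨v, -, -, hv⟩ := exists_perp_anisotropic P.QW (P.sep_W hQ) h5 0 0
  have hN := P.eq_top_of_rad hQ (v := v) hv (MulAction.toPermHom ↥(siegelGroup Q) X).ker fun w =>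
    MonoidHom.mem_ker.2 (Equiv.ext fun z => h w z)
  have hg : g ∈ (MulAction.toPermHom ↥(siegelGroup Q) X).ker := hN ▸ Subgroup.mem_top g
  exact Equiv.congr_fun (MonoidHom.mem_ker.1 hg) y

variable [Finite X] [Fintype P.W] {ψ : AddChar F ℂ} (hψ : ψ.IsPrimitive)
include hψ

/-- Some orbit has a non-zero annihilator unless the action is trivial. -/
theorem exists_nontrivial (hne : ∃ (g : ↥(siegelGroup Q)) (y : X), g • y ≠ y) :
    ∃ o : Orb P X, ∃ u ∈ orbA P ψ o, u ≠ 0 := by
  obtain ⟨g, y, hgy⟩ := hne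
  by_contra hall
  push Not at hall
  refine hgy (smul_eq_of_rad P hQ h5 (fun w z => (mem_stabW P).1 (mem_of_ann P hQ hψ fun u hu => ?_)) g y)
  rw [hall (Orb.mk P z) u hu]
  simp [P.chi_apply]

/-- Not all annihilators are lines. -/
theorem exists_not_line (hne : ∃ (g : ↥(siegelGroup Q)) (y : X), g • y ≠ y) :
    ∃ o : Orb P X, ∃ u ∈ orbA P ψ o, ∃ v ∈ orbA P ψ o, u ≠ 0 ∧ ∀ t : F, v ≠ t • u := by
  classical
  by_contra hall
  push Not at hall
  have hline : ∀ (o : Orb P X), ∀ u ∈ orbA P ψ o, ∀ v ∈ orbA P ψ o, u ≠ 0 → ∃ t : F, v = t • u := hall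
  have hW := P.sep_W hQ
  obtain ⟨o₀, u, hu, hu0⟩ := exists_nontrivial P hQ h5 hψ hne
  obtain ⟨R, hue, huf⟩ := exists_perp_pair hW h5 hu0
  have huw : ∀ t : F, u ≠ t • R.e := fun t ht => by
    have : t = 0 := by
      rw [ht, QuadraticMap.polar_smul_left, R.hef, smul_eq_mul, mul_one] at huf
      exact huf
    exact hu0 (by rw [ht, this, zero_smul])
  obtain ⟨b, hb, hbw, hbu⟩ := exists_sing_sep hW h5 R.e_ne huw
  have hwb : polar P.QW R.e b = 0 := by rw [QuadraticMap.polar_comm]; exact hbw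
  have hbFw : ∀ t : F, b ≠ t • R.e := fun t ht => hbu (by
    rw [ht, QuadraticMap.polar_smul_left, QuadraticMap.polar_comm _ R.e u, hue, smul_zero])
  set k : ↥(siegelGroup P.QW) := ⟨siegel P.QW R.e b, siegel_mem P.QW R.e b⟩ with hk
  -- what fixed points of the root element say about annihilators
  have hfix : ∀ y : X, levi P k • y = y → ∀ v ∈ orbA P ψ (Orb.mk P y),
      polar P.QW R.e v = 0 ∧ polar P.QW b v = 0 := by
    intro y hy v hv
    by_cases hv0 : v = 0
    · simp [hv0]
    have hko : k • Orb.mk P y = Orb.mk P y := by rw [smul_mk, hy]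
    have hkv := (mem_orbA_smul P ψ k (Orb.mk P y) v).2 hv
    rw [hko] at hkv
    obtain ⟨l, hl⟩ := hline _ v hv _ hkv hv0
    have e : k.1.1 v =
        v + polar P.QW R.e v • b - (polar P.QW b v + P.QW b * polar P.QW R.e v) • R.e :=
      siegel_apply P.QW R.he hwb v
    rw [hl, hb, zero_mul, add_zero] at e
    have he' : (l - 1) • v = polar P.QW R.e v • b - polar P.QW b v • R.e := by
      rw [sub_smul, one_smul, e]; abel
    have h1 : polar P.QW R.e v = 0 := by
      by_contra h
      have h' := congrArg (polar P.QW R.e) he'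
      simp [QuadraticMap.polar_smul_right, QuadraticMap.polar_sub_right, hwb,
        polar_self_of_singular P.QW R.he, h] at h'
      rw [h', zero_smul, eq_comm, sub_eq_zero] at he'
      exact hbFw ((polar P.QW R.e v)⁻¹ * polar P.QW b v)
        (by rw [mul_smul, ← he', inv_smul_smul₀ h])
    refine ⟨h1, ?_⟩
    by_contra h
    rw [h1, zero_smul, zero_sub] at he'
    have h' := congrArg (polar P.QW b) he'
    simp [QuadraticMap.polar_smul_right, QuadraticMap.polar_neg_right, hbw, h] at h'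
    rw [h', zero_smul, eq_comm, neg_eq_zero, smul_eq_zero] at he'
    exact he'.elim h R.e_ne
  have hsub : {y : X | levi P k • y = y} ⊆ {y : X | P.rad R.e • y = y} := by
    intro y hy
    show P.rad R.e • y = y
    refine (mem_stabW P).1 (mem_of_ann P hQ hψ fun v hv => ?_)
    rw [P.chi_apply, ← P.polar_QW, QuadraticMap.polar_comm, (hfix y hy v hv).1, AddChar.map_zero_eq_one]
  have heq : {y : X | levi P k • y = y} = {y : X | P.rad R.e • y = y} := by
    refine Set.eq_of_subset_of_ncard_le hsub (le_of_eq ?_) (Set.toFinite _)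
    rw [← Nat.card_coe_set_eq, ← Nat.card_coe_set_eq]
    exact (card_fixed_levi P hQ h5 R.he R.e_ne hwb hbFw R.e_ne
      ((R.he : P.QW R.e = 0).trans hb.symm)).symm
  obtain ⟨y, rfl⟩ := exists_rep P o₀
  have hy : y ∈ {y : X | P.rad R.e • y = y} := by
    show P.rad R.e • y = y
    refine (mem_stabW P).1 (mem_of_ann P hQ hψ fun v hv => ?_)
    obtain ⟨t, rfl⟩ := hline _ u hu v hv hu0
    rw [P.chi_apply, ← P.polar_QW, QuadraticMap.polar_smul_left, hue, smul_zero, AddChar.map_zero_eq_one]
  rw [← heq] at hy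
  exact hbu (hfix y hy u hu).2

end CfsgLib.Classical.OMinIdx
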