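import Cfsg.Agent.Lib.Classical.OMinIdxEnd
import Cfsg.Agent.Lib.Classical.OMinIdxAttain
import Cfsg.Agent.Lib.Classical.OMinDegType

/-!
# Minimal index of the orthogonal groups: assembling the cases
-/

set_option autoImplicit false
set_option linter.unusedSectionVars false

namespace CfsgLib.Classical.OMinIdx

open CfsgLib.Geom CfsgLib.Classical CfsgLib.Classical.OMinDeg Module
open QuadraticMap (polar)

variable {F V : Type*} [Field F] [Finite F] [AddCommGroup V] [Module F V] [FiniteDimensional F V]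
  {Q : QuadraticForm F V}

/-- The numeric conditions under which every action has at least `B` points. -/
structure Bounds (P : Pair Q) (B T w : ℕ) : Prop where
  five : 5 ≤ finrank F P.W
  even_two : Nat.card F = 2 → Even (finrank F P.W)
  points : Nat.card {v : V // v ≠ 0 ∧ Q v = 0} = (Nat.card F - 1) * T
  le_points : B ≤ T
  points_eq : (Nat.card F - 1) * T = (Nat.card F - 1) * Nat.card P.W +
    Nat.card F * Nat.card {u : P.W // u ≠ 0 ∧ Q (u : V) = 0} + (Nat.card F - 1)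
  sing_pos : 0 < Nat.card {u : P.W // u ≠ 0 ∧ Q (u : V) = 0}
  le_two_regular : B ≤ 2 * Nat.card P.W
  le_regular : ∀ c : F, c ≠ 0 →
    2 * B ≤ 2 * Nat.card P.W + 3 * Nat.card {u : P.W // P.QW u = c} ∨
    ((2 : F) = 0 ∧ B ≤ Nat.card P.W + 2 * Nat.card {u : P.W // P.QW u = c})
  le_all : B ≤ 2 * (Nat.card P.W - 1)
  le_classes : ∀ c c' : F, c ≠ 0 → c' ≠ 0 → c ≠ c' → B ≤ Nat.card F *
    (Nat.card {u : P.W // P.QW u = c} + Nat.card {u : P.W // P.QW u = c'})
  le_mixed : ∀ c : F, c ≠ 0 → B ≤ Nat.card F * Nat.card {u : P.W // P.QW u = c} +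
    2 * Nat.card {u : P.W // u ≠ 0 ∧ Q (u : V) = 0}
  le_four : (2 : F) = 0 → ∀ c : F, c ≠ 0 → 3 * Nat.card F * B ≤
    2 * Nat.card F ^ (finrank F P.W - 2) * Nat.card {u : P.W // P.QW u = c}
  witt : ∀ D : Submodule F P.W, (∀ x ∈ D, P.QW x = 0) → Nat.card D ≤ Nat.card F ^ w
  witt_dim : w + 2 ≤ finrank F P.W
  le_singular :
    B ≤ (Nat.card F ^ (finrank F P.W - 2 - w) + 1) * Nat.card {u : P.W // u ≠ 0 ∧ Q (u : V) = 0} ∨
    B * (Nat.card F ^ w - 1) ≤ Nat.card F ^ w * ((Nat.card F ^ (finrank F P.W - 2 - w) + 1) *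
      Nat.card {u : P.W // u ≠ 0 ∧ Q (u : V) = 0}) ∨
    (4 ≤ Nat.card F ∧ finrank F P.W = w + 3 ∧
      (finrank F P.W = 2 * w ∨ (finrank F P.W = 2 * w + 1 ∧ (2 : F) ≠ 0)) ∧
      ∃ M₀ S₀ : ℕ, (Nat.card F + 1) * Nat.card {u : P.W // u ≠ 0 ∧ Q (u : V) = 0} =
          (Nat.card F ^ w - 1) * M₀ ∧
        T = Nat.card F ^ w * M₀ + S₀ ∧ S₀ ≤ M₀ ∧
        S₀ ≤ Nat.card {u : P.W // u ≠ 0 ∧ Q (u : V) = 0} ∧
        (∀ c : F, c ≠ 0 → S₀ ≤ Nat.card {u : P.W // P.QW u = c}) ∧
        S₀ * S₀ < 4 * (Nat.card F ^ w * M₀))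

theorem arith_line {W₀ s σ N B K : ℕ} (h1 : K + σ ≤ s * σ) (h2 : s * σ ≤ N)
    (hs : s ≤ W₀ + 1) (hW : 0 < W₀) (hB : B * W₀ ≤ (W₀ + 1) * K) : B ≤ N := by
  have h3 := Nat.mul_le_mul_right σ hs
  have h4 : (W₀ + 1) * K ≤ (s * σ) * W₀ := by nlinarith [Nat.mul_le_mul_left (W₀ + 1) h1]
  exact (Nat.le_of_mul_le_mul_right (hB.trans h4) hW).trans h2

theorem points_ge (hQ : ∀ x, (∀ y, polar Q x y = 0) → x = 0) {P : Pair Q} {B T w : ℕ}
    (hb : Bounds P B T w) {X : Type*} [MulAction ↥(siegelGroup Q) X] [Finite X]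
    [MulAction.IsPretransitive ↥(siegelGroup Q) X]
    (hne : ∃ (g : ↥(siegelGroup Q)) (y : X), g • y ≠ y) : B ≤ Nat.card X := by
  classical
  haveI : Finite P.W := Module.finite_of_finite F
  haveI := Fintype.ofFinite P.W
  haveI := Fintype.ofFinite F
  obtain ⟨φ, hφ⟩ := AddChar.exists_apply_ne_zero.2 (one_ne_zero (α := F))
  have hψ : φ.IsPrimitive := AddChar.IsPrimitive.of_ne_one fun e => hφ (by simp [e])
  have hq : 1 < Nat.card F := Finite.one_lt_card
  by_cases hR : (regOrb P φ X).Nonempty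
  · rcases regular_cases P hQ hψ hb.five hb.even_two hR with h | ⟨c, hc, h1, h2⟩ | ⟨hR1, h⟩
    · exact hb.le_two_regular.trans h
    · rcases hb.le_regular c hc with h' | ⟨h2F, h'⟩
      · omega
      · exact h'.trans (h2 h2F)
    · by_contra hlt
      push Not at hlt
      have hT := hb.le_points
      have hpe := hb.points_eq
      have hsp := hb.sing_pos
      have hN1 : T ≤ Nat.card X + 1 := by
        refine Nat.le_of_mul_le_mul_left ?_ (show 0 < Nat.card F - 1 by omega)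
        rw [mul_add, mul_one, hpe]
        omega
      have hdvd := regular_extreme P hQ hψ hb.five hb.even_two hR1 hb.points
      have hTN : T = Nat.card X + 1 := by omega
      rw [hTN, add_mul, one_mul] at hdvd
      have hd := (Nat.dvd_add_right (dvd_mul_right _ _)).1 hdvd
      have hWN : Nat.card P.W < Nat.card X := by
        refine Nat.lt_of_mul_lt_mul_left (a := Nat.card F - 1) ?_
        rw [hTN, mul_add, mul_one] at hpe
        have : 0 < Nat.card F * Nat.card {u : P.W // u ≠ 0 ∧ Q (u : V) = 0} :=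
          Nat.mul_pos (by omega) hsp
        omega
      have hpos : 0 < Nat.card P.W := Nat.card_pos
      have := Nat.le_of_dvd (by omega) hd
      omega
  · have hnone : ∀ o : Orb P X, orbA P φ o ≠ ⊤ := fun o ho => hR ⟨o, ho⟩
    by_cases hns : ∃ o : Orb P X, ∃ u ∈ orbA P φ o, ∃ v ∈ orbA P φ o,
        P.QW u ≠ 0 ∧ ∀ t : F, v ≠ t • u
    · obtain ⟨o, u, hu, v, hv, hQu, hind⟩ := hns
      rcases irregular_nonsingular P hQ hb.five hψ hnone hu hQu hv hind with
        h | ⟨c, c', hc, hc', hcc, h⟩ | ⟨c, hc, h⟩ | ⟨h2, c, hc, h⟩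
      · exact hb.le_all.trans h
      · exact (hb.le_classes c c' hc hc' hcc).trans h
      · exact (hb.le_mixed c hc).trans h
      · exact Nat.le_of_mul_le_mul_left ((hb.le_four h2 c hc).trans h)
          (Nat.mul_pos (by norm_num) (by omega))
    push Not at hns
    obtain ⟨o, u, hu, v, hv, hu0, hind⟩ := exists_not_line P hQ hb.five hψ hne
    have hA : ∀ z ∈ orbA P φ o, P.QW z = 0 := by
      intro z hz
      by_contra hQz
      obtain ⟨z', hz', hz'ind⟩ := exists_indep_partner P hu hv hu0 hind z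
      obtain ⟨t, ht⟩ := hns o z hz z' hz' hQz
      exact hz'ind t ht
    obtain ⟨hs, -, hcnt, hpts⟩ := irregular_singular P hQ hb.five hψ hb.witt hb.witt_dim hA hu hu0 hv hind
    rcases hb.le_singular with h | h | ⟨h4, hd, hd2, M₀, S₀, hM, hTS, hS, hn0, hn, hsq⟩
    · exact h.trans ((Nat.le_add_right _ _).trans (hcnt.trans hpts))
    · have hA2 : 2 ≤ Nat.card (orbA P φ o) :=
        Finite.one_lt_card_iff_nontrivial.2 ⟨⟨u, hu⟩, 0, fun e => hu0 (congrArg Subtype.val e)⟩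
      refine arith_line (W₀ := Nat.card F ^ w - 1) hcnt hpts (by omega) (by omega) ?_
      rw [Nat.sub_add_cancel (Nat.one_le_pow _ _ (by omega))]
      exact h
    · exact hb.le_points.trans (singular_extreme P hQ hb.five hψ h4 hb.witt hd hd2 hb.points hM hTS hS
        hn0 hn hsq hA hu hu0 hv hind)

variable {ι : Type} [Fintype ι] [DecidableEq ι] {Q' : QuadraticForm F (ι → F)}

/-- Every proper subgroup of `PΩ` has index at least `B`. -/
theorem le_index (hQ : ∀ x, (∀ y, polar Q' x y = 0) → x = 0) (h5 : 5 ≤ finrank F (ι → F))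
    {P : Pair Q'} {B T w : ℕ} (hb : Bounds P B T w) {H : Subgroup (Cfsg.POmega F (⇑Q'))} (hH : H ≠ ⊤) :
    B ≤ H.index := by
  obtain ⟨K, hK, hKH⟩ := exists_subgroup Q' hQ h5 hH
  haveI : Finite ((ι → F) ≃ₗ[F] (ι → F)) := Finite.of_injective _ DFunLike.coe_injective
  haveI : Finite (quadIsoms Q') := Subtype.finite
  obtain ⟨g, hg⟩ : ∃ g, g ∉ K := by
    by_contra h
    push Not at h
    exact hK ((Subgroup.eq_top_iff' K).2 h)
  rw [← hKH, Subgroup.index]
  refine points_ge (X := ↥(siegelGroup Q') ⧸ K) hQ hb ⟨g, ((1 : ↥(siegelGroup Q')) : _ ⧸ K), fun e => hg ?_⟩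
  rw [MulAction.Quotient.smul_coe, smul_eq_mul, mul_one, QuotientGroup.eq] at e
  simpa using e

end CfsgLib.Classical.OMinIdx
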