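import Cfsg.Agent.Lib.Classical.OMinDegFlip
import Mathlib.Analysis.Fourier.FiniteAbelian.PontryaginDuality

/-!
# Orbits of the radical of a point stabiliser in a permutation representation

For a set acted on by the group of Siegel transformations and a hyperbolic pair `(e, f)`: each orbit of
the radical has an annihilator in the orthogonal complement of the pair, of the size of the orbit.
-/

set_option autoImplicit false
set_option linter.unusedSectionVars false

namespace CfsgLib.Classical.OMinIdx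

open CfsgLib.Geom CfsgLib.Classical CfsgLib.Classical.OMinDeg
open QuadraticMap (polar)

variable {F V : Type*} [Field F] [AddCommGroup V] [Module F V] {Q : QuadraticForm F V} (P : Pair Q)
  (X : Type*) [MulAction ↥(siegelGroup Q) X]

variable {X} in
/-- The elements of the radical fixing a point. -/
def stabW (x : X) : AddSubgroup P.W where
  carrier := {w | P.rad w • x = x}
  zero_mem' := by simp
  add_mem' := fun {a b} ha hb => by
    simp only [Set.mem_ofPred_eq] at ha hb ⊢
    rw [AddChar.map_add_eq_mul, mul_smul, hb, ha]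
  neg_mem' := fun {a} ha => by
    simp only [Set.mem_ofPred_eq] at ha ⊢
    conv_lhs => rw [← ha]
    rw [← mul_smul, ← AddChar.map_add_eq_mul, neg_add_cancel, AddChar.map_zero_eq_one, one_smul]

variable {X}

theorem mem_stabW {x : X} {w : P.W} : w ∈ stabW P x ↔ P.rad w • x = x := Iff.rfl

theorem rad_comm_smul (s w : P.W) (x : X) : P.rad s • P.rad w • x = P.rad w • P.rad s • x := by
  rw [← mul_smul, ← mul_smul, ← AddChar.map_add_eq_mul, ← AddChar.map_add_eq_mul, add_comm]

theorem stabW_rad (s : P.W) (x : X) : stabW P (P.rad s • x) = stabW P x := by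
  ext w
  rw [mem_stabW, mem_stabW, ← rad_comm_smul]
  exact (MulAction.injective (P.rad s)).eq_iff

variable (X)

/-- Orbits of the radical. -/
def orbSetoid : Setoid X where
  r x y := ∃ w, P.rad w • x = y
  iseqv :=
    { refl := fun x => ⟨0, by simp⟩
      symm := fun {x y} h => by
        obtain ⟨w, rfl⟩ := h
        exact ⟨-w, by rw [← mul_smul, ← AddChar.map_add_eq_mul, neg_add_cancel, AddChar.map_zero_eq_one,
          one_smul]⟩
      trans := fun {x y z} h h' => by
        obtain ⟨w, rfl⟩ := h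
        obtain ⟨w', rfl⟩ := h'
        exact ⟨w' + w, by rw [AddChar.map_add_eq_mul, mul_smul]⟩ }

/-- The set of orbits of the radical. -/
def Orb : Type _ := Quotient (orbSetoid P X)

variable {X}

/-- The orbit of a point. -/
def Orb.mk (x : X) : Orb P X := Quotient.mk (orbSetoid P X) x

theorem orb_mk_eq {x y : X} : Orb.mk P x = Orb.mk P y ↔ ∃ w, P.rad w • x = y := Quotient.eq

theorem orb_mk_rad (w : P.W) (x : X) : Orb.mk P (P.rad w • x) = Orb.mk P x :=
  ((orb_mk_eq P).2 ⟨w, rfl⟩).symm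

theorem exists_rep (o : Orb P X) : ∃ x, Orb.mk P x = o := Quotient.exists_rep o

instance [Finite X] : Finite (Orb P X) := Quotient.finite _

/-- The annihilator of a set of elements of the complement. -/
def ann (ψ : AddChar F ℂ) (S : AddSubgroup P.W) : AddSubgroup P.W where
  carrier := {u | ∀ w ∈ S, P.chi ψ u w = 1}
  zero_mem' := fun w _ => by simp [P.chi_apply]
  add_mem' := fun {a b} ha hb w hw => by
    have h : P.chi ψ (a + b) w = P.chi ψ a w * P.chi ψ b w := by
      simp only [P.chi_apply, Submodule.coe_add, QuadraticMap.polar_add_left, AddChar.map_add_eq_mul]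
    rw [h, ha w hw, hb w hw, one_mul]
  neg_mem' := fun {a} ha w hw => by
    have h : P.chi ψ (-a) w = P.chi ψ a (-w) := by
      simp only [P.chi_apply, Submodule.coe_neg, QuadraticMap.polar_neg_left, QuadraticMap.polar_neg_right]
    rw [h]
    exact ha _ (neg_mem hw)

theorem mem_ann {ψ : AddChar F ℂ} {S : AddSubgroup P.W} {u : P.W} :
    u ∈ ann P ψ S ↔ ∀ w ∈ S, P.chi ψ u w = 1 := Iff.rfl

section Duality

variable [Fintype P.W] (hQ : ∀ x, (∀ y, polar Q x y = 0) → x = 0) {ψ : AddChar F ℂ} (hψ : ψ.IsPrimitive)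
include hQ hψ

/-- Annihilators are the characters of the quotient. -/
theorem exists_annEquiv (S : AddSubgroup P.W) :
    ∃ e : ann P ψ S ≃ AddChar (P.W ⧸ S) ℂ, ∀ u (w : P.W), e u (w : P.W ⧸ S) = P.chi ψ u w := by
  refine ⟨Equiv.ofBijective
    (fun u => AddChar.toAddMonoidHomEquiv.symm
      (QuotientAddGroup.lift S (P.chi ψ u.1).toAddMonoidHom fun w hw => congrArg Additive.ofMul (u.2 w hw)))
    ⟨fun u u' h => Subtype.ext (P.chi_injective hQ hψ (DFunLike.ext _ _ fun w => ?_)), fun χ => ?_⟩,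
    fun u w => rfl⟩
  · exact DFunLike.congr_fun h (w : P.W ⧸ S)
  · obtain ⟨u, hu⟩ := P.chi_surjective hQ hψ (χ.compAddMonoidHom (QuotientAddGroup.mk' S))
    refine ⟨⟨u, fun w hw => ?_⟩, DFunLike.ext _ _ fun z => ?_⟩
    · rw [hu, AddChar.compAddMonoidHom_apply, QuotientAddGroup.mk'_apply,
        (QuotientAddGroup.eq_zero_iff w).2 hw, AddChar.map_zero_eq_one]
    · obtain ⟨w, rfl⟩ := QuotientAddGroup.mk_surjective z
      exact DFunLike.congr_fun hu w

theorem card_ann (S : AddSubgroup P.W) : Nat.card (ann P ψ S) = S.index := by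
  obtain ⟨e, -⟩ := exists_annEquiv P hQ hψ S
  haveI := Fintype.ofFinite (P.W ⧸ S)
  rw [Nat.card_congr e, AddSubgroup.index, Nat.card_eq_fintype_card, Nat.card_eq_fintype_card,
    AddChar.card_eq]

theorem mem_of_ann {S : AddSubgroup P.W} {w : P.W} (h : ∀ u ∈ ann P ψ S, P.chi ψ u w = 1) : w ∈ S := by
  obtain ⟨e, he⟩ := exists_annEquiv P hQ hψ S
  rw [← QuotientAddGroup.eq_zero_iff]
  by_contra hne
  obtain ⟨χ, hχ⟩ := AddChar.exists_apply_ne_zero.2 hne
  refine hχ ?_
  obtain ⟨u, rfl⟩ := e.surjective χ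
  rw [he]
  exact h u u.2

end Duality

/-- The annihilator attached to an orbit. -/
def orbA (ψ : AddChar F ℂ) : Orb P X → AddSubgroup P.W :=
  Quotient.lift (fun x => ann P ψ (stabW P x)) fun x y h => by
    obtain ⟨w, rfl⟩ := h
    rw [stabW_rad]

theorem orbA_mk (ψ : AddChar F ℂ) (x : X) : orbA P ψ (Orb.mk P x) = ann P ψ (stabW P x) := rfl

/-- An orbit is parametrised by the quotient of the complement. -/
theorem card_fiber (x : X) : Nat.card {y : X // Orb.mk P y = Orb.mk P x} = (stabW P x).index := by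
  let f : P.W ⧸ stabW P x → {y : X // Orb.mk P y = Orb.mk P x} := fun z =>
    Quotient.liftOn' z (fun w => ⟨P.rad w • x, orb_mk_rad P w x⟩) fun a b h => Subtype.ext (by
      rw [QuotientAddGroup.leftRel_apply, mem_stabW] at h
      change P.rad a • x = P.rad b • x
      conv_rhs => rw [show b = a + (-a + b) by abel]
      rw [AddChar.map_add_eq_mul, mul_smul, h])
  refine (Nat.card_congr (Equiv.ofBijective f ⟨fun z z' h => ?_, fun y => ?_⟩)).symm
  · obtain ⟨a, rfl⟩ := QuotientAddGroup.mk_surjective z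
    obtain ⟨b, rfl⟩ := QuotientAddGroup.mk_surjective z'
    have h' : P.rad a • x = P.rad b • x := congrArg Subtype.val h
    rw [QuotientAddGroup.eq, mem_stabW, AddChar.map_add_eq_mul, mul_smul, ← h', ← mul_smul,
      ← AddChar.map_add_eq_mul, neg_add_cancel, AddChar.map_zero_eq_one, one_smul]
  · obtain ⟨w, hw⟩ := (orb_mk_eq P).1 y.2.symm
    exact ⟨(w : P.W ⧸ stabW P x), Subtype.ext hw⟩

theorem card_orbA [Fintype P.W] (hQ : ∀ x, (∀ y, polar Q x y = 0) → x = 0) {ψ : AddChar F ℂ}
    (hψ : ψ.IsPrimitive) (o : Orb P X) : Nat.card {y : X // Orb.mk P y = o} = Nat.card (orbA P ψ o) := by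
  obtain ⟨x, rfl⟩ := exists_rep P o
  rw [card_fiber, orbA_mk, card_ann P hQ hψ]

/-- The points are distributed over the orbits. -/
theorem card_eq_sum [Fintype X] [Fintype P.W] [Fintype (Orb P X)]
    (hQ : ∀ x, (∀ y, polar Q x y = 0) → x = 0) {ψ : AddChar F ℂ} (hψ : ψ.IsPrimitive) :
    Fintype.card X = ∑ o : Orb P X, Nat.card (orbA P ψ o) := by
  classical
  rw [← Nat.card_eq_fintype_card, ← Nat.card_congr (Equiv.sigmaFiberEquiv (Orb.mk P (X := X))), Nat.card_sigma]
  exact Finset.sum_congr rfl fun o _ => card_orbA P hQ hψ o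

/-! ### The Levi complement -/

/-- Extension into the group of Siegel transformations. -/
noncomputable def levi : ↥(siegelGroup P.QW) →* ↥(siegelGroup Q) where
  toFun k := ⟨P.extend k.1, P.extend_mem k.2⟩
  map_one' := Subtype.ext P.extendHom.map_one
  map_mul' k l := Subtype.ext (P.extendHom.map_mul k.1 l.1)

theorem levi_W (k : ↥(siegelGroup P.QW)) (w : P.W) : (levi P k).1.1 (w : V) = (k.1.1 w : V) :=
  P.extend_W k.1 w

theorem levi_rad (k : ↥(siegelGroup P.QW)) (w : P.W) :
    levi P k * P.rad w = P.rad (k.1.1 w) * levi P k := by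
  have h := P.conj_rad (g := levi P k) (a := 1) (by rw [one_smul]; exact P.extend_e _) one_ne_zero w
  rw [one_smul, levi_W, P.pr_W] at h
  rw [← h, inv_mul_cancel_right]

theorem levi_rad_smul (k : ↥(siegelGroup P.QW)) (w : P.W) (x : X) :
    levi P k • P.rad w • x = P.rad (k.1.1 w) • levi P k • x := by
  rw [← mul_smul, levi_rad, mul_smul]

noncomputable instance : MulAction ↥(siegelGroup P.QW) (Orb P X) where
  smul k := Quotient.map (levi P k • ·) fun x y h => by
    obtain ⟨w, rfl⟩ := h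
    exact ⟨k.1.1 w, (levi_rad_smul P k w x).symm⟩
  one_smul o := by
    obtain ⟨x, rfl⟩ := exists_rep P o
    exact congrArg (Quotient.mk _) (by simp)
  mul_smul k l o := by
    obtain ⟨x, rfl⟩ := exists_rep P o
    exact congrArg (Quotient.mk _) (by simp [mul_smul])

theorem smul_mk (k : ↥(siegelGroup P.QW)) (x : X) : k • Orb.mk P x = Orb.mk P (levi P k • x) := rfl

theorem stabW_levi {k : ↥(siegelGroup P.QW)} {w : P.W} {x : X} :
    k.1.1 w ∈ stabW P (levi P k • x) ↔ w ∈ stabW P x := by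
  rw [mem_stabW, ← levi_rad_smul]
  exact (MulAction.injective (levi P k)).eq_iff

theorem chi_levi (ψ : AddChar F ℂ) (k : ↥(siegelGroup P.QW)) (u w : P.W) :
    P.chi ψ (k.1.1 u) (k.1.1 w) = P.chi ψ u w := by
  rw [P.chi_apply, P.chi_apply, ← P.polar_QW, ← P.polar_QW, polar_quadIsom k.1.2]

theorem mem_orbA_smul (ψ : AddChar F ℂ) (k : ↥(siegelGroup P.QW)) (o : Orb P X) (u : P.W) :
    k.1.1 u ∈ orbA P ψ (k • o) ↔ u ∈ orbA P ψ o := by
  obtain ⟨x, rfl⟩ := exists_rep P o
  rw [smul_mk, orbA_mk, orbA_mk, mem_ann, mem_ann]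
  refine ⟨fun h w hw => ?_, fun h w hw => ?_⟩
  · rw [← chi_levi P ψ k]
    exact h _ ((stabW_levi P).2 hw)
  · obtain ⟨w', rfl⟩ := k.1.1.surjective w
    rw [chi_levi]
    exact h _ ((stabW_levi P).1 hw)

theorem mem_orbA_smul' (ψ : AddChar F ℂ) (k : ↥(siegelGroup P.QW)) (o : Orb P X) (u : P.W) :
    u ∈ orbA P ψ (k • o) ↔ k.1.1.symm u ∈ orbA P ψ o := by
  conv_lhs => rw [← k.1.1.apply_symm_apply u]
  exact mem_orbA_smul P ψ k o _

theorem orbA_smul_top (ψ : AddChar F ℂ) (k : ↥(siegelGroup P.QW)) (o : Orb P X) :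
    orbA P ψ (k • o) = ⊤ ↔ orbA P ψ o = ⊤ := by
  simp only [AddSubgroup.eq_top_iff']
  exact ⟨fun h u => (mem_orbA_smul P ψ k o u).1 (h _), fun h u => (mem_orbA_smul' P ψ k o u).2 (h _)⟩

theorem smul_eq_of_fix {k : ↥(siegelGroup P.QW)} {x : X} {s : P.W} (h : levi P k • x = P.rad s • x) :
    k • Orb.mk P x = Orb.mk P x := by
  rw [smul_mk, h, orb_mk_rad]

end CfsgLib.Classical.OMinIdx
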