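import Cfsg.Agent.Lib.Classical.OMinIdxCount
import Cfsg.Agent.Lib.Classical.OMinIdxExclude

/-!
# Actions in which the radical has a regular orbit
-/

set_option autoImplicit false
set_option linter.unusedSectionVars false

namespace CfsgLib.Classical.OMinIdx

open CfsgLib.Geom CfsgLib.Classical CfsgLib.Classical.OMinDeg Module
open QuadraticMap (polar)

variable {F V : Type*} [Field F] [Finite F] [AddCommGroup V] [Module F V] [FiniteDimensional F V]
  {Q : QuadraticForm F V} {X : Type*} [MulAction ↥(siegelGroup Q) X]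

omit [FiniteDimensional F V] in
/-- A set of non-zero vectors stable under scalars has size divisible by `q - 1`. -/
theorem sub_one_dvd_card [Finite V] {S : Set V} (h0 : (0 : V) ∉ S)
    (hS : ∀ (t : F) (v : V), t ≠ 0 → v ∈ S → t • v ∈ S) : (Nat.card F - 1) ∣ S.ncard := by
  classical
  haveI := Fintype.ofFinite F
  let r : Setoid S :=
    { r := fun a b => ∃ t : F, t ≠ 0 ∧ t • a.1 = b.1
      iseqv :=
        { refl := fun a => ⟨1, one_ne_zero, one_smul _ _⟩
          symm := fun {a b} ⟨t, ht, e⟩ => ⟨t⁻¹, inv_ne_zero ht, by rw [← e, inv_smul_smul₀ ht]⟩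
          trans := fun {a b c} ⟨t, ht, e⟩ ⟨s, hs, e'⟩ =>
            ⟨s * t, mul_ne_zero hs ht, by rw [mul_smul, e, e']⟩ } }
  haveI := Fintype.ofFinite (Quotient r)
  rw [← Nat.card_coe_set_eq, ← Nat.card_congr (Equiv.sigmaFiberEquiv (Quotient.mk r)), Nat.card_sigma]
  refine Finset.dvd_sum fun c _ => dvd_of_eq ?_
  obtain ⟨a, rfl⟩ := Quotient.exists_rep c
  have ha : a.1 ≠ 0 := fun e => h0 (e ▸ a.2)
  rw [Nat.card_eq_fintype_card (α := F), ← Fintype.card_units, ← Nat.card_eq_fintype_card]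
  refine Nat.card_congr (Equiv.ofBijective
    (fun t : Fˣ => ⟨⟨(t : F) • a.1, hS _ _ t.ne_zero a.2⟩,
      Quotient.sound ⟨(↑t⁻¹ : F), Units.ne_zero _, by simp [smul_smul]⟩⟩) ⟨fun t t' e => ?_, fun b => ?_⟩)
  · exact Units.ext (smul_left_injective F ha (congrArg (fun b => b.1.1) e))
  · obtain ⟨t, ht, e⟩ := Quotient.exact b.2
    exact ⟨Units.mk0 t⁻¹ (inv_ne_zero ht), Subtype.ext (Subtype.ext (by simp [← e, smul_smul, ht]))⟩

section Pairs

variable [Finite X] (hQ : ∀ x, (∀ y, polar Q x y = 0) → x = 0) (h5 : 5 ≤ finrank F V)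
  [hX : MulAction.IsPretransitive ↥(siegelGroup Q) X]
include hQ h5 hX

/-- Counting pairs of a singular point and a point of the set. -/
theorem dvd_of_pairs (Φ : V → X → Prop)
    (heq : ∀ (g : ↥(siegelGroup Q)) (v : V) (y : X), Φ (g.1.1 v) (g • y) ↔ Φ v y)
    (hsc : ∀ (t : F) (v : V) (y : X), t ≠ 0 → Q v = 0 → Φ v y → Φ (t • v) y)
    {e : V} (he : Q e = 0) (he0 : e ≠ 0) {T : ℕ}
    (hT : Nat.card {v : V // v ≠ 0 ∧ Q v = 0} = (Nat.card F - 1) * T) :
    Nat.card X ∣ T * Nat.card {y : X // Φ e y} := by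
  classical
  haveI : Finite V := Module.finite_of_finite F
  rcases isEmpty_or_nonempty X with hE | ⟨⟨x₀⟩⟩
  · simp
  haveI := Fintype.ofFinite X
  haveI := Fintype.ofFinite {v : V // v ≠ 0 ∧ Q v = 0}
  have hrow : ∀ v : {v : V // v ≠ 0 ∧ Q v = 0},
      Nat.card {y : X // Φ v.1 y} = Nat.card {y : X // Φ e y} := by
    intro v
    obtain ⟨g, hg, hgv⟩ := siegel_transitive Q hQ h5 he v.2.2 he0 v.2.1
    refine (Nat.card_congr (Equiv.subtypeEquiv
      (MulAction.toPerm (⟨g, hg⟩ : ↥(siegelGroup Q)) : Equiv.Perm X) fun y => ?_)).symm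
    rw [MulAction.toPerm_apply, ← hgv]
    exact (heq ⟨g, hg⟩ e y).symm
  have hcol : ∀ x : X, Nat.card {v : {v : V // v ≠ 0 ∧ Q v = 0} // Φ v.1 x} =
      Nat.card {v : {v : V // v ≠ 0 ∧ Q v = 0} // Φ v.1 x₀} := by
    intro x
    obtain ⟨g, rfl⟩ := MulAction.exists_smul_eq ↥(siegelGroup Q) x₀ x
    refine (Nat.card_congr (Equiv.subtypeEquiv (Equiv.subtypeEquiv g.1.1.toEquiv fun v => ?_)
      fun v => ?_)).symm
    · simp [mem_quadIsoms.1 g.1.2 v]
    · exact (heq g v.1 x₀).symm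
  have hpairs : Nat.card {v : V // v ≠ 0 ∧ Q v = 0} * Nat.card {y : X // Φ e y} =
      Nat.card X * Nat.card {v : {v : V // v ≠ 0 ∧ Q v = 0} // Φ v.1 x₀} := by
    have h1 : Nat.card (Σ v : {v : V // v ≠ 0 ∧ Q v = 0}, {y : X // Φ v.1 y}) =
        Nat.card (Σ y : X, {v : {v : V // v ≠ 0 ∧ Q v = 0} // Φ v.1 y}) :=
      Nat.card_congr
        { toFun := fun p => ⟨p.2.1, p.1, p.2.2⟩
          invFun := fun p => ⟨p.2.1, p.1, p.2.2⟩
          left_inv := fun _ => rfl
          right_inv := fun _ => rfl }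
    rw [Nat.card_sigma, Nat.card_sigma, Finset.sum_congr rfl fun v _ => hrow v,
      Finset.sum_congr rfl fun y _ => hcol y, Finset.sum_const, Finset.sum_const, Finset.card_univ,
      Finset.card_univ, smul_eq_mul, smul_eq_mul, ← Nat.card_eq_fintype_card,
      ← Nat.card_eq_fintype_card] at h1
    exact h1
  obtain ⟨b, hb⟩ : (Nat.card F - 1) ∣ {v : V | (v ≠ 0 ∧ Q v = 0) ∧ Φ v x₀}.ncard :=
    sub_one_dvd_card (fun h => h.1.1 rfl) fun t v ht hv =>
      ⟨⟨smul_ne_zero ht hv.1.1, by rw [quad_smul, hv.1.2, mul_zero]⟩, hsc t v x₀ ht hv.1.2 hv.2⟩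
  have hb' : Nat.card {v : V // (v ≠ 0 ∧ Q v = 0) ∧ Φ v x₀} = (Nat.card F - 1) * b := by
    rw [← hb, ← Nat.card_coe_set_eq]; rfl
  rw [hT, Nat.card_congr (Equiv.subtypeSubtypeEquivSubtypeInter _ (fun v : V => Φ v x₀)),
    hb', mul_assoc, mul_left_comm (Nat.card X)] at hpairs
  have hq : 1 < Nat.card F := Finite.one_lt_card
  exact ⟨b, Nat.eq_of_mul_eq_mul_left (by omega) hpairs⟩

end Pairs

variable (P : Pair Q) [Finite X]

/-- The orbits on which the radical is regular. -/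
def regOrb (ψ : AddChar F ℂ) (X : Type*) [MulAction ↥(siegelGroup Q) X] : Set (Orb P X) :=
  {o | orbA P ψ o = ⊤}

/-- Irregularity with respect to a singular vector. -/
def Irr (Q : QuadraticForm F V) {X : Type*} [MulAction ↥(siegelGroup Q) X] (v : V) (y : X) : Prop :=
  ∃ z, polar Q v z = 0 ∧ (∀ t : F, z ≠ t • v) ∧ rootEl Q v z • y = y

theorem irr_smul (g : ↥(siegelGroup Q)) (v : V) (y : X) : Irr Q (g.1.1 v) (g • y) ↔ Irr Q v y := by
  constructor
  · rintro ⟨z, hz, hzv, hy⟩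
    obtain ⟨z, rfl⟩ := g.1.1.surjective z
    refine ⟨z, by rwa [polar_quadIsom g.1.2] at hz, fun t e => hzv t (by rw [e, map_smul]), ?_⟩
    rw [← rootEl_conj, ← mul_smul, inv_mul_cancel_right, mul_smul] at hy
    exact MulAction.injective g hy
  · rintro ⟨z, hz, hzv, hy⟩
    refine ⟨g.1.1 z, by rwa [polar_quadIsom g.1.2], fun t e => hzv t ?_, ?_⟩
    · rw [← map_smul] at e; exact g.1.1.injective e
    · rw [← rootEl_conj, ← mul_smul, inv_mul_cancel_right, mul_smul, hy]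

theorem irr_scale {t : F} {v : V} {y : X} (ht : t ≠ 0) (hv : Q v = 0) (h : Irr Q v y) : Irr Q (t • v) y := by
  obtain ⟨z, hz, hzv, hy⟩ := h
  refine ⟨t⁻¹ • z, ?_, fun s e => hzv (t * (s * t)) ?_, ?_⟩
  · rw [QuadraticMap.polar_smul_left, QuadraticMap.polar_smul_right, hz, smul_zero, smul_zero]
  · have e' := congrArg (fun w => t • w) e
    simp only [smul_inv_smul₀ ht, smul_smul] at e'
    exact e'
  · have e : (rootEl Q (t • v) (t⁻¹ • z) : ↥(siegelGroup Q)) = rootEl Q v z := Subtype.ext (by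
      change siegel Q (t • v) (t⁻¹ • z) = siegel Q v z
      rw [siegel_smul Q hv (by rw [QuadraticMap.polar_smul_right, hz, smul_zero]), smul_inv_smul₀ ht])
    rw [e, hy]

variable [Fintype P.W] (hQ : ∀ x, (∀ y, polar Q x y = 0) → x = 0)
  {ψ : AddChar F ℂ} (hψ : ψ.IsPrimitive)
include hQ hψ

theorem stabW_eq_bot_iff (y : X) : stabW P y = ⊥ ↔ orbA P ψ (Orb.mk P y) = ⊤ := by
  rw [orbA_mk]
  have h := card_ann P hQ hψ (stabW P y)
  have h' := (stabW P y).index_mul_card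
  rw [← h] at h'
  constructor
  · intro e
    rw [e, AddSubgroup.card_bot, mul_one, ← e] at h'
    exact AddSubgroup.eq_top_of_card_eq _ h'
  · intro e
    rw [e, AddSubgroup.card_top] at h'
    exact AddSubgroup.eq_bot_of_card_eq _
      (Nat.eq_of_mul_eq_mul_left (Nat.card_pos (α := P.W)) (by rw [h', mul_one]))

theorem irr_e_iff (y : X) : Irr Q P.e y ↔ Orb.mk P y ∉ regOrb P ψ X := by
  rw [regOrb, Set.mem_ofPred_eq, ← stabW_eq_bot_iff P hQ hψ, AddSubgroup.eq_bot_iff_forall]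
  push Not
  constructor
  · rintro ⟨z, hz, hzv, hy⟩
    refine ⟨P.pr z, (mem_stabW P).2 ?_, fun h0 => ?_⟩
    · have e : P.rad (P.pr z) = rootEl Q P.e z := Subtype.ext (P.siegel_e_pr hz).symm
      rw [e, hy]
    · have hs := P.split z
      rw [hz, h0, zero_smul, ZeroMemClass.coe_zero, add_zero, add_zero] at hs
      exact hzv _ hs
  · rintro ⟨w, hw, hw0⟩
    refine ⟨(w : V), P.W_e w, fun t e => hw0 (Subtype.ext ?_), (mem_stabW P).1 hw⟩
    have h1 := P.W_f w
    rw [e, QuadraticMap.polar_smul_right, P.hfe, smul_eq_mul, mul_one] at h1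
    rw [e, h1, zero_smul]; rfl

theorem card_regular : Nat.card {x : X // Orb.mk P x ∈ regOrb P ψ X} =
    Nat.card P.W * (regOrb P ψ X).ncard :=
  card_points_const P hQ hψ fun o ho => by
    rw [show orbA P ψ o = ⊤ from ho]; exact AddSubgroup.card_top

variable [hX : MulAction.IsPretransitive ↥(siegelGroup Q) X] (h5 : 5 ≤ finrank F P.W)
  (hev : Nat.card F = 2 → Even (finrank F P.W))
include hX h5 hev

/-- The irregular orbits are not all fixed by the radical. -/
theorem exists_irregular_vector (hR : (regOrb P ψ X).ncard = 1) :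
    ∃ o : Orb P X, o ∉ regOrb P ψ X ∧ ∃ u ∈ orbA P ψ o, u ≠ 0 := by
  classical
  by_contra hall
  push Not at hall
  obtain ⟨o₀, ho₀⟩ := Set.ncard_eq_one.1 hR
  have hfix : ∀ y : X, (∃ w : P.W, w ≠ 0 ∧ P.rad w • y = y) → ∀ w : P.W, P.rad w • y = y := by
    rintro y ⟨w₀, hw₀, hy⟩ w
    have hnr : Orb.mk P y ∉ regOrb P ψ X := fun h => hw₀ (by
      have hb := (stabW_eq_bot_iff P hQ hψ y).2 h
      rw [AddSubgroup.eq_bot_iff_forall] at hb
      exact hb w₀ ((mem_stabW P).2 hy))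
    refine (mem_stabW P).1 (mem_of_ann P hQ hψ fun u hu => ?_)
    rw [hall _ hnr u hu]
    simp [P.chi_apply]
  -- fixing is the same for all singular vectors
  have h5V : 5 ≤ finrank F V := five_le P hQ h5
  let Fx : V → X → Prop := fun v y => ∀ z, polar Q v z = 0 → rootEl Q v z • y = y
  have hFe : ∀ y, Fx P.e y ↔ ∀ w, P.rad w • y = y := fun y => by
    refine ⟨fun h w => h w (P.W_e w), fun h z hz => ?_⟩
    have e : rootEl Q P.e z = P.rad (P.pr z) := Subtype.ext (P.siegel_e_pr hz)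
    rw [e, h]
  have hFg : ∀ (g : ↥(siegelGroup Q)) v y, Fx v y → Fx (g.1.1 v) (g • y) := by
    intro g v y h z hz
    obtain ⟨z, rfl⟩ := g.1.1.surjective z
    rw [polar_quadIsom g.1.2] at hz
    rw [← rootEl_conj, ← mul_smul, inv_mul_cancel_right, mul_smul, h z hz]
  have hone : ∀ v, Q v = 0 → v ≠ 0 → ∀ z y, polar Q v z = 0 → (∀ t : F, z ≠ t • v) →
      rootEl Q v z • y = y → Fx v y := by
    intro v hv hv0 z y hz hzv hy
    obtain ⟨g, hg, hgv⟩ := siegel_transitive Q hQ h5V hv P.he hv0 P.e_ne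
    have hirr : Irr Q P.e ((⟨g, hg⟩ : ↥(siegelGroup Q)) • y) := by
      rw [← hgv]; exact (irr_smul ⟨g, hg⟩ v y).2 ⟨z, hz, hzv, hy⟩
    obtain ⟨z', hz', hz'v, hy'⟩ := hirr
    have e : rootEl Q P.e z' = P.rad (P.pr z') := Subtype.ext (P.siegel_e_pr hz')
    have h0 : P.pr z' ≠ 0 := fun h0 => by
      have hs := P.split z'
      rw [hz', h0, zero_smul, ZeroMemClass.coe_zero, add_zero, add_zero] at hs
      exact hz'v _ hs
    have h := hFg (⟨g, hg⟩ : ↥(siegelGroup Q))⁻¹ _ _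
      ((hFe _).2 (hfix _ ⟨_, h0, e ▸ hy'⟩))
    rw [inv_smul_smul] at h
    convert h using 1
    change v = g.1.symm P.e
    rw [← hgv, LinearEquiv.symm_apply_apply]
  have hlink : ∀ v w y, Q v = 0 → v ≠ 0 → Q w = 0 → w ≠ 0 → polar Q v w = 0 →
      (∀ t : F, w ≠ t • v) → Fx v y → Fx w y := by
    intro v w y hv hv0 hw hw0 hvw hind h
    refine hone w hw hw0 (-v) y (by rw [QuadraticMap.polar_neg_right, QuadraticMap.polar_comm, hvw, neg_zero])
      (fun t ht => ?_) ?_
    · rw [neg_eq_iff_eq_neg, ← neg_smul] at ht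
      by_cases ht0 : t = 0
      · exact hv0 (by rw [ht, ht0, neg_zero, zero_smul])
      · exact hind (-t)⁻¹ (by rw [ht, smul_smul, inv_mul_cancel₀ (neg_ne_zero.2 ht0), one_smul])
    · have e : rootEl Q w (-v) = rootEl Q v w := Subtype.ext (siegel_swap hv hw hvw).symm
      rw [e]
      exact h w hvw
  have hall' : ∀ y v, Q v = 0 → v ≠ 0 → Fx P.e y → Fx v y := by
    intro y v hv hv0 h
    by_cases hmul : ∀ t : F, v ≠ t • P.e
    swap
    · push Not at hmul
      obtain ⟨t, rfl⟩ := hmul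
      intro z hz
      have ht : t ≠ 0 := fun h0 => hv0 (by rw [h0, zero_smul])
      rw [QuadraticMap.polar_smul_left, smul_eq_zero] at hz
      have hz' := hz.resolve_left ht
      have e : rootEl Q (t • P.e) z = rootEl Q P.e (t • z) :=
        Subtype.ext (siegel_smul Q P.he hz' t)
      rw [e]
      exact h _ (by rw [QuadraticMap.polar_smul_right, hz', smul_zero])
    by_cases hev : polar Q P.e v = 0
    · exact hlink P.e v y P.he P.e_ne hv hv0 hev hmul h
    · obtain ⟨u, hu, hu0, heu, hvu, hind⟩ := exists_singular_perp_indep Q hQ h5V P.e_ne v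
      obtain ⟨hi1, hi2⟩ := hind hev
      have hnu : ∀ {w : V}, LinearIndependent F ![u, w] → ∀ t : F, w ≠ t • u := fun hi t e =>
        ((LinearIndependent.pair_iff' hu0).1 hi) t e.symm
      have hnu' : ∀ {w : V}, w ≠ 0 → LinearIndependent F ![u, w] → ∀ t : F, u ≠ t • w :=
        fun {w} hw hi t e => by
          by_cases ht : t = 0
          · exact hu0 (by rw [e, ht, zero_smul])
          · exact hnu hi t⁻¹ (by rw [e, inv_smul_smul₀ ht])
      exact hlink u v y hu hu0 hv hv0 (by rw [QuadraticMap.polar_comm]; exact hvu) (hnu hi2)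
        (hlink P.e u y P.he P.e_ne hu hu0 heu (hnu' P.e_ne hi1) h)
  have hinv : ∀ (g : ↥(siegelGroup Q)) y, Fx P.e y → Fx P.e (g • y) := by
    intro g y h
    obtain ⟨v, hv⟩ := g.1.1.surjective P.e
    have hQv : Q v = 0 := by rw [← mem_quadIsoms.1 g.1.2 v, hv, P.he]
    have hv0 : v ≠ 0 := fun e => P.e_ne (by rw [← hv, e, map_zero])
    rw [← hv]
    exact hFg g v y (hall' y v hQv hv0 h)
  obtain ⟨x₀, hx₀⟩ := exists_rep P o₀
  have hfree₀ : stabW P x₀ = ⊥ := (stabW_eq_bot_iff P hQ hψ x₀).2 (by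
    change Orb.mk P x₀ ∈ regOrb P ψ X
    rw [ho₀, hx₀]; rfl)
  have hfree : ∀ (w : P.W) (x : X), P.rad w • x = x → w = 0 := by
    intro w x hx
    by_contra hw
    have hFx : Fx P.e x := (hFe x).2 (hfix x ⟨w, hw, hx⟩)
    obtain ⟨g, rfl⟩ := MulAction.exists_smul_eq ↥(siegelGroup Q) x₀ x
    have h0 := hinv g⁻¹ _ hFx
    rw [inv_smul_smul] at h0
    obtain ⟨v, -, -, hv⟩ := exists_perp_anisotropic P.QW (P.sep_W hQ) h5 0 0
    have hv0 : v ≠ 0 := fun e => hv (by rw [e, QuadraticMap.map_zero])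
    rw [AddSubgroup.eq_bot_iff_forall] at hfree₀
    exact hv0 (hfree₀ v ((mem_stabW P).2 ((hFe x₀).1 h0 v)))
  have htr : ∀ x y : X, ∃ w : P.W, P.rad w • x = y := by
    intro x y
    have hreg : ∀ z : X, Orb.mk P z = o₀ := fun z => by
      have hz : Orb.mk P z ∈ regOrb P ψ X := (stabW_eq_bot_iff P hQ hψ z).1
        ((AddSubgroup.eq_bot_iff_forall _).2 fun w hw => hfree w z ((mem_stabW P).1 hw))
      rw [ho₀] at hz
      exact hz
    exact (orb_mk_eq P).1 ((hreg x).trans (hreg y).symm)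
  haveI : Nonempty X := ⟨x₀⟩
  by_cases h2 : Nat.card F = 2
  · exact false_of_two P hQ h5 hfree htr h2 (hev h2)
  by_cases h3 : Nat.card F = 3
  · exact false_of_three P hQ h5 hfree htr h3
  have h1 : 1 < Nat.card F := Finite.one_lt_card
  exact false_of_four P hQ h5 hfree htr (by omega)

/-- The three possibilities when some orbit of the radical is regular. -/
theorem regular_cases (hR : (regOrb P ψ X).Nonempty) :
    2 * Nat.card P.W ≤ Nat.card X ∨
    (∃ c : F, c ≠ 0 ∧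
      2 * Nat.card P.W + 3 * Nat.card {u : P.W // P.QW u = c} ≤ 2 * Nat.card X ∧
      ((2 : F) = 0 → Nat.card P.W + 2 * Nat.card {u : P.W // P.QW u = c} ≤ Nat.card X)) ∨
    ((regOrb P ψ X).ncard = 1 ∧
      (Nat.card F - 1) * Nat.card P.W + Nat.card F * Nat.card {u : P.W // u ≠ 0 ∧ Q (u : V) = 0} ≤
        (Nat.card F - 1) * Nat.card X) := by
  classical
  have hsum := card_points_add P (regOrb P ψ X) (X := X)
  rw [card_regular P hQ hψ] at hsum
  by_cases hR1 : (regOrb P ψ X).ncard = 1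
  swap
  · left
    have : 2 ≤ (regOrb P ψ X).ncard := by
      have := (Set.ncard_pos (Set.toFinite _)).2 hR
      omega
    calc 2 * Nat.card P.W ≤ Nat.card P.W * (regOrb P ψ X).ncard := by
          rw [mul_comm 2]; exact Nat.mul_le_mul_left _ this
      _ ≤ Nat.card X := by omega
  rw [hR1, mul_one] at hsum
  right
  have hstab : Stable P (regOrb P ψ X)ᶜ := stable_irregular P ψ
  have hthr : ∀ {o : Orb P X} {u u' : P.W}, o ∉ regOrb P ψ X → u ∈ orbA P ψ o → u ≠ 0 → u' ≠ 0 →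
      Q (u : V) = Q (u' : V) → 1 ≤ through P ψ (regOrb P ψ X)ᶜ u' := fun ho hu hu0 hu0' e => by
    rw [← through_eq_of_value P hQ h5 hstab hu0 hu0' e]
    exact one_le_through P ψ ho hu
  have hmult : ∀ {o : Orb P X} {u v u' : P.W}, o ∉ regOrb P ψ X → u ∈ orbA P ψ o → v ∈ orbA P ψ o →
      u ≠ 0 → (∀ t : F, v ≠ t • u) → u' ≠ 0 → Q (u : V) = Q (u' : V) →
      2 ≤ through P ψ (regOrb P ψ X)ᶜ u' := fun ho hu hv hu0 hind hu0' e => by
    rw [← through_eq_of_value P hQ h5 hstab hu0 hu0' e]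
    exact two_le_mult P hQ h5 ho hu hu0 hv hind
  by_cases hns : ∃ o ∉ regOrb P ψ X, ∃ u ∈ orbA P ψ o, Q (u : V) ≠ 0
  · obtain ⟨o, ho, u, hu, hu0⟩ := hns
    left
    refine ⟨Q (u : V), hu0, ?_⟩
    have hune : u ≠ 0 := fun e => hu0 (by rw [e, ZeroMemClass.coe_zero, QuadraticMap.map_zero])
    obtain ⟨C, hC⟩ : ∃ C : Set P.W, C = {w | P.QW w = Q (u : V)} := ⟨_, rfl⟩
    have hCn : C.ncard = Nat.card {w : P.W // P.QW w = Q (u : V)} := by
      rw [hC, ← Nat.card_coe_set_eq]; rfl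
    have hC0 : (0 : P.W) ∉ C := by
      rw [hC]; intro e; exact hu0 ((e.symm).trans (QuadraticMap.map_zero _))
    have hCne : ∀ w ∈ C, w ≠ 0 ∧ Q (u : V) = Q (w : V) := fun w hw => by
      rw [hC] at hw
      exact ⟨fun e => hC0 (e ▸ (hC.symm ▸ hw)), hw.symm⟩
    by_cases hnl : ∃ o' ∉ regOrb P ψ X, ∃ w ∈ orbA P ψ o', w ∈ C ∧
        ∃ v ∈ orbA P ψ o', ∀ t : F, v ≠ t • w
    · obtain ⟨o', ho', w, hw, hwC, v, hv, hind⟩ := hnl
      have hcnt := count_le P hQ hψ (regOrb P ψ X)ᶜ hC0 (m := 2) fun w' hw' =>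
        hmult ho' hw hv (hCne w hwC).1 hind (hCne w' hw').1 ((hCne w hwC).2.symm.trans (hCne w' hw').2)
      rw [hCn] at hcnt
      constructor
      · omega
      · intro; omega
    push Not at hnl
    have hcnt := count_le P hQ hψ (regOrb P ψ X)ᶜ hC0 (m := 1) fun w hw =>
      hthr ho hu hune (hCne w hw).1 (hCne w hw).2
    have hle : ∀ (r : ℕ), (∀ t : F, ∀ S : Finset F, (∀ s ∈ S, s ^ 2 = t) → S.card ≤ r) →
        C.ncard ≤ r * ((regOrb P ψ X)ᶜ).ncard := by
      intro r hr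
      rw [← one_mul C.ncard]
      refine mul_ncard_le P _ C (fun w hw => hthr ho hu hune (hCne w hw).1 (hCne w hw).2) fun o' ho' => ?_
      rcases isEmpty_or_nonempty {w : C // w.1 ∈ orbA P ψ o'} with hE | ⟨⟨⟨⟨w₀, hw₀⟩, hw₀'⟩⟩⟩
      · simp
      have hall : ∀ w : {w : C // w.1 ∈ orbA P ψ o'}, ∃ t : F, w.1.1 = t • w₀ := fun w =>
        hnl o' ho' w₀ hw₀' hw₀ w.1.1 w.2
      choose t ht using hall
      haveI := Fintype.ofFinite {w : C // w.1 ∈ orbA P ψ o'}
      have hinj : Function.Injective t := fun a b e =>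
        Subtype.ext (Subtype.ext (by rw [ht a, ht b, e]))
      rw [Nat.card_eq_fintype_card, ← Finset.card_univ, ← Finset.card_image_of_injective _ hinj]
      refine hr 1 _ fun s hs => ?_
      obtain ⟨a, -, rfl⟩ := Finset.mem_image.1 hs
      have hQa := (hCne _ a.1.2).2
      rw [(hCne _ hw₀).2, ht a, Submodule.coe_smul, quad_smul] at hQa
      have hne : Q ((w₀ : P.W) : V) ≠ 0 := (hCne _ hw₀).2 ▸ hu0
      exact mul_right_cancel₀ hne (by rw [one_mul]; linear_combination -hQa)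
    rw [hCn] at hcnt hle
    constructor
    · have h2 := hle 2 fun t S hS => by
        by_contra h
        obtain ⟨a, ha, b, hb, c, hc, hab, hac, hbc⟩ := Finset.two_lt_card.1 (Nat.lt_of_not_le h)
        rcases sq_eq_sq_iff_eq_or_eq_neg.1 ((hS a ha).trans (hS b hb).symm) with e | e
        · exact hab e
        rcases sq_eq_sq_iff_eq_or_eq_neg.1 ((hS a ha).trans (hS c hc).symm) with e' | e'
        · exact hac e'
        · exact hbc (neg_injective (e.symm.trans e'))
      omega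
    · intro h2F
      have h1 := hle 1 fun t S hS => Finset.card_le_one.2 fun a ha b hb => by
        have hneg : (-b : F) = b := by linear_combination -b * h2F
        rcases sq_eq_sq_iff_eq_or_eq_neg.1 ((hS a ha).trans (hS b hb).symm) with e | e
        · exact e
        · rwa [hneg] at e
      omega
  · push Not at hns
    refine Or.inr ⟨hR1, ?_⟩
    obtain ⟨o, ho, u, hu, hune⟩ := exists_irregular_vector P hQ hψ h5 hev hR1
    have hu0 := hns o ho u hu
    obtain ⟨C, hC⟩ : ∃ C : Set P.W, C = {w : P.W | w ≠ 0 ∧ Q (w : V) = 0} := ⟨_, rfl⟩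
    have hCn : C.ncard = Nat.card {w : P.W // w ≠ 0 ∧ Q (w : V) = 0} := by
      rw [hC, ← Nat.card_coe_set_eq]; rfl
    have hC0 : (0 : P.W) ∉ C := by rw [hC]; exact fun h => h.1 rfl
    have hCne : ∀ w ∈ C, w ≠ 0 ∧ Q (u : V) = Q (w : V) := fun w hw => by
      rw [hC] at hw; exact ⟨hw.1, hu0.trans hw.2.symm⟩
    have hq : 1 < Nat.card F := Finite.one_lt_card
    obtain ⟨q, hq'⟩ : ∃ q, Nat.card F = q + 2 := ⟨Nat.card F - 2, by omega⟩
    rw [hq', show q + 2 - 1 = q + 1 by omega, ← hsum, mul_add (q + 1)]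
    refine Nat.add_le_add_left ?_ _
    by_cases hnl : ∃ o' ∉ regOrb P ψ X, ∃ w ∈ orbA P ψ o', w ∈ C ∧
        ∃ v ∈ orbA P ψ o', ∀ t : F, v ≠ t • w
    · obtain ⟨o', ho', w, hw, hwC, v, hv, hind⟩ := hnl
      have hcnt := count_le P hQ hψ (regOrb P ψ X)ᶜ hC0 (m := 2) fun w' hw' =>
        hmult ho' hw hv (hCne w hwC).1 hind (hCne w' hw').1 ((hCne w hwC).2.symm.trans (hCne w' hw').2)
      rw [hCn] at hcnt
      nlinarith [hcnt]
    push Not at hnl
    have hcnt := count_le P hQ hψ (regOrb P ψ X)ᶜ hC0 (m := 1) fun w hw =>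
      hthr ho hu hune (hCne w hw).1 (hCne w hw).2
    have hle : 1 * C.ncard ≤ (q + 1) * ((regOrb P ψ X)ᶜ).ncard := by
      refine mul_ncard_le P _ C (fun w hw => hthr ho hu hune (hCne w hw).1 (hCne w hw).2) fun o' ho' => ?_
      rcases isEmpty_or_nonempty {w : C // w.1 ∈ orbA P ψ o'} with hE | ⟨⟨⟨⟨w₀, hw₀⟩, hw₀'⟩⟩⟩
      · simp
      have hall : ∀ w : {w : C // w.1 ∈ orbA P ψ o'}, ∃ t : F, w.1.1 = t • w₀ := fun w =>
        hnl o' ho' w₀ hw₀' hw₀ w.1.1 w.2
      choose t ht using hall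
      have ht0 : ∀ a, t a ≠ 0 := fun a e => (hCne _ a.1.2).1 (by rw [ht a, e, zero_smul])
      haveI := Fintype.ofFinite F
      refine le_trans (Nat.card_le_card_of_injective (fun a => Units.mk0 (t a) (ht0 a)) fun a b e =>
        Subtype.ext (Subtype.ext (by
          rw [ht a, ht b, show t a = t b from congrArg Units.val e]))) (le_of_eq ?_)
      rw [Nat.card_eq_fintype_card, Fintype.card_units, ← Nat.card_eq_fintype_card, hq']
      omega
    rw [hCn] at hcnt hle
    nlinarith [hcnt, hle]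

/-- The count rules out the extreme case. -/
theorem regular_extreme (hR : (regOrb P ψ X).ncard = 1) {T : ℕ}
    (hT : Nat.card {v : V // v ≠ 0 ∧ Q v = 0} = (Nat.card F - 1) * T) :
    Nat.card X ∣ T * (Nat.card X - Nat.card P.W) := by
  have h := dvd_of_pairs (X := X) hQ (five_le P hQ h5) (Irr Q) irr_smul
    (fun t v y ht hv h => irr_scale ht hv h) P.he P.e_ne hT
  have e : Nat.card {y : X // Irr Q P.e y} = Nat.card X - Nat.card P.W := by
    have hsum := card_points_add P (regOrb P ψ X) (X := X)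
    rw [card_regular P hQ hψ, hR, mul_one] at hsum
    rw [Nat.card_congr (Equiv.subtypeEquivRight fun y => irr_e_iff P hQ hψ y)]
    change Nat.card {y : X // Orb.mk P y ∈ (regOrb P ψ X)ᶜ} = _
    omega
  rwa [e] at h

end CfsgLib.Classical.OMinIdx
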