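import Cfsg.Agent.Lib.Classical.OMinIdxCount
import Cfsg.Agent.Lib.Classical.OMinIdxPerp

/-!
# Many annihilators through a vector
-/

set_option autoImplicit false
set_option linter.unusedSectionVars false

namespace CfsgLib.Classical.OMinIdx

open CfsgLib.Geom CfsgLib.Classical CfsgLib.Classical.OMinDeg Module
open QuadraticMap (polar)

variable {F V : Type*} [Field F] [Finite F] [AddCommGroup V] [Module F V] [FiniteDimensional F V]
  {Q : QuadraticForm F V} (P : Pair Q) {X : Type*} [MulAction ↥(siegelGroup Q) X]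

/-- A root element of the complement. -/
noncomputable def kk (a b : P.W) : ↥(siegelGroup P.QW) := ⟨siegel P.QW a b, siegel_mem P.QW a b⟩

theorem kk_apply {a b : P.W} (ha : P.QW a = 0) (hab : polar P.QW a b = 0) (z : P.W) :
    (kk P a b).1.1 z = z + polar P.QW a z • b - (polar P.QW b z + P.QW b * polar P.QW a z) • a :=
  siegel_apply P.QW ha hab z

theorem kk_add {a b b' : P.W} (ha : P.QW a = 0) (hab : polar P.QW a b = 0)
    (hab' : polar P.QW a b' = 0) : kk P a (b + b') = kk P a b * kk P a b' :=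
  Subtype.ext (siegel_add P.QW ha hab hab')

theorem kk_zero (a : P.W) : kk P a 0 = 1 := Subtype.ext (siegel_zero P.QW a)

/-- The vectors orthogonal to two given ones. -/
noncomputable def perpTwo (a u : P.W) : Submodule F P.W :=
  LinearMap.ker (QuadraticMap.polarBilin P.QW a) ⊓ LinearMap.ker (QuadraticMap.polarBilin P.QW u)

theorem mem_perpTwo {a u b : P.W} :
    b ∈ perpTwo P a u ↔ polar P.QW a b = 0 ∧ polar P.QW u b = 0 := Iff.rfl

theorem perpTwo_left {a u : P.W} (b : perpTwo P a u) : polar P.QW a b.1 = 0 := b.2.1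

theorem perpTwo_right {a u : P.W} (b : perpTwo P a u) : polar P.QW u b.1 = 0 := b.2.2

theorem card_perpTwo (a u : P.W) :
    Nat.card F ^ (finrank F P.W - 2) ≤ Nat.card (perpTwo P a u) := by
  rw [Module.natCard_eq_pow_finrank (K := F) (V := perpTwo P a u)]
  refine Nat.pow_le_pow_right Nat.card_pos ?_
  have h := LinearMap.finrank_range_add_finrank_ker
    ((QuadraticMap.polarBilin P.QW a).prod (QuadraticMap.polarBilin P.QW u))
  have h' := Submodule.finrank_le (LinearMap.range
    ((QuadraticMap.polarBilin P.QW a).prod (QuadraticMap.polarBilin P.QW u)))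
  rw [Module.finrank_prod, Module.finrank_self] at h'
  rw [LinearMap.ker_prod] at h
  unfold perpTwo
  omega

theorem kk_fix {a u b : P.W} (ha : P.QW a = 0) (hau : polar P.QW a u = 0) (hb : b ∈ perpTwo P a u) :
    (kk P a b).1.1 u = u := by
  rw [kk_apply P ha hb.1, hau, QuadraticMap.polar_comm _ b u, perpTwo_right P ⟨b, hb⟩]; simp

variable (ψ : AddChar F ℂ)

theorem orbA_mul_smul {k k' : ↥(siegelGroup P.QW)} {o : Orb P X}
    (h' : orbA P ψ (k' • o) = orbA P ψ o) : orbA P ψ ((k * k') • o) = orbA P ψ (k • o) := by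
  ext z
  rw [mul_smul, mem_orbA_smul', h', ← mem_orbA_smul']

/-- The root elements keeping an annihilator. -/
noncomputable def keep (a u : P.W) (ha : P.QW a = 0) (o : Orb P X) : AddSubgroup (perpTwo P a u) where
  carrier := {b | orbA P ψ (kk P a b.1 • o) = orbA P ψ o}
  zero_mem' := by simp [kk_zero]
  add_mem' := fun {b b'} hb hb' => by
    simp only [Set.mem_ofPred_eq] at hb hb' ⊢
    rw [Submodule.coe_add, kk_add P ha b.2.1 b'.2.1, orbA_mul_smul P ψ hb', hb]
  neg_mem' := fun {b} hb => by
    simp only [Set.mem_ofPred_eq] at hb ⊢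
    have h1 := orbA_mul_smul P ψ (k := kk P a (-b).1) hb
    rw [← kk_add P ha (-b).2.1 b.2.1, ← Submodule.coe_add, neg_add_cancel, ZeroMemClass.coe_zero,
      kk_zero, one_smul] at h1
    exact h1.symm

theorem mem_keep {a u : P.W} {ha : P.QW a = 0} {o : Orb P X} {b : perpTwo P a u} :
    b ∈ keep P ψ a u ha o ↔ orbA P ψ (kk P a b.1 • o) = orbA P ψ o := Iff.rfl

theorem keep_apply {a u : P.W} {ha : P.QW a = 0} {o : Orb P X} {b : perpTwo P a u}
    (hb : b ∈ keep P ψ a u ha o) {z : P.W} (hz : z ∈ orbA P ψ o) :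
    z + polar P.QW a z • b.1 - (polar P.QW b.1 z + P.QW b.1 * polar P.QW a z) • a ∈ orbA P ψ o := by
  have h := (mem_orbA_smul P ψ (kk P a b.1) o z).2 hz
  rw [mem_keep] at hb
  rwa [hb, kk_apply P ha b.2.1] at h

/-- The annihilators through a vector in a set of orbits. -/
def annSet (S : Set (Orb P X)) (u : P.W) : Set (AddSubgroup P.W) :=
  orbA P ψ '' {o | o ∈ S ∧ u ∈ orbA P ψ o}

variable [Finite X]

theorem finite_annSet (S : Set (Orb P X)) (u : P.W) : (annSet P ψ S u).Finite :=
  (Set.toFinite _).image _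

theorem annSet_le_through (S : Set (Orb P X)) (u : P.W) :
    (annSet P ψ S u).ncard ≤ through P ψ S u := by
  refine le_trans (Set.ncard_image_le (Set.toFinite _)) ?_
  rw [← Nat.card_coe_set_eq]
  rfl

/-- The orbit of the root group on annihilators, all of which miss a given one. -/
theorem index_keep_le {a u : P.W} (ha : P.QW a = 0) (hau : polar P.QW a u = 0) {S : Set (Orb P X)}
    (hS : Stable P S) {o : Orb P X} (ho : o ∈ S) (hu : u ∈ orbA P ψ o) {T : Set (AddSubgroup P.W)}
    (hT : T ⊆ annSet P ψ S u) (hmiss : ∀ b : perpTwo P a u, orbA P ψ (kk P a b.1 • o) ∉ T) :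
    (keep P ψ a u ha o).index + T.ncard ≤ (annSet P ψ S u).ncard := by
  classical
  let f : perpTwo P a u ⧸ keep P ψ a u ha o → AddSubgroup P.W := fun z =>
    Quotient.liftOn' z (fun b => orbA P ψ (kk P a b.1 • o)) fun b b' h => by
      rw [QuotientAddGroup.leftRel_apply] at h
      have e := orbA_mul_smul P ψ (k := kk P a b.1) (mem_keep P ψ |>.1 h)
      rw [← kk_add P ha b.2.1 (-b + b').2.1, ← Submodule.coe_add, add_neg_cancel_left] at e
      exact e.symm
  have hf : Function.Injective f := by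
    intro z z' e
    obtain ⟨b, rfl⟩ := QuotientAddGroup.mk_surjective z
    obtain ⟨b', rfl⟩ := QuotientAddGroup.mk_surjective z'
    rw [QuotientAddGroup.eq, mem_keep, Submodule.coe_add, kk_add P ha (-b).2.1 b'.2.1]
    have e' : orbA P ψ (kk P a b.1 • o) = orbA P ψ (kk P a b'.1 • o) := e
    ext z
    rw [mul_smul, mem_orbA_smul', ← e', ← mem_orbA_smul', ← mul_smul, ← kk_add P ha (-b).2.1 b.2.1,
      ← Submodule.coe_add, neg_add_cancel, ZeroMemClass.coe_zero, kk_zero, one_smul]
  have hsub : Set.range f ⊆ annSet P ψ S u := by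
    rintro _ ⟨z, rfl⟩
    obtain ⟨b, rfl⟩ := QuotientAddGroup.mk_surjective z
    refine ⟨kk P a b.1 • o, ⟨(hS _ _).2 ho, ?_⟩, rfl⟩
    have h := (mem_orbA_smul P ψ (kk P a b.1) o u).2 hu
    rwa [kk_fix P ha hau b.2] at h
  have hdisj : Disjoint (Set.range f) T := Set.disjoint_left.2 fun A hA hA' => by
    obtain ⟨z, rfl⟩ := hA
    obtain ⟨b, rfl⟩ := QuotientAddGroup.mk_surjective z
    exact hmiss b hA'
  have hfin := finite_annSet P ψ S u
  rw [AddSubgroup.index, ← Set.ncard_range_of_injective hf,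
    ← Set.ncard_union_eq hdisj (hfin.subset hsub) (hfin.subset hT)]
  exact Set.ncard_le_ncard (Set.union_subset hsub hT) hfin

theorem card_perpTwo_eq {a u : P.W} {ha : P.QW a = 0} {o : Orb P X} :
    Nat.card (perpTwo P a u) = (keep P ψ a u ha o).index * Nat.card (keep P ψ a u ha o) :=
  (AddSubgroup.index_mul_card _).symm

omit [Finite X] in
theorem singular_span {A : AddSubgroup P.W} (hA : ∀ z ∈ A, P.QW z = 0) :
    ∀ z ∈ Submodule.span F (A : Set P.W), P.QW z = 0 := by
  have hp : ∀ y ∈ A, ∀ z ∈ A, polar P.QW y z = 0 := fun y hy z hz => by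
    have h := hA _ (add_mem hy hz)
    rw [QuadraticMap.map_add (P.QW : QuadraticMap F P.W F), hA y hy, hA z hz, zero_add, zero_add] at h
    exact h
  have hp' : ∀ y ∈ A, ∀ z ∈ Submodule.span F (A : Set P.W), polar P.QW y z = 0 := fun y hy z hz => by
    refine Submodule.span_induction (fun z hz => hp y hy z hz) (by simp) (fun z z' _ _ h h' => ?_)
      (fun c z _ h => ?_) hz
    · rw [QuadraticMap.polar_add_right, h, h', add_zero]
    · rw [QuadraticMap.polar_smul_right, h, smul_zero]
  have hp'' : ∀ y ∈ Submodule.span F (A : Set P.W), ∀ z ∈ Submodule.span F (A : Set P.W),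
      polar P.QW y z = 0 := fun y hy z hz => by
    refine Submodule.span_induction (fun y hy => hp' y hy z hz) (by simp) (fun y y' _ _ h h' => ?_)
      (fun c y _ h => ?_) hy
    · rw [QuadraticMap.polar_add_left, h, h', add_zero]
    · rw [QuadraticMap.polar_smul_left, h, smul_zero]
  intro z hz
  refine Submodule.span_induction (fun z hz => hA z hz) (by simp) (fun z z' hz hz' h h' => ?_)
    (fun c z _ h => ?_) hz
  · rw [QuadraticMap.map_add (P.QW : QuadraticMap F P.W F), h, h', hp'' z hz z' hz', add_zero, add_zero]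
  · rw [quad_smul, h, mul_zero]

variable (hQ : ∀ x, (∀ y, polar Q x y = 0) → x = 0) (h5 : 5 ≤ finrank F P.W)
include hQ h5

/-- A totally singular annihilator that is not a line: many annihilators through each of its
vectors. -/
theorem le_annSet {w : ℕ}
    (hw : ∀ D : Submodule F P.W, (∀ x ∈ D, P.QW x = 0) → Nat.card D ≤ Nat.card F ^ w)
    (hwd : w + 2 ≤ finrank F P.W) {S : Set (Orb P X)} (hS : Stable P S) {o : Orb P X} (ho : o ∈ S)
    (hA : ∀ z ∈ orbA P ψ o, P.QW z = 0) {u v : P.W} (hu : u ∈ orbA P ψ o) (hu0 : u ≠ 0)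
    (hv : v ∈ orbA P ψ o) (hind : ∀ t : F, v ≠ t • u) :
    Nat.card F ^ (finrank F P.W - 2 - w) + 1 ≤ (annSet P ψ S u).ncard := by
  classical
  have hW := P.sep_W hQ
  obtain ⟨a, ha, hau, hav⟩ := exists_sing_sep hW h5 hu0 hind
  obtain ⟨b, hab, hub, hb⟩ := exists_perp_anisotropic P.QW hW h5 a u
  obtain ⟨a', ha'⟩ : ∃ a', a' = (kk P a b).1.1 v := ⟨_, rfl⟩
  have ha's : P.QW a' = 0 := by rw [ha', mem_quadIsoms.1 (kk P a b).1.2]; exact hA v hv
  have hk : kk P a b • o ∈ S := (hS _ _).2 ho
  have hu' : u ∈ orbA P ψ (kk P a b • o) := by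
    have h := (mem_orbA_smul P ψ (kk P a b) o u).2 hu
    rwa [kk_fix P ha hau ⟨hab, hub⟩] at h
  have hA' : ∀ z ∈ orbA P ψ (kk P a b • o), polar P.QW a' z = 0 := fun z hz => by
    obtain ⟨z, rfl⟩ := (kk P a b).1.1.surjective z
    rw [ha', polar_quadIsom (kk P a b).1.2]
    have hz' := (mem_orbA_smul P ψ _ o z).1 hz
    have h := hA _ (add_mem hv hz')
    rw [QuadraticMap.map_add (P.QW : QuadraticMap F P.W F), hA v hv, hA z hz', zero_add, zero_add] at h
    exact h
  have ha'u : polar P.QW a' u = 0 := hA' u hu'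
  have hvv : polar P.QW v v = 0 := polar_self_of_singular P.QW (hA v hv)
  have hα : polar P.QW a' v ≠ 0 := by
    rw [ha', kk_apply P ha hab]
    simp only [QuadraticMap.polar_sub_left, QuadraticMap.polar_add_left, QuadraticMap.polar_smul_left,
      hvv, smul_eq_mul]
    intro h
    exact mul_ne_zero hb (mul_ne_zero hav hav) (by linear_combination -h)
  -- the part keeping the annihilator is small
  obtain ⟨D, hD⟩ : ∃ D : Submodule F P.W, D = Submodule.span F (orbA P ψ o : Set P.W) ⊓
      LinearMap.ker (QuadraticMap.polarBilin P.QW a') ⊔ Submodule.span F {a'} := ⟨_, rfl⟩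
  have hDs : ∀ x ∈ D, P.QW x = 0 := by
    intro x hx
    rw [hD, Submodule.mem_sup] at hx
    obtain ⟨s, ⟨hs, hs'⟩, t, ht, rfl⟩ := hx
    obtain ⟨r, rfl⟩ := Submodule.mem_span_singleton.1 ht
    have hs'' : polar P.QW a' s = 0 := hs'
    rw [quad_map_add_smul, singular_span P hA s hs, ha's, QuadraticMap.polar_comm _ s a', hs'']
    ring
  have hkeep : Nat.card (keep P ψ a' u ha's o) ≤ Nat.card F ^ w := by
    refine le_trans ?_ (hw D hDs)
    haveI : Finite P.W := Module.finite_of_finite F
    refine Nat.card_le_card_of_injective (fun b => ⟨polar P.QW a' v • b.1.1, ?_⟩) fun b b' e => ?_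
    · have hz := sub_mem (keep_apply P ψ b.2 hv) hv
      rw [add_sub_assoc, add_sub_cancel_left] at hz
      rw [hD, Submodule.mem_sup]
      refine ⟨_, ⟨Submodule.subset_span hz, ?_⟩, (polar P.QW b.1.1 v + P.QW b.1.1 * polar P.QW a' v) • a',
        Submodule.smul_mem _ _ (Submodule.mem_span_singleton_self _), sub_add_cancel _ _⟩
      change polar P.QW a' _ = 0
      rw [QuadraticMap.polar_sub_right, QuadraticMap.polar_smul_right, QuadraticMap.polar_smul_right,
        perpTwo_left P b.1, polar_self_of_singular P.QW ha's]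
      simp
    · exact Subtype.ext (Subtype.ext (smul_right_injective P.W hα (congrArg Subtype.val e)))
  have hidx : Nat.card F ^ (finrank F P.W - 2 - w) ≤ (keep P ψ a' u ha's o).index := by
    refine Nat.le_of_mul_le_mul_right ?_ (pow_pos (Nat.card_pos (α := F)) w)
    rw [← pow_add, Nat.sub_add_cancel (by omega)]
    calc Nat.card F ^ (finrank F P.W - 2) ≤ Nat.card (perpTwo P a' u) := card_perpTwo P a' u
      _ = _ := card_perpTwo_eq P ψ
      _ ≤ _ := Nat.mul_le_mul_left _ hkeep
  have h := index_keep_le P ψ ha's ha'u hS ho hu (T := {orbA P ψ (kk P a b • o)})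
    (Set.singleton_subset_iff.2 ⟨_, ⟨hk, hu'⟩, rfl⟩) fun b' e => hα (by
      rw [Set.mem_singleton_iff] at e
      have h' := (mem_orbA_smul P ψ (kk P a' b'.1) o v).2 hv
      rw [e] at h'
      have h'' := hA' _ h'
      rw [kk_apply P ha's b'.2.1] at h''
      simpa [QuadraticMap.polar_add_right, QuadraticMap.polar_sub_right, QuadraticMap.polar_smul_right,
        perpTwo_left P b', polar_self_of_singular P.QW ha's] using h'')
  rw [Set.ncard_singleton] at h
  omega

/-- An anisotropic vector with few annihilators through it: every value is attained. -/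
theorem all_values_of_few {S : Set (Orb P X)} (hS : Stable P S) {o : Orb P X} (ho : o ∈ S)
    {u v : P.W} (hu : u ∈ orbA P ψ o) (hQu : P.QW u ≠ 0) (hv : v ∈ orbA P ψ o)
    (hind : ∀ t : F, v ≠ t • u) (hfew : through P ψ S u < Nat.card F) :
    ∀ c : F, ∃ z ∈ orbA P ψ o, z ≠ 0 ∧ P.QW z = c := by
  classical
  haveI : Finite P.W := Module.finite_of_finite F
  have hW := P.sep_W hQ
  have hu0 : u ≠ 0 := fun e => hQu (by rw [e, QuadraticMap.map_zero])
  obtain ⟨a, ha, hau, hav⟩ := exists_sing_sep hW h5 hu0 hind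
  have hidx : (keep P ψ a u ha o).index < Nat.card F := by
    have h := index_keep_le P ψ ha hau hS ho hu (T := ∅) (Set.empty_subset _) fun b h => h.elim
    rw [Set.ncard_empty, add_zero] at h
    exact lt_of_le_of_lt (h.trans (annSet_le_through P ψ S u)) hfew
  -- a plane with a nondegenerate form
  obtain ⟨b1, b2, hb1, hb2, hnd⟩ : ∃ b1 b2, b1 ∈ perpTwo P a u ∧ b2 ∈ perpTwo P a u ∧
      ∀ s t : F, polar P.QW (s • b1 + t • b2) b1 = 0 → polar P.QW (s • b1 + t • b2) b2 = 0 →
        s = 0 ∧ t = 0 := by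
    by_cases h2 : (2 : F) = 0
    · obtain ⟨b, b', hab, hub, hab', hub', hbb⟩ := exists_perp_pol_one hW h5 a u
      refine ⟨b, b', ⟨hab, hub⟩, ⟨hab', hub'⟩, fun s t hs ht => ?_⟩
      simp [QuadraticMap.polar_add_left, QuadraticMap.polar_smul_left, polar_self_two, h2, hbb,
        QuadraticMap.polar_comm _ b' b] at hs ht
      exact ⟨ht, hs⟩
    · obtain ⟨b, hab, hub, hb⟩ := exists_perp_anisotropic P.QW hW h5 a u
      obtain ⟨b', hab', hub', hbb', hb'⟩ := exists_perp3_anisotropic hW h5 a u b fun r s t hs ht _ => by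
        simp [QuadraticMap.polar_add_right, QuadraticMap.polar_smul_right, polar_self_two,
          QuadraticMap.polar_comm _ u a, hau, hub, QuadraticMap.polar_comm _ b a, hab,
          QuadraticMap.polar_comm _ b u, h2, hb, hQu] at hs ht
        exact ⟨r, by rw [hs, ht]; simp⟩
      refine ⟨b, b', ⟨hab, hub⟩, ⟨hab', hub'⟩, fun s t hs ht => ?_⟩
      simp [QuadraticMap.polar_add_left, QuadraticMap.polar_smul_left, polar_self_two, h2, hb, hb',
        hbb', QuadraticMap.polar_comm _ b' b] at hs ht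
      exact ⟨hs, ht⟩
  obtain ⟨R, hR⟩ : ∃ R : AddSubgroup F, ∀ r, r ∈ R ↔ r • a ∈ orbA P ψ o :=
    ⟨(orbA P ψ o).comap (smulAddHom F P.W |>.flip a), fun r => Iff.rfl⟩
  have hmul : ∀ b ∈ keep P ψ a u ha o, ∀ b' ∈ keep P ψ a u ha o,
      polar P.QW a v * polar P.QW b.1 b'.1 ∈ R := by
    intro b hb b' hb'
    have h := sub_mem (sub_mem (keep_apply P ψ (add_mem hb hb') hv) (keep_apply P ψ hb hv))
      (sub_mem (keep_apply P ψ hb' hv) hv)
    rw [hR]
    convert neg_mem h using 1
    rw [Submodule.coe_add, QuadraticMap.map_add (P.QW : QuadraticMap F P.W F),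
      QuadraticMap.polar_add_left]
    module
  have hRtop : R = ⊤ := by
    by_contra hne
    obtain ⟨r, hr⟩ : ∃ r, r ∉ R := by
      by_contra h
      push Not at h
      exact hne ((AddSubgroup.eq_top_iff' R).2 h)
    obtain ⟨χ', hχ'⟩ := AddChar.exists_apply_ne_zero.2 (show (r : F ⧸ R) ≠ 0 from fun e =>
      hr ((QuotientAddGroup.eq_zero_iff r).1 e))
    obtain ⟨χ, hχ⟩ : ∃ χ : AddChar F ℂ, χ = χ'.compAddMonoidHom (QuotientAddGroup.mk' R) := ⟨_, rfl⟩
    have hχR : ∀ x ∈ R, χ x = 1 := fun x hx => by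
      rw [hχ, AddChar.compAddMonoidHom_apply, QuotientAddGroup.mk'_apply,
        (QuotientAddGroup.eq_zero_iff x).2 hx, AddChar.map_zero_eq_one]
    have hprim : χ.IsPrimitive := AddChar.IsPrimitive.of_ne_one fun e => hχ' (by
      have h := DFunLike.congr_fun e r
      rw [hχ, AddChar.compAddMonoidHom_apply, QuotientAddGroup.mk'_apply, AddChar.one_apply] at h
      exact h)
    let φ : F × F →+ perpTwo P a u :=
      { toFun := fun p => ⟨p.1 • b1 + p.2 • b2, add_mem (Submodule.smul_mem _ _ hb1)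
          (Submodule.smul_mem _ _ hb2)⟩
        map_zero' := Subtype.ext (by simp)
        map_add' := fun p p' => Subtype.ext (by
          simp only [Prod.fst_add, Prod.snd_add, Submodule.coe_add]; module) }
    obtain ⟨S₂, hS₂⟩ : ∃ S₂ : AddSubgroup (F × F), S₂ = (keep P ψ a u ha o).comap φ := ⟨_, rfl⟩
    haveI := Fintype.ofFinite ((F × F) ⧸ S₂)
    have hidx2 : S₂.index < Nat.card F := by
      refine lt_of_le_of_lt ?_ hidx
      rw [hS₂, AddSubgroup.index_comap]
      exact Nat.le_of_dvd (Nat.pos_of_ne_zero (AddSubgroup.index_ne_zero_of_finite))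
        (AddSubgroup.relIndex_dvd_index_of_normal _ _)
    have hinj : Nat.card S₂ ≤ S₂.index := by
      let f : S₂ → AddChar ((F × F) ⧸ S₂) ℂ := fun p =>
        AddChar.toAddMonoidHomEquiv.symm (QuotientAddGroup.lift S₂
          (χ.compAddMonoidHom (((smulAddHom F F (polar P.QW a v)).comp
            ((QuadraticMap.polarBilin P.QW (φ p.1).1).toAddMonoidHom.comp
              ((perpTwo P a u).subtype.toAddMonoidHom.comp φ))))).toAddMonoidHom
          fun p' hp' => congrArg Additive.ofMul (hχR _ (hmul (φ p.1) (by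
            exact (SetLike.ext_iff.1 hS₂ p.1).1 p.2) (φ p') (by
            rw [hS₂] at hp'; exact hp'))))
      have hf : ∀ p (z : F × F), f p (z : (F × F) ⧸ S₂) =
          χ (polar P.QW a v * polar P.QW (φ p.1).1 (φ z).1) := fun p z => rfl
      refine le_trans (Nat.card_le_card_of_injective f fun p p' e => ?_) (le_of_eq ?_)
      · have hpp : ∀ z : F × F, χ (polar P.QW a v * polar P.QW ((φ p.1).1 - (φ p'.1).1) (φ z).1) = 1 := by
          intro z
          have h := DFunLike.congr_fun e (z : (F × F) ⧸ S₂)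
          rw [hf, hf] at h
          have h0 : χ (polar P.QW a v * polar P.QW (φ p'.1).1 (φ z).1) ≠ 0 :=
            (χ.val_isUnit _).ne_zero
          refine mul_right_cancel₀ h0 ?_
          rw [← AddChar.map_add_eq_mul, QuadraticMap.polar_sub_left, one_mul, mul_sub, sub_add_cancel, h]
        have hd : ∀ z : F × F, polar P.QW ((φ p.1).1 - (φ p'.1).1) (φ z).1 = 0 := by
          intro z
          by_contra hz
          refine hprim (mul_ne_zero hav hz) (DFunLike.ext _ _ fun s => ?_)
          rw [AddChar.mulShift_apply, AddChar.one_apply]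
          have h := hpp (s • z)
          have es : (φ (s • z)).1 = s • (φ z).1 := by
            change (s • z).1 • b1 + (s • z).2 • b2 = s • (z.1 • b1 + z.2 • b2)
            simp only [Prod.smul_fst, Prod.smul_snd, smul_eq_mul]
            module
          rw [es, QuadraticMap.polar_smul_right, smul_eq_mul, mul_left_comm, mul_comm s] at h
          exact h
        have e1 := hd (1, 0)
        have e2 := hd (0, 1)
        have hdiff : (φ p.1).1 - (φ p'.1).1 = (p.1.1 - p'.1.1) • b1 + (p.1.2 - p'.1.2) • b2 := by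
          change (p.1.1 • b1 + p.1.2 • b2) - (p'.1.1 • b1 + p'.1.2 • b2) = _
          module
        rw [hdiff] at e1 e2
        have h1 : (φ (1, 0)).1 = b1 := by change (1 : F) • b1 + (0 : F) • b2 = b1; simp
        have h2 : (φ (0, 1)).1 = b2 := by change (0 : F) • b1 + (1 : F) • b2 = b2; simp
        rw [h1] at e1; rw [h2] at e2
        obtain ⟨es, et⟩ := hnd _ _ e1 e2
        exact Subtype.ext (Prod.ext (sub_eq_zero.1 es) (sub_eq_zero.1 et))
      · rw [AddSubgroup.index, Nat.card_eq_fintype_card, Nat.card_eq_fintype_card, AddChar.card_eq]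
    have h := S₂.index_mul_card
    rw [Nat.card_prod] at h
    nlinarith
  intro c
  refine ⟨v + ((c - P.QW v) / polar P.QW a v) • a, add_mem hv ((hR _).1 (hRtop ▸ AddSubgroup.mem_top _)),
    fun e => ?_, ?_⟩
  · have h := congrArg (polar P.QW a) e
    rw [QuadraticMap.polar_add_right, QuadraticMap.polar_smul_right, polar_self_of_singular P.QW ha,
      smul_zero, add_zero, QuadraticMap.polar_zero_right] at h
    exact hav h
  · rw [quad_map_add_smul, ha, QuadraticMap.polar_comm _ v a]
    field_simp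
    ring

end CfsgLib.Classical.OMinIdx
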