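import Cfsg.Agent.Lib.Classical.OMinIdxMain
import Cfsg.Agent.Lib.Classical.OMinIdxArith

/-!
# Minimal index of the orthogonal groups: the numbers for each type
-/

set_option autoImplicit false
set_option linter.unusedSectionVars false

namespace CfsgLib.Classical.OMinIdx

open CfsgLib.Geom CfsgLib.Classical CfsgLib.Classical.OMinDeg Module
open QuadraticMap (polar)

variable {F V : Type*} [Field F] [Fintype F] [AddCommGroup V] [Module F V] [FiniteDimensional F V]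
  {Q : QuadraticForm F V}

theorem card_sing_add_one [Finite V] :
    Nat.card {v : V // v ≠ 0 ∧ Q v = 0} + 1 = Nat.card {v : V // Q v = 0} := by
  classical
  rw [← Finite.card_option]
  refine Nat.card_congr
    { toFun := fun o => o.elim ⟨0, QuadraticMap.map_zero _⟩ fun v => ⟨v.1, v.2.2⟩
      invFun := fun v => if h : v.1 = 0 then none else some ⟨v.1, h, v.2⟩
      left_inv := fun o => by
        rcases o with _ | ⟨v, hv, hv'⟩
        · simp
        · simp [hv]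
      right_inv := fun v => by
        by_cases h : v.1 = 0
        · simp [h]; exact Subtype.ext h.symm
        · simp [h] }

theorem finrank_ts_le (hQ : ∀ x, (∀ y, polar Q x y = 0) → x = 0) (D : Submodule F V)
    (hD : ∀ x ∈ D, Q x = 0) : 2 * finrank F D ≤ finrank F V := by
  have h := Subspace.finrank_add_finrank_dualAnnihilator_eq D
  let f : D →ₗ[F] D.dualAnnihilator :=
    LinearMap.codRestrict D.dualAnnihilator ((QuadraticMap.polarBilin Q).comp D.subtype) fun x => by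
      rw [Submodule.mem_dualAnnihilator]
      intro y hy
      have hxy := hD _ (add_mem x.2 hy)
      rw [QuadraticMap.map_add (Q : QuadraticMap F V F), hD x.1 x.2, hD y hy, zero_add, zero_add] at hxy
      exact hxy
  have hf : Function.Injective f := (injective_iff_map_eq_zero f).2 fun x hx => Subtype.ext
    (hQ _ fun y => LinearMap.congr_fun (congrArg Subtype.val hx) y)
  have := LinearMap.finrank_le_finrank_of_injective hf
  omega

theorem card_ts_le (hQ : ∀ x, (∀ y, polar Q x y = 0) → x = 0) {w : ℕ}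
    (hn : finrank F V ≤ 2 * w + 1) (D : Submodule F V) (hD : ∀ x ∈ D, Q x = 0) :
    Nat.card D ≤ Nat.card F ^ w := by
  rw [Module.natCard_eq_pow_finrank (K := F) (V := D)]
  exact Nat.pow_le_pow_right Nat.card_pos (by have := finrank_ts_le hQ D hD; omega)

theorem minus_ts_ne : ∀ (k : ℕ) {W : Type _} [AddCommGroup W] [Module F W] [FiniteDimensional F W]
    {R : QuadraticForm F W}, EvenType R k (-1) → ∀ D : Submodule F W, (∀ x ∈ D, R x = 0) →
    finrank F D ≠ k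
  | 0, W, _, _, _, R, h, D, hD => fun _ => by
    haveI : Finite W := Module.finite_of_finite F
    have hW : Nat.card W = 1 := by
      have h1 := h.card; rw [mul_zero, pow_zero] at h1; exact_mod_cast h1
    haveI := (Nat.card_eq_one_iff_unique.1 hW).1
    have hz : Nat.card {z : W // R z = 0} = 1 :=
      Nat.card_eq_one_iff_unique.2 ⟨⟨fun a b => Subtype.ext (Subsingleton.elim _ _)⟩,
        ⟨⟨0, QuadraticMap.map_zero _⟩⟩⟩
    have h1 := h.zeros
    rw [hz] at h1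
    have hq : (2 : ℝ) ≤ (Nat.card F : ℝ) := by exact_mod_cast (Finite.one_lt_card : 1 < Nat.card F)
    rw [Nat.card_eq_fintype_card] at hq
    norm_num at h1
    linarith
  | k + 1, W, _, _, _, R, h, D, hD => fun hk => by
    obtain ⟨a, ha⟩ : ∃ a : D, a ≠ 0 := by
      have : Nontrivial D := Module.nontrivial_of_finrank_pos (R := F) (by omega)
      exact exists_ne 0
    obtain ⟨P, hP⟩ := exists_pair h.sep (hD a.1 a.2) fun e => ha (Subtype.ext e)
    obtain ⟨D₁, hD₁⟩ : ∃ D₁ : Submodule F W, D₁ = D ⊓ LinearMap.ker (QuadraticMap.polarBilin R P.f) :=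
      ⟨_, rfl⟩
    have hle : D₁ ≤ P.W := fun x hx => by
      rw [hD₁] at hx
      refine P.mem_W.2 ⟨?_, hx.2⟩
      have hxy := hD _ (add_mem a.2 hx.1)
      rw [QuadraticMap.map_add (R : QuadraticMap F W F), hD a.1 a.2, hD x hx.1, zero_add, zero_add] at hxy
      rw [hP]; exact hxy
    have hW := P.evenType h
    have hTS : ∀ x ∈ D₁.comap P.W.subtype, P.QW x = 0 := fun x hx => by
      rw [hD₁] at hx; exact hD _ hx.1
    have hfr : finrank F (D₁.comap P.W.subtype) = finrank F D₁ :=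
      (Submodule.comapSubtypeEquivOfLe hle).finrank_eq
    have hne := minus_ts_ne k hW _ hTS
    have hle' := finrank_ts_le hW.sep _ hTS
    rw [hW.dim] at hle'
    have hge : finrank F D ≤ finrank F D₁ + 1 := by
      rw [hD₁]
      have h1 := Submodule.finrank_sup_add_finrank_inf_eq D (LinearMap.ker (QuadraticMap.polarBilin R P.f))
      have h2 := Submodule.finrank_le (D ⊔ LinearMap.ker (QuadraticMap.polarBilin R P.f))
      have h3 := LinearMap.finrank_range_add_finrank_ker (QuadraticMap.polarBilin R P.f)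
      have h4 := Submodule.finrank_le (LinearMap.range (QuadraticMap.polarBilin R P.f))
      rw [Module.finrank_self] at h4
      omega
    omega

theorem card_ts_le_minus {k : ℕ} (h : EvenType Q (k + 1) (-1)) (D : Submodule F V)
    (hD : ∀ x ∈ D, Q x = 0) : Nat.card D ≤ Nat.card F ^ k := by
  rw [Module.natCard_eq_pow_finrank (K := F) (V := D)]
  refine Nat.pow_le_pow_right Nat.card_pos ?_
  have h1 := finrank_ts_le h.sep D hD
  have h2 := minus_ts_ne (k + 1) h D hD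
  rw [h.dim] at h1
  omega

/-- The counts of a space of plus type. -/
theorem counts_plus {j : ℕ} (h : EvenType Q (j + 1) 1) :
    Nat.card V = Nat.card F ^ 2 * (Nat.card F ^ j) ^ 2 ∧
    Nat.card {v : V // v ≠ 0 ∧ Q v = 0} + 1 =
      Nat.card F * (Nat.card F ^ j) ^ 2 + (Nat.card F - 1) * Nat.card F ^ j ∧
    ∀ c : F, c ≠ 0 → Nat.card {v : V // Q v = c} + Nat.card F ^ j =
      Nat.card F * (Nat.card F ^ j) ^ 2 := by
  haveI : Finite V := Module.finite_of_finite F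
  have hq : (Nat.card F : ℝ) ≠ 0 := Pair.q_ne
  have hq1 : 1 ≤ Nat.card F := Nat.card_pos
  refine ⟨?_, ?_, fun c hc => ?_⟩
  · have h1 := h.card
    rw [← Nat.cast_inj (R := ℝ), h1]; push_cast; ring
  · rw [card_sing_add_one, ← Nat.cast_inj (R := ℝ)]
    refine mul_right_cancel₀ hq ?_
    rw [h.zeros]; push_cast [Nat.cast_sub hq1]; ring
  · rw [← Nat.cast_inj (R := ℝ)]
    refine mul_right_cancel₀ hq ?_
    push_cast
    rw [add_mul, h.level c hc]; ring

/-- The counts of a space of minus type. -/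
theorem counts_minus {j : ℕ} (h : EvenType Q (j + 1) (-1)) :
    Nat.card V = Nat.card F ^ 2 * (Nat.card F ^ j) ^ 2 ∧
    Nat.card {v : V // v ≠ 0 ∧ Q v = 0} + 1 + (Nat.card F - 1) * Nat.card F ^ j =
      Nat.card F * (Nat.card F ^ j) ^ 2 ∧
    ∀ c : F, c ≠ 0 → Nat.card {v : V // Q v = c} =
      Nat.card F * (Nat.card F ^ j) ^ 2 + Nat.card F ^ j := by
  haveI : Finite V := Module.finite_of_finite F
  have hq : (Nat.card F : ℝ) ≠ 0 := Pair.q_ne
  have hq1 : 1 ≤ Nat.card F := Nat.card_pos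
  refine ⟨?_, ?_, fun c hc => ?_⟩
  · have h1 := h.card
    rw [← Nat.cast_inj (R := ℝ), h1]; push_cast; ring
  · rw [card_sing_add_one, ← Nat.cast_inj (R := ℝ)]
    refine mul_right_cancel₀ hq ?_
    push_cast [Nat.cast_sub hq1]
    rw [add_mul, h.zeros]; ring
  · rw [← Nat.cast_inj (R := ℝ)]
    refine mul_right_cancel₀ hq ?_
    rw [h.level c hc]; push_cast; ring

/-- The counts of a space of odd dimension. -/
theorem counts_odd {k : ℕ} (h : OddType Q k) :
    Nat.card V = Nat.card F * (Nat.card F ^ k) ^ 2 ∧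
    Nat.card {v : V // v ≠ 0 ∧ Q v = 0} + 1 = (Nat.card F ^ k) ^ 2 ∧
    ∀ c : F, c ≠ 0 → (Nat.card F ^ k) ^ 2 ≤ Nat.card {v : V // Q v = c} + Nat.card F ^ k := by
  haveI : Finite V := Module.finite_of_finite F
  refine ⟨?_, ?_, fun c hc => ?_⟩
  · have h1 := h.card
    rw [← Nat.cast_inj (R := ℝ), h1]; push_cast; ring
  · rw [card_sing_add_one, ← Nat.cast_inj (R := ℝ), h.zeros]; push_cast; ring
  · have h1 := (abs_le.1 (h.level c hc)).1
    rw [← Nat.cast_le (α := ℝ)]; push_cast; rw [← pow_mul, mul_comm k 2]; linarith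

theorem exists_points_number [Finite V] :
    ∃ T, Nat.card {v : V // v ≠ 0 ∧ Q v = 0} = (Nat.card F - 1) * T := by
  obtain ⟨T, hT⟩ := sub_one_dvd_card (F := F) (S := {v : V | v ≠ 0 ∧ Q v = 0}) (fun h => h.1 rfl)
    fun t v ht hv => ⟨smul_ne_zero ht hv.1, by rw [quad_smul, hv.2, mul_zero]⟩
  exact ⟨T, by rw [← hT, ← Nat.card_coe_set_eq]; rfl⟩

theorem two_eq_zero_of_card (hF : Nat.card F = 2) : (2 : F) = 0 := by
  rw [← one_add_one_eq_two]; exact two_add hF 1

theorem eq_one_of_card (hF : Nat.card F = 2) {c : F} (hc : c ≠ 0) : c = 1 :=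
  (two_cases hF c).resolve_left hc

/-- Plus type, at least four field elements. -/
theorem bounds_plus (P : Pair Q) {j : ℕ} (hV : EvenType Q (j + 2) 1) (hq4 : 4 ≤ Nat.card F) (hj : 2 ≤ j) :
    ∃ T w, Bounds P T T w ∧
      (Nat.card F - 1) * T + 1 =
        Nat.card F * (Nat.card F ^ (j + 1)) ^ 2 + (Nat.card F - 1) * Nat.card F ^ (j + 1) := by
  haveI : Finite V := Module.finite_of_finite F
  have hW : EvenType P.QW (j + 1) 1 := P.evenType hV
  obtain ⟨hcW, hn0, hn⟩ := counts_plus hW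
  obtain ⟨-, hT1, -⟩ := counts_plus hV
  obtain ⟨T, hT⟩ := exists_points_number (Q := Q)
  rw [hT] at hT1
  obtain ⟨r, hr⟩ : ∃ r, Nat.card F = r + 4 := ⟨Nat.card F - 4, by omega⟩
  obtain ⟨z, hz⟩ : ∃ z, z = Nat.card F ^ j := ⟨_, rfl⟩
  obtain ⟨n₀, hn0d⟩ : ∃ n, n = Nat.card {u : P.W // u ≠ 0 ∧ Q (u : V) = 0} := ⟨_, rfl⟩
  change Nat.card {u : P.W // u ≠ 0 ∧ Q (u : V) = 0} + 1 = _ at hn0
  rw [← hn0d] at hn0
  have hpz : Nat.card F ^ (j + 1) = (r + 4) * z := by rw [pow_succ', hr, hz, hr]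
  have hz16 : (r + 4) * (r + 4) ≤ z := by
    rw [hz, ← hr, ← sq]; exact Nat.pow_le_pow_right (by omega) hj
  have hT' : (r + 3) * T + 1 = (r + 4) * ((r + 4) * z) ^ 2 + (r + 3) * ((r + 4) * z) := by
    rw [hpz, hr, show r + 4 - 1 = r + 3 by omega] at hT1; exact hT1
  rw [← hz, hr, show r + 4 - 1 = r + 3 by omega] at hn0
  rw [← hz, hr] at hcW hn
  have hdim := hW.dim
  refine ⟨T, j + 1, ⟨by omega, fun _ => ⟨j + 1, by omega⟩, hT, le_rfl, ?_, ?_, ?_, fun c hc => Or.inl ?_,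
    ?_, fun c c' hc hc' _ => ?_, fun c hc => ?_, fun _ c hc => ?_,
    fun D hD => card_ts_le hW.sep (by omega) D hD, by omega, ?_⟩, hT1⟩
  · rw [← hn0d, hr, show r + 4 - 1 = r + 3 by omega, hcW]; exact Num.plus_eq hz16 hT' hn0
  · rw [← hn0d]; exact Num.plus_pos hz16 hT' hn0
  · rw [hcW]; exact Num.plus_two hz16 hT'
  · rw [hcW]; exact Num.plus_regular hz16 hT' (hn c hc)
  · rw [hcW]
    have := Num.plus_all hz16 hT'
    omega
  · rw [hr]; exact Num.plus_classes hz16 hT' (hn c hc) (hn c' hc')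
  · rw [← hn0d, hr]; exact Num.plus_mixed hz16 hT' hn0 (hn c hc)
  · rw [show Nat.card F ^ (finrank F P.W - 2) = z * z by
      rw [hdim, hz, ← pow_add]; congr 1; omega, hr]
    exact Num.plus_four hz16 hT' (hn c hc)
  · rw [← hn0d, hdim, show 2 * (j + 1) - 2 - (j + 1) = j - 1 by omega]
    rcases Nat.lt_or_ge j 3 with hj3 | hj3
    · obtain rfl : j = 2 := by omega
      refine Or.inr (Or.inr ⟨hq4, by omega, Or.inl (by omega), ?_⟩)
      have hz' : z = (r + 4) ^ 2 := by rw [hz, hr]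
      have hex := fun c hc => Num.plus_extreme hz16 hT' hn0 (hn c hc) hz'
      obtain ⟨h1, h2, h3, -, h5⟩ := hex 1 one_ne_zero
      rw [hr]
      exact ⟨_, _, h1, h2, le_rfl, h3, fun c hc => (hex c hc).2.2.2.1, h5⟩
    · left
      refine Num.plus_singular hz16 hT' hn0 ?_
      rw [← hr, ← sq]; exact Nat.pow_le_pow_right (by omega) (by omega)

/-- Minus type. -/
theorem bounds_minus (P : Pair Q) {j : ℕ} (hV : EvenType Q (j + 2) (-1)) (hj : 2 ≤ j) :
    ∃ T w, Bounds P T T w ∧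
      (Nat.card F - 1) * T + 1 + (Nat.card F - 1) * Nat.card F ^ (j + 1) =
        Nat.card F * (Nat.card F ^ (j + 1)) ^ 2 := by
  haveI : Finite V := Module.finite_of_finite F
  have hq : 1 < Nat.card F := Finite.one_lt_card
  have hW : EvenType P.QW (j + 1) (-1) := P.evenType hV
  obtain ⟨hcW, hn0, hn⟩ := counts_minus hW
  obtain ⟨-, hT1, -⟩ := counts_minus hV
  obtain ⟨T, hT⟩ := exists_points_number (Q := Q)
  rw [hT] at hT1
  obtain ⟨r, hr⟩ : ∃ r, Nat.card F = r + 2 := ⟨Nat.card F - 2, by omega⟩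
  obtain ⟨z, hz⟩ : ∃ z, z = Nat.card F ^ j := ⟨_, rfl⟩
  obtain ⟨n₀, hn0d⟩ : ∃ n, n = Nat.card {u : P.W // u ≠ 0 ∧ Q (u : V) = 0} := ⟨_, rfl⟩
  change Nat.card {u : P.W // u ≠ 0 ∧ Q (u : V) = 0} + 1 + _ = _ at hn0
  rw [← hn0d] at hn0
  have hpz : Nat.card F ^ (j + 1) = (r + 2) * z := by rw [pow_succ', hr, hz, hr]
  have hz4 : (r + 2) * (r + 2) ≤ z := by
    rw [hz, ← hr, ← sq]; exact Nat.pow_le_pow_right (by omega) hj
  have hT' : (r + 1) * T + 1 + (r + 1) * ((r + 2) * z) = (r + 2) * ((r + 2) * z) ^ 2 := by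
    rw [hpz, hr, show r + 2 - 1 = r + 1 by omega] at hT1; exact hT1
  rw [← hz, hr, show r + 2 - 1 = r + 1 by omega] at hn0
  rw [← hz, hr] at hcW hn
  have hdim := hW.dim
  refine ⟨T, j, ⟨by omega, fun _ => ⟨j + 1, by omega⟩, hT, le_rfl, ?_, ?_, ?_, fun c hc => ?_,
    ?_, fun c c' hc hc' _ => ?_, fun c hc => ?_, fun _ c hc => ?_,
    fun D hD => card_ts_le_minus hW D hD, by omega, Or.inl ?_⟩, hT1⟩
  · rw [← hn0d, hr, show r + 2 - 1 = r + 1 by omega, hcW]; exact Num.minus_eq hz4 hT' hn0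
  · rw [← hn0d]; exact Num.minus_pos hz4 hT' hn0
  · rw [hcW]; exact Num.minus_two hz4 hT'
  · rw [hcW]
    rcases Nat.eq_zero_or_pos r with h0 | hr1
    · exact Or.inr ⟨two_eq_zero_of_card (by omega), Num.minus_regular_two hz4 hT' (hn c hc) h0⟩
    · exact Or.inl (Num.minus_regular hz4 hT' (hn c hc) hr1)
  · rw [hcW]
    have := Num.minus_all hz4 hT'
    omega
  · rw [hr]; exact Num.minus_classes hz4 hT' (hn c hc) (hn c' hc')
  · rw [← hn0d, hr]; exact Num.minus_mixed hz4 hT' hn0 (hn c hc)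
  · rw [show Nat.card F ^ (finrank F P.W - 2) = z * z by
      rw [hdim, hz, ← pow_add]; congr 1; omega, hr]
    exact Num.minus_four hz4 hT' (hn c hc)
  · rw [← hn0d, hdim, show 2 * (j + 1) - 2 - j = j by omega, ← hz]
    exact Num.minus_singular hz4 hT' hn0 hz4

/-- Plus type, two field elements. -/
theorem bounds_plus_two (P : Pair Q) {j : ℕ} (hV : EvenType Q (j + 2) 1) (hF : Nat.card F = 2) (hj : 2 ≤ j) :
    ∃ B T w, Bounds P B T w ∧ B + 2 * 2 ^ j = 8 * (2 ^ j) ^ 2 := by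
  haveI : Finite V := Module.finite_of_finite F
  have hW : EvenType P.QW (j + 1) 1 := P.evenType hV
  obtain ⟨hcW, hn0, hn⟩ := counts_plus hW
  obtain ⟨-, hT1, -⟩ := counts_plus hV
  obtain ⟨T, hT⟩ := exists_points_number (Q := Q)
  rw [hT] at hT1
  obtain ⟨z, hz⟩ : ∃ z, z = 2 ^ j := ⟨_, rfl⟩
  obtain ⟨n₀, hn0d⟩ : ∃ n, n = Nat.card {u : P.W // u ≠ 0 ∧ Q (u : V) = 0} := ⟨_, rfl⟩
  change Nat.card {u : P.W // u ≠ 0 ∧ Q (u : V) = 0} + 1 = _ at hn0
  rw [← hn0d] at hn0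
  rw [hF, ← hz] at hn0 hcW hn
  have hn0' : n₀ + 1 = 2 * z ^ 2 + z := by rw [hn0]; ring
  have hcW' : Nat.card P.W = 4 * z ^ 2 := by rw [hcW]; ring
  have hpz : Nat.card F ^ (j + 1) = 2 * z := by rw [pow_succ', hF, hz]
  have hT' : T + 1 = 8 * z ^ 2 + 2 * z := by
    rw [hpz, hF] at hT1; norm_num at hT1; rw [hT1]; ring
  have hz4 : 4 ≤ z := by
    rw [hz]; exact le_trans (by norm_num) (Nat.pow_le_pow_right (by norm_num) hj : 2 ^ 2 ≤ 2 ^ j)
  obtain ⟨B, hB⟩ : ∃ B, B + 2 * z = 8 * z ^ 2 := ⟨8 * z ^ 2 - 2 * z, Nat.sub_add_cancel (by nlinarith)⟩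
  have hdim := hW.dim
  refine ⟨B, T, j + 1, ⟨by omega, fun _ => ⟨j + 1, by omega⟩, hT, Num.two_le hz4 hB hT', ?_, ?_, ?_,
    fun c hc => Or.inr ⟨two_eq_zero_of_card hF, ?_⟩,
    ?_, fun c c' hc hc' hcc => absurd ((eq_one_of_card hF hc).trans (eq_one_of_card hF hc').symm) hcc,
    fun c hc => ?_, fun _ c hc => ?_, fun D hD => card_ts_le hW.sep (by omega) D hD, by omega, ?_⟩,
    hz ▸ hB⟩
  · rw [← hn0d, hF, hcW']; norm_num
    exact Num.two_eq hz4 hB hT' hn0'
  · rw [← hn0d]; nlinarith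
  · rw [hcW']; have := Num.two_all hz4 hB hT'; omega
  · rw [hcW']; exact Num.two_regular hz4 hB hT' (hn c hc)
  · rw [hcW']; have := Num.two_all hz4 hB hT'; omega
  · rw [← hn0d, hF]; exact Num.two_mixed hz4 hB hT' hn0' (hn c hc)
  · rw [show Nat.card F ^ (finrank F P.W - 2) = z * z by
      rw [hdim, hz, hF, ← pow_add]; congr 1; omega, hF]
    exact Num.two_four hz4 hB hT' (hn c hc)
  · rw [← hn0d, hdim, hF, show 2 * (j + 1) - 2 - (j + 1) = j - 1 by omega]
    rcases Nat.lt_or_ge j 3 with hj3 | hj3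
    · obtain rfl : j = 2 := by omega
      right; left
      rw [hz] at hn0' hB
      norm_num at hn0' hB ⊢
      omega
    · left
      exact Num.two_singular hz4 hB hT' hn0'
        (le_trans (by norm_num) (Nat.pow_le_pow_right (by norm_num) (by omega) : 2 ^ 2 ≤ 2 ^ (j - 1)))

/-- Odd dimension, at least five field elements. -/
theorem bounds_odd (P : Pair Q) {k : ℕ} (hV : OddType Q (k + 1)) (hq5 : 5 ≤ Nat.card F)
    (h2 : (2 : F) ≠ 0) (hk : 2 ≤ k) :
    ∃ T w, Bounds P T T w ∧ (Nat.card F - 1) * T + 1 = (Nat.card F ^ (k + 1)) ^ 2 := by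
  haveI : Finite V := Module.finite_of_finite F
  have hW : OddType P.QW k := P.oddType hV
  obtain ⟨hcW, hn0, hn⟩ := counts_odd hW
  obtain ⟨-, hT1, -⟩ := counts_odd hV
  obtain ⟨T, hT⟩ := exists_points_number (Q := Q)
  rw [hT] at hT1
  obtain ⟨r, hr⟩ : ∃ r, Nat.card F = r + 5 := ⟨Nat.card F - 5, by omega⟩
  obtain ⟨y, hy⟩ : ∃ y, y = Nat.card F ^ k := ⟨_, rfl⟩
  obtain ⟨n₀, hn0d⟩ : ∃ n, n = Nat.card {u : P.W // u ≠ 0 ∧ Q (u : V) = 0} := ⟨_, rfl⟩
  change Nat.card {u : P.W // u ≠ 0 ∧ Q (u : V) = 0} + 1 = _ at hn0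
  rw [← hn0d, ← hy] at hn0
  have hpy : Nat.card F ^ (k + 1) = (r + 5) * y := by rw [pow_succ', hr, hy, hr]
  have hy25 : (r + 5) * (r + 5) ≤ y := by
    rw [hy, ← hr, ← sq]; exact Nat.pow_le_pow_right (by omega) hk
  have hT' : (r + 4) * T + 1 = ((r + 5) * y) ^ 2 := by
    rw [hpy, hr, show r + 5 - 1 = r + 4 by omega] at hT1; exact hT1
  rw [← hy] at hn
  rw [← hy, hr] at hcW
  have hdim := hW.dim
  refine ⟨T, k, ⟨by omega, fun h => absurd h (by omega), hT, le_rfl, ?_, ?_, ?_, fun c hc => Or.inl ?_,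
    ?_, fun c c' hc hc' _ => ?_, fun c hc => ?_, fun h => absurd h h2,
    fun D hD => card_ts_le hW.sep (by omega) D hD, by omega, ?_⟩, hT1⟩
  · rw [← hn0d, hr, show r + 5 - 1 = r + 4 by omega, hcW]; exact Num.odd_eq hy25 hT' hn0
  · rw [← hn0d]; exact Num.odd_pos hy25 hT' hn0
  · rw [hcW]; exact Num.odd_two hy25 hT'
  · rw [hcW]; exact Num.odd_regular hy25 hT' (hn c hc)
  · rw [hcW]
    have := Num.odd_all hy25 hT'
    omega
  · rw [hr]; exact Num.odd_classes hy25 hT' (hn c hc) (hn c' hc')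
  · rw [← hn0d, hr]; exact Num.odd_mixed hy25 hT' hn0 (hn c hc)
  · rw [← hn0d, hdim, show 2 * k + 1 - 2 - k = k - 1 by omega]
    rcases Nat.lt_or_ge k 3 with hk3 | hk3
    · obtain rfl : k = 2 := by omega
      refine Or.inr (Or.inr ⟨by omega, by omega, Or.inr ⟨by omega, h2⟩, ?_⟩)
      have hy' : y = (r + 5) ^ 2 := by rw [hy, hr]
      have hex := fun c hc => Num.odd_extreme hy25 hT' hn0 (hn c hc) hy'
      obtain ⟨h1, h2', h3, -, h5⟩ := hex 1 one_ne_zero
      rw [hr]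
      exact ⟨_, _, h1, h2', Nat.le_mul_of_pos_right _ (Nat.succ_pos _), h3,
        fun c hc => (hex c hc).2.2.2.1, h5⟩
    · left
      refine Num.odd_singular hy25 hT' hn0 ?_
      rw [← hr, ← sq]; exact Nat.pow_le_pow_right (by omega) (by omega)

/-- Odd dimension, three field elements. -/
theorem bounds_odd_three (P : Pair Q) {k : ℕ} (hV : OddType Q (k + 1)) (hF : Nat.card F = 3)
    (h2 : (2 : F) ≠ 0) (hk : 2 ≤ k) :
    ∃ B T w, Bounds P B T w ∧ 2 * B + 3 ^ (k + 1) = (3 ^ (k + 1)) ^ 2 := by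
  haveI : Finite V := Module.finite_of_finite F
  have hW : OddType P.QW k := P.oddType hV
  obtain ⟨hcW, hn0, hn⟩ := counts_odd hW
  obtain ⟨-, hT1, -⟩ := counts_odd hV
  obtain ⟨T, hT⟩ := exists_points_number (Q := Q)
  rw [hT] at hT1
  obtain ⟨y, hy⟩ : ∃ y, y = 3 ^ k := ⟨_, rfl⟩
  obtain ⟨n₀, hn0d⟩ : ∃ n, n = Nat.card {u : P.W // u ≠ 0 ∧ Q (u : V) = 0} := ⟨_, rfl⟩
  change Nat.card {u : P.W // u ≠ 0 ∧ Q (u : V) = 0} + 1 = _ at hn0
  rw [← hn0d] at hn0
  rw [hF, ← hy] at hn0 hcW hn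
  have hpy : Nat.card F ^ (k + 1) = 3 * y := by rw [pow_succ', hF, hy]
  have hT' : 2 * T + 1 = 9 * y ^ 2 := by
    rw [hpy, hF] at hT1; norm_num at hT1; rw [hT1]; ring
  have hy9 : 9 ≤ y := by
    rw [hy]; exact le_trans (by norm_num) (Nat.pow_le_pow_right (by norm_num) hk : 3 ^ 2 ≤ 3 ^ k)
  obtain ⟨B, hB⟩ : ∃ B, 2 * B + 3 * y = 9 * y ^ 2 := by
    obtain ⟨s, hs⟩ := (hy ▸ (by decide : Odd 3).pow : Odd y)
    refine ⟨18 * s ^ 2 + 15 * s + 3, ?_⟩
    rw [hs]; ring
  have hdim := hW.dim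
  refine ⟨B, T, k, ⟨by omega, fun h => absurd h (by omega), hT, Num.three_le hy9 hB hT', ?_, ?_, ?_,
    fun c hc => Or.inl ?_, ?_, fun c c' hc hc' _ => ?_, fun c hc => ?_, fun h => absurd h h2,
    fun D hD => card_ts_le hW.sep (by omega) D hD, by omega, ?_⟩, ?_⟩
  · rw [← hn0d, hF, hcW]; norm_num
    exact Num.three_eq hy9 hB hT' hn0
  · rw [← hn0d]; exact Num.three_pos hy9 hB hT' hn0
  · rw [hcW]; exact Num.three_two hy9 hB hT'
  · rw [hcW]; exact Num.three_regular hy9 hB hT' (hn c hc)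
  · rw [hcW]
    have := Num.three_all hy9 hB hT'
    omega
  · rw [hF]; exact Num.three_classes hy9 hB hT' (hn c hc) (hn c' hc')
  · rw [← hn0d, hF]; exact Num.three_mixed hy9 hB hT' hn0 (hn c hc)
  · rw [← hn0d, hdim, hF, show 2 * k + 1 - 2 - k = k - 1 by omega]
    rcases Nat.lt_or_ge k 3 with hk3 | hk3
    · obtain rfl : k = 2 := by omega
      right; left
      rw [hy] at hn0 hB
      norm_num at hn0 hB ⊢
      omega
    · left
      exact Num.three_singular hy9 hB hT' hn0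
        (le_trans (by norm_num) (Nat.pow_le_pow_right (by norm_num) (by omega) : 3 ^ 2 ≤ 3 ^ (k - 1)))
  · rw [pow_succ', ← hy, hB.trans (by ring : 9 * y ^ 2 = (3 * y) ^ 2)]

end CfsgLib.Classical.OMinIdx
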