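import Mathlib
import Cfsg.Agent.Lib.Classical.SLTwoTori
import Cfsg.Agent.Lib.Classical.OrthOrder
import Cfsg.Agent.Lib.Invol.Dihedral

/-!
The binary orthogonal groups are dihedral.
-/

set_option autoImplicit false

namespace CfsgLib.Classical

open Matrix
open scoped MatrixGroups

variable {F : Type*} [Field F] [Fintype F]

theorem dihedral_of_torus {ι : Type} [Fintype ι] [DecidableEq ι] (e : Fin 2 ≃ ι)
    (Qf : (ι → F) → F) (T : Subgroup SL(2, F)) [IsCyclic T] {n : ℕ} (hn : n ≠ 0)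
    (hT : Nat.card T = n) (hO : Nat.card (Cfsg.isometryGroup F Qf) = 2 * n)
    (hTQ : ∀ t ∈ T, ∀ v, Qf (fun i => ((t : Matrix (Fin 2) (Fin 2) F) *ᵥ fun k => v (e k)) (e.symm i)) = Qf v)
    (w : Matrix (Fin 2) (Fin 2) F) (hw : w * w = 1)
    (hwQ : ∀ v, Qf (fun i => (w *ᵥ fun k => v (e k)) (e.symm i)) = Qf v)
    (hinv : ∀ t ∈ T, w * (t : Matrix (Fin 2) (Fin 2) F) * w = ((t⁻¹ : SL(2, F)) : Matrix (Fin 2) (Fin 2) F))
    (hnot : ∀ t ∈ T, (t : Matrix (Fin 2) (Fin 2) F) ≠ w) :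
    Nonempty (Cfsg.isometryGroup F Qf ≃* DihedralGroup n) := by
  have : NeZero n := ⟨hn⟩
  let ψ : GL (Fin 2) F →* GL ι F := Units.map (Matrix.reindexAlgEquiv F F e).toMulEquiv.toMonoidHom
  have hψinj : Function.Injective ψ :=
    Units.map_injective (Matrix.reindexAlgEquiv F F e).injective
  have hψv : ∀ (M : GL (Fin 2) F) (v : ι → F), (ψ M : Matrix ι ι F) *ᵥ v =
      fun i => ((M : Matrix (Fin 2) (Fin 2) F) *ᵥ fun k => v (e k)) (e.symm i) := by
    intro M v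
    show (Matrix.reindex e e (M : Matrix (Fin 2) (Fin 2) F)) *ᵥ v = _
    rw [Matrix.reindex_apply, Matrix.submatrix_mulVec_equiv, Equiv.symm_symm]
    rfl
  obtain ⟨g, hg⟩ := IsCyclic.exists_generator (α := T)
  have hgo : orderOf g = n := by rw [orderOf_eq_card_of_forall_mem_zpowers hg, hT]
  let r : GL ι F := ψ (Matrix.SpecialLinearGroup.toGL (g : SL(2, F)))
  let W : GL (Fin 2) F := ⟨w, w, hw, hw⟩
  have hr : orderOf r = n := by
    show orderOf ((ψ.comp Matrix.SpecialLinearGroup.toGL) (g : SL(2, F))) = n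
    rw [orderOf_injective (ψ.comp Matrix.SpecialLinearGroup.toGL)
      (hψinj.comp Matrix.SpecialLinearGroup.toGL_injective), Subgroup.orderOf_coe, hgo]
  have hW1 : W ≠ 1 := fun h => hnot 1 (one_mem T) (congrArg Units.val h).symm
  have hs : orderOf (ψ W) = 2 := by
    rw [orderOf_injective ψ hψinj]
    exact orderOf_eq_prime (by rw [sq]; exact Units.ext hw) hW1
  have hmem : ∀ {M : GL (Fin 2) F}, (∀ v, Qf (fun i => ((M : Matrix (Fin 2) (Fin 2) F) *ᵥ fun k => v (e k))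
      (e.symm i)) = Qf v) → ψ M ∈ Cfsg.isometryGroup F Qf := fun {M} h u _ => by
    show Qf ((ψ M : Matrix ι ι F) *ᵥ u) = Qf u
    rw [hψv]
    exact h u
  have hsr : ψ W * r * (ψ W)⁻¹ = r⁻¹ := by
    show ψ W * ψ _ * (ψ W)⁻¹ = (ψ _)⁻¹
    rw [← map_inv ψ, ← map_inv ψ, ← map_mul, ← map_mul, ← map_inv Matrix.SpecialLinearGroup.toGL]
    refine congrArg ψ (Units.ext ?_)
    exact hinv g.1 g.2
  have hsnot : ψ W ∉ Subgroup.zpowers r := by
    intro h
    rw [Subgroup.mem_zpowers_iff] at h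
    obtain ⟨k, hk⟩ := h
    rw [← map_zpow, ← map_zpow] at hk
    exact hnot _ (zpow_mem g.2 k) (congrArg Units.val (hψinj hk))
  obtain ⟨f⟩ := CfsgLib.Invol.exists_mulEquiv_dihedral hr hs hsr hsnot
  have hle : Subgroup.closure ({r, ψ W} : Set (GL ι F)) ≤ Cfsg.isometryGroup F Qf :=
    (Subgroup.closure_le _).2 (Set.insert_subset_iff.2
      ⟨hmem (hTQ g.1 g.2), Set.singleton_subset_iff.2 (hmem hwQ)⟩)
  have heq : Subgroup.closure ({r, ψ W} : Set (GL ι F)) = Cfsg.isometryGroup F Qf :=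
    Subgroup.eq_of_le_of_card_ge hle (by rw [hO, Nat.card_congr f.toEquiv, DihedralGroup.nat_card])
  exact ⟨(MulEquiv.subgroupCongr heq.symm).trans f⟩

theorem isometry_plus_one {q : ℕ} (hF : Fintype.card F = q) :
    Nonempty (Cfsg.isometryGroup F (Cfsg.quadFormPlus 1 F) ≃* DihedralGroup (q - 1)) := by
  subst hF
  have hq : 1 < Fintype.card F := Fintype.one_lt_card
  have : IsCyclic (splitTorus F).range := isCyclic_splitTorus
  let e : Fin 2 ≃ Fin 1 ⊕ Fin 1 := (finSumFinEquiv (m := 1) (n := 1)).symm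
  have e0 : e 0 = Sum.inl 0 := rfl
  have e1 : e 1 = Sum.inr 0 := rfl
  have e0' : e.symm (Sum.inl 0) = 0 := by rw [← e0, Equiv.symm_apply_apply]
  have e1' : e.symm (Sum.inr 0) = 1 := by rw [← e1, Equiv.symm_apply_apply]
  refine dihedral_of_torus e _ (splitTorus F).range (by omega) card_splitTorus ?_ ?_
    !![0, 1; 1, 0] ?_ ?_ ?_ ?_
  · rw [card_isometryGroup_eq _ (qfPlus 1 F) (fun v => qfPlus_apply 1 v)]
    simpa using card_qfPlus_isoms (F := F) 0
  · rintro _ ⟨u, rfl⟩ v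
    show Cfsg.quadFormPlus 1 F (fun i => ((!![(u : F), 0; 0, (↑u⁻¹ : F)] : Matrix (Fin 2) (Fin 2) F) *ᵥ
      fun k => v (e k)) (e.symm i)) = _
    simp [Cfsg.quadFormPlus, e0, e1, e0', e1', Matrix.mulVec, dotProduct, Fin.sum_univ_two]
    field_simp
  · simp [Matrix.one_fin_two]
  · intro v
    simp [Cfsg.quadFormPlus, e0, e1, e0', e1', Matrix.mulVec, dotProduct, Fin.sum_univ_two]
    ring
  · rintro _ ⟨u, rfl⟩
    rw [Matrix.SpecialLinearGroup.coe_inv]
    show !![(0 : F), 1; 1, 0] * !![(u : F), 0; 0, (↑u⁻¹ : F)] * !![(0 : F), 1; 1, 0] =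
      adjugate !![(u : F), 0; 0, (↑u⁻¹ : F)]
    rw [adjugate_fin_two_of]
    ext i j
    fin_cases i <;> fin_cases j <;> simp [Matrix.mul_apply, Fin.sum_univ_two]
  · rintro _ ⟨u, rfl⟩ h
    have := congrFun (congrFun h 0) 1
    change (!![(u : F), 0; 0, (↑u⁻¹ : F)] : Matrix (Fin 2) (Fin 2) F) 0 1 = _ at this
    simp at this

theorem isometry_minus_zero {q : ℕ} (hF : Fintype.card F = q) (a b : F)
    (hab : ∀ z₁ z₂ : F, z₁ ^ 2 + a * z₁ * z₂ + b * z₂ ^ 2 = 0 → z₁ = 0 ∧ z₂ = 0) :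
    Nonempty (Cfsg.isometryGroup F (Cfsg.quadFormMinus 0 F a b) ≃* DihedralGroup (q + 1)) := by
  subst hF
  have : IsCyclic (nsTorus a b) := isCyclic_nsTorus hab
  let e : Fin 2 ≃ (Fin 0 ⊕ Fin 0) ⊕ Fin 2 := (Equiv.emptySum _ _).symm
  refine dihedral_of_torus e _ (nsTorus a b) (by omega) (card_nsTorus hab) ?_ ?_
    !![1, a; 0, -1] ?_ ?_ ?_ ?_
  · rw [card_isometryGroup_eq _ (qfMinus 0 F a b) (fun v => qfMinus_apply 0 a b v), card_binary_isoms hab]
  · rintro t ⟨x, y, ht⟩ v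
    have hd := nsTorus_det ht
    simp [Cfsg.quadFormMinus, e, ht, Matrix.mulVec, dotProduct, Fin.sum_univ_two]
    linear_combination (v (.inr 0) ^ 2 + a * v (.inr 0) * v (.inr 1) + b * v (.inr 1) ^ 2) * hd
  · simp [Matrix.one_fin_two]
  · intro v
    simp [Cfsg.quadFormMinus, e, Matrix.mulVec, dotProduct, Fin.sum_univ_two]
    ring
  · rintro t ⟨x, y, ht⟩
    rw [Matrix.SpecialLinearGroup.coe_inv, ht, adjugate_fin_two_of]
    ext i j
    fin_cases i <;> fin_cases j <;> simp [Matrix.mul_apply, Fin.sum_univ_two] <;> ring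
  · rintro t ⟨x, y, ht⟩ h
    rw [ht] at h
    have e00 := congrFun (congrFun h 0) 0
    have e10 := congrFun (congrFun h 1) 0
    have e01 := congrFun (congrFun h 0) 1
    have e11 := congrFun (congrFun h 1) 1
    simp at e00 e10 e01 e11
    have ha : a = 0 := by rw [← e01, e10]; ring
    rw [e00, e10, ha] at e11
    refine anisotropic_disc hab ?_
    rw [ha]
    linear_combination (2 * b) * e11

end CfsgLib.Classical
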