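import Mathlib
import Cfsg.Agent.Lib.Classical.OrthOutCount
import Cfsg.Agent.Lib.Classical.OrthOutOdd
import Cfsg.Agent.Lib.Classical.DiagGroups

/-!
Similitudes in even dimension and odd characteristic: square class of the multiplier, determinant sign,
spinor norm.
-/

set_option autoImplicit false
set_option linter.unusedSectionVars false

namespace CfsgLib.Classical

open CfsgLib.Geom
open Matrix
open QuadraticMap (polar)

variable {F : Type*} [Field F] [Finite F] {ι : Type} [Fintype ι] [DecidableEq ι]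
variable {Q : QuadraticForm F (ι → F)}

theorem detJ_ne_zero (hQ : ∀ x, (∀ y, polar Q x y = 0) → x = 0) :
    (LinearMap.toMatrix₂' F Q.polarBilin).det ≠ 0 := by
  have hnd : LinearMap.BilinForm.Nondegenerate Q.polarBilin :=
    ⟨fun u hu => hQ u hu, fun u hu => hQ u fun y => by rw [QuadraticMap.polar_comm]; exact hu y⟩
  rw [show LinearMap.toMatrix₂' F Q.polarBilin =
      LinearMap.toMatrix₂ (Pi.basisFun F _) (Pi.basisFun F _) Q.polarBilin from by
        ext i j; simp [LinearMap.toMatrix₂_apply, LinearMap.toMatrix₂'_apply]]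
  exact (LinearMap.separatingLeft_iff_det_ne_zero (Pi.basisFun F _)).1 hnd.1

/-- Determinant parity and spinor norm. -/
noncomputable def spin (hQ : ∀ x, (∀ y, polar Q x y = 0) → x = 0) (h2 : (2 : F) ≠ 0) :
    quadIsoms Q →* Multiplicative (ZMod 2) × SqClass F :=
  (spinorHom Q hQ (exGen_of_odd h2)).comp (orEquiv Q).toMonoidHom

variable (hQ : ∀ x, (∀ y, polar Q x y = 0) → x = 0) (h2 : (2 : F) ≠ 0)

theorem spin_refl {v : ι → F} (hv : Q v ≠ 0) :
    spin hQ h2 ⟨reflEquiv Q v hv, reflEquiv_mem Q v hv⟩ = (Multiplicative.ofAdd 1, sqClass hv) :=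
  spinorHom_refl Q hQ _ _ hv (by
    show ((orEquiv Q ⟨reflEquiv Q v hv, reflEquiv_mem Q v hv⟩ : Cfsg.isometryGroup F (⇑Q)) :
      Matrix.GeneralLinearGroup ι F).val = _
    rw [orEquiv_coe, glOfEquiv_reflEquiv])

theorem spin_eq_one_iff (k : quadIsoms Q) : spin hQ h2 k = 1 ↔ k ∈ commutator (quadIsoms Q) := by
  show spinorHom Q hQ (exGen_of_odd h2) (orEquiv Q k) = 1 ↔ _
  rw [← MonoidHom.mem_ker, ← omega_eq_ker_spinorHom]
  constructor
  · intro h
    obtain ⟨l, hl⟩ := (omegaEquiv Q).surjective ⟨orEquiv Q k, h⟩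
    have : orEquiv Q l.1 = orEquiv Q k := by rw [← omegaEquiv_coe, hl]
    rw [← (orEquiv Q).injective this]
    exact l.2
  · intro h
    have := (omegaEquiv Q ⟨k, h⟩).2
    rwa [omegaEquiv_coe] at this

theorem det_spin (k : quadIsoms Q) :
    ((spin hQ h2 k).1 = 1 ∧ LinearEquiv.det k.1 = 1) ∨
      ((spin hQ h2 k).1 = Multiplicative.ofAdd 1 ∧ LinearEquiv.det k.1 = -1) := by
  have key : ∀ x, x ∈ Subgroup.closure (reflSet Q) → ∀ h : x ∈ quadIsoms Q,
      ((spin hQ h2 ⟨x, h⟩).1 = 1 ∧ LinearEquiv.det x = 1) ∨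
        ((spin hQ h2 ⟨x, h⟩).1 = Multiplicative.ofAdd 1 ∧ LinearEquiv.det x = -1) := by
    intro x hx
    induction hx using Subgroup.closure_induction with
    | mem x hx =>
      intro h
      obtain ⟨v, hv, rfl⟩ := hx
      exact Or.inr ⟨by rw [spin_refl hQ h2 hv], det_reflEquiv Q v hv⟩
    | one =>
      intro h
      exact Or.inl ⟨by rw [show (⟨1, h⟩ : quadIsoms Q) = 1 from rfl, map_one]; rfl, map_one _⟩
    | mul x y hx hy ihx ihy =>
      intro h
      have hx' := reflSet_closure_le Q hx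
      have hy' := reflSet_closure_le Q hy
      rw [show (⟨x * y, h⟩ : quadIsoms Q) = ⟨x, hx'⟩ * ⟨y, hy'⟩ from rfl, map_mul, Prod.fst_mul, map_mul]
      rcases ihx hx' with ⟨a, b⟩ | ⟨a, b⟩ <;> rcases ihy hy' with ⟨c, d⟩ | ⟨c, d⟩ <;> rw [a, b, c, d]
      · exact Or.inl ⟨one_mul _, one_mul _⟩
      · exact Or.inr ⟨one_mul _, one_mul _⟩
      · exact Or.inr ⟨mul_one _, mul_one _⟩
      · exact Or.inl ⟨by decide, by rw [neg_mul_neg, one_mul]⟩
    | inv x hx ih =>
      intro h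
      have hx' := reflSet_closure_le Q hx
      rw [show (⟨x⁻¹, h⟩ : quadIsoms Q) = ⟨x, hx'⟩⁻¹ from rfl, map_inv, Prod.fst_inv, map_inv]
      rcases ih hx' with ⟨a, b⟩ | ⟨a, b⟩ <;> rw [a, b]
      · exact Or.inl ⟨inv_one, inv_one⟩
      · exact Or.inr ⟨by decide, inv_neg_one⟩
  exact key k.1 (quadIsoms_eq_closure Q hQ (exGen_of_odd h2) ▸ k.2) k.2

theorem spin_fst_eq_one_iff (k : quadIsoms Q) :
    (spin hQ h2 k).1 = 1 ↔ LinearEquiv.det k.1 = 1 := by
  rcases det_spin hQ h2 k with ⟨a, b⟩ | ⟨a, b⟩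
  · exact iff_of_true a b
  · refine iff_of_false (by rw [a]; decide) fun h => h2 ?_
    rw [b] at h
    have := congrArg Units.val h
    simp only [Units.val_neg, Units.val_one] at this
    linear_combination -this

/-- Minus the identity, as an isometry. -/
def negI (Q : QuadraticForm F (ι → F)) : quadIsoms Q :=
  ⟨LinearEquiv.neg F, mem_quadIsoms.2 fun v => QuadraticMap.map_neg Q v⟩

theorem spin_negI_fst {k : ℕ} (hk : Fintype.card ι = 2 * k) : (spin hQ h2 (negI Q)).1 = 1 := by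
  rw [spin_fst_eq_one_iff]
  refine Units.ext ?_
  rw [LinearEquiv.coe_det,
    show (((negI Q).1 : (ι → F) ≃ₗ[F] (ι → F)) : (ι → F) →ₗ[F] (ι → F)) = (-1 : F) • LinearMap.id from
      LinearMap.ext fun v => (neg_one_smul F v).symm,
    LinearMap.det_smul, LinearMap.det_id, mul_one, Module.finrank_fintype_fun_eq_card, hk, pow_mul,
    neg_one_sq, one_pow, Units.val_one]

theorem spin_negI_eq_one_iff :
    spin hQ h2 (negI Q) = 1 ↔ ∃ g : Cfsg.isometryGroup F (⇑Q), g ∈ Cfsg.Omega F (⇑Q) ∧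
      ((g : Matrix.GeneralLinearGroup ι F) : Matrix ι ι F) = -1 := by
  have hm : ((orEquiv Q (negI Q) : Cfsg.isometryGroup F (⇑Q)) : Matrix.GeneralLinearGroup ι F).val = -1 :=
    Matrix.ext_iff_mulVec.2 fun v => by rw [orEquiv_mulVec, Matrix.neg_mulVec, Matrix.one_mulVec]; rfl
  constructor
  · intro h
    refine ⟨_, (omega_eq_ker_spinorHom Q hQ (exGen_of_odd h2)).ge (MonoidHom.mem_ker.2 h), hm⟩
  · rintro ⟨g, hg, hgm⟩
    have : orEquiv Q (negI Q) = g := Subtype.ext (Units.ext (hm.trans hgm.symm))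
    show spinorHom Q hQ _ (orEquiv Q (negI Q)) = 1
    rw [this, ← MonoidHom.mem_ker, ← omega_eq_ker_spinorHom]
    exact hg

namespace SemiSim

theorem scalar_neg_one : scalar (Q := Q) (-1) = isomHom (negI Q) :=
  ext' (fun v => by rw [scalar_map, Units.val_neg, Units.val_one]; exact neg_one_smul F v) rfl
    (by rw [scalar_c]; simp; rfl)

theorem exists_isom {S : SemiSim Q} (hσ : S.σ = 1) (hc : S.c = 1) : ∃ g : quadIsoms Q, S = isomHom g := by
  let g : (ι → F) ≃ₗ[F] (ι → F) :=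
    { S.map with map_smul' := fun a v => by simpa [hσ] using S.map_smul a v }
  exact ⟨⟨g, mem_quadIsoms.2 fun v => (S.map_quad v).trans (by rw [hc, hσ]; simp)⟩,
    ext' (fun _ => rfl) hσ hc⟩

theorem sdet_isom (g : quadIsoms Q) : (isomHom g).sdet = LinearEquiv.det g.1 := by
  show ((ofIsom g).gl : Matrix ι ι F).det = _
  rw [ofIsom_gl, ← det_glOfEquiv]
  rfl

theorem sdet_scalar (l : Fˣ) : (scalar (Q := Q) l).sdet = (l : F) ^ Fintype.card ι := by
  have h : ((scalar (Q := Q) l).gl : Matrix ι ι F) = (l : F) • 1 := by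
    refine Matrix.ext_iff_mulVec.2 fun v => ?_
    rw [Matrix.smul_mulVec, Matrix.one_mulVec]
    exact (scalar (Q := Q) l).gl_mulVec v
  rw [sdet, h, det_smul, det_one, mul_one]

/-- The determinant over the appropriate power of the multiplier. -/
noncomputable def detHom (Q : QuadraticForm F (ι → F)) (k : ℕ) : (σHom (Q := Q)).ker →* Fˣ where
  toFun S := Units.mk0 S.1.sdet S.1.sdet_ne_zero * (S.1.c ^ k)⁻¹
  map_one' := by
    refine Units.ext ?_
    show (1 : SemiSim Q).sdet * _ = 1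
    rw [show (1 : SemiSim Q) = scalar 1 from (map_one _).symm, sdet_scalar]
    simp
  map_mul' S T := by
    have hσ : S.1.σ = 1 := S.2
    have hs : (S.1 * T.1).sdet = S.1.sdet * T.1.sdet := by rw [sdet_mul, hσ, RingAut.one_apply]
    have hc : (S.1 * T.1).c = S.1.c * T.1.c := Units.ext (by rw [mul_c, hσ, RingAut.one_apply, Units.val_mul])
    show Units.mk0 (S.1 * T.1).sdet (S.1 * T.1).sdet_ne_zero * (((S.1 * T.1).c) ^ k)⁻¹ = _
    rw [show (Units.mk0 (S.1 * T.1).sdet (S.1 * T.1).sdet_ne_zero : Fˣ) =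
      Units.mk0 S.1.sdet S.1.sdet_ne_zero * Units.mk0 T.1.sdet T.1.sdet_ne_zero from Units.ext hs]
    rw [hc, mul_pow, mul_inv]
    exact mul_mul_mul_comm _ _ _ _

theorem detHom_eq_one_iff (k : ℕ) (S : (σHom (Q := Q)).ker) :
    detHom Q k S = 1 ↔ S.1.sdet = (S.1.c : F) ^ k := by
  show Units.mk0 S.1.sdet S.1.sdet_ne_zero * (S.1.c ^ k)⁻¹ = 1 ↔ _
  rw [mul_inv_eq_one, Units.ext_iff, Units.val_mk0, Units.val_pow_eq_pow_val]

include hQ in
theorem detHom_values {k : ℕ} (hk : Fintype.card ι = 2 * k) (S : (σHom (Q := Q)).ker) :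
    detHom Q k S = 1 ∨ detHom Q k S = -1 := by
  have h := S.1.sdet_sq
  rw [show S.1.σ = 1 from S.2, RingAut.one_apply, hk, two_mul, pow_add] at h
  rcases mul_self_eq_mul_self_iff.1 (mul_right_cancel₀ (detJ_ne_zero hQ) h) with e | e
  · exact Or.inl ((detHom_eq_one_iff k S).2 e)
  · refine Or.inr ?_
    show Units.mk0 S.1.sdet S.1.sdet_ne_zero * (S.1.c ^ k)⁻¹ = -1
    rw [mul_inv_eq_iff_eq_mul]
    refine Units.ext ?_
    simp [e]

/-- The similitudes with determinant the power of the multiplier. -/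
noncomputable def diagSub (Q : QuadraticForm F (ι → F)) (k : ℕ) : Subgroup (SemiSim Q) :=
  (detHom Q k).ker.map (σHom (Q := Q)).ker.subtype

theorem mem_diagSub {k : ℕ} {S : SemiSim Q} :
    S ∈ diagSub Q k ↔ S.σ = 1 ∧ S.sdet = (S.c : F) ^ k := by
  constructor
  · rintro ⟨T, hT, rfl⟩
    exact ⟨T.2, (detHom_eq_one_iff k T).1 hT⟩
  · rintro ⟨h1, h3⟩
    exact ⟨⟨S, h1⟩, (detHom_eq_one_iff k ⟨S, h1⟩).2 h3, rfl⟩

theorem mem_soSub {S : SemiSim Q} :
    S ∈ soSub Q ↔ ∃ g : quadIsoms Q, LinearEquiv.det g.1 = 1 ∧ S = isomHom g := by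
  have hd : ∀ g : quadIsoms Q, orEquiv Q g ∈ Cfsg.specialIsometryGroup F (⇑Q) ↔ LinearEquiv.det g.1 = 1 := by
    intro g
    rw [← det_glOfEquiv]
    rfl
  constructor
  · rintro ⟨g, hg, rfl⟩
    exact ⟨g, (hd g).1 hg, rfl⟩
  · rintro ⟨g, hg, rfl⟩
    exact ⟨g, (hd g).2 hg, rfl⟩

/-- Scalar multiples of isometries of determinant one. -/
noncomputable def soScal (Q : QuadraticForm F (ι → F)) : Subgroup (SemiSim Q) :=
  (scalar (Q := Q)).range ⊔ soSub Q

theorem mem_soScal {k : ℕ} (hk : Fintype.card ι = 2 * k) {S : SemiSim Q} :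
    S ∈ soScal Q ↔ S ∈ diagSub Q k ∧ sqProj F S.c = 1 := by
  constructor
  · intro h
    have key : soScal Q ≤ diagSub Q k ∧ ∀ T ∈ soScal Q, sqProj F T.c = 1 := by
      refine ⟨sup_le ?_ ?_, fun T hT => ?_⟩
      · rintro _ ⟨l, rfl⟩
        refine mem_diagSub.2 ⟨rfl, ?_⟩
        rw [sdet_scalar, scalar_c, hk, Units.val_mul, two_mul, pow_add, mul_pow]
      · intro T hT
        obtain ⟨g, hg, rfl⟩ := mem_soSub.1 hT
        refine mem_diagSub.2 ⟨rfl, ?_⟩
        rw [sdet_isom, hg]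
        exact (one_pow k).symm
      · let P : Subgroup (SemiSim Q) :=
          ((sqProj F).comp (multHom Q)).ker.map (σHom (Q := Q)).ker.subtype
        have hP : soScal Q ≤ P := sup_le (by
            rintro _ ⟨l, rfl⟩
            refine ⟨⟨scalar l, rfl⟩, ?_, rfl⟩
            show sqProj F (l * l) = 1
            rw [map_mul, sqClass_mul_self]) (fun T hT => by
            obtain ⟨g, -, rfl⟩ := mem_soSub.1 hT
            exact ⟨⟨isomHom g, rfl⟩, map_one (sqProj F), rfl⟩)
        obtain ⟨U, hU, rfl⟩ := hP hT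
        exact hU
    exact ⟨key.1 h, key.2 S h⟩
  · rintro ⟨hd, hc⟩
    obtain ⟨hσ, hdet⟩ := mem_diagSub.1 hd
    obtain ⟨l, hl⟩ := (sqProj_eq_one_iff F S.c).1 hc
    have hl' : S.c = l * l := by rw [← hl]; exact sq l
    obtain ⟨g, hg⟩ := exists_isom (S := scalar l⁻¹ * S)
      (by rw [mul_σ, hσ, scalar_σ, one_mul]) (Units.ext (by
        rw [mul_c, scalar_σ, scalar_c, RingAut.one_apply, hl', Units.val_one, ← Units.val_mul,
          show l⁻¹ * l⁻¹ * (l * l) = 1 by rw [mul_mul_mul_comm, inv_mul_cancel, one_mul], Units.val_one]))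
    have hS : S = scalar l * isomHom g := by
      rw [← hg, ← mul_assoc, ← map_mul, mul_inv_cancel, map_one, one_mul]
    rw [hS]
    refine (soScal Q).mul_mem (Subgroup.mem_sup_left ⟨l, rfl⟩) (Subgroup.mem_sup_right
      (mem_soSub.2 ⟨g, Units.ext ?_, rfl⟩))
    rw [← sdet_isom, ← hg, sdet_mul, sdet_scalar, scalar_σ, RingAut.one_apply, hdet, hk, hl',
      Units.val_mul, Units.val_inv_eq_inv_val, two_mul, pow_add, mul_pow, ← mul_pow, ← mul_pow, ← mul_pow]
    rw [mul_mul_mul_comm, inv_mul_cancel₀ l.ne_zero, one_mul, one_pow, Units.val_one]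

include hQ h2 in
theorem isom_mem_innerSub_iff {m : ℕ} (K : OFrame Q m) (g : quadIsoms Q) :
    isomHom g ∈ innerSub Q ↔ spin hQ h2 g = 1 ∨ spin hQ h2 g = spin hQ h2 (negI Q) := by
  constructor
  · intro h
    obtain ⟨l, x, hlx⟩ := (mem_innerSub_iff K _).1 h
    have hx : spin hQ h2 x.1 = 1 := (spin_eq_one_iff hQ h2 _).2 x.2
    have hl : (l : F) * l = 1 := by
      have := congrArg (fun S : SemiSim Q => (S.c : F)) hlx
      simp only [mul_c, scalar_σ, scalar_c, RingAut.one_apply, Units.val_mul] at this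
      have h1 : (1 : F) = (l : F) * l * 1 := this
      linear_combination -h1
    rcases mul_self_eq_one_iff.1 hl with e | e
    · left
      rw [isomHom_injective (hlx.trans (by rw [show l = 1 from Units.ext e, map_one, one_mul]; rfl))]
      exact hx
    · right
      rw [isomHom_injective (hlx.trans (by
        rw [show l = -1 from Units.ext (by simpa using e), scalar_neg_one, map_mul]; rfl)), map_mul, hx,
        mul_one]
  · intro h
    rcases h with h | h
    · exact Subgroup.mem_sup_right ⟨g, (spin_eq_one_iff hQ h2 g).1 h, rfl⟩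
    · have h' : negI Q * g ∈ commutator (quadIsoms Q) := by
        rw [← spin_eq_one_iff hQ h2, map_mul, h, ← map_mul,
          show negI Q * negI Q = 1 from quadIsoms_ext Q fun v => neg_neg v, map_one]
      rw [show g = negI Q * (negI Q * g) by
        rw [← mul_assoc, show negI Q * negI Q = 1 from quadIsoms_ext Q fun v => neg_neg v, one_mul],
        map_mul, ← scalar_neg_one]
      exact (innerSub Q).mul_mem (Subgroup.mem_sup_left ⟨_, rfl⟩) (Subgroup.mem_sup_right ⟨_, h', rfl⟩)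

theorem innerSub_le_soScal : innerSub Q ≤ soScal Q := by
  refine sup_le_sup_left ?_ _
  rintro _ ⟨g, hg, rfl⟩
  exact mem_soSub.2 ⟨g, Abelianization.commutator_subset_ker
    (LinearEquiv.det.comp (quadIsoms Q).subtype) hg, rfl⟩

end SemiSim

end CfsgLib.Classical
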