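import Mathlib
import Cfsg.Prelude.Def_LieTypeDatum
import Cfsg.Agent.Lib.Classical.OrthDiagBasic
import Cfsg.Agent.Lib.Geom.PlusTS

/-!
Classes of maximal totally singular subspaces and the determinant of a similitude.
-/

set_option autoImplicit false
set_option linter.unusedSectionVars false

namespace CfsgLib.Classical

open CfsgLib.Geom
open Matrix
open QuadraticMap (polar)

section Parity

variable {F V : Type*} [Field F] [AddCommGroup V] [Module F V] [FiniteDimensional F V]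
  (Q : QuadraticForm F V) (hQ : Q.polarBilin.Nondegenerate) {m : ℕ} (hdim : Module.finrank F V = 2 * m)

/-- Codimension of the intersection. -/
noncomputable def codimI (m : ℕ) (U W : Submodule F V) : ℕ := m - Module.finrank F (U ⊓ W : Submodule F V)

include hQ hdim

theorem maxTS_of_maximal {U₀ Y : Submodule F V} (hU₀ : IsMaxTS Q m U₀) (hY : ∀ u ∈ Y, Q u = 0)
    (hmax : ∀ W : Submodule F V, (∀ u ∈ W, Q u = 0) → Y ≤ W → W = Y) : IsMaxTS Q m Y := by
  refine ⟨le_antisymm (finrank_ts_le Q hQ hdim hY) ?_, hY⟩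
  by_contra hlt
  push Not at hlt
  have hle : U₀ ⊓ tsPerp Q Y ≤ U₀ ⊓ Y := by
    rintro z ⟨hzU, hzY⟩
    refine ⟨hzU, ?_⟩
    have e := hmax _ (ts_sup_span Q hQ hdim hY (hU₀.2 z hzU) hzY) le_sup_left
    exact e.le (Submodule.mem_sup_right (Submodule.mem_span_singleton_self z))
  have h2 : tsPerp Q (U₀ ⊔ Y) ≤ U₀ ⊓ tsPerp Q Y := by
    intro x hx
    refine ⟨?_, mem_tsPerp.2 fun s hs => mem_tsPerp.1 hx s (Submodule.mem_sup_right hs)⟩
    rw [SetLike.mem_coe, ← tsPerp_maxTS Q hQ hdim hU₀]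
    exact mem_tsPerp.2 fun s hs => mem_tsPerp.1 hx s (Submodule.mem_sup_left hs)
  have h3 := Submodule.finrank_mono (h2.trans hle)
  rw [finrank_tsPerp Q hQ hdim] at h3
  have h4 := Submodule.finrank_le (U₀ ⊔ Y)
  rw [hdim] at h4
  have h1 := Submodule.finrank_sup_add_finrank_inf_eq U₀ Y
  have := hU₀.1
  omega

theorem isMaxTS_iff {U₀ Y : Submodule F V} (hU₀ : IsMaxTS Q m U₀) :
    ((∀ u ∈ Y, Q u = 0) ∧ ∀ W : Submodule F V, (∀ u ∈ W, Q u = 0) → Y ≤ W → W = Y) ↔ IsMaxTS Q m Y := by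
  refine ⟨fun h => maxTS_of_maximal Q hQ hdim hU₀ h.1 h.2, fun h => ⟨h.2, fun W hW hYW => ?_⟩⟩
  have h1 := finrank_ts_le Q hQ hdim hW
  exact (Submodule.eq_of_le_of_finrank_le hYW (by rw [h.1]; exact h1)).symm

omit hQ hdim in
theorem isMaxTS_map {U : Submodule F V} (hU : IsMaxTS Q m U) (f : V ≃ₗ[F] V) {c : F}
    (hf : ∀ v, Q (f v) = c * Q v) : IsMaxTS Q m (U.map f.toLinearMap) := by
  refine ⟨by rw [← hU.1]; exact (f.submoduleMap U).finrank_eq.symm, ?_⟩
  rintro _ ⟨u, hu, rfl⟩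
  show Q (f u) = 0
  rw [hf, hU.2 u hu, mul_zero]

theorem even_codim_shift {U W : Submodule F V} (hU : IsMaxTS Q m U) (hW : IsMaxTS Q m W) (f : V ≃ₗ[F] V) {c : F}
    (hf : ∀ v, Q (f v) = c * Q v) :
    Even (codimI m W (W.map f.toLinearMap)) ↔ Even (codimI m U (U.map f.toLinearMap)) := by
  have hfU := isMaxTS_map Q hU f hf
  have hfW := isMaxTS_map Q hW f hf
  have h1 := even_sum_codim Q hQ hdim hU hW hfW
  have h2 := even_sum_codim Q hQ hdim hU hfW hfU
  have e : Module.finrank F (W.map f.toLinearMap ⊓ U.map f.toLinearMap : Submodule F V) =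
      Module.finrank F (U ⊓ W : Submodule F V) := by
    rw [← Submodule.map_inf _ f.injective, ← (f.submoduleMap _).finrank_eq, inf_comm]
  rw [e] at h2
  rw [Nat.even_iff] at h1 h2
  simp only [codimI, Nat.even_iff]
  omega

theorem even_codim_comp {U : Submodule F V} (hU : IsMaxTS Q m U) (f g : V ≃ₗ[F] V) {c d : F}
    (hf : ∀ v, Q (f v) = c * Q v) (hg : ∀ v, Q (g v) = d * Q v) :
    Even (codimI m U (U.map (g.trans f).toLinearMap)) ↔
      (Even (codimI m U (U.map g.toLinearMap)) ↔ Even (codimI m U (U.map f.toLinearMap))) := by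
  have hgU := isMaxTS_map Q hU g hg
  have hfgU : IsMaxTS Q m ((U.map g.toLinearMap).map f.toLinearMap) := isMaxTS_map Q hgU f hf
  have h1 := even_sum_codim Q hQ hdim hU hgU hfgU
  have h3 := even_codim_shift Q hQ hdim hU hgU f hf
  rw [show U.map (g.trans f).toLinearMap = (U.map g.toLinearMap).map f.toLinearMap from
    Submodule.map_comp g.toLinearMap f.toLinearMap U]
  simp only [codimI, Nat.even_iff] at h3 ⊢
  rw [Nat.even_iff] at h1
  omega

theorem codim_refl {U : Submodule F V} (hU : IsMaxTS Q m U) {v : V} (hv : Q v ≠ 0) :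
    codimI m U (U.map (reflEquiv Q v hv).toLinearMap) = 1 := by
  have hvU : v ∉ U := fun h => hv (hU.2 v h)
  have hpol : ∀ u, reflEquiv Q v hv u = u - ((Q v)⁻¹ * polar Q v u) • v := fun u => reflEquiv_apply Q v hv u
  obtain ⟨φ, hφ⟩ : ∃ φ : U →ₗ[F] F, φ = (Q.polarBilin v).comp U.subtype := ⟨_, rfl⟩
  have hker : U ⊓ U.map (reflEquiv Q v hv).toLinearMap = (LinearMap.ker φ).map U.subtype := by
    ext u
    constructor
    · rintro ⟨hu, u', hu', e⟩
      refine ⟨⟨u, hu⟩, ?_, rfl⟩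
      rw [SetLike.mem_coe, LinearMap.mem_ker, hφ]
      show polar Q v u = 0
      change reflEquiv Q v hv u' = u at e
      rw [hpol] at e
      have hk : (Q v)⁻¹ * polar Q v u' = 0 := by
        by_contra hne
        refine hvU ((U.smul_mem_iff hne).1 ?_)
        rw [show ((Q v)⁻¹ * polar Q v u') • v = u' - u by rw [← e]; abel]
        exact U.sub_mem hu' hu
      rw [hk, zero_smul, sub_zero] at e
      subst e
      simpa [hv] using hk
    · rintro ⟨⟨u, hu⟩, hk, rfl⟩
      rw [SetLike.mem_coe, LinearMap.mem_ker, hφ] at hk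
      have hk' : polar Q v u = 0 := hk
      exact ⟨hu, u, hu, by show reflEquiv Q v hv u = u; rw [hpol, hk']; simp⟩
  have hsurj : LinearMap.range φ = ⊤ := by
    refine (eq_bot_or_eq_top (LinearMap.range φ)).resolve_left fun h => hvU ?_
    rw [← tsPerp_maxTS Q hQ hdim hU]
    exact mem_tsPerp.2 fun s hs => by
      rw [QuadraticMap.polar_comm]
      have := LinearMap.congr_fun (LinearMap.range_eq_bot.1 h) ⟨s, hs⟩
      rwa [hφ] at this
  have hr := LinearMap.finrank_range_add_finrank_ker φ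
  rw [hsurj, finrank_top, Module.finrank_self, hU.1] at hr
  rw [codimI, hker, Submodule.finrank_map_subtype_eq]
  omega

end Parity

variable {F : Type*} [Field F] [Finite F] {ι : Type} [Fintype ι] [DecidableEq ι]
variable {Q : QuadraticForm F (ι → F)}

namespace SemiSim

/-- The linear map of a similitude. -/
def toLin (S : SemiSim Q) (hσ : S.σ = 1) : (ι → F) ≃ₗ[F] (ι → F) :=
  { S.map with map_smul' := fun a v => by simpa [hσ] using S.map_smul a v }

theorem toLin_apply (S : SemiSim Q) (hσ : S.σ = 1) (v : ι → F) : S.toLin hσ v = S.map v := rfl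

theorem quad_toLin (S : SemiSim Q) (hσ : S.σ = 1) (v : ι → F) : Q (S.toLin hσ v) = (S.c : F) * Q v := by
  rw [toLin_apply, S.map_quad, hσ]; rfl

end SemiSim

variable (hQ : ∀ x, (∀ y, polar Q x y = 0) → x = 0) (h2 : (2 : F) ≠ 0) {m : ℕ}
  (hk : Fintype.card ι = 2 * m)

include hQ h2 hk in
theorem even_codim_iff {U₀ : Submodule F (ι → F)} (hU₀ : IsMaxTS Q m U₀)
    (hscale : ∀ c : Fˣ, ∃ S ∈ SemiSim.diagSub Q m, S.c = c ∧ ∀ u ∈ U₀, S.map u ∈ U₀)
    (S : SemiSim Q) (hσ : S.σ = 1) :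
    Even (codimI m U₀ (U₀.map (S.toLin hσ).toLinearMap)) ↔ S.sdet = (S.c : F) ^ m := by
  have hnd : LinearMap.BilinForm.Nondegenerate Q.polarBilin :=
    ⟨fun u hu => hQ u hu, fun u hu => hQ u fun y => by rw [QuadraticMap.polar_comm]; exact hu y⟩
  have hdim : Module.finrank F (ι → F) = 2 * m := by rw [Module.finrank_fintype_fun_eq_card, hk]
  have hisom : ∀ x ∈ Subgroup.closure (reflSet Q),
      (Even (codimI m U₀ (U₀.map x.toLinearMap)) ↔ LinearEquiv.det x = 1) ∧
        (LinearEquiv.det x = 1 ∨ LinearEquiv.det x = -1) := by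
    have hneq : (-1 : Fˣ) ≠ 1 := fun h => h2 (by
      have := congrArg Units.val h
      simp only [Units.val_neg, Units.val_one] at this
      linear_combination -this)
    intro x hx
    induction hx using Subgroup.closure_induction with
    | mem x hx =>
      obtain ⟨v, hv, rfl⟩ := hx
      rw [codim_refl Q hnd hdim hU₀ hv, det_reflEquiv Q v hv]
      exact ⟨iff_of_false Nat.not_even_one hneq, Or.inr rfl⟩
    | one =>
      rw [show (1 : (ι → F) ≃ₗ[F] (ι → F)).toLinearMap = LinearMap.id from rfl, Submodule.map_id, codimI,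
        inf_idem, hU₀.1, Nat.sub_self, map_one]
      exact ⟨iff_of_true Even.zero rfl, Or.inl rfl⟩
    | mul x y hx hy ihx ihy =>
      have hx' := reflSet_closure_le Q hx
      have hy' := reflSet_closure_le Q hy
      rw [show x * y = y.trans x from rfl, even_codim_comp Q hnd hdim hU₀ x y
        (fun v => (mem_quadIsoms.1 hx' v).trans (one_mul _).symm)
        (fun v => (mem_quadIsoms.1 hy' v).trans (one_mul _).symm), ihx.1, ihy.1,
        show y.trans x = x * y from rfl, map_mul]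
      rcases ihx.2 with a | a <;> rcases ihy.2 with b | b <;> rw [a, b]
      · exact ⟨iff_of_true Iff.rfl (one_mul _), Or.inl (one_mul _)⟩
      · exact ⟨iff_of_false (fun h => hneq (h.2 rfl)) (by rwa [one_mul]), Or.inr (one_mul _)⟩
      · exact ⟨iff_of_false (fun h => hneq (h.1 rfl)) (by rwa [mul_one]), Or.inr (mul_one _)⟩
      · exact ⟨iff_of_true Iff.rfl (by rw [neg_mul_neg, one_mul]), Or.inl (by rw [neg_mul_neg, one_mul])⟩
    | inv x hx ih =>
      have hx' := reflSet_closure_le Q hx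
      have h := even_codim_comp Q hnd hdim hU₀ x x⁻¹
        (fun v => (mem_quadIsoms.1 hx' v).trans (one_mul _).symm)
        (fun v => (mem_quadIsoms.1 ((quadIsoms Q).inv_mem hx') v).trans (one_mul _).symm)
      rw [show x⁻¹.trans x = x * x⁻¹ from rfl, mul_inv_cancel,
        show (1 : (ι → F) ≃ₗ[F] (ι → F)).toLinearMap = LinearMap.id from rfl, Submodule.map_id, codimI,
        inf_idem, hU₀.1, Nat.sub_self] at h
      refine ⟨by rw [map_inv, inv_eq_one, ← ih.1, (iff_true_left Even.zero).1 h], ?_⟩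
      rw [map_inv]
      rcases ih.2 with a | a <;> rw [a]
      · exact Or.inl inv_one
      · exact Or.inr inv_neg_one
  obtain ⟨T, hT, hTc, hTU⟩ := hscale S.c
  obtain ⟨hTσ, hTd⟩ := SemiSim.mem_diagSub.1 hT
  obtain ⟨g, hg⟩ := SemiSim.exists_isom (S := T⁻¹ * S)
    (by rw [SemiSim.mul_σ, hσ, mul_one]; show T.σ.symm = 1; rw [hTσ]; rfl)
    (Units.ext (by
      show ((T⁻¹).c : F) * (T⁻¹).σ (S.c : F) = 1
      show T.σ.symm ((T.c⁻¹ : Fˣ) : F) * T.σ.symm (S.c : F) = 1
      rw [← map_mul, hTc, Units.inv_mul, map_one]))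
  have hS : S = T * SemiSim.isomHom g := by rw [← hg, mul_inv_cancel_left]
  have hmap : (S.toLin hσ).toLinearMap = (g.1.trans (T.toLin hTσ)).toLinearMap :=
    LinearMap.ext fun v => by
      show S.map v = T.map (g.1 v)
      rw [hS]; rfl
  have hT0 : U₀.map (T.toLin hTσ).toLinearMap = U₀ :=
    Submodule.eq_of_le_of_finrank_eq (fun x ⟨u, hu, e⟩ => e ▸ hTU u hu)
      ((T.toLin hTσ).submoduleMap U₀).finrank_eq.symm
  rw [hmap, even_codim_comp Q hnd hdim hU₀ _ g.1 (T.quad_toLin hTσ)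
      (fun v => (mem_quadIsoms.1 g.2 v).trans (one_mul _).symm),
    (hisom g.1 (quadIsoms_eq_closure Q hQ (exGen_of_odd h2) ▸ g.2)).1, hT0]
  have h0 : Even (codimI m U₀ U₀) := by rw [codimI, inf_idem, hU₀.1, Nat.sub_self]; exact Even.zero
  rw [iff_true_right h0, hS, SemiSim.sdet_mul, hTσ, RingAut.one_apply, SemiSim.sdet_isom, hTd,
    SemiSim.mul_c, hTσ, RingAut.one_apply, show ((SemiSim.isomHom g).c : F) = 1 from rfl, mul_one,
    mul_eq_left₀ (pow_ne_zero _ T.c.ne_zero), Units.val_eq_one]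

include hQ h2 hk in
theorem preservesClasses_iff {U₀ : Submodule F (ι → F)} (hU₀ : IsMaxTS Q m U₀)
    (hscale : ∀ c : Fˣ, ∃ S ∈ SemiSim.diagSub Q m, S.c = c ∧ ∀ u ∈ U₀, S.map u ∈ U₀)
    {g : GL ι F} (h : Cfsg.IsSemisimilarityPair (⇑Q) g (RingEquiv.refl F)) :
    Cfsg.PreservesSingularClasses (⇑Q) (g : Matrix ι ι F) ↔ SemiSim.ofPair h ∈ SemiSim.diagSub Q m := by
  have hnd : LinearMap.BilinForm.Nondegenerate Q.polarBilin :=
    ⟨fun u hu => hQ u hu, fun u hu => hQ u fun y => by rw [QuadraticMap.polar_comm]; exact hu y⟩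
  have hdim : Module.finrank F (ι → F) = 2 * m := by rw [Module.finrank_fintype_fun_eq_card, hk]
  have hσ : (SemiSim.ofPair h).σ = 1 := rfl
  have himg : ∀ U : Submodule F (ι → F), Cfsg.imageSubmodule (g : Matrix ι ι F) U =
      U.map ((SemiSim.ofPair h).toLin hσ).toLinearMap := fun U =>
    congrArg (fun f => U.map f) (LinearMap.ext fun v => (Matrix.toLin'_apply _ v).trans rfl)
  have hmax : ∀ U, Cfsg.IsMaxTotallySingular (⇑Q) U ↔ IsMaxTS Q m U := fun U =>
    isMaxTS_iff Q hnd hdim hU₀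
  have key : ∀ U, IsMaxTS Q m U → (Cfsg.SameParityClass U (Cfsg.imageSubmodule (g : Matrix ι ι F) U) ↔
      (SemiSim.ofPair h).sdet = ((SemiSim.ofPair h).c : F) ^ m) := fun U hU => by
    rw [himg, ← even_codim_iff hQ h2 hk hU₀ hscale _ hσ,
      ← even_codim_shift Q hnd hdim hU₀ hU _ ((SemiSim.ofPair h).quad_toLin hσ)]
    show Even _ ↔ Even _
    rw [hU.1, codimI]
  rw [SemiSim.mem_diagSub]
  constructor
  · intro hp
    exact ⟨hσ, (key U₀ hU₀).1 (hp U₀ ((hmax U₀).2 hU₀))⟩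
  · intro hd U hU
    exact (key U ((hmax U).1 hU)).2 hd.2

end CfsgLib.Classical
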