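import Mathlib
import Cfsg.Agent.Lib.Classical.OrthDiagBasic

/-!
The similitude image, the special orthogonal image and the diagonal image modulo inner automorphisms.
-/

set_option autoImplicit false
set_option linter.unusedSectionVars false

namespace CfsgLib.Classical

open CfsgLib.Geom
open QuadraticMap (polar)

theorem eq_one_or_ofAdd_one : ∀ x : Multiplicative (ZMod 2), x = 1 ∨ x = Multiplicative.ofAdd 1 := by
  decide

theorem ofAdd_one_ne_one : Multiplicative.ofAdd (1 : ZMod 2) ≠ 1 := by decide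

theorem ofAdd_one_mul_self :
    Multiplicative.ofAdd (1 : ZMod 2) * Multiplicative.ofAdd (1 : ZMod 2) = 1 := by decide

theorem sq_mul_of_comm {G : Type*} [Group G] (h : ∀ x y : G, x * y = y * x) (a b : G) :
    a * b * (a * b) = a * a * (b * b) := by
  rw [mul_assoc, ← mul_assoc b, h b a]; group

namespace SemiSim

variable {F : Type*} [Field F] [Finite F] {ι : Type} [Fintype ι] [DecidableEq ι]
variable {Q : QuadraticForm F (ι → F)}

theorem isom_conj_refl (S : SemiSim Q) {v : ι → F} (hv : Q v ≠ 0) (hv' : Q (S.map v) ≠ 0) :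
    S * isomHom ⟨reflEquiv Q v hv, reflEquiv_mem Q v hv⟩ * S⁻¹ =
      isomHom ⟨reflEquiv Q (S.map v) hv', reflEquiv_mem Q _ hv'⟩ := by
  refine ext' (fun z => ?_) ?_ (Units.ext ?_)
  · obtain ⟨y, rfl⟩ := S.map.surjective z
    rw [mul_map, mul_map, inv_map, AddEquiv.symm_apply_apply]
    show S.map (reflEquiv Q v hv y) = reflEquiv Q (S.map v) hv' (S.map y)
    rw [reflEquiv_apply, reflEquiv_apply, map_sub, S.map_smul, S.map_polar, S.map_quad, map_mul, map_inv₀]
    congr 2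
    field_simp
  · show S.σ * 1 * S.σ⁻¹ = 1
    rw [mul_one, mul_inv_cancel]
  · show (S.c : F) * S.σ 1 * (S * isomHom _).σ (S⁻¹.c : F) = 1
    show (S.c : F) * S.σ 1 * S.σ (S.σ.symm ((S.c⁻¹ : Fˣ) : F)) = 1
    rw [map_one, mul_one, RingEquiv.apply_symm_apply, Units.mul_inv]

variable (hQ : ∀ x, (∀ y, polar Q x y = 0) → x = 0) (h2 : (2 : F) ≠ 0)
variable {k : ℕ} (hk : Fintype.card ι = 2 * k)

include hQ h2 hk in
theorem exists_refl_one (hk1 : 1 ≤ k) : ∃ g : quadIsoms Q, spin hQ h2 g = (Multiplicative.ofAdd 1, 1) := by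
  obtain ⟨v, hv⟩ := exists_value Q h2 hQ (by rw [Module.finrank_fintype_fun_eq_card]; omega) 1 one_ne_zero
  refine ⟨_, (spin_refl hQ h2 (v := v) (by rw [hv]; exact one_ne_zero)).trans (Prod.ext rfl ?_)⟩
  exact (sqClass_eq_one_iff _).2 (by rw [hv]; exact IsSquare.one)

include hQ h2 hk in
theorem exists_so_spin (hk1 : 1 ≤ k) (c : SqClass F) : ∃ g : quadIsoms Q, spin hQ h2 g = (1, c) := by
  obtain ⟨g, hg⟩ := spinorHom_surjective_odd Q hQ (exGen_of_odd h2) h2 (by omega) (1, c)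
  exact ⟨(orEquiv Q).symm g, by
    show spinorHom Q hQ _ (orEquiv Q _) = _
    rw [MulEquiv.apply_symm_apply, hg]⟩

variable {m : ℕ} (K : OFrame Q m)

include K in
theorem one_le_half (hk : Fintype.card ι = 2 * k) : 1 ≤ k := by
  have := K.five_le
  rw [Module.finrank_fintype_fun_eq_card] at this
  omega

include K in
theorem innerSub_normal : (innerSub Q).Normal := outHom_ker K ▸ MonoidHom.normal_ker _

include hQ h2 hk K in
theorem soScal_le_innerSub (hneg : spin hQ h2 (negI Q) ≠ 1) : soScal Q ≤ innerSub Q := by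
  refine sup_le le_sup_left fun T hT => ?_
  obtain ⟨g, hg, rfl⟩ := mem_soSub.1 hT
  rw [isom_mem_innerSub_iff hQ h2 K]
  have h1 := (spin_fst_eq_one_iff hQ h2 g).2 hg
  by_cases h : (spin hQ h2 g).2 = 1
  · exact Or.inl (Prod.ext h1 h)
  · refine Or.inr (Prod.ext (h1.trans (spin_negI_fst hQ h2 hk).symm) (sqClass_two _ _ h fun e => hneg ?_))
    exact Prod.ext (spin_negI_fst hQ h2 hk) e

/-- The sign of the square class of the multiplier and the determinant sign. -/
theorem exists_pgo_hom (hQ : ∀ x, (∀ y, polar Q x y = 0) → x = 0) (h2 : (2 : F) ≠ 0)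
    (hk : Fintype.card ι = 2 * k) (hk1 : 1 ≤ k)
    (hns : ∃ S : SemiSim Q, S.σ = 1 ∧ sqProj F S.c ≠ 1) :
    ∃ ψ : (σHom (Q := Q)).ker →* Multiplicative (ZMod 2 × ZMod 2), Function.Surjective ψ ∧
      ψ.ker = (soScal Q).subgroupOf (σHom (Q := Q)).ker := by
  obtain ⟨ε₁, h₁⟩ := exists_sign (card_sqClass_odd h2) ((sqProj F).comp (multHom Q))
  have hcard : Nat.card (Subgroup.zpowers (-1 : Fˣ)) = 2 := by
    rw [Nat.card_zpowers, ← orderOf_units, Units.val_neg, Units.val_one, orderOf_neg_one,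
      if_neg (ringChar_ne_two_of_ne h2)]
  obtain ⟨ε₂, h₂⟩ := exists_sign hcard ((detHom Q k).codRestrict (Subgroup.zpowers (-1 : Fˣ)) fun S => by
    rcases detHom_values hQ hk S with e | e <;> rw [e]
    · exact one_mem _
    · exact Subgroup.mem_zpowers _)
  have h₂' : ∀ S, ε₂ S = 1 ↔ detHom Q k S = 1 := fun S => (h₂ S).trans Subtype.ext_iff
  let e : Multiplicative (ZMod 2) × Multiplicative (ZMod 2) ≃* Multiplicative (ZMod 2 × ZMod 2) :=
    (MulEquiv.prodMultiplicative (G := ZMod 2) (H := ZMod 2)).symm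
  refine ⟨e.toMonoidHom.comp (ε₁.prod ε₂), ?_, ?_⟩
  · refine e.surjective.comp (f := fun S => (ε₁ S, ε₂ S)) (fun x => ?_)
    obtain ⟨S, hSσ, hSc⟩ := hns
    obtain ⟨R, hR⟩ := exists_refl_one hQ h2 hk hk1
    have hR2 : ε₂ ⟨isomHom R, rfl⟩ = Multiplicative.ofAdd 1 := by
      refine (eq_one_or_ofAdd_one _).resolve_left fun h => ?_
      have := (detHom_eq_one_iff k _).1 ((h₂' _).1 h)
      rw [sdet_isom] at this
      have h1 : (spin hQ h2 R).1 = 1 := (spin_fst_eq_one_iff hQ h2 R).2 (Units.ext (this.trans (one_pow k)))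
      rw [hR] at h1
      exact absurd h1 ofAdd_one_ne_one
    have hR1 : ε₁ ⟨isomHom R, rfl⟩ = 1 := (h₁ _).2 (map_one (sqProj F))
    have hS1 : ε₁ ⟨S, hSσ⟩ = Multiplicative.ofAdd 1 :=
      (eq_one_or_ofAdd_one _).resolve_left fun h => hSc ((h₁ _).1 h)
    have hex : ∀ a b, ∃ T, ε₁ T = a ∧ ε₂ T = b := by
      intro a b
      rcases eq_one_or_ofAdd_one a with rfl | rfl
      · rcases eq_one_or_ofAdd_one b with rfl | rfl
        · exact ⟨1, map_one _, map_one _⟩
        · exact ⟨_, hR1, hR2⟩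
      · by_cases hb : ε₂ ⟨S, hSσ⟩ = b
        · exact ⟨_, hS1, hb⟩
        · refine ⟨⟨S, hSσ⟩ * ⟨isomHom R, rfl⟩, by rw [map_mul, hS1, hR1, mul_one], ?_⟩
          rw [map_mul, hR2]
          rcases eq_one_or_ofAdd_one (ε₂ ⟨S, hSσ⟩) with e' | e' <;>
            rcases eq_one_or_ofAdd_one b with rfl | rfl
          · exact absurd e' hb
          · rw [e', one_mul]
          · rw [e']; decide
          · exact absurd e' hb
    obtain ⟨T, hT1, hT2⟩ := hex x.1 x.2
    exact ⟨T, Prod.ext hT1 hT2⟩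
  · ext S
    rw [MonoidHom.mem_ker, Subgroup.mem_subgroupOf, mem_soScal hk, mem_diagSub]
    show e (ε₁ S, ε₂ S) = 1 ↔ _
    rw [map_eq_one_iff e e.injective, Prod.ext_iff]
    show ε₁ S = 1 ∧ ε₂ S = 1 ↔ _
    rw [h₁, h₂', detHom_eq_one_iff]
    exact ⟨fun h => ⟨⟨S.2, h.2⟩, h.1⟩, fun h => ⟨h.2, h.1.2⟩⟩

theorem soScal_le_kerσ : soScal Q ≤ (σHom (Q := Q)).ker := by
  refine sup_le ?_ fun T hT => ?_
  · rintro _ ⟨l, rfl⟩
    rfl
  · obtain ⟨g, -, rfl⟩ := mem_soSub.1 hT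
    rfl

include K in
theorem autC_ker_le_innerSub : (autC Q).ker ≤ innerSub Q := (autC_ker K).le.trans le_sup_left

include K in
theorem map_soScal : (soScal Q).map (autC Q) = Cfsg.psoAut F (⇑Q) := by
  rw [psoAut_eq K, soScal, Subgroup.map_sup, (Subgroup.map_eq_bot_iff _).2 (autC_ker K).ge, bot_sup_eq]

include K in
theorem pgo_mod_pso (hQ : ∀ x, (∀ y, polar Q x y = 0) → x = 0) (h2 : (2 : F) ≠ 0)
    (hk : Fintype.card ι = 2 * k) (hns : ∃ S : SemiSim Q, S.σ = 1 ∧ sqProj F S.c ≠ 1) :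
    ∃ φ : ↥(Cfsg.pgoAut F (⇑Q)) →* Multiplicative (ZMod 2 × ZMod 2), Function.Surjective φ ∧
      φ.ker = (Cfsg.psoAut F (⇑Q)).subgroupOf (Cfsg.pgoAut F (⇑Q)) := by
  obtain ⟨ψ, hψ, hk'⟩ := exists_pgo_hom hQ h2 hk (one_le_half K hk) hns
  rw [pgoAut_eq, ← map_soScal K]
  exact exists_map_hom (autC Q) _ _ ((autC_ker_le_innerSub K).trans innerSub_le_soScal) ψ hψ hk'

include hQ h2 hk K in
theorem relIndex_innerSub_soScal :
    (spin hQ h2 (negI Q) ≠ 1 → (innerSub Q).relIndex (soScal Q) = 1) ∧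
      (spin hQ h2 (negI Q) = 1 → (innerSub Q).relIndex (soScal Q) = 2) := by
  refine ⟨fun h => Subgroup.relIndex_eq_one.2 (soScal_le_innerSub hQ h2 hk K h), fun h => ?_⟩
  obtain ⟨a, ha⟩ := exists_not_square h2
  obtain ⟨g₀, hg₀⟩ := exists_so_spin hQ h2 hk (one_le_half K hk) (sqClass ha.1)
  have hn : sqClass ha.1 ≠ 1 := by rw [Ne, sqClass_eq_one_iff]; exact ha.2
  rw [Subgroup.relIndex, Subgroup.index_eq_two_iff]
  refine ⟨⟨isomHom g₀, Subgroup.mem_sup_right (mem_soSub.2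
    ⟨g₀, (spin_fst_eq_one_iff hQ h2 g₀).1 (by rw [hg₀]), rfl⟩)⟩, fun b => ?_⟩
  rw [Subgroup.mem_subgroupOf, Subgroup.mem_subgroupOf]
  have := innerSub_normal K
  obtain ⟨x, hx, y, hy, hb⟩ := Subgroup.mem_sup_of_normal_left.1
    (show b.1 ∈ innerSub Q ⊔ soSub Q from
      sup_le_sup_right (show (scalar (Q := Q)).range ≤ innerSub Q from le_sup_left) _ b.2)
  obtain ⟨g, hg, rfl⟩ := mem_soSub.1 hy
  rw [Subgroup.coe_mul, ← hb, mul_assoc, Subgroup.mul_mem_cancel_left _ hx, Subgroup.mul_mem_cancel_left _ hx,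
    ← map_mul, isom_mem_innerSub_iff hQ h2 K, isom_mem_innerSub_iff hQ h2 K, h, or_self, or_self, map_mul, hg₀]
  have hf := (spin_fst_eq_one_iff hQ h2 g).2 hg
  rcases eq_or_ne (spin hQ h2 g).2 1 with hs | hs
  · refine Or.inr ⟨Prod.ext hf hs, fun e => hn ?_⟩
    rw [Prod.ext_iff] at e
    simpa [hs] using e.2
  · refine Or.inl ⟨Prod.ext (by simp [hf]) ?_, fun e => hs (by rw [e]; rfl)⟩
    rw [Prod.snd_mul, sqClass_two _ _ hs hn]
    exact sqClass_mul_self _

include hQ h2 hk K in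
theorem relIndex_pso :
    (spin hQ h2 (negI Q) ≠ 1 → (Cfsg.Inn (Cfsg.POmega F (⇑Q))).relIndex (Cfsg.psoAut F (⇑Q)) = 1) ∧
      (spin hQ h2 (negI Q) = 1 → (Cfsg.Inn (Cfsg.POmega F (⇑Q))).relIndex (Cfsg.psoAut F (⇑Q)) = 2) := by
  have h := relIndex_innerSub_soScal hQ h2 hk K
  rw [← map_innerSub K, ← map_soScal K, Subgroup.relIndex_map_map,
    sup_eq_left.2 (autC_ker_le_innerSub K),
    sup_eq_left.2 ((autC_ker_le_innerSub K).trans innerSub_le_soScal)]
  exact h

set_option maxHeartbeats 1000000 in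
include hQ h2 hk K in
theorem pgo_mod_inn (hns : ∃ S : SemiSim Q, S.σ = 1 ∧ sqProj F S.c ≠ 1) :
    (spin hQ h2 (negI Q) ≠ 1 → ∃ φ : ↥(Cfsg.pgoAut F (⇑Q)) →* Multiplicative (ZMod 2 × ZMod 2),
      Function.Surjective φ ∧
        φ.ker = (Cfsg.Inn (Cfsg.POmega F (⇑Q))).subgroupOf (Cfsg.pgoAut F (⇑Q))) ∧
    (spin hQ h2 (negI Q) = 1 → ∃ φ : ↥(Cfsg.pgoAut F (⇑Q)) →* DihedralGroup 4,
      Function.Surjective φ ∧
        φ.ker = (Cfsg.Inn (Cfsg.POmega F (⇑Q))).subgroupOf (Cfsg.pgoAut F (⇑Q))) := by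
  obtain ⟨ψ, hψ, hψk⟩ := exists_pgo_hom hQ h2 hk (one_le_half K hk) hns
  rw [pgoAut_eq, ← map_innerSub K]
  constructor
  · intro h
    rw [le_antisymm (innerSub_le_soScal (Q := Q)) (soScal_le_innerSub hQ h2 hk K h)]
    exact exists_map_hom (autC Q) _ _ ((autC_ker_le_innerSub K).trans innerSub_le_soScal) ψ hψ hψk
  · intro h
    have := innerSub_normal K
    obtain ⟨S, hSσ, hSc⟩ := hns
    obtain ⟨G, hG⟩ : ∃ G, G = (σHom (Q := Q)).ker := ⟨_, rfl⟩
    have hle : soScal Q ≤ G := hG ▸ soScal_le_kerσ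
    obtain ⟨N, hN⟩ : ∃ N, N = (innerSub Q).subgroupOf G := ⟨_, rfl⟩
    have hNn : N.Normal := hN ▸ inferInstance
    have hψc : (soScal Q).relIndex G = 4 := by
      rw [hG, Subgroup.relIndex, ← hψk, Subgroup.index_ker, MonoidHom.range_eq_top.2 hψ, Subgroup.card_top]
      simp
    rw [← hG]
    have hc : Nat.card (G ⧸ N) = 8 := by
      rw [← Subgroup.index_eq_card, hN]
      show (innerSub Q).relIndex G = 8
      rw [← Subgroup.relIndex_mul_relIndex _ _ _ innerSub_le_soScal hle,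
        (relIndex_innerSub_soScal hQ h2 hk K).2 h, hψc]
    have hk1 := one_le_half K hk
    have hfr : 2 ≤ Module.finrank F (ι → F) := by rw [Module.finrank_fintype_fun_eq_card]; omega
    obtain ⟨v, hv⟩ := exists_value Q h2 hQ hfr (1 : F) one_ne_zero
    have hv0 : Q v ≠ 0 := by rw [hv]; exact one_ne_zero
    obtain ⟨r, hr⟩ : ∃ r : quadIsoms Q, r = ⟨reflEquiv Q v hv0, reflEquiv_mem Q v hv0⟩ := ⟨_, rfl⟩
    obtain ⟨R, hR⟩ : ∃ R : G, R.1 = isomHom r := ⟨⟨isomHom r, hG ▸ rfl⟩, rfl⟩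
    obtain ⟨T, hT⟩ : ∃ T : G, T.1 = S := ⟨⟨S, hG ▸ hSσ⟩, rfl⟩
    have hRR : R * R = 1 := by
      refine Subtype.ext ?_
      rw [Subgroup.coe_mul, Subgroup.coe_one, hR, ← map_mul, hr, ← map_one (isomHom (Q := Q))]
      exact congrArg _ (Subtype.ext (reflEquiv_mul_self Q v hv0))
    have hmem : T * R * T⁻¹ * R ∉ N := by
      rw [hN, Subgroup.mem_subgroupOf, Subgroup.coe_mul, Subgroup.coe_mul, Subgroup.coe_mul, Subgroup.coe_inv,
        hR, hT, hr]
      intro hmem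
      have hv' : Q (S.map v) ≠ 0 := by rw [S.map_quad, hSσ, hv]; simp
      rw [isom_conj_refl S hv0 hv', ← map_mul, isom_mem_innerSub_iff hQ h2 K, h, or_self, map_mul,
        spin_refl, spin_refl, Prod.ext_iff] at hmem
      refine hSc ?_
      have h' := hmem.2
      rw [Prod.snd_mul, Prod.snd_one, ← sqClass_mul hv' hv0, sqClass_eq_one_iff, S.map_quad, hSσ, hv] at h'
      rw [show S.c = Units.mk0 (S.c : F) S.c.ne_zero from Units.ext rfl]
      exact (sqClass_eq_one_iff S.c.ne_zero).2 (by simpa using h')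
    have hne : QuotientGroup.mk' N T * QuotientGroup.mk' N R ≠ QuotientGroup.mk' N R * QuotientGroup.mk' N T := by
      intro e
      refine hmem ((QuotientGroup.eq_one_iff _).1 ?_)
      show QuotientGroup.mk' N (T * R * T⁻¹ * R) = 1
      rw [map_mul, map_mul, map_mul, map_inv, e, mul_inv_cancel_right, ← map_mul, hRR, map_one]
    obtain ⟨e⟩ := nonempty_equiv_dihedral_four hc
      (s := QuotientGroup.mk' N R) (by rw [← map_mul, hRR, map_one]) ⟨QuotientGroup.mk' N T, hne⟩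
    obtain ⟨π, hπs, hπk⟩ : ∃ π : G →* DihedralGroup 4, Function.Surjective π ∧ π.ker = N :=
      ⟨e.toMonoidHom.comp (QuotientGroup.mk' N), e.surjective.comp (QuotientGroup.mk'_surjective N),
        (MonoidHom.ker_comp_of_injective _ e.toMonoidHom e.injective).trans (QuotientGroup.ker_mk' N)⟩
    exact exists_map_hom (autC Q) G (innerSub Q) (autC_ker_le_innerSub K) π hπs (hπk.trans hN)

include hQ h2 hk K in
theorem diag_mod_inn {τ : SemiSim Q} (hτ : τ ∈ diagSub Q k) (hτc : sqProj F τ.c ≠ 1)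
    {w : quadIsoms Q} (hw : τ * τ = scalar τ.c * isomHom w) :
    (spin hQ h2 (negI Q) ≠ 1 → ∃ φ : ↥((diagSub Q k).map (autC Q)) →* Multiplicative (ZMod 2),
      Function.Surjective φ ∧
        φ.ker = (Cfsg.Inn (Cfsg.POmega F (⇑Q))).subgroupOf ((diagSub Q k).map (autC Q))) ∧
    (spin hQ h2 (negI Q) = 1 → spin hQ h2 w ≠ 1 →
      ∃ φ : ↥((diagSub Q k).map (autC Q)) →* Multiplicative (ZMod 4),
      Function.Surjective φ ∧
        φ.ker = (Cfsg.Inn (Cfsg.POmega F (⇑Q))).subgroupOf ((diagSub Q k).map (autC Q))) ∧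
    (spin hQ h2 (negI Q) = 1 → spin hQ h2 w = 1 →
      ∃ φ : ↥((diagSub Q k).map (autC Q)) →* Multiplicative (ZMod 2 × ZMod 2),
      Function.Surjective φ ∧
        φ.ker = (Cfsg.Inn (Cfsg.POmega F (⇑Q))).subgroupOf ((diagSub Q k).map (autC Q))) := by
  obtain ⟨ε, hε⟩ := exists_sign (card_sqClass_odd h2) (((sqProj F).comp (multHom Q)).comp
    (Subgroup.inclusion (show diagSub Q k ≤ (σHom (Q := Q)).ker from fun S hS => (mem_diagSub.1 hS).1)))
  have hεk : ε.ker = (soScal Q).subgroupOf (diagSub Q k) := by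
    ext S
    rw [MonoidHom.mem_ker, hε, Subgroup.mem_subgroupOf, mem_soScal hk]
    exact ⟨fun h => ⟨S.2, h⟩, fun h => h.2⟩
  have hεt : ε ⟨τ, hτ⟩ = Multiplicative.ofAdd 1 :=
    (eq_one_or_ofAdd_one _).resolve_left fun h => hτc ((hε _).1 h)
  have hεs : Function.Surjective ε := fun a => by
    rcases eq_one_or_ofAdd_one a with rfl | rfl
    · exact ⟨1, map_one _⟩
    · exact ⟨_, hεt⟩
  have hmap := (map_innerSub K).symm
  refine ⟨fun h => ?_, ?_⟩
  · rw [hmap, le_antisymm (innerSub_le_soScal (Q := Q)) (soScal_le_innerSub hQ h2 hk K h)]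
    exact exists_map_hom (autC Q) _ _ ((autC_ker_le_innerSub K).trans innerSub_le_soScal) ε hεs hεk
  have := innerSub_normal K
  obtain ⟨N, hN⟩ : ∃ N, N = (innerSub Q).subgroupOf (diagSub Q k) := ⟨_, rfl⟩
  have hNn : N.Normal := hN ▸ inferInstance
  have hcard : spin hQ h2 (negI Q) = 1 → Nat.card (diagSub Q k ⧸ N) = 4 := fun h => by
    rw [← Subgroup.index_eq_card, hN]
    show (innerSub Q).relIndex (diagSub Q k) = 4
    rw [← Subgroup.relIndex_mul_relIndex _ _ _ innerSub_le_soScal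
      (fun S hS => ((mem_soScal hk).1 hS).1), (relIndex_innerSub_soScal hQ h2 hk K).2 h, Subgroup.relIndex,
      ← hεk, Subgroup.index_ker, MonoidHom.range_eq_top.2 hεs, Subgroup.card_top]
    simp
  have hfin : ∀ (A : Type) [Group A], (diagSub Q k ⧸ N ≃* A) →
      ∃ φ : ↥((diagSub Q k).map (autC Q)) →* A, Function.Surjective φ ∧
        φ.ker = (Cfsg.Inn (Cfsg.POmega F (⇑Q))).subgroupOf ((diagSub Q k).map (autC Q)) := by
    intro A _ e
    rw [hmap]
    refine exists_map_hom (autC Q) _ _ (autC_ker_le_innerSub K) (e.toMonoidHom.comp (QuotientGroup.mk' N))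
      (e.surjective.comp (QuotientGroup.mk'_surjective _)) ?_
    rw [MonoidHom.ker_comp_of_injective _ e.toMonoidHom e.injective, QuotientGroup.ker_mk', hN]
  have ht2 : ((⟨τ, hτ⟩ : diagSub Q k) * ⟨τ, hτ⟩ ∈ N) ↔
      spin hQ h2 w = 1 ∨ spin hQ h2 w = spin hQ h2 (negI Q) := by
    rw [hN, Subgroup.mem_subgroupOf]
    show τ * τ ∈ innerSub Q ↔ _
    rw [hw, Subgroup.mul_mem_cancel_left _ (show scalar τ.c ∈ innerSub Q from Subgroup.mem_sup_left ⟨_, rfl⟩),
      isom_mem_innerSub_iff hQ h2 K]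
  constructor
  · intro h hsw
    have hc := hcard h
    have : Finite (diagSub Q k ⧸ N) := Nat.finite_of_card_ne_zero (by omega)
    have ho : orderOf (QuotientGroup.mk' N ⟨τ, hτ⟩) = 2 ^ (1 + 1) := by
      refine orderOf_eq_prime_pow ?_ ?_
      · rw [pow_one, sq, ← map_mul, QuotientGroup.mk'_apply, QuotientGroup.eq_one_iff, ht2, h, or_self]
        exact hsw
      · rw [show 2 ^ (1 + 1) = Nat.card (diagSub Q k ⧸ N) by rw [hc]; norm_num]
        exact pow_card_eq_one'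
    have : IsCyclic (diagSub Q k ⧸ N) := isCyclic_of_orderOf_eq_card _ (ho.trans (by rw [hc]; norm_num))
    exact hfin _ (mulEquivOfCyclicCardEq (by rw [hc]; simp))
  · intro h hsw
    have hc := hcard h
    have : Finite (diagSub Q k ⧸ N) := Nat.finite_of_card_ne_zero (by omega)
    have : Fact (Nat.Prime 2) := ⟨Nat.prime_two⟩
    have hcomm : ∀ x y : diagSub Q k ⧸ N, x * y = y * x :=
      (IsPGroup.commGroupOfCardEqPrimeSq (p := 2) (G := diagSub Q k ⧸ N) (by rw [hc]; norm_num)).mul_comm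
    have hsq : ∀ x : diagSub Q k, QuotientGroup.mk' N x * QuotientGroup.mk' N x = 1 := by
      have hso : ∀ x : diagSub Q k, x.1 ∈ soScal Q → x * x ∈ N := by
        intro x hx
        rw [hN, Subgroup.mem_subgroupOf, Subgroup.coe_mul]
        obtain ⟨y, hy, z, hz, hxyz⟩ := Subgroup.mem_sup_of_normal_left.1
          (show x.1 ∈ innerSub Q ⊔ soSub Q from
            sup_le_sup_right (show (scalar (Q := Q)).range ≤ innerSub Q from le_sup_left) _ hx)
        obtain ⟨g, -, rfl⟩ := mem_soSub.1 hz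
        have hg2 : isomHom g * isomHom g ∈ innerSub Q := by
          rw [← map_mul, isom_mem_innerSub_iff hQ h2 K]
          left
          rw [map_mul]
          refine Prod.ext ?_ (sqClass_mul_self _)
          rcases eq_one_or_ofAdd_one (spin hQ h2 g).1 with e | e <;> rw [Prod.fst_mul, e] <;> rfl
        rw [← hxyz, show y * isomHom g * (y * isomHom g) =
          y * (isomHom g * y * (isomHom g)⁻¹) * (isomHom g * isomHom g) by group]
        exact (innerSub Q).mul_mem ((innerSub Q).mul_mem hy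
          ((innerSub_normal K).conj_mem y hy _)) hg2
      intro x
      by_cases hx : x.1 ∈ soScal Q
      · rw [← map_mul, QuotientGroup.mk'_apply, QuotientGroup.eq_one_iff]
        exact hso x hx
      · obtain ⟨y, rfl⟩ : ∃ y, x = (⟨τ, hτ⟩ : diagSub Q k) * y := ⟨(⟨τ, hτ⟩ : diagSub Q k)⁻¹ * x, (mul_inv_cancel_left (⟨τ, hτ⟩ : diagSub Q k) x).symm⟩
        have hy : y.1 ∈ soScal Q := by
          rw [← Subgroup.mem_subgroupOf, ← hεk, MonoidHom.mem_ker]
          rw [← Subgroup.mem_subgroupOf, ← hεk, MonoidHom.mem_ker, map_mul, hεt] at hx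
          rcases eq_one_or_ofAdd_one (ε y) with e | e
          · exact e
          · exact absurd (by rw [e, ofAdd_one_mul_self]) hx
        rw [map_mul, sq_mul_of_comm hcomm, ← map_mul, ← map_mul,
          show QuotientGroup.mk' N (⟨τ, hτ⟩ * ⟨τ, hτ⟩) = 1 from (QuotientGroup.eq_one_iff _).2
            (ht2.2 (Or.inl hsw)),
          show QuotientGroup.mk' N (y * y) = 1 from (QuotientGroup.eq_one_iff _).2 (hso y hy), one_mul]
    have hexp : ∀ g : diagSub Q k ⧸ N, g ^ 2 = 1 := fun g => by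
      obtain ⟨x, rfl⟩ := QuotientGroup.mk'_surjective N g
      rw [sq]
      exact hsq x
    have : Nontrivial (diagSub Q k ⧸ N) := Finite.one_lt_card_iff_nontrivial.1 (by omega)
    have : IsKleinFour (diagSub Q k ⧸ N) :=
      ⟨hc, ((Nat.dvd_prime Nat.prime_two).1 (Monoid.exponent_dvd_of_forall_pow_eq_one hexp)).resolve_left
        fun e => by
          obtain ⟨g, hg⟩ := exists_ne (1 : diagSub Q k ⧸ N)
          exact hg (by simpa [e] using Monoid.pow_exponent_eq_one g)⟩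
    exact hfin _ (IsKleinFour.nonempty_mulEquiv (G₁ := diagSub Q k ⧸ N)
      (G₂ := Multiplicative (ZMod 2 × ZMod 2))).some

end SemiSim

end CfsgLib.Classical
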