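import Mathlib
import Cfsg.Agent.Lib.Classical.OrthDiagQuot
import Cfsg.Agent.Lib.Classical.OrthAutFrames

/-!
Diagonal similitudes of the plus and minus forms and the spinor norm of their squares.
-/

set_option autoImplicit false
set_option linter.unusedSectionVars false

namespace CfsgLib.Classical

open CfsgLib.Geom
open Matrix
open QuadraticMap (polar)

variable {F : Type*} [Field F] [Finite F]

section Torus

variable {ι : Type} [Fintype ι] [DecidableEq ι] {Q : QuadraticForm F (ι → F)} {m : ℕ}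

/-- The dilation of a frame by a scalar is a product of reflections. -/
theorem OFrame.exists_dilation (K : OFrame Q m) (h2 : (2 : F) ≠ 0) (t : Fˣ) :
    ∃ g : quadIsoms Q, spin K.sep h2 g = (1, sqProj F t ^ m) ∧ (∀ i, g.1 (K.e i) = (t : F) • K.e i) ∧
      (∀ i, g.1 (K.f i) = (t : F)⁻¹ • K.f i) ∧
      ∀ w, (∀ i, polar Q (K.e i) w = 0) → (∀ i, polar Q (K.f i) w = 0) → g.1 w = w := by
  classical
  have key : ∀ s : Finset (Fin m), ∃ g : quadIsoms Q, spin K.sep h2 g = (1, sqProj F t ^ s.card) ∧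
      (∀ i, g.1 (K.e i) = if i ∈ s then (t : F) • K.e i else K.e i) ∧
      (∀ i, g.1 (K.f i) = if i ∈ s then (t : F)⁻¹ • K.f i else K.f i) ∧
      ∀ w, (∀ i, polar Q (K.e i) w = 0) → (∀ i, polar Q (K.f i) w = 0) → g.1 w = w := by
    intro s
    induction s using Finset.induction_on with
    | empty => exact ⟨1, by rw [map_one, Finset.card_empty, pow_zero]; rfl, fun i => rfl, fun i => rfl,
        fun w _ _ => rfl⟩
    | @insert l s hl ih =>
      obtain ⟨g, hg, hge, hgf, hgw⟩ := ih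
      have hq : ∀ r : F, Q (K.e l + r • K.f l) = r := fun r => by
        rw [quad_map_add_smul, K.he, K.hf, K.hef, if_pos rfl]; ring
      have hq1 : Q (K.e l + K.f l) = 1 := by simpa using hq 1
      have h1 : Q (K.e l + (1 : F) • K.f l) ≠ 0 := by rw [hq]; exact one_ne_zero
      have ht : Q (K.e l + (t : F)⁻¹ • K.f l) ≠ 0 := by rw [hq]; exact inv_ne_zero t.ne_zero
      refine ⟨⟨reflEquiv Q _ ht, reflEquiv_mem Q _ ht⟩ * ⟨reflEquiv Q _ h1, reflEquiv_mem Q _ h1⟩ * g,
        ?_, fun i => ?_, fun i => ?_, fun w hwe hwf => ?_⟩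
      · rw [map_mul, map_mul, spin_refl, spin_refl, hg, Finset.card_insert_of_notMem hl, pow_succ']
        refine Prod.ext (by simp only [Prod.fst_mul]; rw [ofAdd_one_mul_self, one_mul]) ?_
        simp only [Prod.snd_mul]
        rw [← sqClass_mul ht h1]
        congr 1
        rw [show sqProj F t = sqClass t.ne_zero from congrArg (sqProj F) (Units.ext rfl)]
        refine (sqClass_eq_iff _ t.ne_zero).2 ⟨(t : F)⁻¹, inv_ne_zero t.ne_zero, ?_⟩
        rw [hq, hq, mul_one]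
        field_simp
      · show reflEquiv Q _ ht (reflEquiv Q _ h1 (g.1 (K.e i))) = _
        rw [hge]
        by_cases hil : i = l
        · subst hil
          rw [if_neg hl, if_pos (Finset.mem_insert_self _ _)]
          simp [reflEquiv_apply, hq, hq1, QuadraticMap.polar_add_left, QuadraticMap.polar_smul_left, K.hfe,
            K.hee, K.hef, K.hff, smul_add, smul_smul]
        · have hf0 : ∀ (r : F) (hr : Q (K.e l + r • K.f l) ≠ 0) (z : ι → F) (a : F), z = a • K.e i →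
              reflEquiv Q _ hr z = z := fun r hr z a hz => reflEquiv_fix Q _ hr (by
            subst hz
            simp [QuadraticMap.polar_add_left, QuadraticMap.polar_smul_left, QuadraticMap.polar_smul_right,
              K.hee, K.hfe, Ne.symm hil])
          simp only [Finset.mem_insert, hil, false_or]
          split_ifs
          · rw [hf0 _ h1 _ _ rfl, hf0 _ ht _ _ rfl]
          · rw [hf0 _ h1 _ 1 (one_smul F _).symm, hf0 _ ht _ 1 (one_smul F _).symm]
      · show reflEquiv Q _ ht (reflEquiv Q _ h1 (g.1 (K.f i))) = _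
        rw [hgf]
        by_cases hil : i = l
        · subst hil
          rw [if_neg hl, if_pos (Finset.mem_insert_self _ _)]
          simp [reflEquiv_apply, hq, hq1, QuadraticMap.polar_add_left, QuadraticMap.polar_smul_left, K.hfe,
            K.hee, K.hef, K.hff, smul_add, smul_smul]
        · have hf0 : ∀ (r : F) (hr : Q (K.e l + r • K.f l) ≠ 0) (z : ι → F) (a : F), z = a • K.f i →
              reflEquiv Q _ hr z = z := fun r hr z a hz => reflEquiv_fix Q _ hr (by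
            subst hz
            simp [QuadraticMap.polar_add_left, QuadraticMap.polar_smul_left, QuadraticMap.polar_smul_right,
              K.hef, K.hff, Ne.symm hil])
          simp only [Finset.mem_insert, hil, false_or]
          split_ifs
          · rw [hf0 _ h1 _ _ rfl, hf0 _ ht _ _ rfl]
          · rw [hf0 _ h1 _ 1 (one_smul F _).symm, hf0 _ ht _ 1 (one_smul F _).symm]
      · show reflEquiv Q _ ht (reflEquiv Q _ h1 (g.1 w)) = w
        rw [hgw w hwe hwf, reflEquiv_fix Q _ h1 ?_, reflEquiv_fix Q _ ht ?_] <;>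
          simp [QuadraticMap.polar_add_left, QuadraticMap.polar_smul_left, hwe, hwf]
  obtain ⟨g, h1, h2', h3, h4⟩ := key Finset.univ
  exact ⟨g, by simpa using h1, fun i => by simpa using h2' i, fun i => by simpa using h3 i, h4⟩

/-- A similitude from a matrix. -/
noncomputable def simOfMatrix (Q : QuadraticForm F (ι → F)) (M : GL ι F) (c : Fˣ)
    (h : ∀ v, Q ((M : Matrix ι ι F) *ᵥ v) = (c : F) * Q v) : SemiSim Q :=
  SemiSim.ofPair (g := M) (σ := RingEquiv.refl F)
    (show Cfsg.IsSemisimilarityPair (⇑Q) M (RingEquiv.refl F) from ⟨c, h⟩)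

theorem simOfMatrix_c (M : GL ι F) (c : Fˣ) (h : ∀ v, Q ((M : Matrix ι ι F) *ᵥ v) = (c : F) * Q v)
    (hne : ∃ v, Q v ≠ 0) : (simOfMatrix Q M c h).c = c := by
  obtain ⟨v, hv⟩ := hne
  refine Units.ext (mul_right_cancel₀ hv ?_)
  rw [← h v]
  exact ((simOfMatrix Q M c h).map_quad v).symm

theorem simOfMatrix_map (M : GL ι F) (c : Fˣ) (h : ∀ v, Q ((M : Matrix ι ι F) *ᵥ v) = (c : F) * Q v)
    (v : ι → F) : (simOfMatrix Q M c h).map v = (M : Matrix ι ι F) *ᵥ v := rfl

theorem simOfMatrix_sdet (M : GL ι F) (c : Fˣ) (h : ∀ v, Q ((M : Matrix ι ι F) *ᵥ v) = (c : F) * Q v) :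
    (simOfMatrix Q M c h).sdet = (M : Matrix ι ι F).det := by
  rw [SemiSim.sdet, simOfMatrix, SemiSim.ofPair_gl]

theorem SemiSim.ext_basis {S T : SemiSim Q} (hS : S.σ = 1) (hT : T.σ = 1) (hc : S.c = T.c)
    (h : ∀ i, S.map (Pi.single i 1) = T.map (Pi.single i 1)) : S = T := by
  refine SemiSim.ext' (fun v => ?_) (hS.trans hT.symm) hc
  rw [pi_eq_sum_univ' v, map_sum, map_sum]
  refine Finset.sum_congr rfl fun i _ => ?_
  rw [S.map_smul, T.map_smul, hS, hT, h]

end Torus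

theorem spin_negI_plus [Fintype F] (h2 : (2 : F) ≠ 0) (m : ℕ) :
    spin (qfPlus_sep m) h2 (negI (qfPlus m F)) = 1 ↔ Fintype.card F ^ m % 4 = 1 := by
  rw [spin_negI_eq_one_iff, neg_one_mem_omega_iff (qfPlus m F)
    (by rw [qfPlus_eq_plusForm]; exact plusForm_nondeg _) h2 (by simp), qfPlus_eq_plusForm, plusForm_disc,
    isSquare_neg_one_pow_iff h2]

theorem spin_negI_minus [Fintype F] (h2 : (2 : F) ≠ 0) (m : ℕ) {a b : F}
    (hab : ∀ z₁ z₂ : F, z₁ ^ 2 + a * z₁ * z₂ + b * z₂ ^ 2 = 0 → z₁ = 0 ∧ z₂ = 0) :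
    spin (qfMinus_sep m hab) h2 (negI (qfMinus m F a b)) = 1 ↔ Fintype.card F ^ (m + 1) % 4 = 3 := by
  have hodd : Fintype.card F % 2 = 1 := FiniteField.odd_card_of_char_ne_two (ringChar_ne_two_of_ne h2)
  have hoddm : Fintype.card F ^ (m + 1) % 2 = 1 := Nat.odd_iff.1 (Nat.odd_iff.2 hodd).pow
  rw [spin_negI_eq_one_iff, neg_one_mem_omega_iff (qfMinus m F a b)
    (by rw [qfMinus_eq_minusForm]; exact minusForm_nondeg h2 m a b hab) h2 (by simp [parity_simps]),
    qfMinus_eq_minusForm, minusForm_disc,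
    show (-1 : F) ^ m * (4 * b - a * a) = (-1) ^ (m + 1) * (a * a - 4 * b) by ring]
  have hns := not_isSquare_disc h2 a b hab
  have hs := isSquare_neg_one_pow_iff (F := F) h2 (m + 1)
  constructor
  · intro hsq
    by_contra hne
    obtain ⟨c, hc⟩ := hs.2 (by omega)
    obtain ⟨e, he⟩ := hsq
    have hc0 : c ≠ 0 := fun h0 => by
      rw [h0, mul_zero] at hc
      exact pow_ne_zero _ (neg_ne_zero.2 one_ne_zero) hc
    exact hns ⟨e / c, by field_simp; linear_combination he - (a * a - 4 * b) * hc⟩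
  · intro h3
    exact isSquare_mul_of_not _ _ (fun hs' => by have := hs.1 hs'; omega) hns

theorem exists_tau_plus (h2 : (2 : F) ≠ 0) {m : ℕ} (hm : 3 ≤ m) (c : Fˣ) :
    ∃ τ : SemiSim (qfPlus m F), τ ∈ SemiSim.diagSub (qfPlus m F) m ∧ τ.c = c ∧
      (∀ v i, τ.map v (.inl i) = (c : F) * v (.inl i)) ∧
      ∃ w : quadIsoms (qfPlus m F), τ * τ = SemiSim.scalar τ.c * SemiSim.isomHom w ∧
        spin (qfPlus_sep m) h2 w = (1, sqProj F c ^ m) := by
  let d : Fin m ⊕ Fin m → Fˣ := Sum.elim (fun _ => c) fun _ => 1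
  obtain ⟨M, hM⟩ : ∃ M : GL (Fin m ⊕ Fin m) F,
      (M : Matrix (Fin m ⊕ Fin m) (Fin m ⊕ Fin m) F) = Matrix.diagonal fun i => (d i : F) := by
    have hd : IsUnit (Matrix.diagonal fun i => (d i : F)) :=
      Matrix.isUnit_diagonal.2 (Pi.isUnit_iff.2 fun i => (d i).isUnit)
    exact ⟨hd.unit, hd.unit_spec⟩
  have h : ∀ v, qfPlus m F ((M : Matrix _ _ F) *ᵥ v) = (c : F) * qfPlus m F v := by
    intro v
    simp [hM, qfPlus_apply, Cfsg.quadFormPlus, Matrix.mulVec_diagonal, d, Finset.mul_sum, mul_assoc]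
  obtain ⟨g, hg, hge, hgf, -⟩ := (framePlus (F := F) m hm).exists_dilation h2 c
  obtain ⟨τ, hτ⟩ : ∃ τ, τ = simOfMatrix (qfPlus m F) M c h := ⟨_, rfl⟩
  have hc : τ.c = c := by
    refine hτ ▸ simOfMatrix_c M c h ⟨Pi.single (.inl ⟨0, by omega⟩) 1 + Pi.single (.inr ⟨0, by omega⟩) 1, ?_⟩
    simp [qfPlus_apply, Cfsg.quadFormPlus, Pi.single_apply]
  refine ⟨τ, SemiSim.mem_diagSub.2 ⟨hτ ▸ rfl, ?_⟩, hc, fun v i => by
    rw [hτ, simOfMatrix_map, hM, Matrix.mulVec_diagonal]; rfl, g, ?_, hg⟩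
  · rw [hc, hτ, simOfMatrix_sdet, hM, Matrix.det_diagonal, Fintype.prod_sum_type]
    simp [d]
  · refine SemiSim.ext_basis (by rw [SemiSim.mul_σ, hτ]; rfl) (by rw [SemiSim.mul_σ]; rfl) ?_ fun i => ?_
    · refine Units.ext ?_
      rw [SemiSim.mul_c, SemiSim.mul_c, show τ.σ = 1 by rw [hτ]; rfl]
      show (τ.c : F) * τ.c = (τ.c : F) * τ.c * 1
      rw [mul_one]
    · rw [SemiSim.mul_map, SemiSim.mul_map, SemiSim.scalar_map, hc, hτ, simOfMatrix_map, simOfMatrix_map, hM,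
        Matrix.diagonal_mulVec_single, Matrix.diagonal_mulVec_single, mul_one]
      show _ = (c : F) • g.1 (Pi.single i 1)
      rcases i with i | i
      · rw [show g.1 (Pi.single (.inl i) 1) = _ from hge i]
        show _ = (c : F) • ((c : F) • Pi.single (Sum.inl i) (1 : F))
        rw [← Pi.single_smul, ← Pi.single_smul]
        simp [d]
      · rw [show g.1 (Pi.single (.inr i) 1) = _ from hgf i]
        show _ = (c : F) • ((c : F)⁻¹ • Pi.single (Sum.inr i) (1 : F))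
        rw [← Pi.single_smul, ← Pi.single_smul]
        simp [d]

/-- Two reflections in the binary part rotate it by the square of a norm `c` element divided by `c`. -/
theorem binary_rotation {m : ℕ} (a b x y : F) (c : Fˣ) (hxy : x ^ 2 + a * x * y + b * y ^ 2 = c)
    {u o : (Fin m ⊕ Fin m) ⊕ Fin 2 → F}
    (hu : u = x • (Pi.single (Sum.inr 0) 1 : (Fin m ⊕ Fin m) ⊕ Fin 2 → F) +
      y • (Pi.single (Sum.inr 1) 1 : (Fin m ⊕ Fin m) ⊕ Fin 2 → F))
    (ho : o = Pi.single (Sum.inr 0) 1) (hu0 : qfMinus m F a b u ≠ 0) (ho0 : qfMinus m F a b o ≠ 0)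
    (z : (Fin m ⊕ Fin m) ⊕ Fin 2 → F) :
    (∀ l, ((c : F) • reflEquiv _ u hu0 (reflEquiv _ o ho0 z)) (.inl l) = (c : F) * z (.inl l)) ∧
      ((c : F) • reflEquiv _ u hu0 (reflEquiv _ o ho0 z)) (.inr 0) =
        x * (x * z (.inr 0) - b * y * z (.inr 1)) - b * y * (y * z (.inr 0) + (x + a * y) * z (.inr 1)) ∧
      ((c : F) • reflEquiv _ u hu0 (reflEquiv _ o ho0 z)) (.inr 1) =
        y * (x * z (.inr 0) - b * y * z (.inr 1)) +
          (x + a * y) * (y * z (.inr 0) + (x + a * y) * z (.inr 1)) := by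
  have hQu : qfMinus m F a b u = c := by
    simp [hu, qfMinus_apply, Cfsg.quadFormMinus, ← hxy]
  have hQo : qfMinus m F a b o = 1 := by simp [ho, qfMinus_apply, Cfsg.quadFormMinus]
  obtain ⟨p, hp⟩ : ∃ p, p = reflEquiv _ o ho0 z := ⟨_, rfl⟩
  have hp0 : p (.inr 0) = -z (.inr 0) - a * z (.inr 1) := by
    rw [hp, reflEquiv_apply, hQo]
    simp [ho, polar_qfMinus]
    ring
  have hp1 : p (.inr 1) = z (.inr 1) := by
    rw [hp, reflEquiv_apply, hQo]
    simp [ho]
  have hpl : ∀ l, p (.inl l) = z (.inl l) := fun l => by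
    rw [hp, reflEquiv_apply]
    simp [ho]
  have hc0 : (c : F) ≠ 0 := c.ne_zero
  rw [← hp]
  refine ⟨fun l => ?_, ?_, ?_⟩
  · rw [Pi.smul_apply, reflEquiv_apply, Pi.sub_apply, hpl, smul_eq_mul]
    simp [hu]
  · rw [Pi.smul_apply, reflEquiv_apply, Pi.sub_apply, hQu, smul_eq_mul]
    simp [hu, polar_qfMinus, hp0, hp1]
    field_simp
    linear_combination (z (.inr 0) + a * z (.inr 1)) * hxy
  · rw [Pi.smul_apply, reflEquiv_apply, Pi.sub_apply, hQu, smul_eq_mul]
    simp [hu, polar_qfMinus, hp0, hp1]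
    field_simp
    linear_combination (-z (.inr 1)) * hxy

/-- The scaling similitude of the minus shaped form. -/
theorem exists_minusScale [Fintype F] {m : ℕ} (a b x y : F) (c : Fˣ) (hxy : x ^ 2 + a * x * y + b * y ^ 2 = c) :
    ∃ τ : SemiSim (qfMinus m F a b), τ ∈ SemiSim.diagSub (qfMinus m F a b) (m + 1) ∧ τ.c = c ∧
      (∀ v i, τ.map v (.inl (.inl i)) = (c : F) * v (.inl (.inl i))) ∧
      (∀ v i, τ.map v (.inl (.inr i)) = v (.inl (.inr i))) ∧
      (∀ v, τ.map v (.inr 0) = x * v (.inr 0) - b * y * v (.inr 1)) ∧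
      ∀ v, τ.map v (.inr 1) = y * v (.inr 0) + (x + a * y) * v (.inr 1) := by
  let d : Fin m ⊕ Fin m → Fˣ := Sum.elim (fun _ => c) fun _ => 1
  let N : Matrix ((Fin m ⊕ Fin m) ⊕ Fin 2) ((Fin m ⊕ Fin m) ⊕ Fin 2) F :=
    Matrix.fromBlocks (Matrix.diagonal fun i => (d i : F)) 0 0 !![x, -(b * y); y, x + a * y]
  have hdet : N.det = (c : F) ^ (m + 1) := by
    rw [Matrix.det_fromBlocks_zero₂₁, Matrix.det_diagonal, Matrix.det_fin_two, Fintype.prod_sum_type, pow_succ]
    simp [d]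
    linear_combination hxy
  obtain ⟨M, hM⟩ : ∃ M : GL ((Fin m ⊕ Fin m) ⊕ Fin 2) F, (M : Matrix _ _ F) = N := by
    have hN : IsUnit N := (Matrix.isUnit_iff_isUnit_det _).2 (hdet ▸ (c.isUnit.pow _))
    exact ⟨hN.unit, hN.unit_spec⟩
  have hl : ∀ v l, (N *ᵥ v) (.inl l) = (d l : F) * v (.inl l) := fun v l => by
    simp [N, Matrix.fromBlocks_mulVec, Matrix.mulVec_diagonal, Function.comp_def]
  have hr0 : ∀ v, (N *ᵥ v) (.inr 0) = x * v (.inr 0) - b * y * v (.inr 1) := fun v => by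
    simp [N, Matrix.mulVec, dotProduct, Fin.sum_univ_two]
    ring
  have hr1 : ∀ v, (N *ᵥ v) (.inr 1) = y * v (.inr 0) + (x + a * y) * v (.inr 1) := fun v => by
    simp [N, Matrix.mulVec, dotProduct, Fin.sum_univ_two]
  have h : ∀ v, qfMinus m F a b ((M : Matrix _ _ F) *ᵥ v) = (c : F) * qfMinus m F a b v := by
    intro v
    simp only [hM, qfMinus_apply, Cfsg.quadFormMinus, hl, hr0, hr1, d, Sum.elim_inl, Sum.elim_inr,
      Units.val_one, one_mul, mul_add, Finset.mul_sum]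
    have := binary_norm_mul a b x y (v (.inr 0)) (v (.inr 1))
    rw [hxy] at this
    simp only [← mul_assoc] at this ⊢
    linear_combination this
  obtain ⟨τ, hτ⟩ : ∃ τ, τ = simOfMatrix (qfMinus m F a b) M c h := ⟨_, rfl⟩
  have hc : τ.c = c := hτ ▸ simOfMatrix_c M c h ⟨Pi.single (.inr 0) 1, by
    simp [qfMinus_apply, Cfsg.quadFormMinus]⟩
  refine ⟨τ, SemiSim.mem_diagSub.2 ⟨hτ ▸ rfl, ?_⟩, hc, fun v i => ?_, fun v i => ?_, fun v => ?_, fun v => ?_⟩
  · rw [hc, hτ, simOfMatrix_sdet, hM, hdet]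
  · rw [hτ, simOfMatrix_map, hM, hl]
    rfl
  · rw [hτ, simOfMatrix_map, hM, hl]
    exact one_mul _
  · rw [hτ, simOfMatrix_map, hM, hr0]
  · rw [hτ, simOfMatrix_map, hM, hr1]

theorem exists_tau_minus [Fintype F] (h2 : (2 : F) ≠ 0) {m : ℕ} (hm : 3 ≤ m) {a b : F}
    (hab : ∀ z₁ z₂ : F, z₁ ^ 2 + a * z₁ * z₂ + b * z₂ ^ 2 = 0 → z₁ = 0 ∧ z₂ = 0) (c : Fˣ) :
    ∃ τ : SemiSim (qfMinus m F a b), τ ∈ SemiSim.diagSub (qfMinus m F a b) (m + 1) ∧ τ.c = c ∧
      ∃ w : quadIsoms (qfMinus m F a b), τ * τ = SemiSim.scalar τ.c * SemiSim.isomHom w ∧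
        spin (qfMinus_sep m hab) h2 w = (1, sqProj F c ^ (m + 1)) := by
  obtain ⟨x, y, hxy⟩ := exists_binary_value hab (c : F)
  obtain ⟨τ, hτd, hc, hl0, hl1, hr0, hr1⟩ := exists_minusScale (m := m) a b x y c hxy
  have hσ : τ.σ = 1 := (SemiSim.mem_diagSub.1 hτd).1
  let d : Fin m ⊕ Fin m → Fˣ := Sum.elim (fun _ => c) fun _ => 1
  have hl : ∀ v l, τ.map v (.inl l) = (d l : F) * v (.inl l) := fun v l => by
    rcases l with l | l
    · exact hl0 v l
    · exact (hl1 v l).trans (one_mul _).symm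
  obtain ⟨g, hg, hge, hgf, hgw⟩ := (frameMinus (F := F) m hm hab).exists_dilation h2 c
  obtain ⟨u, hu⟩ : ∃ u : (Fin m ⊕ Fin m) ⊕ Fin 2 → F,
      u = x • (Pi.single (Sum.inr 0) 1 : (Fin m ⊕ Fin m) ⊕ Fin 2 → F) +
        y • (Pi.single (Sum.inr 1) 1 : (Fin m ⊕ Fin m) ⊕ Fin 2 → F) :=
    ⟨_, rfl⟩
  obtain ⟨o, ho⟩ : ∃ o : (Fin m ⊕ Fin m) ⊕ Fin 2 → F, o = Pi.single (.inr 0) 1 := ⟨_, rfl⟩
  have hQu : qfMinus m F a b u = c := by
    simp [hu, qfMinus_apply, Cfsg.quadFormMinus, ← hxy]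
  have hQo : qfMinus m F a b o = 1 := by simp [ho, qfMinus_apply, Cfsg.quadFormMinus]
  have hu0 : qfMinus m F a b u ≠ 0 := by rw [hQu]; exact c.ne_zero
  have ho0 : qfMinus m F a b o ≠ 0 := by rw [hQo]; exact one_ne_zero
  refine ⟨τ, hτd, hc,
    ⟨reflEquiv _ u hu0, reflEquiv_mem _ u hu0⟩ * ⟨reflEquiv _ o ho0, reflEquiv_mem _ o ho0⟩ * g, ?_, ?_⟩
  · refine SemiSim.ext_basis (by rw [SemiSim.mul_σ, hσ]; rfl) (by rw [SemiSim.mul_σ]; rfl) ?_ fun i => ?_
    · refine Units.ext ?_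
      rw [SemiSim.mul_c, SemiSim.mul_c, hσ]
      show (τ.c : F) * τ.c = (τ.c : F) * τ.c * 1
      rw [mul_one]
    · rw [SemiSim.mul_map, SemiSim.mul_map, SemiSim.scalar_map, hc]
      show _ = (c : F) • reflEquiv _ u hu0 (reflEquiv _ o ho0 (g.1 (Pi.single i 1)))
      obtain ⟨hRl, hR0, hR1⟩ := binary_rotation a b x y c hxy hu ho hu0 ho0 (g.1 (Pi.single i 1))
      funext k
      have hc0 : (c : F) ≠ 0 := c.ne_zero
      rcases k with k | k
      · rw [hl, hl, hRl]
        rcases i with (i | i) | i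
        · rw [show g.1 (Pi.single (.inl (.inl i)) 1) = _ from hge i]
          by_cases hk : k = .inl i <;> simp [d, hk, frameMinus]
        · rw [show g.1 (Pi.single (.inl (.inr i)) 1) = _ from hgf i]
          by_cases hk : k = .inr i <;> simp [d, hk, hc0, frameMinus]
        · rw [hgw _ (fun j => by simp [frameMinus, polar_qfMinus]) (fun j => by simp [frameMinus, polar_qfMinus])]
          simp
      · have hz : ∀ l : Fin 2, g.1 (Pi.single i 1) (.inr l) = (Pi.single i 1 : _ → F) (.inr l) := by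
          intro l
          rcases i with (i | i) | i
          · rw [show g.1 (Pi.single (.inl (.inl i)) 1) = _ from hge i]
            simp [frameMinus]
          · rw [show g.1 (Pi.single (.inl (.inr i)) 1) = _ from hgf i]
            simp [frameMinus]
          · rw [hgw _ (fun j => by simp [frameMinus, polar_qfMinus]) (fun j => by simp [frameMinus, polar_qfMinus])]
        fin_cases k
        · show τ.map (τ.map (Pi.single i 1)) (.inr 0) = _
          rw [hr0, hr0, hr1, ← hz, ← hz]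
          exact hR0.symm
        · show τ.map (τ.map (Pi.single i 1)) (.inr 1) = _
          rw [hr1, hr0, hr1, ← hz, ← hz]
          exact hR1.symm
  · rw [map_mul, map_mul, spin_refl, spin_refl, hg, pow_succ']
    refine Prod.ext (by simp only [Prod.fst_mul]; rw [ofAdd_one_mul_self, one_mul]) ?_
    simp only [Prod.snd_mul]
    rw [(sqClass_eq_one_iff ho0).2 (by rw [hQo]; exact IsSquare.one), mul_one]
    congr 1
    exact congrArg (sqProj F) (Units.ext hQu)

end CfsgLib.Classical
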