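import Mathlib
import Cfsg.Agent.Lib.Classical.OrthDiagTau

/-!
The plus and minus forms: numerical conditions and similitudes with non-square multiplier.
-/

set_option autoImplicit false

namespace CfsgLib.Classical

open CfsgLib.Geom

variable {F : Type*} [Field F] [Fintype F]

theorem pow_mod_four_eq_one_iff {q : ℕ} (hq : Odd q) (m : ℕ) : q ^ m % 4 = 1 ↔ ¬ (Odd m ∧ q % 4 = 3) := by
  obtain ⟨t, rfl⟩ := hq
  rw [Nat.pow_mod]
  rcases Nat.even_or_odd t with ⟨u, rfl⟩ | ⟨u, rfl⟩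
  · rw [show (2 * (u + u) + 1) % 4 = 1 by omega, one_pow]
    simp
  · rw [show (2 * (2 * u + 1) + 1) % 4 = 3 by omega]
    rcases Nat.even_or_odd m with ⟨v, rfl⟩ | ⟨v, rfl⟩
    · simp [← two_mul, pow_mul, Nat.pow_mod]
    · simp [pow_succ, pow_mul, Nat.mul_mod, Nat.pow_mod, parity_simps]

theorem pow_succ_mod_four_eq_three_iff {q : ℕ} (hq : Odd q) (m : ℕ) :
    q ^ (m + 1) % 4 = 3 ↔ Even m ∧ q % 4 = 3 := by
  have h := pow_mod_four_eq_one_iff hq (m + 1)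
  have h1 : q ^ (m + 1) % 2 = 1 := Nat.odd_iff.1 hq.pow
  rw [Nat.odd_add_one, Nat.not_odd_iff_even] at h
  constructor
  · intro h3
    by_contra hne
    rw [h.2 hne] at h3
    omega
  · intro he
    by_contra hne
    exact h.1 (by omega) he

theorem exists_nonsquare_class (h2 : (2 : F) ≠ 0) : ∃ c : Fˣ, sqProj F c ≠ 1 := by
  obtain ⟨a, ha0, ha⟩ := exists_not_square h2
  exact ⟨Units.mk0 a ha0, fun h => ha ((sqClass_eq_one_iff ha0).1 h)⟩

theorem exists_ns_plus (h2 : (2 : F) ≠ 0) {m : ℕ} (hm : 3 ≤ m) :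
    ∃ S : SemiSim (qfPlus m F), S.σ = 1 ∧ sqProj F S.c ≠ 1 := by
  obtain ⟨c, hc⟩ := exists_nonsquare_class (F := F) h2
  obtain ⟨τ, hτ, hτc, -⟩ := exists_tau_plus h2 hm c
  exact ⟨τ, (SemiSim.mem_diagSub.1 hτ).1, hτc ▸ hc⟩

theorem exists_ns_minus (h2 : (2 : F) ≠ 0) (m : ℕ) {a b : F}
    (hab : ∀ z₁ z₂ : F, z₁ ^ 2 + a * z₁ * z₂ + b * z₂ ^ 2 = 0 → z₁ = 0 ∧ z₂ = 0) :
    ∃ S : SemiSim (qfMinus m F a b), S.σ = 1 ∧ sqProj F S.c ≠ 1 := by
  obtain ⟨c, hc⟩ := exists_nonsquare_class (F := F) h2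
  obtain ⟨S, hS, hSc⟩ := exists_minus_similitude m hab c
  exact ⟨S, hS, hSc ▸ hc⟩

theorem card_plus_index (m : ℕ) : Fintype.card (Fin m ⊕ Fin m) = 2 * m := by simp; omega

theorem card_minus_index (m : ℕ) : Fintype.card ((Fin m ⊕ Fin m) ⊕ Fin 2) = 2 * (m + 1) := by simp; omega

end CfsgLib.Classical
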