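import Mathlib
import Cfsg.Agent.Lib.Classical.OrthDiagClasses
import Cfsg.Agent.Lib.Classical.OrthDiagStd

/-!
The inner-diagonal groups of the orthogonal groups as images of groups of similitudes.
-/

set_option autoImplicit false
set_option linter.unusedSectionVars false

namespace CfsgLib.Classical

universe u

open CfsgLib.Geom
open Matrix
open QuadraticMap (polar)

theorem quad_ext_pi {F : Type*} [CommRing F] {ι : Type} [Fintype ι] [DecidableEq ι]
    (Q₁ Q₂ : QuadraticForm F (ι → F)) (h1 : ∀ i, Q₁ (Pi.single i 1) = Q₂ (Pi.single i 1))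
    (h2 : ∀ i j, polar Q₁ (Pi.single i 1) (Pi.single j 1) = polar Q₂ (Pi.single i 1) (Pi.single j 1)) :
    Q₁ = Q₂ := by
  refine QuadraticMap.ext fun v => ?_
  rw [pi_eq_sum_univ' v, QuadraticMap.map_sum (Q₁ : QuadraticMap F (ι → F) F),
    QuadraticMap.map_sum (Q₂ : QuadraticMap F (ι → F) F)]
  congr 1
  · exact Finset.sum_congr rfl fun i _ => by simp only [QuadraticMap.map_smul, h1]
  · refine Finset.sum_congr rfl fun ij _ => ?_
    induction ij using Sym2.ind with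
    | _ i j =>
      simp only [Sym2.map_mk, QuadraticMap.polarSym2_sym2Mk, QuadraticMap.polar_smul_left,
        QuadraticMap.polar_smul_right, h2]

theorem exists_quad_ext {F : Type u} [Field F] (a b : F)
    (hab : ∀ z₁ z₂ : F, z₁ ^ 2 + a * z₁ * z₂ + b * z₂ ^ 2 = 0 → z₁ = 0 ∧ z₂ = 0) :
    ∃ (K : Type u) (_ : Field K) (_ : Algebra F K), Module.finrank F K = 2 := by
  open Polynomial in
  obtain ⟨p, hp⟩ : ∃ p : F[X], p = X ^ 2 + C a * X + C b := ⟨_, rfl⟩
  have hdeg : p.natDegree = 2 := by rw [hp]; compute_degree!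
  have hp0 : p ≠ 0 := fun h => by simp [h] at hdeg
  have hirr : Irreducible p := by
    refine Polynomial.irreducible_of_degree_le_three_of_not_isRoot
      (by rw [hdeg]; decide) fun x hx => ?_
    rw [hp] at hx
    simp at hx
    exact one_ne_zero (hab x 1 (by linear_combination hx)).2
  have : Fact (Irreducible p) := ⟨hirr⟩
  exact ⟨AdjoinRoot p, inferInstance, inferInstance, by
    rw [(AdjoinRoot.powerBasis hp0).finrank, AdjoinRoot.powerBasis_dim, hdeg]⟩

section Split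

variable {F : Type u} [Field F] [Finite F] {K : Type u} [Field K] [Algebra F K]

theorem two_ne_zero_ext (h2 : (2 : F) ≠ 0) : (2 : K) ≠ 0 := fun h => h2
  ((algebraMap F K).injective (by rw [map_ofNat, map_zero]; exact h))

/-- Elements of the ground field are squares in the quadratic extension. -/
theorem isSquare_algebraMap (hK : Module.finrank F K = 2) (h2 : (2 : F) ≠ 0) (d : F) :
    IsSquare (algebraMap F K d) := by
  classical
  have : Module.Finite F K := Module.finite_of_finrank_eq_succ hK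
  have : Finite K := Module.finite_of_finite F
  have : Fintype F := Fintype.ofFinite F
  have : Fintype K := Fintype.ofFinite K
  by_cases hd : d = 0
  · simp [hd]
  have hd' : algebraMap F K d ≠ 0 := (map_ne_zero _).2 hd
  have hcard : Fintype.card K = Fintype.card F ^ 2 := by
    rw [Module.card_eq_pow_finrank (K := F) (V := K), hK]
  rw [FiniteField.isSquare_iff (ringChar_ne_two_of_ne (two_ne_zero_ext h2)) hd']
  obtain ⟨t, ht⟩ := Nat.odd_iff.2 (FiniteField.odd_card_of_char_ne_two (ringChar_ne_two_of_ne h2))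
  rw [hcard, show Fintype.card F ^ 2 / 2 = (Fintype.card F - 1) * (t + 1) by
    rw [ht, Nat.add_sub_cancel]; ring_nf; omega]
  rw [pow_mul, ← map_pow, FiniteField.pow_card_sub_one_eq_one d hd, map_one, one_pow]

theorem exists_root (hK : Module.finrank F K = 2) (h2 : (2 : F) ≠ 0) (a b : F)
    (hd : a * a - 4 * b ≠ 0) :
    ∃ α : K, α ^ 2 + algebraMap F K a * α + algebraMap F K b = 0 ∧ algebraMap F K a + 2 * α ≠ 0 := by
  obtain ⟨r, hr⟩ := isSquare_algebraMap (K := K) hK h2 (a * a - 4 * b)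
  have h2' : (2 : K) ≠ 0 := two_ne_zero_ext h2
  rw [map_sub, map_mul, map_mul, map_ofNat] at hr
  refine ⟨(r - algebraMap F K a) / 2, by field_simp; linear_combination -hr, ?_⟩
  rw [mul_div_cancel₀ _ h2', add_sub_cancel]
  rintro rfl
  refine hd ((algebraMap F K).injective ?_)
  rw [map_zero, map_sub, map_mul, map_mul, map_ofNat, hr, mul_zero]

variable {L : Type u} [Field L] [Finite L]

theorem qfMinus_sep_disc {m : ℕ} {a b : L} (hd : 4 * b - a * a ≠ 0)
    (x : (Fin m ⊕ Fin m) ⊕ Fin 2 → L) (hx : ∀ y, polar (qfMinus m L a b) x y = 0) : x = 0 := by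
  have h0 := hx (Pi.single (.inr 0) 1)
  have h1 := hx (Pi.single (.inr 1) 1)
  simp [polar_qfMinus] at h0 h1
  funext i
  rcases i with (i | i) | i
  · have h := hx (Pi.single (.inl (.inr i)) 1)
    simpa [polar_qfMinus, Pi.single_apply] using h
  · have h := hx (Pi.single (.inl (.inl i)) 1)
    simpa [polar_qfMinus, Pi.single_apply] using h
  · fin_cases i
    · exact (mul_eq_zero.1 (show (4 * b - a * a) * x (.inr 0) = 0 by
        linear_combination 2 * b * h0 - a * h1)).resolve_left hd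
    · exact (mul_eq_zero.1 (show (4 * b - a * a) * x (.inr 1) = 0 by
        linear_combination 2 * h1 - a * h0)).resolve_left hd

/-- The split minus-shaped form: similitudes preserving the classes. -/
theorem preservesClasses_split_iff (h2 : (2 : L) ≠ 0) {m : ℕ} {a b α : L}
    (hα : α ^ 2 + a * α + b = 0) (hne : a + 2 * α ≠ 0)
    {g : GL ((Fin m ⊕ Fin m) ⊕ Fin 2) L}
    (h : Cfsg.IsSemisimilarityPair (⇑(qfMinus m L a b)) g (RingEquiv.refl L)) :
    Cfsg.PreservesSingularClasses (⇑(qfMinus m L a b)) (g.val : Matrix ((Fin m ⊕ Fin m) ⊕ Fin 2) ((Fin m ⊕ Fin m) ⊕ Fin 2) L) ↔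
      SemiSim.ofPair h ∈ SemiSim.diagSub (qfMinus m L a b) (m + 1) := by
  have : Fintype L := Fintype.ofFinite L
  have hd : 4 * b - a * a ≠ 0 := fun h0 => hne (by
    have : (a + 2 * α) ^ 2 = 0 := by linear_combination 4 * hα - h0
    exact pow_eq_zero_iff two_ne_zero |>.1 this)
  let U₀ : Submodule L ((Fin m ⊕ Fin m) ⊕ Fin 2 → L) :=
    { carrier := {v | (∀ i, v (.inl (.inr i)) = 0) ∧ v (.inr 0) = α * v (.inr 1)}
      add_mem' := fun {u v} hu hv => ⟨fun i => by simp [hu.1 i, hv.1 i], by simp [hu.2, hv.2, mul_add]⟩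
      zero_mem' := ⟨fun i => rfl, by simp⟩
      smul_mem' := fun r v hv => ⟨fun i => by simp [hv.1 i], by simp [hv.2]; ring⟩ }
  let e : U₀ ≃ₗ[L] (Fin m ⊕ Unit → L) :=
    { toFun := fun v k => Sum.elim (fun i => v.1 (.inl (.inl i))) (fun _ => v.1 (.inr 1)) k
      map_add' := fun u v => funext fun k => by cases k <;> rfl
      map_smul' := fun r v => funext fun k => by cases k <;> rfl
      invFun := fun f => ⟨Sum.elim (Sum.elim (fun i => f (.inl i)) fun _ => 0)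
        ![α * f (.inr ()), f (.inr ())], fun i => rfl, rfl⟩
      left_inv := fun v => Subtype.ext (funext fun k => by
        rcases k with (i | i) | i
        · rfl
        · exact (v.2.1 i).symm
        · fin_cases i
          · exact v.2.2.symm
          · rfl)
      right_inv := fun f => funext fun k => by rcases k with i | ⟨⟩ <;> rfl }
  have hU : IsMaxTS (qfMinus m L a b) (m + 1) U₀ := by
    refine ⟨by rw [e.finrank_eq]; simp, fun v hv => ?_⟩
    simp only [qfMinus_apply, Cfsg.quadFormMinus, hv.1, mul_zero, Finset.sum_const_zero, hv.2, zero_add]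
    linear_combination v (.inr 1) ^ 2 * hα
  refine preservesClasses_iff (qfMinus_sep_disc hd) h2 (card_minus_index m) hU (fun c => ?_) h
  obtain ⟨τ, hτ, hc, hl0, hl1, hr0, hr1⟩ := exists_minusScale (m := m) a b
    ((c : L) + α * ((1 - c) / (a + 2 * α))) ((1 - c) / (a + 2 * α)) c (by
      obtain ⟨y, hy⟩ : ∃ y, y = (1 - (c : L)) / (a + 2 * α) := ⟨_, rfl⟩
      rw [← hy]
      have hy' : (a + 2 * α) * y = 1 - c := by rw [hy]; field_simp
      linear_combination y ^ 2 * hα + (c : L) * hy')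
  refine ⟨τ, hτ, hc, fun u hu => ⟨fun i => by rw [hl1]; exact hu.1 i, ?_⟩⟩
  rw [hr0, hr1, hu.2]
  linear_combination -(u (.inr 1) * ((1 - c) / (a + 2 * α))) * hα

theorem quadFormMinus_map (φ : F →+* K) (m : ℕ) (a b : F) (v : (Fin m ⊕ Fin m) ⊕ Fin 2 → F) :
    qfMinus m K (φ a) (φ b) (fun i => φ (v i)) = φ (qfMinus m F a b v) := by
  simp [qfMinus_apply, Cfsg.quadFormMinus, map_sum]

end Split

theorem semisimilarityPair_c {F : Type*} [Field F] [Finite F] {ι : Type} [Fintype ι] [DecidableEq ι]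
    {Q : QuadraticForm F (ι → F)} {g : GL ι F} (h : Cfsg.IsSemisimilarityPair (⇑Q) g (RingEquiv.refl F))
    (c : Fˣ) (hc : ∀ v, Q ((g : Matrix ι ι F) *ᵥ v) = (c : F) * Q v) (hne : ∃ v, Q v ≠ 0) :
    (SemiSim.ofPair h).c = c := by
  obtain ⟨v, hv⟩ := hne
  refine Units.ext (mul_right_cancel₀ hv ?_)
  rw [← hc v]
  exact ((SemiSim.ofPair h).map_quad v).symm

theorem preservesClassesMinus_iff {F : Type u} [Field F] [Fintype F] (h2 : (2 : F) ≠ 0) (m : ℕ) {a b : F}
    (hab : ∀ z₁ z₂ : F, z₁ ^ 2 + a * z₁ * z₂ + b * z₂ ^ 2 = 0 → z₁ = 0 ∧ z₂ = 0)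
    {g : GL ((Fin m ⊕ Fin m) ⊕ Fin 2) F}
    (h : Cfsg.IsSemisimilarityPair (⇑(qfMinus m F a b)) g (RingEquiv.refl F)) :
    Cfsg.PreservesSingularClassesMinus m a b (g.val : Matrix ((Fin m ⊕ Fin m) ⊕ Fin 2) ((Fin m ⊕ Fin m) ⊕ Fin 2) F) ↔
      SemiSim.ofPair h ∈ SemiSim.diagSub (qfMinus m F a b) (m + 1) := by
  have hd : a * a - 4 * b ≠ 0 := fun h0 => not_isSquare_disc h2 a b hab (by rw [h0]; exact ⟨0, by simp⟩)
  have hne : ∃ v, qfMinus m F a b v ≠ 0 := ⟨Pi.single (.inr 0) 1, by simp [qfMinus_apply, Cfsg.quadFormMinus]⟩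
  have key : ∀ (K : Type u) [Field K] [Algebra F K], Module.finrank F K = 2 →
      (Cfsg.PreservesSingularClasses (Cfsg.quadFormMinus m K (algebraMap F K a) (algebraMap F K b))
        ((g.val : Matrix ((Fin m ⊕ Fin m) ⊕ Fin 2) ((Fin m ⊕ Fin m) ⊕ Fin 2) F).map (algebraMap F K)) ↔
        SemiSim.ofPair h ∈ SemiSim.diagSub (qfMinus m F a b) (m + 1)) := by
    intro K _ _ hK
    have : Module.Finite F K := Module.finite_of_finrank_eq_succ hK
    have : Finite K := Module.finite_of_finite F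
    obtain ⟨α, hα, hαne⟩ := exists_root (K := K) hK h2 a b hd
    obtain ⟨c, hc⟩ := id h
    have hc' : ∀ v, qfMinus m F a b ((g.val : Matrix ((Fin m ⊕ Fin m) ⊕ Fin 2) ((Fin m ⊕ Fin m) ⊕ Fin 2) F) *ᵥ v) = (c : F) * qfMinus m F a b v := fun v => hc v
    obtain ⟨φ, hφ⟩ : ∃ φ : F →+* K, φ = algebraMap F K := ⟨_, rfl⟩
    rw [← hφ] at hα hαne ⊢
    obtain ⟨G, hG⟩ : ∃ G : GL ((Fin m ⊕ Fin m) ⊕ Fin 2) K, G = Units.map φ.mapMatrix.toMonoidHom g := ⟨_, rfl⟩
    obtain ⟨d, hd'⟩ : ∃ d : Kˣ, (d : K) = φ (c : F) :=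
      ⟨Units.map φ.toMonoidHom c, rfl⟩
    have hGm : (G.val : Matrix ((Fin m ⊕ Fin m) ⊕ Fin 2) ((Fin m ⊕ Fin m) ⊕ Fin 2) K) = (g.val : Matrix ((Fin m ⊕ Fin m) ⊕ Fin 2) ((Fin m ⊕ Fin m) ⊕ Fin 2) F).map φ := by rw [hG]; rfl
    have hGv : ∀ v, qfMinus m K (φ a) (φ b) ((G.val : Matrix ((Fin m ⊕ Fin m) ⊕ Fin 2) ((Fin m ⊕ Fin m) ⊕ Fin 2) K) *ᵥ v) =
        (d : K) * qfMinus m K (φ a) (φ b) v := by
      have hψ : ∀ v : (Fin m ⊕ Fin m) ⊕ Fin 2 → F,
          qfMinus m K (φ a) (φ b) ((G.val : Matrix ((Fin m ⊕ Fin m) ⊕ Fin 2) ((Fin m ⊕ Fin m) ⊕ Fin 2) K) *ᵥ fun i => φ (v i)) =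
            (d : K) * qfMinus m K (φ a) (φ b) (fun i => φ (v i)) := fun v => by
        rw [hGm, show (g.val : Matrix ((Fin m ⊕ Fin m) ⊕ Fin 2) ((Fin m ⊕ Fin m) ⊕ Fin 2) F).map φ *ᵥ (fun i => φ (v i)) = fun i => φ (((g.val : Matrix ((Fin m ⊕ Fin m) ⊕ Fin 2) ((Fin m ⊕ Fin m) ⊕ Fin 2) F) *ᵥ v) i)
          from funext fun i => (RingHom.map_mulVec φ _ _ i).symm, quadFormMinus_map, quadFormMinus_map, hc',
          map_mul, hd']
      have hone : ∀ i, (Pi.single i 1 : (Fin m ⊕ Fin m) ⊕ Fin 2 → K) =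
          fun j => φ ((Pi.single i 1 : (Fin m ⊕ Fin m) ⊕ Fin 2 → F) j) := fun i => funext fun j => by
        by_cases hj : j = i
        · subst hj; simp
        · simp [hj]
      have e : (qfMinus m K (φ a) (φ b)).comp (Matrix.toLin' (G.val : Matrix ((Fin m ⊕ Fin m) ⊕ Fin 2) ((Fin m ⊕ Fin m) ⊕ Fin 2) K)) =
          (d : K) • qfMinus m K (φ a) (φ b) := by
        refine quad_ext_pi _ _ (fun i => ?_) fun i j => ?_
        · simp only [QuadraticMap.comp_apply, Matrix.toLin'_apply, _root_.smul_apply, smul_eq_mul, hone,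
            hψ]
        · have hadd : ∀ u v : (Fin m ⊕ Fin m) ⊕ Fin 2 → F,
              ((fun i => φ (u i)) + fun i => φ (v i)) = fun i => φ ((u + v) i) :=
            fun u v => funext fun i => (map_add φ _ _).symm
          simp only [polar, QuadraticMap.comp_apply, Matrix.toLin'_apply, _root_.smul_apply,
            smul_eq_mul, hone, hadd, hψ]
      exact fun v => by simpa using congrFun (congrArg DFunLike.coe e) v
    have hG' : Cfsg.IsSemisimilarityPair (⇑(qfMinus m K (φ a) (φ b))) G (RingEquiv.refl K) := ⟨d, hGv⟩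
    have hneK : ∃ v, qfMinus m K (φ a) (φ b) v ≠ 0 :=
      ⟨Pi.single (.inr 0) 1, by simp [qfMinus_apply, Cfsg.quadFormMinus]⟩
    have hiff := preservesClasses_split_iff (two_ne_zero_ext h2) hα hαne hG'
    rw [hGm, qfMinus_coe] at hiff
    rw [hiff, SemiSim.mem_diagSub, SemiSim.mem_diagSub, semisimilarityPair_c hG' d hGv hneK,
      semisimilarityPair_c h c hc' hne,
      SemiSim.sdet, SemiSim.sdet, SemiSim.ofPair_gl, SemiSim.ofPair_gl, hGm,
      show ((g.val : Matrix ((Fin m ⊕ Fin m) ⊕ Fin 2) ((Fin m ⊕ Fin m) ⊕ Fin 2) F).map φ).det = φ (g.val : Matrix ((Fin m ⊕ Fin m) ⊕ Fin 2) ((Fin m ⊕ Fin m) ⊕ Fin 2) F).det from (φ.map_det _).symm, hd', ← map_pow,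
      φ.injective.eq_iff]
    exact and_congr_left fun _ => iff_of_true rfl rfl
  constructor
  · rintro ⟨K, iK, iA, hK, hp⟩
    exact (key K hK).1 hp
  · intro hd'
    obtain ⟨K, iK, iA, hK⟩ := exists_quad_ext a b hab
    exact ⟨K, iK, iA, hK, (key K hK).2 hd'⟩

theorem preservesClassesPlus_iff {F : Type*} [Field F] [Fintype F] (h2 : (2 : F) ≠ 0) {m : ℕ} (hm : 3 ≤ m)
    {g : GL (Fin m ⊕ Fin m) F}
    (h : Cfsg.IsSemisimilarityPair (⇑(qfPlus m F)) g (RingEquiv.refl F)) :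
    Cfsg.PreservesSingularClasses (⇑(qfPlus m F)) (g.val : Matrix (Fin m ⊕ Fin m) (Fin m ⊕ Fin m) F) ↔
      SemiSim.ofPair h ∈ SemiSim.diagSub (qfPlus m F) m := by
  refine preservesClasses_iff (qfPlus_sep m) h2 (card_plus_index m)
    (U₀ := coordTS m fun _ => true) ?_ (fun c => ?_) h
  · rw [qfPlus_eq_plusForm]; exact isMaxTS_coordTS _ _
  · obtain ⟨τ, hτ, hc, hmap, -⟩ := exists_tau_plus h2 hm c
    refine ⟨τ, hτ, hc, fun u hu => mem_coordTS.2 fun i => ?_⟩
    have := mem_coordTS.1 hu i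
    simp only [if_true] at this ⊢
    rw [hmap, this, mul_zero]

namespace SemiSim

theorem mem_ofPair_of_gl {F : Type*} [Field F] [Finite F] {ι : Type} [Fintype ι] [DecidableEq ι]
    {Q : QuadraticForm F (ι → F)} (S : SemiSim Q) (hσ : S.σ = 1) (hne : ∃ v, Q v ≠ 0)
    (h : Cfsg.IsSemisimilarityPair (⇑Q) S.gl (RingEquiv.refl F)) : ofPair h = S := by
  refine ext' (fun v => ?_) hσ.symm ?_
  · show (S.gl : Matrix ι ι F) *ᵥ _ = _
    rw [← S.gl_mulVec, hσ]
    rfl
  · refine semisimilarityPair_c h S.c (fun v => ?_) hne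
    have := S.map_quad v
    rwa [← S.gl_mulVec, hσ] at this

theorem autSubgroup_eq {F : Type*} [Field F] [Finite F] {ι : Type} [Fintype ι] [DecidableEq ι]
    {Q : QuadraticForm F (ι → F)} (k : ℕ) (hne : ∃ v, Q v ≠ 0) (P : Matrix ι ι F → Prop)
    (hP : ∀ (g : GL ι F) (h : Cfsg.IsSemisimilarityPair (⇑Q) g (RingEquiv.refl F)),
      P g ↔ ofPair h ∈ diagSub Q k) :
    Subgroup.closure {β | ∃ g : GL ι F, g ∈ Cfsg.Geo.quadSimilarityGroup (F := F) (⇑Q) ∧ P g ∧
      Cfsg.IsInducedBySemilinearPOmega (⇑Q) g (RingEquiv.refl F) β} = (diagSub Q k).map (autC Q) := by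
  refine le_antisymm ((Subgroup.closure_le _).2 ?_) ?_
  · rintro β ⟨g, hg, hPg, hβ⟩
    have h := (similarity_pair_iff g).1 hg
    exact ⟨ofPair h, (hP g h).1 hPg, ((isInduced_iff h β).1 hβ).symm⟩
  · rintro _ ⟨S, hS, rfl⟩
    have hσ : S.σ = RingEquiv.refl F := (mem_diagSub.1 hS).1
    have h : Cfsg.IsSemisimilarityPair (⇑Q) S.gl (RingEquiv.refl F) := hσ ▸ S.isSemisimilarityPair
    refine Subgroup.subset_closure ⟨S.gl, (similarity_pair_iff _).2 h, ?_, ?_⟩
    · rw [hP _ h, mem_ofPair_of_gl S hσ hne h]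
      exact hS
    · rw [← hσ]
      exact S.isInduced

end SemiSim

theorem inndiagPlus_eq {F : Type*} [Field F] [Fintype F] (h2 : (2 : F) ≠ 0) {m : ℕ} (hm : 3 ≤ m) :
    Subgroup.closure {β : MulAut (Cfsg.POmega F (⇑(qfPlus m F))) | ∃ g : GL (Fin m ⊕ Fin m) F,
      g ∈ Cfsg.Geo.quadSimilarityGroup (F := F) (⇑(qfPlus m F)) ∧
        Cfsg.PreservesSingularClasses (⇑(qfPlus m F)) (g.val : Matrix (Fin m ⊕ Fin m) (Fin m ⊕ Fin m) F) ∧
        Cfsg.IsInducedBySemilinearPOmega (⇑(qfPlus m F)) g (RingEquiv.refl F) β} =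
      (SemiSim.diagSub (qfPlus m F) m).map (SemiSim.autC (qfPlus m F)) :=
  SemiSim.autSubgroup_eq m
    ⟨Pi.single (.inl ⟨0, by omega⟩) 1 + Pi.single (.inr ⟨0, by omega⟩) 1, by
      simp [qfPlus_apply, Cfsg.quadFormPlus, Pi.single_apply]⟩
    _ fun _ h => preservesClassesPlus_iff h2 hm h

theorem inndiagMinus_eq {F : Type u} [Field F] [Fintype F] (h2 : (2 : F) ≠ 0) (m : ℕ) {a b : F}
    (hab : ∀ z₁ z₂ : F, z₁ ^ 2 + a * z₁ * z₂ + b * z₂ ^ 2 = 0 → z₁ = 0 ∧ z₂ = 0) :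
    Subgroup.closure {β : MulAut (Cfsg.POmega F (⇑(qfMinus m F a b))) |
      ∃ g : GL ((Fin m ⊕ Fin m) ⊕ Fin 2) F,
        g ∈ Cfsg.Geo.quadSimilarityGroup (F := F) (⇑(qfMinus m F a b)) ∧
        Cfsg.PreservesSingularClassesMinus m a b (g.val : Matrix ((Fin m ⊕ Fin m) ⊕ Fin 2) ((Fin m ⊕ Fin m) ⊕ Fin 2) F) ∧
        Cfsg.IsInducedBySemilinearPOmega (⇑(qfMinus m F a b)) g (RingEquiv.refl F) β} =
      (SemiSim.diagSub (qfMinus m F a b) (m + 1)).map (SemiSim.autC (qfMinus m F a b)) :=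
  SemiSim.autSubgroup_eq (m + 1) ⟨Pi.single (.inr 0) 1, by simp [qfMinus_apply, Cfsg.quadFormMinus]⟩
    _ fun _ h => preservesClassesMinus_iff h2 m hab h

end CfsgLib.Classical
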