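import Mathlib

/-!
Determinants of square roots of scalar matrices.
-/

set_option autoImplicit false
set_option linter.unusedSectionVars false

namespace CfsgLib.Classical

open Matrix Polynomial

variable {F : Type*} [Field F] {ι : Type*} [Fintype ι] [DecidableEq ι]

theorem det_eq_of_charpoly {M : Matrix ι ι F} {k : ℕ} {l : F} (hk : Fintype.card ι = 2 * k)
    (h : M.charpoly = (X ^ 2 - C l) ^ k) : M.det = (-l) ^ k := by
  rw [det_eq_sign_charpoly_coeff, h, coeff_zero_eq_eval_zero, hk, pow_mul]
  simp

theorem charpoly_mul_charpoly_neg {M : Matrix ι ι F} {l : F} (h : M * M = l • 1) :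
    M.charpoly * (-M).charpoly = (X ^ 2 - C l) ^ Fintype.card ι := by
  rw [Matrix.charpoly, Matrix.charpoly, ← det_mul,
    show charmatrix M * charmatrix (-M) = (X ^ 2 - C l) • (1 : Matrix ι ι F[X]) from ?_, det_smul, det_one,
    mul_one]
  have hMM : M.map C * M.map C = (l • (1 : Matrix ι ι F)).map C := by rw [← h, Matrix.map_mul]
  have hl : (l • (1 : Matrix ι ι F)).map C = C l • (1 : Matrix ι ι F[X]) := by
    ext i j
    by_cases hij : i = j <;> simp [hij]
  have hneg : (-M).map C = -(M.map C) := by ext i j; simp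
  rw [hl] at hMM
  simp only [charmatrix, RingHom.mapMatrix_apply, hneg, Matrix.scalar_apply, ← Matrix.smul_one_eq_diagonal]
  rw [sub_neg_eq_add, mul_add, sub_mul, sub_mul, Matrix.smul_mul, Matrix.mul_smul, Matrix.smul_mul,
    Matrix.mul_smul, Matrix.one_mul, Matrix.one_mul, Matrix.mul_one, hMM, smul_smul, sub_smul, sq]
  abel

/-- A square root of a non-square scalar has the norm determinant. -/
theorem det_of_sq_eq_nonsquare {M : Matrix ι ι F} {k : ℕ} {l : F} (hk : Fintype.card ι = 2 * k)
    (h : M * M = l • 1) (hl : ¬ IsSquare l) : M.det = (-l) ^ k := by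
  have hirr : Irreducible (X ^ 2 - C l : F[X]) :=
    Polynomial.irreducible_of_degree_le_three_of_not_isRoot
      (by rw [natDegree_X_pow_sub_C]; decide) fun x hx => hl ⟨x, by
        have : x ^ 2 - l = 0 := by simpa using hx
        linear_combination -this⟩
  have hdvd : M.charpoly ∣ (X ^ 2 - C l) ^ Fintype.card ι := ⟨_, (charpoly_mul_charpoly_neg h).symm⟩
  obtain ⟨j, -, hj⟩ := (dvd_prime_pow hirr.prime _).1 hdvd
  have he := eq_of_monic_of_associated M.charpoly_monic ((monic_X_pow_sub_C l two_ne_zero).pow j) hj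
  have hd := congrArg natDegree he
  rw [charpoly_natDegree_eq_dim, natDegree_pow, natDegree_X_pow_sub_C, hk] at hd
  obtain rfl : j = k := by omega
  exact det_eq_of_charpoly hk he

/-- A square root of a scalar with the characteristic polynomial of its negative. -/
theorem det_of_sq_eq_of_charpoly {M : Matrix ι ι F} {k : ℕ} {l : F} (h2 : (2 : F) ≠ 0)
    (hk : Fintype.card ι = 2 * k) (h : M * M = l • 1) (hc : M.charpoly = (-M).charpoly) :
    M.det = (-l) ^ k := by
  refine det_eq_of_charpoly hk ?_
  have hm : ((X ^ 2 - C l) ^ k : F[X]).Monic := (monic_X_pow_sub_C l two_ne_zero).pow k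
  have hsq : M.charpoly * M.charpoly = (X ^ 2 - C l) ^ k * (X ^ 2 - C l) ^ k := by
    conv_lhs => arg 2; rw [hc]
    rw [charpoly_mul_charpoly_neg h, hk, two_mul, pow_add]
  rcases mul_self_eq_mul_self_iff.1 hsq with e | e
  · exact e
  · exfalso
    have := congrArg leadingCoeff e
    rw [leadingCoeff_neg, hm.leadingCoeff, M.charpoly_monic.leadingCoeff] at this
    exact h2 (by linear_combination this)

theorem charpoly_conj {M P P' : Matrix ι ι F} (h : P * P' = 1) :
    (P * M * P').charpoly = M.charpoly := by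
  have h' : P' * P = 1 := mul_eq_one_comm.1 h
  rw [Matrix.charpoly_mul_comm, ← Matrix.mul_assoc, h', Matrix.one_mul]

end CfsgLib.Classical
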