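import Mathlib
import Cfsg.Agent.Lib.Classical.OrthDiagQuot
import Cfsg.Agent.Lib.Classical.OrthDiagInndiag
import Cfsg.Agent.Lib.Classical.SquareScalar

/-!
Centralisers of involutory graph automorphisms in the group of similitudes.
-/

set_option autoImplicit false
set_option linter.unusedSectionVars false

namespace CfsgLib.Classical

open CfsgLib.Geom
open Matrix
open QuadraticMap (polar)

namespace SemiSim

variable {F : Type*} [Field F] [Finite F] {ι : Type} [Fintype ι] [DecidableEq ι]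
variable {Q : QuadraticForm F (ι → F)}
variable (hQ : ∀ x, (∀ y, polar Q x y = 0) → x = 0) (h2 : (2 : F) ≠ 0)
variable {k : ℕ} (hk : Fintype.card ι = 2 * k)

theorem σ_inv (S : SemiSim Q) : (S⁻¹).σ = S.σ⁻¹ := rfl

theorem c_mul_of_σ {S T : SemiSim Q} (hS : S.σ = 1) : (S * T).c = S.c * T.c :=
  Units.ext (by rw [mul_c, hS, RingAut.one_apply, Units.val_mul])

theorem c_inv_of_σ {S : SemiSim Q} (hS : S.σ = 1) : (S⁻¹).c = (S.c)⁻¹ := by
  refine eq_inv_of_mul_eq_one_right ?_
  rw [← c_mul_of_σ hS, mul_inv_cancel, one_c]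

theorem exists_conj_isom (S : SemiSim Q) (hS : S.σ = 1) (g : quadIsoms Q) :
    ∃ g' : quadIsoms Q, S * isomHom g * S⁻¹ = isomHom g' := by
  refine exists_isom ?_ ?_
  · rw [mul_σ, mul_σ, σ_inv, hS, inv_one, mul_one, one_mul]
    rfl
  · have hσ : (S * isomHom g).σ = 1 := by rw [mul_σ, hS, one_mul]; rfl
    rw [c_mul_of_σ hσ, c_mul_of_σ hS, c_inv_of_σ hS, show (isomHom g).c = 1 from rfl, mul_one, mul_inv_cancel]

/-- The effect of conjugation by a similitude on the spinor norm. -/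
theorem spin_conj (S : SemiSim Q) (hS : S.σ = 1) {g g' : quadIsoms Q}
    (h : S * isomHom g * S⁻¹ = isomHom g') :
    spin hQ h2 g' = ((spin hQ h2 g).1,
      (spin hQ h2 g).2 * if (spin hQ h2 g).1 = 1 then 1 else sqProj F S.c) := by
  have key : ∀ x ∈ Subgroup.closure (reflSet Q), ∀ (hx : x ∈ quadIsoms Q) (g' : quadIsoms Q),
      S * isomHom ⟨x, hx⟩ * S⁻¹ = isomHom g' →
      spin hQ h2 g' = ((spin hQ h2 ⟨x, hx⟩).1,
        (spin hQ h2 ⟨x, hx⟩).2 * if (spin hQ h2 ⟨x, hx⟩).1 = 1 then 1 else sqProj F S.c) := by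
    intro x hx
    induction hx using Subgroup.closure_induction with
    | mem x hx =>
      intro hx' g' h
      obtain ⟨v, hv, rfl⟩ := hx
      have hv' : Q (S.map v) ≠ 0 := by rw [S.map_quad, hS]; exact mul_ne_zero S.c.ne_zero hv
      rw [isom_conj_refl S hv hv'] at h
      rw [← isomHom_injective h, spin_refl, spin_refl]
      refine Prod.ext rfl ?_
      simp only [if_neg ofAdd_one_ne_one]
      rw [show sqProj F S.c = sqClass S.c.ne_zero from congrArg (sqProj F) (Units.ext rfl),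
        ← sqClass_mul hv S.c.ne_zero]
      refine congrArg (sqProj F) (Units.ext ?_)
      show Q (S.map v) = Q v * S.c
      rw [S.map_quad, hS, mul_comm]; rfl
    | one =>
      intro hx' g' h
      rw [show (⟨1, hx'⟩ : quadIsoms Q) = 1 from rfl, map_one, mul_one, mul_inv_cancel, ← map_one isomHom] at h
      rw [← isomHom_injective h, show (⟨1, hx'⟩ : quadIsoms Q) = 1 from rfl, map_one]
      simp
      rfl
    | mul x y hx hy ihx ihy =>
      intro hxy g' h
      have hx' := reflSet_closure_le Q hx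
      have hy' := reflSet_closure_le Q hy
      obtain ⟨a, ha⟩ := exists_conj_isom S hS ⟨x, hx'⟩
      obtain ⟨b, hb⟩ := exists_conj_isom S hS ⟨y, hy'⟩
      have hab : g' = a * b := by
        refine isomHom_injective ?_
        rw [map_mul, ← ha, ← hb, ← h, show (⟨x * y, hxy⟩ : quadIsoms Q) = ⟨x, hx'⟩ * ⟨y, hy'⟩ from rfl,
          map_mul]
        group
      rw [hab, map_mul, ihx hx' a ha, ihy hy' b hb,
        show (⟨x * y, hxy⟩ : quadIsoms Q) = ⟨x, hx'⟩ * ⟨y, hy'⟩ from rfl, map_mul]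
      obtain ⟨p, s⟩ := spin hQ h2 ⟨x, hx'⟩
      obtain ⟨p', s'⟩ := spin hQ h2 ⟨y, hy'⟩
      rcases eq_one_or_ofAdd_one p with rfl | rfl <;> rcases eq_one_or_ofAdd_one p' with rfl | rfl <;>
        simp [ofAdd_one_ne_one, ofAdd_one_mul_self, mul_assoc]
      · exact mul_comm _ _
      · rw [mul_left_comm (sqProj F S.c) s', sqClass_mul_self, mul_one]
    | inv x hx ih =>
      intro hxi g' h
      have hx' := reflSet_closure_le Q hx
      obtain ⟨a, ha⟩ := exists_conj_isom S hS ⟨x, hx'⟩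
      have ha' : g' = a⁻¹ := by
        refine isomHom_injective ?_
        rw [map_inv, ← ha, ← h, show (⟨x⁻¹, hxi⟩ : quadIsoms Q) = ⟨x, hx'⟩⁻¹ from rfl, map_inv]
        group
      rw [ha', map_inv, ih hx' a ha, show (⟨x⁻¹, hxi⟩ : quadIsoms Q) = ⟨x, hx'⟩⁻¹ from rfl, map_inv]
      obtain ⟨p, s⟩ := spin hQ h2 ⟨x, hx'⟩
      have hs : ∀ t : SqClass F, t⁻¹ = t := fun t => inv_eq_of_mul_eq_one_right (sqClass_mul_self t)
      rcases eq_one_or_ofAdd_one p with rfl | rfl <;>
        simp [ofAdd_one_ne_one, hs]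
  exact key g.1 (quadIsoms_eq_closure Q hQ (exGen_of_odd h2) ▸ g.2) g.2 g' h

theorem scalar_central (S : SemiSim Q) (hS : S.σ = 1) (l : Fˣ) : S * scalar l = scalar l * S := by
  refine ext' (fun v => ?_) (by rw [mul_σ, mul_σ, scalar_σ, one_mul, mul_one]) (Units.ext ?_)
  · rw [mul_map, mul_map, scalar_map, scalar_map, S.map_smul, hS]
    rfl
  · rw [mul_c, mul_c, scalar_c, scalar_σ, hS, RingAut.one_apply, RingAut.one_apply, mul_comm]

theorem gl_scalar (l : Fˣ) : ((scalar (Q := Q) l).gl : Matrix ι ι F) = (l : F) • 1 := by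
  refine Matrix.ext_iff_mulVec.2 fun v => ?_
  rw [Matrix.smul_mulVec, Matrix.one_mulVec]
  exact (scalar (Q := Q) l).gl_mulVec v

theorem gl_mul' {S : SemiSim Q} (hS : S.σ = 1) (T : SemiSim Q) :
    ((S * T).gl : Matrix ι ι F) = (S.gl : Matrix ι ι F) * (T.gl : Matrix ι ι F) := by
  rw [gl_mul, hS]
  congr 1

include hQ h2 hk in
theorem det_scalar_sq {S : SemiSim Q} (hS : S.σ = 1) {l : Fˣ} (hl : S * S = scalar l) :
    (S.c : F) = l ∨ S.sdet = (S.c : F) ^ k := by
  have hc : (S.c : F) * S.c = (l : F) * l := by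
    have := congrArg (fun T : SemiSim Q => (T.c : F)) hl
    simpa [mul_c, hS, scalar_c] using this
  rcases mul_self_eq_mul_self_iff.1 hc with e | e
  · exact Or.inl e
  refine Or.inr ?_
  obtain ⟨J, hJ⟩ : ∃ J, J = LinearMap.toMatrix₂' F Q.polarBilin := ⟨_, rfl⟩
  obtain ⟨M, hM⟩ : ∃ M : Matrix ι ι F, M = (S.gl : Matrix ι ι F) := ⟨_, rfl⟩
  have hMv : ∀ v, M *ᵥ v = S.map v := fun v => by
    have := S.gl_mulVec v
    rwa [hS, ← hM] at this
  have hMM : M * M = (l : F) • 1 := by rw [hM, ← gl_mul' hS, hl, gl_scalar]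
  have hgram : Mᵀ * J * M = (S.c : F) • J := by
    have h : LinearMap.toMatrix₂' F (Q.polarBilin.compl₁₂ (Matrix.toLin' M) (Matrix.toLin' M)) =
        (S.c : F) • J := by
      rw [hJ]
      ext i j
      simp only [LinearMap.toMatrix₂'_apply, LinearMap.compl₁₂_apply, Matrix.smul_apply, smul_eq_mul,
        QuadraticMap.polarBilin_apply_apply, Matrix.toLin'_apply, hMv, S.map_polar, hS, RingAut.one_apply]
    rwa [LinearMap.toMatrix₂'_compl₁₂, LinearMap.toMatrix'_toLin', ← hJ] at h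
  have hskew : Mᵀ * J = -(J * M) := by
    have h1 := congrArg (fun X => X * M) hgram
    simp only [Matrix.mul_assoc, hMM, Matrix.mul_smul, Matrix.mul_one, Matrix.smul_mul] at h1
    rw [e, neg_smul, ← smul_neg] at h1
    exact smul_right_injective _ l.ne_zero h1
  have hJd : IsUnit J.det := (hJ ▸ detJ_ne_zero hQ).isUnit
  have hMJ : M = J⁻¹ * (-M)ᵀ * J := by
    rw [Matrix.transpose_neg, Matrix.mul_neg, Matrix.neg_mul, Matrix.mul_assoc, hskew, Matrix.mul_neg, neg_neg,
      ← Matrix.mul_assoc, Matrix.nonsing_inv_mul J hJd, Matrix.one_mul]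
  have hch : M.charpoly = (-M).charpoly := by
    conv_lhs => rw [hMJ]
    rw [charpoly_conj (Matrix.nonsing_inv_mul J hJd), Matrix.charpoly_transpose]
  rw [sdet, ← hM, det_of_sq_eq_of_charpoly h2 hk hMM hch, e]

/-- Projective commutation is commutation up to sign. -/
theorem conj_sign {m : ℕ} (K : OFrame Q m) {U Y : SemiSim Q} (hU : U.σ = 1) (hY : Y.σ = 1)
    (h : Commute (autC Q Y) (autC Q U)) : Y * U * Y⁻¹ = U ∨ Y * U * Y⁻¹ = scalar (-1) * U := by
  have hk' : Y * U * Y⁻¹ * U⁻¹ ∈ (autC Q).ker := by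
    rw [MonoidHom.mem_ker, map_mul, map_mul, map_mul, map_inv, map_inv, h.eq, mul_inv_cancel_right,
      mul_inv_cancel]
  rw [autC_ker K] at hk'
  obtain ⟨μ, hμ⟩ := hk'
  have hYU : Y * U * Y⁻¹ = scalar μ * U := by rw [hμ, inv_mul_cancel_right]
  have hc : μ * μ = 1 := by
    have := congrArg SemiSim.c hYU
    rw [c_mul_of_σ (show (Y * U).σ = 1 by rw [mul_σ, hY, hU, one_mul]), c_mul_of_σ hY, c_inv_of_σ hY,
      c_mul_of_σ (scalar_σ μ), scalar_c, mul_right_comm, mul_inv_cancel, one_mul] at this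
    exact mul_eq_right.1 this.symm
  rcases mul_self_eq_one_iff.1 (show (μ : F) * μ = 1 by rw [← Units.val_mul, hc, Units.val_one]) with e | e
  · left; rw [hYU, show μ = 1 from Units.ext e, map_one, one_mul]
  · right; rw [hYU, show μ = -1 from Units.ext (by simpa using e)]

include hQ h2 hk in
theorem exists_isom_of_det_ne {U : SemiSim Q} (hU : U.σ = 1) (hc : sqProj F U.c = 1)
    (hd : U.sdet ≠ (U.c : F) ^ k) :
    ∃ (s : Fˣ) (g : quadIsoms Q), s * s = U.c ∧ U = scalar s * isomHom g ∧ (spin hQ h2 g).1 ≠ 1 := by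
  obtain ⟨s, hs⟩ := (sqProj_eq_one_iff F U.c).1 hc
  have hs' : s * s = U.c := by rw [← hs]; exact (sq s).symm
  obtain ⟨g, hg⟩ := exists_isom (S := scalar s⁻¹ * U) (by rw [mul_σ, hU, scalar_σ, mul_one])
    (by rw [c_mul_of_σ (scalar_σ _), scalar_c, ← hs', mul_mul_mul_comm, inv_mul_cancel, mul_one])
  have hUg : U = scalar s * isomHom g := by rw [← hg, ← mul_assoc, ← map_mul, mul_inv_cancel, map_one, one_mul]
  refine ⟨s, g, hs', hUg, fun h1 => hd ?_⟩
  rw [hUg, sdet_mul, sdet_scalar, scalar_σ, RingAut.one_apply, sdet_isom,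
    (spin_fst_eq_one_iff hQ h2 g).1 h1, Units.val_one, mul_one, c_mul_of_σ (scalar_σ _), scalar_c,
    show (isomHom g).c = 1 from rfl, mul_one, Units.val_mul, hk, two_mul, pow_add, mul_pow]

include hQ h2 hk in
/-- A similitude commuting projectively with one of odd determinant sign. -/
theorem sq_of_commute {m : ℕ} (K : OFrame Q m) {U Y : SemiSim Q} (hU : U.σ = 1) (hc : sqProj F U.c = 1)
    (hd : U.sdet ≠ (U.c : F) ^ k) (hY : Y.σ = 1) (h : Commute (autC Q Y) (autC Q U)) :
    sqProj F Y.c = 1 ∨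
      (Y * U * Y⁻¹ = scalar (-1) * U ∧ sqProj F Y.c = (spin hQ h2 (negI Q)).2) := by
  obtain ⟨s, g, -, rfl, hg⟩ := exists_isom_of_det_ne hQ h2 hk hU hc hd
  have hcg : Y * (scalar s * isomHom g) * Y⁻¹ = scalar s * (Y * isomHom g * Y⁻¹) := by
    rw [← mul_assoc Y, scalar_central Y hY]; group
  rcases conj_sign K hU hY h with e | e
  · left
    rw [hcg] at e
    have := spin_conj hQ h2 Y hY (mul_left_cancel e)
    rw [if_neg hg] at this
    exact mul_eq_left.1 (Prod.ext_iff.1 this).2.symm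
  · refine Or.inr ⟨e, ?_⟩
    have hgm : scalar (Q := Q) (-1) * (scalar s * isomHom g) = scalar s * isomHom (negI Q * g) := by
      rw [← mul_assoc, ← map_mul, mul_comm, map_mul, mul_assoc, scalar_neg_one, map_mul]
    rw [hcg, hgm] at e
    have := spin_conj hQ h2 Y hY (mul_left_cancel e)
    rw [if_neg hg, map_mul] at this
    have h' := (Prod.ext_iff.1 this).2
    rw [Prod.snd_mul, mul_comm] at h'
    exact (mul_left_cancel h').symm

include hQ h2 hk in
theorem soScal_of_commute {m : ℕ} (K : OFrame Q m) {S X : SemiSim Q} (hS : S.σ = 1)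
    (hSd : S.sdet ≠ (S.c : F) ^ k) {l : Fˣ} (hl : S * S = scalar l) (hX : X ∈ diagSub Q k)
    (hcomm : Commute (autC Q X) (autC Q S)) (hneg : spin hQ h2 (negI Q) = 1 ∨ Even k) : X ∈ soScal Q := by
  obtain ⟨hXσ, hXd⟩ := mem_diagSub.1 hX
  refine (mem_soScal hk).2 ⟨hX, ?_⟩
  have hcl := (det_scalar_sq hQ h2 hk hS hl).resolve_right hSd
  obtain ⟨M, hM⟩ : ∃ M : Matrix ι ι F, M = (S.gl : Matrix ι ι F) := ⟨_, rfl⟩
  have hMM : M * M = (l : F) • 1 := by rw [hM, ← gl_mul' hS, hl, gl_scalar]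
  rcases hneg with hneg | heven
  · have hn : (spin hQ h2 (negI Q)).2 = 1 := by rw [hneg]; rfl
    by_cases hSc : sqProj F S.c = 1
    · rcases sq_of_commute hQ h2 hk K hS hSc hSd hXσ hcomm with e | ⟨-, e⟩
      · exact e
      · exact e.trans hn
    · by_contra hXc
      have hσ : (S * X).σ = 1 := by rw [mul_σ, hS, hXσ, one_mul]
      have hc : sqProj F (S * X).c = 1 := by
        rw [c_mul_of_σ hS, map_mul, sqClass_two _ _ hSc hXc, sqClass_mul_self]
      have hd : (S * X).sdet ≠ ((S * X).c : F) ^ k := by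
        rw [sdet_mul, hS, RingAut.one_apply, c_mul_of_σ hS, Units.val_mul, mul_pow, hXd]
        exact fun e => hSd (mul_right_cancel₀ (pow_ne_zero _ X.c.ne_zero) e)
      have hc' : Commute (autC Q S) (autC Q (S * X)) := by
        rw [map_mul]; exact (Commute.refl _).mul_right hcomm.symm
      rcases sq_of_commute hQ h2 hk K hσ hc hd hS hc' with e | ⟨-, e⟩
      · exact hSc e
      · exact hSc (e.trans hn)
  · have hSc : sqProj F S.c = 1 := by
      by_contra h
      refine hSd ?_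
      rw [sdet, ← hM, det_of_sq_eq_nonsquare hk hMM, heven.neg_pow, hcl]
      rintro ⟨r, hr⟩
      refine h ?_
      rw [show S.c = Units.mk0 (S.c : F) S.c.ne_zero from Units.ext rfl]
      exact (sqClass_eq_one_iff S.c.ne_zero).2 ⟨r, hcl.trans hr⟩
    rcases sq_of_commute hQ h2 hk K hS hSc hSd hXσ hcomm with e | ⟨e, -⟩
    · exact e
    · exfalso
      have e' := congrArg (fun T : SemiSim Q => (T.gl : Matrix ι ι F)) e
      simp only [gl_mul' (scalar_σ _), gl_scalar, gl_mul' (show (X * S).σ = 1 by rw [mul_σ, hXσ, hS, one_mul]),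
        gl_mul' hXσ, Units.val_neg, Units.val_one, neg_smul, one_smul, neg_one_mul] at e'
      have hinv : (X.gl : Matrix ι ι F) * ((X⁻¹).gl : Matrix ι ι F) = 1 := by
        rw [← gl_mul' hXσ, mul_inv_cancel, ← map_one (scalar (Q := Q)), gl_scalar, Units.val_one, one_smul]
      have hch : M.charpoly = (-M).charpoly := by
        rw [← charpoly_conj (M := M) hinv, hM, e']
      refine hSd ?_
      rw [sdet, ← hM, det_of_sq_eq_of_charpoly h2 hk hMM hch, heven.neg_pow, hcl]

end SemiSim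

end CfsgLib.Classical
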