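import Mathlib
import Cfsg.Agent.Lib.Classical.OrthGraphCent

/-!
A special isometry of non-trivial spinor norm centralising an involutory graph automorphism.
-/

set_option autoImplicit false
set_option linter.unusedSectionVars false

namespace CfsgLib.Classical

open CfsgLib.Geom
open QuadraticMap (polar)

universe u

theorem reflEquiv_smul {F V : Type*} [Field F] [AddCommGroup V] [Module F V] (Q : QuadraticForm F V) (v : V)
    (a : F) (ha : a ≠ 0) (hv : Q v ≠ 0) (hav : Q (a • v) ≠ 0) :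
    reflEquiv Q (a • v) hav = reflEquiv Q v hv := by
  refine LinearEquiv.ext fun z => ?_
  rw [reflEquiv_apply, reflEquiv_apply, quad_smul, QuadraticMap.polar_smul_left, smul_smul, smul_eq_mul]
  congr 2
  field_simp

namespace SemiSim

variable {F : Type u} [Field F] [Finite F] {ι : Type} [Fintype ι] [DecidableEq ι]
variable {Q : QuadraticForm F (ι → F)}
variable (hQ : ∀ x, (∀ y, polar Q x y = 0) → x = 0) (h2 : (2 : F) ≠ 0)
variable {k : ℕ} (hk : Fintype.card ι = 2 * k)

theorem refl_conj_fix {S : SemiSim Q} (hS : S.σ = 1) {v : ι → F} (hv : Q v ≠ 0) {a : F} (ha : a ≠ 0)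
    (h : S.map v = a • v) :
    S * isomHom ⟨reflEquiv Q v hv, reflEquiv_mem Q v hv⟩ * S⁻¹ =
      isomHom ⟨reflEquiv Q v hv, reflEquiv_mem Q v hv⟩ := by
  have hv' : Q (S.map v) ≠ 0 := by rw [S.map_quad, hS]; exact mul_ne_zero S.c.ne_zero hv
  rw [isom_conj_refl S hv hv']
  refine congrArg isomHom (Subtype.ext ?_)
  show reflEquiv Q (S.map v) hv' = reflEquiv Q v hv
  simp only [h]
  exact reflEquiv_smul Q v a ha hv (h ▸ hv')

theorem commute_autC_of_conj {S Y : SemiSim Q} (h : S * Y * S⁻¹ = Y) :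
    Commute (autC Q Y) (autC Q S) := by
  show autC Q Y * autC Q S = autC Q S * autC Q Y
  rw [← map_mul, ← map_mul]
  congr 1
  conv_lhs => rw [← h]
  group

include hQ h2 hk in
theorem exists_pair_eigen (hk3 : 3 ≤ k) {g : (ι → F) ≃ₗ[F] (ι → F)} (hg : g ∈ quadIsoms Q)
    (hgg : ∀ v, g (g v) = v) :
    ∃ v w : ι → F, ∃ (hv : Q v ≠ 0) (hw : Q w ≠ 0) (e : F), (e = 1 ∨ e = -1) ∧ g v = e • v ∧ g w = e • w ∧
      sqClass hv * sqClass hw ≠ 1 := by
  let W : F → Submodule F (ι → F) := fun e => LinearMap.ker (g.toLinearMap - e • LinearMap.id)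
  have hW : ∀ e v, v ∈ W e ↔ g v = e • v := fun e v => by
    simp [W, LinearMap.mem_ker, sub_eq_zero]
  have hsup : W 1 ⊔ W (-1) = ⊤ := eq_top_iff.2 fun v _ => Submodule.mem_sup.2
    ⟨(2 : F)⁻¹ • (v + g v), (hW _ _).2 (by rw [_root_.map_smul, map_add, hgg, one_smul, add_comm]),
      (2 : F)⁻¹ • (v - g v), (hW _ _).2 (by rw [_root_.map_smul, map_sub, hgg, neg_one_smul, ← smul_neg, neg_sub]), by
      rw [← smul_add, show v + g v + (v - g v) = (2 : F) • v by rw [two_smul]; abel, inv_smul_smul₀ h2]⟩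
  have hdim := Submodule.finrank_sup_add_finrank_inf_eq (W 1) (W (-1))
  rw [hsup, finrank_top, Module.finrank_fintype_fun_eq_card, hk] at hdim
  obtain ⟨e, he, hfr⟩ : ∃ e : F, (e = 1 ∨ e = -1) ∧ 2 ≤ Module.finrank F (W e) := by
    by_cases h : 2 ≤ Module.finrank F (W 1)
    · exact ⟨1, Or.inl rfl, h⟩
    · exact ⟨-1, Or.inr rfl, by omega⟩
  have hee : e * e = 1 := by rcases he with rfl | rfl <;> ring
  obtain ⟨QW, hQW⟩ : ∃ QW, QW = Q.comp (W e).subtype := ⟨_, rfl⟩
  have hsep : ∀ x, (∀ y, polar QW x y = 0) → x = 0 := by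
    intro x hx
    refine Subtype.ext (hQ x.1 fun y => ?_)
    have hperp : ∀ y, g y = (-e) • y → polar Q x.1 y = 0 := fun y hy => by
      have := polar_quadIsom hg x.1 y
      rw [(hW e x.1).1 x.2, hy, QuadraticMap.polar_smul_left, QuadraticMap.polar_smul_right, smul_smul,
        mul_neg, hee, smul_eq_mul, neg_one_mul] at this
      have h' : (2 : F) * polar Q x.1 y = 0 := by linear_combination -this
      exact (mul_eq_zero.1 h').resolve_left h2
    have hy1 : polar Q x.1 ((2 : F)⁻¹ • (y + e • g y)) = 0 := by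
      have := hx ⟨(2 : F)⁻¹ • (y + e • g y), (hW _ _).2 (by
        rw [_root_.map_smul, map_add, _root_.map_smul, hgg, smul_comm e]
        congr 1
        rw [smul_add, smul_smul, hee, one_smul, add_comm])⟩
      rw [hQW] at this
      simpa [polar] using this
    have hy2 : polar Q x.1 ((2 : F)⁻¹ • (y - e • g y)) = 0 := hperp _ (by
      rw [_root_.map_smul, map_sub, _root_.map_smul, hgg, smul_comm (-e)]
      congr 1
      rw [neg_smul, smul_sub, smul_smul, hee, one_smul, neg_sub])
    rw [show y = (2 : F)⁻¹ • (y + e • g y) + (2 : F)⁻¹ • (y - e • g y) by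
      rw [← smul_add, show y + e • g y + (y - e • g y) = (2 : F) • y by rw [two_smul]; abel,
        inv_smul_smul₀ h2], QuadraticMap.polar_add_right, hy1, hy2, add_zero]
  obtain ⟨a, ha0, ha⟩ := exists_not_square h2
  obtain ⟨v, hv⟩ := exists_value QW h2 hsep hfr 1 one_ne_zero
  obtain ⟨w, hw⟩ := exists_value QW h2 hsep hfr a ha0
  rw [hQW, QuadraticMap.comp_apply, Submodule.subtype_apply] at hv hw
  refine ⟨v.1, w.1, by rw [hv]; exact one_ne_zero, by rw [hw]; exact ha0, e, he, (hW e _).1 v.2,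
    (hW e _).1 w.2, ?_⟩
  rw [← sqClass_mul, Ne, sqClass_eq_one_iff, hv, hw, one_mul]
  exact ha

include hQ h2 hk in
theorem exists_vector_perp_image (hk3 : 3 ≤ k) {S : SemiSim Q} (hS : S.σ = 1) {l : Fˣ}
    (hl : S * S = scalar l) (hcl : (S.c : F) = l) (hns : ¬ IsSquare (l : F)) :
    ∃ v, Q v ≠ 0 ∧ polar Q v (S.map v) = 0 := by
  have hSS : ∀ v, S.map (S.map v) = (l : F) • v := fun v => by
    rw [← mul_map, hl, scalar_map]
  have hlin : ∀ (r : F) v, S.map (r • v) = r • S.map v := fun r v => by rw [S.map_smul, hS]; rfl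
  have hq : ∀ v, Q (S.map v) = (l : F) * Q v := fun v => by rw [S.map_quad, hS, hcl]; rfl
  have hp : ∀ v w, polar Q (S.map v) (S.map w) = (l : F) * polar Q v w := fun v w => by
    rw [S.map_polar, hS, hcl]; rfl
  have hsymm : ∀ v w, polar Q (S.map v) w = polar Q v (S.map w) := fun v w => by
    have := hp v (S.map w)
    rw [hSS, QuadraticMap.polar_smul_right, smul_eq_mul] at this
    exact mul_left_cancel₀ l.ne_zero this
  obtain ⟨K, iK, iA, hK⟩ := exists_quad_ext (0 : F) (-(l : F)) (fun z₁ z₂ h => by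
    by_cases hz : z₂ = 0
    · subst hz
      exact ⟨by simpa using h, rfl⟩
    · exact absurd ⟨z₁ / z₂, by field_simp; linear_combination -h⟩ hns)
  have : Module.Finite F K := Module.finite_of_finrank_eq_succ hK
  have : Finite K := Module.finite_of_finite F
  obtain ⟨φ, hφ⟩ : ∃ φ : F →+* K, φ = algebraMap F K := ⟨_, rfl⟩
  obtain ⟨r, hr⟩ := isSquare_algebraMap (K := K) hK h2 (l : F)
  rw [← hφ] at hr
  have hli : ∀ x y : F, φ x + φ y * r = 0 → x = 0 ∧ y = 0 := by
    intro x y hxy
    by_cases hy : y = 0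
    · subst hy
      exact ⟨by simpa using hxy, rfl⟩
    · exfalso
      refine hns ⟨x / y, φ.injective ?_⟩
      have hy' : φ y ≠ 0 := by simpa using hy
      rw [hr, map_mul, map_div₀]
      field_simp
      linear_combination (φ y * r - φ x) * hxy
  have hspan : ∀ z : K, ∃ x y : F, z = φ x + φ y * r := by
    let L : (F × F) →ₗ[F] K :=
      (Algebra.linearMap F K).coprod ((LinearMap.mulRight F r).comp (Algebra.linearMap F K))
    have hL : Function.Injective L := (injective_iff_map_eq_zero L).2 fun p hp' => by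
      obtain ⟨h1, h2'⟩ := hli p.1 p.2 (by rw [hφ]; simpa [L] using hp')
      exact Prod.ext h1 h2'
    intro z
    obtain ⟨p, hp'⟩ := (LinearMap.injective_iff_surjective_of_finrank_eq_finrank (by simp [hK])).1 hL z
    exact ⟨p.1, p.2, by rw [← hp', hφ]; simp [L]⟩
  have : Nontrivial (ι → F) := by
    have : Nonempty ι := Fintype.card_pos_iff.1 (by omega)
    infer_instance
  obtain ⟨u, hu⟩ := exists_anisotropic Q hQ
  have hnd : LinearMap.BilinForm.Nondegenerate Q.polarBilin :=
    ⟨fun a ha => hQ a ha, fun a ha => hQ a fun y => by rw [QuadraticMap.polar_comm]; exact ha y⟩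
  have hdim : Module.finrank F (ι → F) = 2 * k := by rw [Module.finrank_fintype_fun_eq_card, hk]
  obtain ⟨P, hP⟩ : ∃ P, P = Submodule.span F ({u, S.map u} : Set (ι → F)) := ⟨_, rfl⟩
  obtain ⟨w, hwP, hw⟩ : ∃ w ∈ tsPerp Q P, Q w ≠ 0 := by
    by_contra h
    push Not at h
    have h1 := finrank_ts_le Q hnd hdim h
    rw [finrank_tsPerp Q hnd hdim] at h1
    have h3 : Module.finrank F P ≤ 2 := by
      classical
      rw [hP]
      refine (finrank_span_le_card _).trans ?_
      simp only [Set.toFinset_insert, Set.toFinset_singleton]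
      exact Finset.card_le_two
    omega
  have huw : polar Q u w = 0 := mem_tsPerp.1 hwP u (hP ▸ Submodule.subset_span (by simp))
  have hSuw : polar Q (S.map u) w = 0 := mem_tsPerp.1 hwP _ (hP ▸ Submodule.subset_span (by simp))
  let H : (ι → F) → K := fun v => φ (polar Q v (S.map v)) + 2 * φ (Q v) * r
  have hH0 : ∀ v, Q v ≠ 0 → H v ≠ 0 := fun v hv h => hv (by
    have := (hli (polar Q v (S.map v)) (2 * Q v) (by rw [map_mul, map_ofNat]; exact h)).2
    exact (mul_eq_zero.1 this).resolve_left h2)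
  obtain ⟨z₁, z₂, hz⟩ := exists_binary_eq (two_ne_zero_ext (F := F) (K := K) h2) (hH0 u hu) (hH0 w hw) r
  obtain ⟨x, y, rfl⟩ := hspan z₁
  obtain ⟨x', y', rfl⟩ := hspan z₂
  obtain ⟨v, hv⟩ : ∃ v, v = x • u + y • S.map u + (x' • w + y' • S.map w) := ⟨_, rfl⟩
  have hSv : S.map v = x • S.map u + (y * l) • u + (x' • S.map w + (y' * l) • w) := by
    rw [hv]; simp only [map_add, hlin, hSS, smul_smul]
  have huSw : polar Q u (S.map w) = 0 := by rw [← hsymm, hSuw]
  have hSuSw : polar Q (S.map u) (S.map w) = 0 := by rw [hp, huw, mul_zero]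
  have hwu : polar Q w u = 0 := by rw [QuadraticMap.polar_comm, huw]
  have hwSu : polar Q w (S.map u) = 0 := by rw [QuadraticMap.polar_comm, hSuw]
  have hSwu : polar Q (S.map w) u = 0 := by rw [QuadraticMap.polar_comm, huSw]
  have hSwSu : polar Q (S.map w) (S.map u) = 0 := by rw [QuadraticMap.polar_comm, hSuSw]
  have hself : ∀ z, polar Q z z = 2 * Q z := fun z => by rw [QuadraticMap.polar_self]; simp
  have hβ : polar Q v (S.map v) = (x * x + (l : F) * (y * y)) * polar Q u (S.map u) +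
      4 * (l : F) * (x * y) * Q u + ((x' * x' + (l : F) * (y' * y')) * polar Q w (S.map w) +
        4 * (l : F) * (x' * y') * Q w) := by
    rw [hSv, hv]
    simp only [QuadraticMap.polar_add_left, QuadraticMap.polar_add_right, QuadraticMap.polar_smul_left,
      QuadraticMap.polar_smul_right, smul_eq_mul, huw, hSuw, huSw, hSuSw, hwu, hwSu, hSwu, hSwSu, hp, hself,
      hsymm u u, hsymm w w]
    ring
  have hQv : Q v = (x * x + (l : F) * (y * y)) * Q u + x * y * polar Q u (S.map u) +
      ((x' * x' + (l : F) * (y' * y')) * Q w + x' * y' * polar Q w (S.map w)) := by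
    rw [hv]
    simp only [QuadraticMap.map_add (Q : QuadraticMap F (ι → F) F), quad_smul, hq, QuadraticMap.polar_add_left,
      QuadraticMap.polar_add_right, QuadraticMap.polar_smul_left, QuadraticMap.polar_smul_right, smul_eq_mul,
      huw, hSuw, huSw, hSuSw]
    ring
  have hr' : r * r = φ (l : F) := hr.symm
  have e : φ (polar Q v (S.map v)) + φ (2 * Q v - 1) * r = 0 := by
    rw [hβ, hQv]
    simp only [map_add, map_mul, map_sub, map_ofNat, map_one]
    simp only [H] at hz
    linear_combination hz - ((φ y) ^ 2 * φ (polar Q u (S.map u)) + (φ y') ^ 2 * φ (polar Q w (S.map w)) +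
      4 * φ x * φ y * φ (Q u) + 4 * φ x' * φ y' * φ (Q w) +
      2 * r * ((φ y) ^ 2 * φ (Q u) + (φ y') ^ 2 * φ (Q w))) * hr'
  obtain ⟨e1, e2⟩ := hli _ _ e
  exact ⟨v, fun h => by rw [h] at e2; simp at e2, e1⟩

include hQ h2 hk in
theorem exists_spinor_commute (hk3 : 3 ≤ k) {S : SemiSim Q} (hS : S.σ = 1)
    (hSd : S.sdet ≠ (S.c : F) ^ k) {l : Fˣ} (hl : S * S = scalar l) :
    ∃ g : quadIsoms Q, (spin hQ h2 g).1 = 1 ∧ (spin hQ h2 g).2 ≠ 1 ∧
      Commute (autC Q (isomHom g)) (autC Q S) := by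
  have hcl := (det_scalar_sq hQ h2 hk hS hl).resolve_right hSd
  by_cases hSc : sqProj F S.c = 1
  · obtain ⟨s, g, hs, hSg, -⟩ := exists_isom_of_det_ne hQ h2 hk hS hSc hSd
    have hgg : ∀ v, g.1 (g.1 v) = v := fun v => by
      have h1 : S.map (S.map v) = (l : F) • v := by rw [← mul_map, hl, scalar_map]
      rw [hSg] at h1
      simp only [mul_map, scalar_map] at h1
      change (s : F) • g.1 ((s : F) • g.1 v) = (l : F) • v at h1
      rw [_root_.map_smul, smul_smul, ← Units.val_mul, hs, hcl] at h1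
      exact smul_right_injective _ l.ne_zero h1
    obtain ⟨v, w, hv, hw, e, he, hve, hwe, hvw⟩ := exists_pair_eigen hQ h2 hk hk3 g.2 hgg
    have he0 : e ≠ 0 := by rcases he with rfl | rfl <;> simp
    have hmap : ∀ z, g.1 z = e • z → S.map z = ((s : F) * e) • z := fun z hz => by
      rw [hSg, mul_map, scalar_map, mul_smul]
      exact congrArg _ hz
    refine ⟨⟨reflEquiv Q v hv, reflEquiv_mem Q v hv⟩ * ⟨reflEquiv Q w hw, reflEquiv_mem Q w hw⟩, ?_, ?_, ?_⟩
    · rw [map_mul, spin_refl, spin_refl, Prod.fst_mul]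
      exact ofAdd_one_mul_self
    · rw [map_mul, spin_refl, spin_refl]
      exact hvw
    · rw [map_mul, map_mul]
      exact (commute_autC_of_conj (refl_conj_fix hS hv (mul_ne_zero s.ne_zero he0) (hmap v hve))).mul_left
        (commute_autC_of_conj (refl_conj_fix hS hw (mul_ne_zero s.ne_zero he0) (hmap w hwe)))
  · have hns : ¬ IsSquare (l : F) := fun h => hSc (by
      rw [show S.c = Units.mk0 (S.c : F) S.c.ne_zero from Units.ext rfl]
      exact (sqClass_eq_one_iff S.c.ne_zero).2 (hcl ▸ h))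
    obtain ⟨v, hv, hperp⟩ := exists_vector_perp_image hQ h2 hk hk3 hS hl hcl hns
    have hv' : Q (S.map v) ≠ 0 := by rw [S.map_quad, hS]; exact mul_ne_zero S.c.ne_zero hv
    have hSS : S.map (S.map v) = (l : F) • v := by rw [← mul_map, hl, scalar_map]
    have hv'' : Q (S.map (S.map v)) ≠ 0 := by rw [S.map_quad, hS]; exact mul_ne_zero S.c.ne_zero hv'
    obtain ⟨A, hA⟩ : ∃ A : quadIsoms Q, A = ⟨reflEquiv Q v hv, reflEquiv_mem Q v hv⟩ := ⟨_, rfl⟩
    obtain ⟨B, hB⟩ : ∃ B : quadIsoms Q, B = ⟨reflEquiv Q (S.map v) hv', reflEquiv_mem Q _ hv'⟩ := ⟨_, rfl⟩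
    have hSA : S * isomHom A * S⁻¹ = isomHom B := by rw [hA, hB, isom_conj_refl S hv hv']
    have hSB : S * isomHom B * S⁻¹ = isomHom A := by
      rw [hA, hB, isom_conj_refl S hv' hv'']
      refine congrArg isomHom (Subtype.ext ?_)
      show reflEquiv Q (S.map (S.map v)) hv'' = reflEquiv Q v hv
      simp only [hSS]
      exact reflEquiv_smul Q v l l.ne_zero hv (hSS ▸ hv'')
    have hAB : A * B = B * A := by
      rw [hA, hB]
      refine Subtype.ext (LinearEquiv.ext fun z => ?_)
      show reflEquiv Q v hv (reflEquiv Q _ hv' z) = reflEquiv Q _ hv' (reflEquiv Q v hv z)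
      rw [reflEquiv_apply Q (S.map v) hv' z, map_sub, _root_.map_smul, reflEquiv_fix Q v hv hperp,
        reflEquiv_apply Q (S.map v) hv', reflEquiv_apply Q v hv z]
      simp [QuadraticMap.polar_sub_right, QuadraticMap.polar_smul_right,
        show polar Q (S.map v) v = 0 by rw [QuadraticMap.polar_comm, hperp]]
    refine ⟨A * B, ?_, ?_, commute_autC_of_conj ?_⟩
    · rw [hA, hB, map_mul, spin_refl, spin_refl, Prod.fst_mul]
      exact ofAdd_one_mul_self
    · rw [hA, hB, map_mul, spin_refl, spin_refl, Prod.snd_mul, ← sqClass_mul, Ne, sqClass_eq_one_iff,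
        S.map_quad, hS, hcl]
      rintro ⟨t, ht⟩
      exact hns ⟨t / Q v, by
        field_simp
        rw [RingAut.one_apply] at ht
        linear_combination ht⟩
    · rw [map_mul, show S * (isomHom A * isomHom B) * S⁻¹ = (S * isomHom A * S⁻¹) * (S * isomHom B * S⁻¹) by
        group, hSA, hSB, ← map_mul, ← map_mul, hAB]

end SemiSim

end CfsgLib.Classical
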