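import Mathlib
import Cfsg.Agent.Lib.Classical.OrthGraphExists
import Cfsg.Agent.Lib.KnownC.SplitClass
import Cfsg.Agent.Lib.KnownC.FieldAut

/-!
Splitting of classes of involutory graph automorphisms of orthogonal groups in odd characteristic.
-/

set_option autoImplicit false
set_option linter.unusedSectionVars false

namespace CfsgLib.Classical

open CfsgLib.Geom
open QuadraticMap (polar)

universe u

namespace SemiSim

variable {F : Type u} [Field F] [Finite F] {ι : Type} [Fintype ι] [DecidableEq ι]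
variable {Q : QuadraticForm F (ι → F)}
variable (hQ : ∀ x, (∀ y, polar Q x y = 0) → x = 0) (h2 : (2 : F) ≠ 0)
variable {k : ℕ} (hk : Fintype.card ι = 2 * k)

include h2 hk in
theorem relIndex_soScal_diag (hns : ∃ τ ∈ diagSub Q k, sqProj F τ.c ≠ 1) :
    (soScal Q).relIndex (diagSub Q k) = 2 := by
  obtain ⟨τ, hτ, hτc⟩ := hns
  rw [Subgroup.relIndex, Subgroup.index_eq_two_iff]
  refine ⟨⟨τ, hτ⟩, fun b => ?_⟩
  rw [Subgroup.mem_subgroupOf, Subgroup.mem_subgroupOf, mem_soScal hk, mem_soScal hk, Subgroup.coe_mul,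
    c_mul_of_σ (mem_diagSub.1 b.2).1, map_mul]
  by_cases h : sqProj F b.1.c = 1
  · refine Or.inr ⟨⟨b.2, h⟩, fun e => hτc ?_⟩
    simpa [h] using e.2
  · exact Or.inl ⟨⟨(diagSub Q k).mul_mem b.2 hτ, by rw [sqClass_two _ _ h hτc, sqClass_mul_self]⟩, fun e => h e.2⟩

include hQ h2 hk in
theorem split_count {m : ℕ} (K : OFrame Q m) (hk3 : 3 ≤ k)
    (hns : ∃ τ ∈ diagSub Q k, sqProj F τ.c ≠ 1) {S : SemiSim Q} (hS : S.σ = 1)
    (hSd : S.sdet ≠ (S.c : F) ^ k) {l : Fˣ} (hl : S * S = scalar l) :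
    (Cfsg.splitClassCount ((diagSub Q k).map (autC Q)) (Cfsg.Inn (Cfsg.POmega F (⇑Q))) (autC Q S) = 1 ∨
      Cfsg.splitClassCount ((diagSub Q k).map (autC Q)) (Cfsg.Inn (Cfsg.POmega F (⇑Q))) (autC Q S) = 2) ∧
    ((spin hQ h2 (negI Q) = 1 ∨ Even k) →
      Cfsg.splitClassCount ((diagSub Q k).map (autC Q)) (Cfsg.Inn (Cfsg.POmega F (⇑Q))) (autC Q S) = 2) := by
  have hnorm : (Cfsg.Inn (Cfsg.POmega F (⇑Q))).Normal := by
    refine ⟨fun β ⟨x, hx⟩ α => ⟨α x, MulEquiv.ext fun y => ?_⟩⟩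
    subst hx
    simp [MulAut.conj_apply]
  have hsd : soScal Q ≤ diagSub Q k := fun T hT => ((mem_soScal hk).1 hT).1
  have hid : innerSub Q ≤ diagSub Q k := innerSub_le_soScal.trans hsd
  obtain ⟨A, hA⟩ : ∃ A, A = diagSub Q k ⊓ (Subgroup.centralizer {autC Q S}).comap (autC Q) := ⟨_, rfl⟩
  have hAm : (diagSub Q k).map (autC Q) ⊓ Subgroup.centralizer {autC Q S} = A.map (autC Q) := by
    ext β
    constructor
    · rintro ⟨⟨T, hT, rfl⟩, hc⟩
      exact ⟨T, hA ▸ ⟨hT, hc⟩, rfl⟩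
    · rintro ⟨T, hT, rfl⟩
      rw [hA] at hT
      exact ⟨⟨T, hT.1, rfl⟩, hT.2⟩
  rw [CfsgLib.KnownC.splitClassCount_eq _ _ (by rw [← map_innerSub K]; exact Subgroup.map_mono hid), hAm,
    ← map_innerSub K, ← Subgroup.map_sup, Subgroup.relIndex_map_map,
    sup_eq_left.2 ((autC_ker_le_innerSub K).trans le_sup_left),
    sup_eq_left.2 ((autC_ker_le_innerSub K).trans hid)]
  have h2' := relIndex_soScal_diag h2 hk hns
  have hAso : (spin hQ h2 (negI Q) = 1 ∨ Even k) → A ≤ soScal Q := fun h T hT => by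
    rw [hA] at hT
    exact soScal_of_commute hQ h2 hk K hS hSd hl hT.1
      (Subgroup.mem_centralizer_singleton_iff.1 hT.2) h
  have hge : soScal Q ≤ innerSub Q ⊔ A := by
    by_cases hneg : spin hQ h2 (negI Q) = 1
    · obtain ⟨g, hg1, hg2, hgc⟩ := exists_spinor_commute hQ h2 hk hk3 hS hSd hl
      have hgA : isomHom g ∈ A := hA ▸ ⟨hsd (Subgroup.mem_sup_right (mem_soSub.2
        ⟨g, (spin_fst_eq_one_iff hQ h2 g).1 hg1, rfl⟩)), Subgroup.mem_centralizer_singleton_iff.2 hgc⟩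
      refine sup_le ((le_sup_left : (scalar (Q := Q)).range ≤ innerSub Q).trans le_sup_left) fun T hT => ?_
      obtain ⟨y, hy, rfl⟩ := mem_soSub.1 hT
      have hy1 := (spin_fst_eq_one_iff hQ h2 y).2 hy
      by_cases hy2 : (spin hQ h2 y).2 = 1
      · exact Subgroup.mem_sup_left ((isom_mem_innerSub_iff hQ h2 K y).2 (Or.inl (Prod.ext hy1 hy2)))
      · rw [show y = y * g * g⁻¹ from (mul_inv_cancel_right y g).symm, map_mul, map_inv]
        refine Subgroup.mul_mem_sup ?_ (A.inv_mem hgA)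
        refine (isom_mem_innerSub_iff hQ h2 K _).2 (Or.inl ?_)
        rw [map_mul]
        refine Prod.ext ?_ ?_
        · rw [Prod.fst_mul, hy1, hg1, Prod.fst_one, one_mul]
        · rw [Prod.snd_mul, sqClass_two _ _ hy2 hg2, sqClass_mul_self, Prod.snd_one]
    · exact (soScal_le_innerSub hQ h2 hk K hneg).trans le_sup_left
  constructor
  · have h := Subgroup.relIndex_dvd_of_le_left (diagSub Q k) hge
    rw [h2'] at h
    rcases (Nat.dvd_prime Nat.prime_two).1 h with e | e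
    · exact Or.inl e
    · exact Or.inr e
  · intro h
    rw [le_antisymm (sup_le innerSub_le_soScal (hAso h)) hge, h2']

include hQ hk in
/-- A semisimilarity of projective order two is linear when the discriminant is a non-square wherever needed. -/
theorem σ_eq_one_of_sq [Fintype F] (h2 : (2 : F) ≠ 0) {S : SemiSim Q} {l : Fˣ} (hl : S * S = scalar l)
    (hD : IsSquare (-1 : F) → ¬ IsSquare (LinearMap.toMatrix₂' F Q.polarBilin).det) : S.σ = 1 := by
  by_contra hσ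
  have hσ2 : S.σ * S.σ = 1 := by rw [← mul_σ, hl, scalar_σ]
  have hodd := FiniteField.odd_card_of_char_ne_two (ringChar_ne_two_of_ne h2)
  obtain ⟨p, f, hp, hf, hF⟩ : ∃ p f : ℕ, p.Prime ∧ 1 ≤ f ∧ Fintype.card F = p ^ f := by
    obtain ⟨p, hp⟩ := CharP.exists F
    obtain ⟨n, hprime, hn⟩ := FiniteField.card F p
    exact ⟨p, n, hprime, n.pos, hn⟩
  have : Fact p.Prime := ⟨hp⟩
  obtain ⟨φ, hφ, hφo, hφg⟩ := CfsgLib.KnownC.exists_ringAut_generator hF
  obtain ⟨i, hi⟩ : ∃ i : ℕ, φ ^ i = S.σ :=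
    (orderOf_pos_iff.1 (by omega : 0 < orderOf φ)).mem_powers_iff_mem_zpowers.2 (hφg S.σ)
  obtain ⟨n, hn, hn2⟩ : ∃ n : ℕ, (∀ x : F, S.σ x = x ^ n) ∧ n * n = Fintype.card F := by
    have hpow : ∀ j : ℕ, ∀ x : F, (φ ^ j) x = x ^ p ^ j := by
      intro j
      induction j with
      | zero => simp
      | succ j ih =>
        intro x
        rw [pow_succ', RingAut.mul_apply, hφ, ih, ← pow_mul, pow_succ]
    have hj : φ ^ (i % f) = S.σ := by rw [← hφo, pow_mod_orderOf, hi]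
    have hd : f ∣ i % f * 2 := by
      rw [← hφo, orderOf_dvd_iff_pow_eq_one, pow_mul, sq, hφo, hj, hσ2]
    have hne : i % f ≠ 0 := fun h => hσ (by rw [← hj, h, pow_zero])
    have hlt : i % f < f := Nat.mod_lt _ (by omega)
    obtain ⟨d, hd⟩ := hd
    have hd1 : d = 1 := by
      rcases d with _ | _ | d
      · omega
      · rfl
      · nlinarith
    refine ⟨p ^ (i % f), fun x => by rw [← hj, hpow], ?_⟩
    rw [hF, ← pow_add]
    congr 1
    rw [hd1] at hd
    omega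
  obtain ⟨t, ht⟩ : ∃ t, n = 2 * t + 1 := by
    rcases Nat.even_or_odd n with ⟨t, ht⟩ | ⟨t, ht⟩
    · rw [← hn2, ht, ← mul_two, mul_assoc] at hodd
      simp [Nat.mul_mod] at hodd
    · exact ⟨t, ht⟩
  have h4 : Fintype.card F % 4 ≠ 3 := by
    rw [← hn2, ht, show (2 * t + 1) * (2 * t + 1) = 4 * (t * t + t) + 1 by ring]
    omega
  have hneg : IsSquare (-1 : F) := FiniteField.isSquare_neg_one_iff.2 h4
  obtain ⟨D, hDdef⟩ : ∃ D, D = (LinearMap.toMatrix₂' F Q.polarBilin).det := ⟨_, rfl⟩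
  have hD0 : D ≠ 0 := hDdef ▸ detJ_ne_zero hQ
  have h1 : D ^ (Fintype.card F / 2) = -1 :=
    (FiniteField.pow_dichotomy (ringChar_ne_two_of_ne h2) hD0).resolve_left fun e => hD hneg
      (hDdef ▸ (FiniteField.isSquare_iff (ringChar_ne_two_of_ne h2) hD0).2 e)
  obtain ⟨u, hu⟩ : ∃ u, u = S.sdet / (S.c : F) ^ k := ⟨_, rfl⟩
  have hu2 : u * u * D = D ^ n := by
    have h := S.sdet_sq
    rw [← hDdef, hn, hk, two_mul, pow_add] at h
    rw [hu]
    field_simp
    linear_combination h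
  have hN : u * u ^ n = 1 := by
    have hd := congrArg SemiSim.sdet hl
    rw [sdet_mul, sdet_scalar, hn] at hd
    have hc := congrArg (fun T : SemiSim Q => (T.c : F)) hl
    simp only [mul_c, scalar_c, Units.val_mul, hn] at hc
    have hl0 : (l : F) ^ Fintype.card ι ≠ 0 := pow_ne_zero _ l.ne_zero
    rw [hu, div_pow, ← pow_mul, mul_comm k n, pow_mul, div_mul_div_comm, hd, ← mul_pow, hc, ← sq, ← pow_mul,
      ← hk, div_self hl0]
  have hu' : u * u = D ^ (2 * t) := by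
    rw [ht, pow_succ] at hu2
    exact mul_right_cancel₀ hD0 hu2
  rw [show u * u ^ n = (u * u) ^ (t + 1) by rw [← sq, ← pow_mul, ← pow_succ', ht]; congr 1, hu', ← pow_mul] at hN
  rw [show Fintype.card F / 2 = 2 * t * (t + 1) by
    rw [← hn2, ht, show (2 * t + 1) * (2 * t + 1) = 2 * (2 * t * (t + 1)) + 1 by ring]; omega, hN] at h1
  exact h2 (by linear_combination h1)

theorem mem_range_of_gamma {β : MulAut (Cfsg.POmega F (⇑Q))} (h : β ∈ Cfsg.gammaPOmega F (⇑Q)) :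
    ∃ S : SemiSim Q, β = autC Q S := by
  have hle : Cfsg.gammaPOmega F (⇑Q) ≤ (autC Q).range := (Subgroup.closure_le _).2 (by
    rintro b ⟨g, σ, hg, hb⟩
    exact ⟨ofPair hg, ((isInduced_iff hg b).1 hb).symm⟩)
  obtain ⟨S, hS⟩ := hle h
  exact ⟨S, hS.symm⟩

theorem exists_scalar_of_orderOf_two {m : ℕ} (K : OFrame Q m) {S : SemiSim Q}
    (h : orderOf (autC Q S) = 2) : ∃ l : Fˣ, S * S = scalar l := by
  refine (autC_eq_one_iff K _).1 ?_
  rw [map_mul, ← sq, ← h, pow_orderOf_eq_one]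

end SemiSim

theorem disc_minus_nonsquare {F : Type*} [Field F] [Fintype F] (h2 : (2 : F) ≠ 0) (m : ℕ) {a b : F}
    (hab : ∀ z₁ z₂ : F, z₁ ^ 2 + a * z₁ * z₂ + b * z₂ ^ 2 = 0 → z₁ = 0 ∧ z₂ = 0)
    (hneg : IsSquare (-1 : F)) :
    ¬ IsSquare (LinearMap.toMatrix₂' F (qfMinus m F a b).polarBilin).det := by
  rw [qfMinus_eq_minusForm, minusForm_disc]
  rintro ⟨r, hr⟩
  obtain ⟨i, hi⟩ := hneg
  have hi0 : i ≠ 0 := fun h => by
    rw [h, mul_zero] at hi
    exact neg_ne_zero.2 one_ne_zero hi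
  exact not_isSquare_disc h2 a b hab ⟨r / i ^ (m + 1), by
    have h' : (-1 : F) ^ (m + 1) = i ^ (m + 1) * i ^ (m + 1) := by rw [← mul_pow, ← hi]
    field_simp
    rw [show (-1 : F) ^ m * (4 * b - a * a) = (-1) ^ (m + 1) * (a * a - 4 * b) by ring, h'] at hr
    linear_combination hr⟩

end CfsgLib.Classical
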