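import Mathlib
import Cfsg.Agent.Lib.Classical.SkewDet
import Cfsg.Agent.Lib.Classical.OrthDiagBasic
import Cfsg.Agent.Lib.Classical.OrthDiagQuot
import Cfsg.Agent.Lib.Geom.FormClass

/-!
Tori from a self-adjoint commutative reduced algebra and a skew endomorphism: similitudes and spinor norms.
-/

set_option autoImplicit false
set_option linter.unusedSectionVars false

namespace CfsgLib.Classical

open CfsgLib.Geom
open QuadraticMap (polar)

universe u

variable {F : Type u} [Field F] [Finite F] {ι : Type} [Fintype ι] [DecidableEq ι]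
variable {Q : QuadraticForm F (ι → F)}

/-- A commutative reduced algebra of self-adjoint maps with a skew map whose square it contains. -/
structure SkewData (Q : QuadraticForm F (ι → F)) where
  R : Subalgebra F (Module.End F (ι → F))
  comm : ∀ x ∈ R, ∀ y ∈ R, Commute x y
  selfAdj : ∀ x ∈ R, ∀ v w, polar Q (x v) w = polar Q v (x w)
  reduced : ∀ x ∈ R, IsNilpotent x → x = 0
  h : Module.End F (ι → F)
  h_inj : Function.Injective h
  h_skew : ∀ v w, polar Q (h v) w = -polar Q v (h w)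
  h_comm : ∀ x ∈ R, Commute x h
  h_sq : h * h ∈ R

theorem finite_end : Finite (Module.End F (ι → F)) :=
  Finite.of_injective (fun f : Module.End F (ι → F) => (f : (ι → F) → (ι → F))) DFunLike.coe_injective

/-- Minus one on the span of an orthogonal family is a product of reflections. -/
theorem exists_neg_family (hQ : ∀ x, (∀ y, polar Q x y = 0) → x = 0) (h2 : (2 : F) ≠ 0) {n : Type*} [Fintype n]
    (b : n → ι → F) (hb : ∀ i j, i ≠ j → polar Q (b i) (b j) = 0) (hne : ∀ i, Q (b i) ≠ 0) :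
    ∃ g : quadIsoms Q, spin hQ h2 g = (Multiplicative.ofAdd 1 ^ Fintype.card n, ∏ i, sqClass (hne i)) ∧
      (∀ i, g.1 (b i) = -b i) ∧ ∀ z, (∀ i, polar Q (b i) z = 0) → g.1 z = z := by
  classical
  have key : ∀ s : Finset n, ∃ g : quadIsoms Q,
      spin hQ h2 g = (Multiplicative.ofAdd 1 ^ s.card, ∏ i ∈ s, sqClass (hne i)) ∧
      (∀ i ∈ s, g.1 (b i) = -b i) ∧ ∀ z, (∀ i ∈ s, polar Q (b i) z = 0) → g.1 z = z := by
    intro s
    induction s using Finset.induction_on with
    | empty => exact ⟨1, by rw [map_one, Finset.card_empty, pow_zero, Finset.prod_empty]; rfl,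
        fun i hi => absurd hi (Finset.notMem_empty i), fun z _ => rfl⟩
    | @insert l s hl ih =>
      obtain ⟨g, hg, hgs, hgz⟩ := ih
      refine ⟨⟨reflEquiv Q _ (hne l), reflEquiv_mem Q _ (hne l)⟩ * g, ?_, fun i hi => ?_, fun z hz => ?_⟩
      · rw [map_mul, spin_refl, hg, Finset.card_insert_of_notMem hl, Finset.prod_insert hl, pow_succ']
        rfl
      · show reflEquiv Q _ (hne l) (g.1 (b i)) = -b i
        rcases Finset.mem_insert.1 hi with rfl | hi
        · rw [hgz _ fun j hj => hb j i fun e => hl (e ▸ hj), reflEquiv_apply, QuadraticMap.polar_self]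
          have h := hne i
          match_scalars
          field_simp
          ring
        · rw [hgs i hi, map_neg, reflEquiv_fix Q _ (hne l) (hb l i fun e => hl (e ▸ hi))]
      · show reflEquiv Q _ (hne l) (g.1 z) = z
        rw [hgz z fun i hi => hz i (Finset.mem_insert_of_mem hi),
          reflEquiv_fix Q _ (hne l) (hz l (Finset.mem_insert_self _ _))]
  obtain ⟨g, h1, h3, h4⟩ := key Finset.univ
  exact ⟨g, h1, fun i => h3 i (Finset.mem_univ i), fun z hz => h4 z fun i _ => hz i⟩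

namespace SkewData

variable (D : SkewData Q)

/-- The commutative ring structure. -/
instance : CommRing D.R :=
  { (inferInstance : Ring D.R) with
    mul_comm := fun x y => Subtype.ext (D.comm x.1 x.2 y.1 y.2) }

instance : Finite D.R := by
  have := finite_end (F := F) (ι := ι)
  exact Subtype.finite

instance : IsReduced D.R :=
  ⟨fun x hx => Subtype.ext (D.reduced x.1 x.2 (hx.map D.R.val.toRingHom))⟩

/-- The square of the skew map, in the algebra. -/
def s : D.R := ⟨D.h * D.h, D.h_sq⟩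

theorem isUnit_of_injective (x : D.R) (hx : Function.Injective x.1) : IsUnit x := by
  have hinj : Function.Injective (fun y : D.R => x * y) := fun y z e =>
    Subtype.ext (LinearMap.ext fun v => hx (LinearMap.congr_fun (congrArg Subtype.val e) v))
  obtain ⟨y, hy⟩ := (Finite.injective_iff_surjective.1 hinj) 1
  exact IsUnit.of_mul_eq_one y hy

theorem isUnit_s : IsUnit D.s :=
  D.isUnit_of_injective D.s fun _ _ e => D.h_inj (D.h_inj e)

theorem injective_of_isUnit (x : D.R) (hx : IsUnit x) : Function.Injective x.1 := by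
  obtain ⟨y, hy⟩ := isUnit_iff_exists_inv'.1 hx
  intro u v e
  have := congrArg (fun f : Module.End F (ι → F) => f u - f v) (congrArg Subtype.val hy)
  simp only [Subalgebra.coe_mul, Subalgebra.coe_one, Module.End.mul_apply, Module.End.one_apply, e,
    sub_self] at this
  exact sub_eq_zero.1 this.symm

theorem exists_repr (h2 : (2 : F) ≠ 0) (w : D.R) : ∃ x y : D.R, x * x - D.s * (y * y) = w := by
  have key : ∀ M : MaximalSpectrum D.R, ∃ a b : D.R ⧸ M.asIdeal,
      a * a - Ideal.Quotient.mk M.asIdeal D.s * (b * b) = Ideal.Quotient.mk M.asIdeal w := by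
    intro M
    have := M.isMaximal
    let _ : Field (D.R ⧸ M.asIdeal) := Ideal.Quotient.field M.asIdeal
    have : Finite (D.R ⧸ M.asIdeal) := Finite.of_surjective _ Ideal.Quotient.mk_surjective
    have h2' : (2 : D.R ⧸ M.asIdeal) ≠ 0 := fun h => h2 ((algebraMap F (D.R ⧸ M.asIdeal)).injective
      (by rw [map_ofNat, map_zero]; exact h))
    obtain ⟨a, b, hab⟩ := exists_binary_eq h2' (one_ne_zero (α := D.R ⧸ M.asIdeal))
      (neg_ne_zero.2 (D.isUnit_s.map (Ideal.Quotient.mk M.asIdeal)).ne_zero)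
      (Ideal.Quotient.mk M.asIdeal w)
    exact ⟨a, b, by linear_combination hab⟩
  choose a b hab using key
  obtain ⟨x, hx⟩ := (IsArtinianRing.equivPi D.R).surjective a
  obtain ⟨y, hy⟩ := (IsArtinianRing.equivPi D.R).surjective b
  refine ⟨x, y, (IsArtinianRing.equivPi D.R).injective (funext fun M => ?_)⟩
  have := hab M
  rw [← hx, ← hy] at this
  simp only [IsArtinianRing.equivPi_apply] at this ⊢
  simpa using this

/-- The map `x + y h`. -/
def el (x y : D.R) : Module.End F (ι → F) := x.1 + y.1 * D.h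

theorem el_apply (x y : D.R) (v : ι → F) : D.el x y v = x.1 v + y.1 (D.h v) := rfl

theorem h_apply_comm (x : D.R) (v : ι → F) : D.h (x.1 v) = x.1 (D.h v) :=
  (LinearMap.congr_fun (D.h_comm x.1 x.2).eq v).symm

theorem R_apply_comm (x y : D.R) (v : ι → F) : x.1 (y.1 v) = y.1 (x.1 v) :=
  LinearMap.congr_fun (D.comm x.1 x.2 y.1 y.2).eq v

theorem el_comm (x y a b : D.R) : Commute (D.el x y) (D.el a b) := by
  refine LinearMap.ext fun v => ?_
  show D.el x y (D.el a b v) = D.el a b (D.el x y v)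
  simp only [el_apply, map_add, D.h_apply_comm]
  rw [D.R_apply_comm x a, D.R_apply_comm x b, D.R_apply_comm y a, D.R_apply_comm y b]
  abel

theorem polar_el (x y : D.R) {w : D.R} (hw : x * x - D.s * (y * y) = w) (v z : ι → F) :
    polar Q (D.el x y v) (D.el x y z) = polar Q (w.1 v) z := by
  have e : w.1 v = x.1 (x.1 v) - D.h (D.h (y.1 (y.1 v))) := by rw [← hw]; rfl
  rw [e, el_apply, el_apply]
  simp only [QuadraticMap.polar_add_left, QuadraticMap.polar_add_right, QuadraticMap.polar_sub_left,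
    D.selfAdj x.1 x.2, D.selfAdj y.1 y.2, D.h_skew]
  simp only [D.h_apply_comm, D.R_apply_comm y x]
  ring

theorem quad_el (h2 : (2 : F) ≠ 0) (x y : D.R) {c : F} (hc : x * x - D.s * (y * y) = algebraMap F D.R c)
    (v : ι → F) : Q (D.el x y v) = c * Q v := by
  have h := D.polar_el x y hc v v
  rw [show (algebraMap F D.R c).1 v = c • v from rfl, QuadraticMap.polar_smul_left, QuadraticMap.polar_self,
    QuadraticMap.polar_self] at h
  refine mul_left_cancel₀ h2 ?_
  simp only [smul_eq_mul] at h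
  linear_combination h

theorem el_injective (hQ : ∀ x, (∀ y, polar Q x y = 0) → x = 0) (x y : D.R) {w : D.R}
    (hw : x * x - D.s * (y * y) = w) (hu : IsUnit w) : Function.Injective (D.el x y) :=
  (injective_iff_map_eq_zero (D.el x y)).2 fun v hv => D.injective_of_isUnit w hu (by
    rw [map_zero]
    exact hQ _ fun z => by rw [← D.polar_el x y hw, hv, QuadraticMap.polar_zero_left])

include D in
theorem exists_similitude (hQ : ∀ x, (∀ y, polar Q x y = 0) → x = 0) (h2 : (2 : F) ≠ 0) {k : ℕ}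
    (hk : Fintype.card ι = 2 * k) (c : Fˣ) :
    ∃ f : Module.End F (ι → F), (∀ v, Q (f v) = (c : F) * Q v) ∧ LinearMap.det f = (c : F) ^ k ∧
      ∀ a b : D.R, Commute f (D.el a b) := by
  obtain ⟨x, y, hxy⟩ := D.exists_repr h2 (algebraMap F D.R (c : F))
  refine ⟨D.el x y, D.quad_el h2 x y hxy, ?_, D.el_comm x y⟩
  refine det_symp_similitude (Q.polarBilin ∘ₗ D.h) (fun v => ?_) (fun v hv => ?_)
    (by rw [Module.finrank_fintype_fun_eq_card, hk]) _ c.ne_zero fun v z => ?_
  · show polar Q (D.h v) v = 0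
    have h := D.h_skew v v
    rw [QuadraticMap.polar_comm Q v (D.h v)] at h
    exact (mul_eq_zero.1 (show (2 : F) * polar Q (D.h v) v = 0 by linear_combination h)).resolve_left h2
  · exact D.h_inj ((hQ _ hv).trans (map_zero _).symm)
  · show polar Q (D.h (D.el x y v)) (D.el x y z) = (c : F) * polar Q (D.h v) z
    rw [show D.h (D.el x y v) = D.el x y (D.h v) by simp only [el_apply, map_add, D.h_apply_comm],
      D.polar_el x y hxy, show (algebraMap F D.R (c : F)).1 (D.h v) = (c : F) • D.h v from rfl,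
      QuadraticMap.polar_smul_left, smul_eq_mul]

/-- A component of the algebra and an anisotropic vector in it. -/
theorem exists_component [Nonempty ι] (hQ : ∀ x, (∀ y, polar Q x y = 0) → x = 0) :
    ∃ (M : MaximalSpectrum D.R) (v : ι → F), Q v ≠ 0 ∧
      ∀ x : D.R, x ∈ M.asIdeal ↔ x.1 v = 0 := by
  classical
  have : Nontrivial D.R := ⟨1, 0, fun e => by
    obtain ⟨i⟩ := (inferInstance : Nonempty ι)
    have := congrFun (LinearMap.congr_fun (congrArg Subtype.val e) (Pi.single i (1 : F))) i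
    simp at this⟩
  obtain ⟨M⟩ := (inferInstance : Nonempty (MaximalSpectrum D.R))
  obtain ⟨e, he⟩ := (IsArtinianRing.equivPi D.R).surjective (Pi.single M 1)
  have hzero : ∀ x : D.R, x ∈ M.asIdeal → x * e = 0 := fun x hx => by
    refine (IsArtinianRing.equivPi D.R).injective (funext fun N => ?_)
    rw [map_mul, map_zero, Pi.mul_apply, he, IsArtinianRing.equivPi_apply]
    by_cases hN : N = M
    · subst hN
      rw [Ideal.Quotient.eq_zero_iff_mem.2 hx, zero_mul]
      rfl
    · rw [Pi.single_eq_of_ne hN, mul_zero]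
      rfl
  have hee : e * e = e := by
    refine (IsArtinianRing.equivPi D.R).injective (funext fun N => ?_)
    rw [map_mul, Pi.mul_apply, he]
    by_cases hN : N = M
    · subst hN; simp
    · simp [hN]
  have he0 : e ≠ 0 := fun h => by
    have := congrFun he M
    rw [h, map_zero, Pi.zero_apply, Pi.single_eq_same] at this
    exact zero_ne_one this
  obtain ⟨v, hev, hv⟩ : ∃ v, e.1 v = v ∧ Q v ≠ 0 := by
    by_contra hne
    push Not at hne
    refine he0 (Subtype.ext (LinearMap.ext fun u => ?_))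
    have hfix : ∀ u, e.1 (e.1 u) = e.1 u := fun u => LinearMap.congr_fun (congrArg Subtype.val hee) u
    show e.1 u = 0
    refine hQ _ fun w => ?_
    rw [← hfix, D.selfAdj e.1 e.2]
    unfold QuadraticMap.polar
    rw [← map_add, hne _ (hfix _), hne _ (hfix _), hne _ (hfix _)]
    simp
  refine ⟨M, v, hv, fun x => ⟨fun hx => ?_, fun hx => ?_⟩⟩
  · rw [← hev]
    exact LinearMap.congr_fun (congrArg Subtype.val (hzero x hx)) v
  · by_contra hxM
    have := M.isMaximal
    let _ : Field (D.R ⧸ M.asIdeal) := Ideal.Quotient.field M.asIdeal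
    have hx0 : Ideal.Quotient.mk M.asIdeal x ≠ 0 := fun h => hxM (Ideal.Quotient.eq_zero_iff_mem.1 h)
    obtain ⟨y, hy⟩ := Ideal.Quotient.mk_surjective (Ideal.Quotient.mk M.asIdeal x)⁻¹
    have hyx : y * x - 1 ∈ M.asIdeal := by
      rw [← Ideal.Quotient.eq_zero_iff_mem, map_sub, map_mul, hy, map_one, inv_mul_cancel₀ hx0, sub_self]
    have h := LinearMap.congr_fun (congrArg Subtype.val (hzero _ hyx)) v
    change y.1 (x.1 (e.1 v)) - e.1 v = 0 at h
    rw [hev, hx, map_zero, zero_sub, neg_eq_zero] at h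
    exact hv (by rw [h]; simp)

set_option maxHeartbeats 1000000 in
include D in
theorem exists_spinor [Nonempty ι] (hQ : ∀ x, (∀ y, polar Q x y = 0) → x = 0) (h2 : (2 : F) ≠ 0) :
    ∃ H : quadIsoms Q, (spin hQ h2 H).1 = 1 ∧ (spin hQ h2 H).2 ≠ 1 ∧
      ∀ a b : D.R, ∀ z, H.1 (D.el a b z) = D.el a b (H.1 z) := by
  classical
  obtain ⟨M, v, hv, hker⟩ := D.exists_component hQ
  let ψ : D.R →ₗ[F] (ι → F) := (LinearMap.applyₗ v).comp D.R.val.toLinearMap
  have hψ : ∀ x, ψ x = x.1 v := fun x => rfl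
  have := M.isMaximal
  let _ : Field (D.R ⧸ M.asIdeal) := Ideal.Quotient.field M.asIdeal
  have : Finite (D.R ⧸ M.asIdeal) := Finite.of_surjective _ Ideal.Quotient.mk_surjective
  let π : (D.R ⧸ M.asIdeal) →ₗ[F] (ι → F) :=
    Submodule.liftQ (M.asIdeal.restrictScalars F) ψ (fun x hx => (hker x).1 hx) ∘ₗ
      (Submodule.Quotient.restrictScalarsEquiv F M.asIdeal).symm.toLinearMap
  have hπ : ∀ x : D.R, π (Ideal.Quotient.mk M.asIdeal x) = x.1 v := fun x => rfl
  have hπinj : Function.Injective π := (injective_iff_map_eq_zero π).2 fun q hq => by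
    obtain ⟨x, rfl⟩ := Ideal.Quotient.mk_surjective q
    rw [hπ] at hq
    exact Ideal.Quotient.eq_zero_iff_mem.2 ((hker x).2 hq)
  obtain ⟨L, hL⟩ : ∃ L, L = LinearMap.range π := ⟨_, rfl⟩
  have hLmem : ∀ z, z ∈ L ↔ ∃ x : D.R, x.1 v = z := fun z => by
    rw [hL]
    constructor
    · rintro ⟨q, rfl⟩
      obtain ⟨x, rfl⟩ := Ideal.Quotient.mk_surjective q
      exact ⟨x, (hπ x).symm⟩
    · rintro ⟨x, rfl⟩
      exact ⟨_, hπ x⟩
  have hsep : ∀ x : D.R, (∀ z ∈ L, polar Q (x.1 v) z = 0) → x.1 v = 0 := by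
    intro x hx
    refine (hker x).1 (by_contra fun hxM => hv ?_)
    have hx0 : Ideal.Quotient.mk M.asIdeal x ≠ 0 := fun h => hxM (Ideal.Quotient.eq_zero_iff_mem.1 h)
    obtain ⟨y, hy⟩ := Ideal.Quotient.mk_surjective (Ideal.Quotient.mk M.asIdeal x)⁻¹
    have hyx : (x * y - 1 : D.R) ∈ M.asIdeal := by
      rw [← Ideal.Quotient.eq_zero_iff_mem, map_sub, map_mul, hy, map_one, mul_inv_cancel₀ hx0, sub_self]
    have h1 := (hker _).1 hyx
    change x.1 (y.1 v) - v = 0 at h1
    rw [sub_eq_zero] at h1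
    have h := hx (y.1 v) ((hLmem _).2 ⟨y, rfl⟩)
    rw [D.selfAdj x.1 x.2, h1, QuadraticMap.polar_self] at h
    exact (mul_eq_zero.1 (show (2 : F) * Q v = 0 by simpa using h)).resolve_left h2
  -- a unit with non-square norm
  obtain ⟨ν, hν0, hν⟩ := exists_not_square h2
  obtain ⟨ub, hub⟩ := FiniteField.norm_surjective F (D.R ⧸ M.asIdeal) ν
  have hub0 : ub ≠ 0 := fun h => hν0 (by rw [← hub, h, Algebra.norm_zero])
  obtain ⟨w, hw⟩ := (IsArtinianRing.equivPi D.R).surjective (Function.update 1 M ub)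
  have hwM : Ideal.Quotient.mk M.asIdeal w = ub := by
    have := congrFun hw M
    rwa [IsArtinianRing.equivPi_apply, Function.update_self] at this
  have hwu : IsUnit w := by
    refine (MulEquiv.isUnit_map (IsArtinianRing.equivPi D.R)).1 ?_
    rw [hw, Pi.isUnit_iff]
    intro N
    by_cases hN : N = M
    · subst hN; rw [Function.update_self]; exact hub0.isUnit
    · rw [Function.update_of_ne hN]; exact isUnit_one
  obtain ⟨x, y, hxy⟩ := D.exists_repr h2 w
  obtain ⟨A, hA⟩ : ∃ A, A = D.el x y := ⟨_, rfl⟩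
  have hAinj : Function.Injective A := hA ▸ D.el_injective hQ x y hxy hwu
  have hAB : ∀ p q, polar Q (A p) (A q) = polar Q (w.1 p) q := hA ▸ D.polar_el x y hxy
  -- orthogonal bases
  let e : (D.R ⧸ M.asIdeal) ≃ₗ[F] L := (LinearEquiv.ofInjective π hπinj).trans (LinearEquiv.ofEq _ _ hL.symm)
  have heπ : ∀ q, (e q : ι → F) = π q := fun q => rfl
  obtain ⟨Q₁, hQ₁⟩ : ∃ Q₁, Q₁ = Q.comp L.subtype := ⟨_, rfl⟩
  obtain ⟨Q₂, hQ₂⟩ : ∃ Q₂, Q₂ = Q.comp (A ∘ₗ L.subtype) := ⟨_, rfl⟩
  have hp₁ : ∀ p q : L, polar Q₁ p q = polar Q (p : ι → F) q := fun p q => by rw [hQ₁]; simp [polar]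
  have hp₂ : ∀ p q : L, polar Q₂ p q = polar Q (A (p : ι → F)) (A q) := fun p q => by
    rw [hQ₂]; simp [polar]
  have hs₁ : ∀ p, (∀ q, polar Q₁ p q = 0) → p = 0 := fun p hp => by
    obtain ⟨z, hz⟩ := (hLmem p.1).1 p.2
    refine Subtype.ext (hz.symm.trans (hsep z fun q hq => ?_))
    rw [hz, ← hp₁ p ⟨q, hq⟩, hp]
  have hwz : ∀ z : D.R, ∀ q : ι → F, q = z.1 v → w.1 q = (w * z).1 v := fun z q hq => by rw [hq]; rfl
  have hs₂ : ∀ p, (∀ q, polar Q₂ p q = 0) → p = 0 := fun p hp => by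
    obtain ⟨z, hz⟩ := (hLmem p.1).1 p.2
    have h0 : w.1 p.1 = 0 := (hwz z p.1 hz.symm).trans (hsep (w * z) fun q hq => by
      rw [← hwz z p.1 hz.symm, ← hAB, ← hp₂ p ⟨q, hq⟩, hp])
    exact Subtype.ext (D.injective_of_isUnit w hwu (h0.trans (map_zero _).symm))
  have : Invertible (2 : F) := invertibleOfNonzero h2
  obtain ⟨b, hb⟩ := LinearMap.BilinForm.exists_orthogonal_basis
    (B := Q₁.polarBilin) ⟨fun x y => QuadraticMap.polar_comm Q₁ x y⟩
  obtain ⟨d, hd⟩ := LinearMap.BilinForm.exists_orthogonal_basis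
    (B := Q₂.polarBilin) ⟨fun x y => QuadraticMap.polar_comm Q₂ x y⟩
  have hne : ∀ (Q' : QuadraticForm F L) (c : Module.Basis (Fin (Module.finrank F L)) F L),
      (∀ p, (∀ q, polar Q' p q = 0) → p = 0) → (∀ i j, i ≠ j → polar Q' (c i) (c j) = 0) →
      ∀ i, Q' (c i) ≠ 0 := by
    intro Q' c hs hc i hi
    refine c.ne_zero i (hs (c i) ?_)
    have : Q'.polarBilin (c i) = 0 := c.ext fun j => by
      by_cases hij : i = j
      · subst hij; simp [hi]
      · simpa using hc i j hij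
    exact fun q => LinearMap.congr_fun this q
  have hb' : ∀ i j, i ≠ j → polar Q₁ (b i) (b j) = 0 := fun i j h => hb h
  have hd' : ∀ i j, i ≠ j → polar Q₂ (d i) (d j) = 0 := fun i j h => hd h
  have hbne : ∀ i, Q (b i : ι → F) ≠ 0 := fun i => by
    have := hne Q₁ b hs₁ hb' i; rwa [hQ₁] at this
  have hdne : ∀ i, Q (A (d i : ι → F)) ≠ 0 := fun i => by
    have := hne Q₂ d hs₂ hd' i; rwa [hQ₂] at this
  obtain ⟨S₁, hS₁, hS₁b, hS₁f⟩ := exists_neg_family hQ h2 (fun i => (b i : ι → F))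
    (fun i j h => by rw [← hp₁]; exact hb' i j h) hbne
  obtain ⟨S₂, hS₂, hS₂d, hS₂f⟩ := exists_neg_family hQ h2 (fun i => A (d i : ι → F))
    (fun i j h => by rw [← hp₂]; exact hd' i j h) hdne
  have hS₁L : ∀ z ∈ L, S₁.1 z = -z := fun z hz => by
    have : S₁.1.toLinearMap ∘ₗ L.subtype = -L.subtype := b.ext fun i => hS₁b i
    exact LinearMap.congr_fun this ⟨z, hz⟩
  have hS₂L : ∀ z ∈ L, S₂.1 (A z) = -A z := fun z hz => by
    have : S₂.1.toLinearMap ∘ₗ A ∘ₗ L.subtype = -(A ∘ₗ L.subtype) := d.ext fun i => hS₂d i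
    exact LinearMap.congr_fun this ⟨z, hz⟩
  have hhperp : ∀ p ∈ L, ∀ q ∈ L, polar Q p (D.h q) = 0 := by
    intro p hp q hq
    obtain ⟨a, rfl⟩ := (hLmem p).1 hp
    obtain ⟨c, rfl⟩ := (hLmem q).1 hq
    have hvv : ∀ z : D.R, polar Q v (D.h (z.1 v)) = 0 := fun z => by
      have h1 : polar Q v (D.h (z.1 v)) = -polar Q v (D.h (z.1 v)) := by
        conv_lhs => rw [QuadraticMap.polar_comm Q v, D.h_skew, D.selfAdj z.1 z.2, ← D.h_apply_comm]
      exact (mul_eq_zero.1 (show (2 : F) * polar Q v (D.h (z.1 v)) = 0 by linear_combination h1)).resolve_left h2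
    rw [D.selfAdj a.1 a.2, ← D.h_apply_comm]
    exact hvv (a * c)
  have hS₁h : ∀ z ∈ L, S₁.1 (D.h z) = D.h z := fun z hz => hS₁f _ fun i => hhperp _ (b i).2 z hz
  have hwL : ∀ z ∈ L, w.1 z ∈ L := fun z hz => by
    obtain ⟨a, rfl⟩ := (hLmem z).1 hz
    exact (hLmem _).2 ⟨w * a, rfl⟩
  have hS₂h : ∀ z ∈ L, S₂.1 (A (D.h z)) = A (D.h z) := fun z hz => hS₂f _ fun i => by
    rw [hAB]; exact hhperp _ (hwL _ (d i).2) z hz
  obtain ⟨W, hW⟩ : ∃ W, W = L ⊔ L.map D.h := ⟨_, rfl⟩
  have hWmem : ∀ z ∈ W, ∃ p ∈ L, ∃ q ∈ L, z = p + D.h q := fun z hz => by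
    rw [hW] at hz
    obtain ⟨p, hp, _, ⟨q, hq, rfl⟩, rfl⟩ := Submodule.mem_sup.1 hz
    exact ⟨p, hp, q, hq, rfl⟩
  have hWin : ∀ p ∈ L, ∀ q ∈ L, p + D.h q ∈ W := fun p hp q hq =>
    hW ▸ Submodule.add_mem_sup hp ⟨q, hq, rfl⟩
  have hRL : ∀ (a : D.R), ∀ z ∈ L, a.1 z ∈ L := fun a z hz => by
    obtain ⟨c, rfl⟩ := (hLmem z).1 hz
    exact (hLmem _).2 ⟨a * c, rfl⟩
  have helW : ∀ a c : D.R, ∀ p ∈ L, ∀ q ∈ L, D.el a c (p + D.h q) =
      (a.1 p + c.1 (D.s.1 q)) + D.h (a.1 q + c.1 p) := fun a c p _ q _ => by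
    simp only [el_apply, map_add, D.h_apply_comm]
    show a.1 p + c.1 (D.h p) + (a.1 (D.h q) + c.1 (D.h (D.h q))) =
      a.1 p + c.1 (D.h (D.h q)) + (a.1 (D.h q) + c.1 (D.h p))
    abel
  have helW' : ∀ a c : D.R, ∀ z ∈ W, D.el a c z ∈ W := fun a c z hz => by
    obtain ⟨p, hp, q, hq, rfl⟩ := hWmem z hz
    rw [helW a c p hp q hq]
    exact hWin _ (L.add_mem (hRL a p hp) (hRL c _ (hRL D.s q hq))) _ (L.add_mem (hRL a q hq) (hRL c p hp))
  have hWsep : ∀ z ∈ W, (∀ t ∈ W, polar Q z t = 0) → z = 0 := by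
    intro z hz ht
    obtain ⟨p, hp, q, hq, rfl⟩ := hWmem z hz
    have hp0 : p = 0 := by
      obtain ⟨a, rfl⟩ := (hLmem p).1 hp
      refine hsep a fun t htL => ?_
      have h := ht t (by simpa using hWin t htL 0 L.zero_mem)
      rwa [QuadraticMap.polar_add_left, QuadraticMap.polar_comm Q (D.h q), hhperp t htL q hq, add_zero] at h
    subst hp0
    have hsq : D.s.1 q = 0 := by
      obtain ⟨a, rfl⟩ := (hLmem q).1 hq
      refine hsep (D.s * a) fun t htL => ?_
      have h := ht (D.h t) (by simpa using hWin 0 L.zero_mem t htL)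
      rw [zero_add, D.h_skew, neg_eq_zero] at h
      exact (D.selfAdj D.s.1 D.s.2 _ t).trans h
    rw [D.injective_of_isUnit D.s D.isUnit_s (hsq.trans (map_zero _).symm)]
    simp
  have hcompl : IsCompl W (LinearMap.BilinForm.orthogonal Q.polarBilin W) :=
    LinearMap.BilinForm.isCompl_orthogonal_of_restrict_nondegenerate
      (fun p q h => (QuadraticMap.polar_comm _ _ _).trans h)
      ⟨fun p hp => Subtype.ext (hWsep p.1 p.2 fun t ht => hp ⟨t, ht⟩),
        fun p hp => Subtype.ext (hWsep p.1 p.2 fun t ht => by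
          rw [QuadraticMap.polar_comm]; exact hp ⟨t, ht⟩)⟩
  have hLW : ∀ z ∈ L, z ∈ W := fun z hz => by simpa using hWin z hz 0 L.zero_mem
  have hfix : ∀ z ∈ LinearMap.BilinForm.orthogonal Q.polarBilin W, (S₂ * S₁).1 z = z := fun z hz => by
    show S₂.1 (S₁.1 z) = z
    rw [hS₁f z fun i => hz _ (hLW _ (b i).2)]
    exact hS₂f z fun i => hz _ (hA ▸ helW' x y _ (hLW _ (d i).2))
  have hAW : ∀ z ∈ W, ∃ t ∈ W, A t = z := by
    have hmap : W.map A = W := Submodule.eq_of_le_of_finrank_eq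
      (fun z ⟨t, ht, e⟩ => e ▸ hA ▸ helW' x y t ht)
      (Submodule.equivMapOfInjective A hAinj W).finrank_eq.symm
    exact fun z hz => hmap.ge hz
  refine ⟨S₂ * S₁, ?_, ?_, fun a c z => ?_⟩
  · rw [map_mul, hS₁, hS₂, Prod.fst_mul, ← pow_add, ← two_mul, pow_mul]
    rw [sq, ofAdd_one_mul_self, one_pow]
  · rw [map_mul, hS₁, hS₂, Prod.snd_mul]
    have hprod : ∀ (n : ℕ) (f : Fin n → F) (hf : ∀ i, f i ≠ 0),
        ∏ i, sqClass (hf i) = sqClass (Finset.prod_ne_zero_iff.2 fun i _ => hf i : ∏ i, f i ≠ 0) := by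
      intro n f hf
      simp only [sqClass]
      rw [← map_prod]
      exact congrArg (sqProj F) (Units.ext (by simp))
    rw [hprod _ _ hdne, hprod _ _ hbne, ← sqClass_mul, Ne, sqClass_eq_one_iff]
    obtain ⟨U, hU⟩ : ∃ U : L →ₗ[F] L, U = LinearMap.restrict w.1 hwL := ⟨_, rfl⟩
    have hdetU : LinearMap.det U = ν := by
      rw [← hub, Algebra.norm_apply, ← LinearMap.det_conj (Algebra.lmul F (D.R ⧸ M.asIdeal) ub) e]
      congr 1
      refine LinearMap.ext fun p => Subtype.ext ?_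
      obtain ⟨q, rfl⟩ := e.surjective p
      obtain ⟨z, rfl⟩ := Ideal.Quotient.mk_surjective q
      simp only [LinearMap.comp_apply, LinearEquiv.coe_coe, LinearEquiv.symm_apply_apply]
      rw [hU]
      show w.1 (π (Ideal.Quotient.mk _ z)) = π (ub * Ideal.Quotient.mk _ z)
      rw [← hwM, ← map_mul, hπ, hπ]
      rfl
    have hG : (LinearMap.toMatrix₂ b b Q₂.polarBilin).det =
        LinearMap.det U * (LinearMap.toMatrix₂ b b Q₁.polarBilin).det := by
      rw [show Q₂.polarBilin = Q₁.polarBilin.compl₁₂ U LinearMap.id from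
        LinearMap.ext fun p => LinearMap.ext fun q => by
          simp only [LinearMap.compl₁₂_apply, QuadraticMap.polarBilin_apply_apply, hp₂, hp₁, LinearMap.id_apply]
          rw [hAB, hU]; rfl,
        LinearMap.toMatrix₂_compl₁₂ b b b b, Matrix.det_mul, Matrix.det_mul, LinearMap.toMatrix_id,
        Matrix.det_one, mul_one, Matrix.det_transpose, LinearMap.det_toMatrix]
    obtain ⟨t, ht0, ht⟩ := disc_change Q₂ b d
    rw [toMatrix₂_orth Q₂ d hd', hG, toMatrix₂_orth Q₁ b hb', hdetU] at ht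
    simp only [Finset.prod_mul_distrib, Finset.prod_const, hQ₁, hQ₂, QuadraticMap.comp_apply,
      LinearMap.comp_apply, Submodule.subtype_apply] at ht
    rintro ⟨r, hr⟩
    obtain ⟨P, hP⟩ : ∃ P, P = ∏ i, Q (b i : ι → F) := ⟨_, rfl⟩
    have hP0 : P ≠ 0 := hP ▸ Finset.prod_ne_zero_iff.2 fun i _ => hbne i
    have h20 : (2 : F) ^ Fintype.card (Fin (Module.finrank F L)) ≠ 0 := pow_ne_zero _ h2
    rw [← hP] at ht hr
    refine hν ⟨r / (t * P), ?_⟩
    field_simp
    refine mul_left_cancel₀ h20 ?_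
    simp only [Finset.card_univ] at ht
    linear_combination -P * ht + (2 : F) ^ Fintype.card (Fin (Module.finrank F L)) * hr
  · obtain ⟨p, hp, p', hp', rfl⟩ : ∃ p ∈ W, ∃ p' ∈ LinearMap.BilinForm.orthogonal Q.polarBilin W, z = p + p' :=
      let ⟨p, hp, p', hp', e⟩ := Submodule.mem_sup.1 (hcompl.sup_eq_top.symm.le (Submodule.mem_top : z ∈ ⊤))
      ⟨p, hp, p', hp', e.symm⟩
    have horth : D.el a c p' ∈ LinearMap.BilinForm.orthogonal Q.polarBilin W := fun t ht => by
      show polar Q t (D.el a c p') = 0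
      have hadj : polar Q t (D.el a c p') = polar Q (D.el a (-c) t) p' := by
        simp only [el_apply, QuadraticMap.polar_add_left, QuadraticMap.polar_add_right]
        show _ = _ + polar Q (-(c.1 (D.h t))) p'
        rw [QuadraticMap.polar_neg_left, D.selfAdj a.1 a.2, D.selfAdj c.1 c.2, D.h_skew, neg_neg,
          D.h_apply_comm c p']
      rw [hadj]
      exact hp' _ (helW' a (-c) t ht)
    simp only [map_add]
    rw [hfix p' hp', hfix _ horth]
    congr 1
    show S₂.1 (S₁.1 (D.el a c p)) = D.el a c (S₂.1 (S₁.1 p))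
    have hflip : ∀ (a c : D.R) (z : ι → F), z ∈ W → S₁.1 (D.el a c z) = D.el a (-c) (S₁.1 z) := by
      intro a c z hz
      obtain ⟨p, hp, q, hq, rfl⟩ := hWmem z hz
      rw [helW a c p hp q hq, map_add, hS₁L _ (L.add_mem (hRL a p hp) (hRL c _ (hRL D.s q hq))),
        hS₁h _ (L.add_mem (hRL a q hq) (hRL c p hp)), map_add S₁.1, hS₁L p hp, hS₁h q hq,
        helW a (-c) (-p) (L.neg_mem hp) q hq]
      show _ = (a.1 (-p) + -(c.1 (D.s.1 q))) + D.h (a.1 q + -(c.1 (-p)))
      simp only [map_neg, neg_neg, neg_add]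
    have hS₁W : ∀ z ∈ W, S₁.1 z ∈ W := fun z hz => by
      obtain ⟨p, hp, q, hq, rfl⟩ := hWmem z hz
      rw [map_add, hS₁L p hp, hS₁h q hq]
      exact hWin _ (L.neg_mem hp) q hq
    have hAS : ∀ t ∈ W, S₂.1 (A t) = A (S₁.1 t) := fun t ht => by
      obtain ⟨p, hp, q, hq, rfl⟩ := hWmem t ht
      rw [map_add, map_add, hS₂L p hp, hS₂h q hq, map_add, hS₁L p hp, hS₁h q hq, map_add, map_neg]
    obtain ⟨t, ht, hAt⟩ := hAW _ (hS₁W p hp)
    rw [hflip a c p hp, ← hAt, show D.el a (-c) (A t) = A (D.el a (-c) t) from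
      hA ▸ LinearMap.congr_fun (D.el_comm a (-c) x y).eq t, hAS _ (helW' a (-c) t ht), hflip a (-c) t ht,
      neg_neg, hAS t ht]
    exact hA ▸ LinearMap.congr_fun (D.el_comm x y a c).eq _

end SkewData

end CfsgLib.Classical
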