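import Mathlib
import Cfsg.Agent.Lib.Classical.OrthTorus
import Cfsg.Agent.Lib.Geom.PSpInvol

/-!
The algebra of a semisimple isometry of odd prime order.
-/

set_option autoImplicit false
set_option linter.unusedSectionVars false

namespace CfsgLib.Classical

open CfsgLib.Geom
open QuadraticMap (polar)

universe u

variable {F : Type u} [Field F] [Finite F] {ι : Type} [Fintype ι] [DecidableEq ι]
variable {Q : QuadraticForm F (ι → F)}

/-- An endomorphism anticommuting with the adjoint on an even-dimensional non-degenerate subspace, with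
diagonalisable square. -/
theorem exists_skew_subspace [Fintype F] {W : Type*} [AddCommGroup W] [Module F W] [FiniteDimensional F W]
    (Q₀ : QuadraticForm F W) (h2 : (2 : F) ≠ 0) (hQ₀ : ∀ x, (∀ y, polar Q₀ x y = 0) → x = 0)
    (heven : Even (Module.finrank F W)) :
    ∃ η : W →ₗ[F] W, Function.Injective η ∧ (∀ v w, polar Q₀ (η v) w = -polar Q₀ v (η w)) ∧
      ∃ (b : Module.Basis (Fin (Module.finrank F W)) F W) (l : Fin (Module.finrank F W) → F),
        ∀ j, η (η (b j)) = l j • b j := by
  classical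
  have : Invertible (2 : F) := invertibleOfNonzero h2
  obtain ⟨b, hb⟩ := LinearMap.BilinForm.exists_orthogonal_basis
    (B := Q₀.polarBilin) ⟨fun x y => QuadraticMap.polar_comm Q₀ x y⟩
  have hb' : ∀ i j, i ≠ j → polar Q₀ (b i) (b j) = 0 := fun i j h => hb h
  have hbne : ∀ i, Q₀ (b i) ≠ 0 := by
    intro i hi
    refine b.ne_zero i (hQ₀ (b i) ?_)
    have : Q₀.polarBilin (b i) = 0 := b.ext fun j => by
      by_cases hij : i = j
      · subst hij; simp [hi]
      · simpa using hb' i j hij
    exact fun y => LinearMap.congr_fun this y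
  obtain ⟨k, hk⟩ := heven
  let π : Fin (Module.finrank F W) → Fin (Module.finrank F W) := fun i =>
    if h : (i : ℕ) < k then ⟨i + k, by omega⟩ else ⟨i - k, by omega⟩
  have hπ : ∀ i, π (π i) = i := fun i => by
    refine Fin.ext ?_
    by_cases h : (i : ℕ) < k
    · simp only [π, dif_pos h]
      rw [dif_neg (by simp)]
      simp
    · simp only [π, dif_neg h]
      rw [dif_pos (by omega)]
      simp
      omega
  have hπlt : ∀ i : Fin (Module.finrank F W), ((π i : ℕ) < k) ↔ ¬ (i : ℕ) < k := fun i => by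
    by_cases h : (i : ℕ) < k
    · simp only [π, dif_pos h]; simp [h]
    · simp only [π, dif_neg h]; simp [h]; omega
  let a : Fin (Module.finrank F W) → F := fun i => if (i : ℕ) < k then Q₀ (b i) else -Q₀ (b i)
  have ha : ∀ i, a i ≠ 0 := fun i => by
    simp only [a]
    split_ifs
    · exact hbne i
    · exact neg_ne_zero.2 (hbne i)
  obtain ⟨η, hη⟩ : ∃ η : W →ₗ[F] W, ∀ i, η (b i) = a i • b (π i) :=
    ⟨b.constr F fun i => a i • b (π i), fun i => b.constr_basis F _ i⟩
  have hηη : ∀ j, η (η (b j)) = (a j * a (π j)) • b j := fun j => by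
    rw [hη, map_smul, hη, hπ, smul_smul]
  refine ⟨η, ?_, ?_, b, fun j => a j * a (π j), hηη⟩
  · have hsurj : Function.Surjective η := by
      rw [← LinearMap.range_eq_top, eq_top_iff, ← b.span_eq, Submodule.span_le]
      rintro _ ⟨j, rfl⟩
      exact ⟨(a j * a (π j))⁻¹ • η (b j), by rw [map_smul, hηη, inv_smul_smul₀ (mul_ne_zero (ha j) (ha _))]⟩
    exact LinearMap.injective_iff_surjective.2 hsurj
  · intro v w
    have key : ∀ i j, polar Q₀ (η (b i)) (b j) = -polar Q₀ (b i) (η (b j)) := by
      intro i j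
      rw [hη, hη, QuadraticMap.polar_smul_left, QuadraticMap.polar_smul_right]
      by_cases hij : π i = j
      · subst hij
        rw [hπ, QuadraticMap.polar_self, QuadraticMap.polar_self]
        simp only [a, hπlt]
        split_ifs with h <;> simp <;> ring
      · rw [hb' _ _ hij, hb' _ _ fun e => hij (by rw [e, hπ])]
        simp
    have : Q₀.polarBilin.comp η = -(Q₀.polarBilin.compl₂ η) := b.ext fun i => b.ext fun j => by
      simpa using key i j
    simpa using LinearMap.congr_fun (LinearMap.congr_fun this v) w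

theorem exists_skewData [Fintype F] (hQ : ∀ x, (∀ y, polar Q x y = 0) → x = 0) (h2 : (2 : F) ≠ 0)
    [Nonempty ι] (heven : Even (Fintype.card ι)) {p : ℕ} [Fact p.Prime] [CharP F p] {r : ℕ} (hr : r.Prime) (hro : Odd r)
    (hrp : r ≠ p) (g : quadIsoms Q) (hg : g ^ r = 1) :
    ∃ (D : SkewData Q) (a b : D.R), ∀ v, g.1 v = D.el a b v := by
  classical
  obtain ⟨G, hG⟩ : ∃ G : Module.End F (ι → F), G = g.1.toLinearMap := ⟨_, rfl⟩
  have hGr : G ^ r = 1 := by
    have : ∀ n, G ^ n = ((g ^ n).1.toLinearMap : Module.End F (ι → F)) := fun n => by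
      induction n with
      | zero => rfl
      | succ n ih => rw [pow_succ, pow_succ, ih, hG]; rfl
    rw [this, hg]; rfl
  have hr1 : 3 ≤ r := by
    rcases hro with ⟨t, rfl⟩
    have := hr.two_le
    omega
  have hpr : p.Prime := Fact.out
  have hrF : (r : F) ≠ 0 := fun h => by
    rw [CharP.cast_eq_zero_iff F p, Nat.prime_dvd_prime_iff_eq hpr hr] at h
    exact hrp h.symm
  obtain ⟨G', hG'⟩ : ∃ G' : Module.End F (ι → F), G' = G ^ (r - 1) := ⟨_, rfl⟩
  have hcGG' : Commute G G' := hG' ▸ Commute.self_pow G _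
  have hGG' : G * G' = 1 := by
    rw [hG', ← pow_succ', show r - 1 + 1 = r by omega, hGr]
  have hG'G : G' * G = 1 := hcGG'.eq.symm.trans hGG'
  have hB : ∀ u v, polar Q (G u) (G v) = polar Q u v := fun u v => by rw [hG]; exact polar_quadIsom g.2 u v
  have hBn : ∀ n u v, polar Q ((G ^ n) u) ((G ^ n) v) = polar Q u v := fun n u v => by
    induction n generalizing u v with
    | zero => rfl
    | succ n ih => rw [pow_succ, Module.End.mul_apply, Module.End.mul_apply, ih, hB]
  have hGad : ∀ u v, polar Q (G u) v = polar Q u (G' v) := fun u v => by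
    conv_lhs => rw [show v = G (G' v) from (LinearMap.congr_fun hGG' v).symm, hB]
  have hG'ad : ∀ u v, polar Q (G' u) v = polar Q u (G v) := fun u v => by
    rw [QuadraticMap.polar_comm, ← hGad, QuadraticMap.polar_comm]
  -- the fixed point projection
  obtain ⟨e, he⟩ : ∃ e : Module.End F (ι → F), e = (r : F)⁻¹ • ∑ i ∈ Finset.range r, G ^ i := ⟨_, rfl⟩
  have hcGe : Commute G e := he ▸ Commute.smul_right (Commute.sum_right _ _ _ fun i _ => Commute.self_pow G i) _
  have hGe : G * e = e := by
    rw [he, mul_smul_comm, Finset.mul_sum]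
    congr 1
    simp only [← pow_succ']
    have h1 := Finset.sum_range_succ' (fun i => G ^ i) r
    rw [Finset.sum_range_succ, hGr, pow_zero] at h1
    exact add_right_cancel h1.symm
  have heG : e * G = e := hcGe.eq ▸ hGe
  have hGne : ∀ n, G ^ n * e = e := fun n => by
    induction n with
    | zero => exact one_mul e
    | succ n ih => rw [pow_succ, mul_assoc, hGe, ih]
  have hG'e : G' * e = e := hG' ▸ hGne _
  have heG' : e * G' = e := (hG' ▸ (hcGe.pow_left (r - 1)).eq).symm.trans hG'e
  have hee : e * e = e := by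
    conv_lhs => arg 1; rw [he]
    rw [smul_mul_assoc, Finset.sum_mul]
    simp only [hGne]
    rw [Finset.sum_const, Finset.card_range, ← Nat.cast_smul_eq_nsmul F, inv_smul_smul₀ hrF]
  have hfix : ∀ v, G v = v → e v = v := fun v hv => by
    have hn : ∀ n, (G ^ n) v = v := fun n => by
      induction n with
      | zero => rfl
      | succ n ih => rw [pow_succ, Module.End.mul_apply, hv, ih]
    rw [he, LinearMap.smul_apply, LinearMap.sum_apply]
    simp only [hn]
    rw [Finset.sum_const, Finset.card_range, ← Nat.cast_smul_eq_nsmul F, inv_smul_smul₀ hrF]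
  have hef : ∀ u v, polar Q (e u) (e v) = polar Q (e u) v := fun u v => by
    have h1 : ∀ n, polar Q (e u) ((G ^ n) v) = polar Q (e u) v := fun n => by
      conv_lhs => rw [show e u = (G ^ n) (e u) from (LinearMap.congr_fun (hGne n) u).symm, hBn]
    conv_lhs => arg 3; rw [he]
    rw [LinearMap.smul_apply, LinearMap.sum_apply, QuadraticMap.polar_smul_right,
      show polar Q (e u) (∑ i ∈ Finset.range r, (G ^ i) v) = Q.polarBilin (e u) (∑ i ∈ Finset.range r, (G ^ i) v)
        from rfl, map_sum]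
    simp only [QuadraticMap.polarBilin_apply_apply, h1]
    rw [Finset.sum_const, Finset.card_range, ← Nat.cast_smul_eq_nsmul F, inv_smul_smul₀ hrF]
  have head : ∀ u v, polar Q (e u) v = polar Q u (e v) := fun u v => by
    rw [← hef, QuadraticMap.polar_comm, hef, QuadraticMap.polar_comm]
  -- the skew part
  obtain ⟨h0, hh0⟩ : ∃ h0 : Module.End F (ι → F), h0 = G - G' := ⟨_, rfl⟩
  have h0e : h0 * e = 0 := by rw [hh0, sub_mul, hGe, hG'e, sub_self]
  have he0 : e * h0 = 0 := by rw [hh0, mul_sub, heG, heG', sub_self]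
  have h0skew : ∀ u v, polar Q (h0 u) v = -polar Q u (h0 v) := fun u v => by
    rw [hh0, LinearMap.sub_apply, LinearMap.sub_apply, QuadraticMap.polar_sub_left,
      QuadraticMap.polar_sub_right, hGad, hG'ad]
    ring
  have h0ker : ∀ v, h0 v = 0 → G v = v := fun v hv => by
    rw [hh0, LinearMap.sub_apply, sub_eq_zero] at hv
    have hv2 : (G ^ 2) v = v := by
      rw [sq, Module.End.mul_apply, hv]
      exact LinearMap.congr_fun hGG' v
    obtain ⟨t, ht⟩ := hro
    have hv2n : ∀ n, (G ^ (2 * n)) v = v := fun n => by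
      induction n with
      | zero => rfl
      | succ n ih => rw [mul_add, mul_one, pow_add, Module.End.mul_apply, hv2, ih]
    have h1 := LinearMap.congr_fun hGr v
    rw [ht, pow_succ', Module.End.mul_apply, hv2n] at h1
    exact h1
  obtain ⟨V₁, hV₁⟩ : ∃ V₁, V₁ = LinearMap.ker e := ⟨_, rfl⟩
  obtain ⟨V₀, hV₀⟩ : ∃ V₀, V₀ = LinearMap.range e := ⟨_, rfl⟩
  have hdim : Module.finrank F V₀ + Module.finrank F V₁ = Fintype.card ι := by
    rw [hV₀, hV₁, LinearMap.finrank_range_add_finrank_ker, Module.finrank_fintype_fun_eq_card]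
  have hV₁even : Even (Module.finrank F V₁) := by
    refine even_finrank_symp _ ((Q.polarBilin ∘ₗ h0).compl₁₂ V₁.subtype V₁.subtype) (fun v => ?_) (fun v hv => ?_) rfl
    · show polar Q (h0 v.1) v.1 = 0
      have h := h0skew v.1 v.1
      rw [QuadraticMap.polar_comm Q v.1 (h0 v.1)] at h
      exact (mul_eq_zero.1 (show (2 : F) * polar Q (h0 v.1) v.1 = 0 by linear_combination h)).resolve_left h2
    · have h0v : h0 v.1 = 0 := hQ _ fun y => by
        have hy : e (y - e y) = 0 := by
          rw [map_sub, ← Module.End.mul_apply, hee, sub_self]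
        have h1 : polar Q (h0 v.1) (y - e y) = 0 := hv ⟨y - e y, hV₁ ▸ hy⟩
        rw [QuadraticMap.polar_sub_right, ← head, ← Module.End.mul_apply, he0, LinearMap.zero_apply,
          QuadraticMap.polar_zero_left, sub_zero] at h1
        exact h1
      have h2v := hfix _ (h0ker _ h0v)
      have h1v : e v.1 = 0 := by simpa [hV₁] using v.2
      exact Subtype.ext (h2v.symm.trans h1v)
  have hV₀mem : ∀ v, e v ∈ V₀ := fun v => hV₀ ▸ LinearMap.mem_range_self e v
  have hV₀fix : ∀ v ∈ V₀, e v = v := fun v hv => by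
    rw [hV₀] at hv
    obtain ⟨u, rfl⟩ := hv
    exact LinearMap.congr_fun hee u
  have hV₀sep : ∀ x : V₀, (∀ y, polar (Q.comp V₀.subtype) x y = 0) → x = 0 := fun x hx => by
    refine Subtype.ext (hQ _ fun y => ?_)
    rw [← hV₀fix x.1 x.2, ← hef, hV₀fix x.1 x.2]
    simpa [polar] using hx ⟨e y, hV₀mem y⟩
  obtain ⟨η₀, hη₀i, hη₀s, b₀, l, hl⟩ := exists_skew_subspace (Q.comp V₀.subtype) h2 hV₀sep
    ((Nat.even_add.1 (hdim ▸ heven)).2 hV₁even)
  obtain ⟨η, hη⟩ : ∃ η : Module.End F (ι → F),
      η = V₀.subtype ∘ₗ η₀ ∘ₗ LinearMap.codRestrict V₀ e hV₀mem := ⟨_, rfl⟩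
  have hηapp : ∀ v, η v = (η₀ ⟨e v, hV₀mem v⟩).1 := fun v => by rw [hη]; rfl
  have heη : e * η = η := LinearMap.ext fun v => by
    rw [Module.End.mul_apply, hηapp, hV₀fix _ (η₀ _).2]
  have hηe : η * e = η := LinearMap.ext fun v => by
    rw [Module.End.mul_apply, hηapp, hηapp]
    exact congrArg (fun z => (η₀ z).1) (Subtype.ext (LinearMap.congr_fun hee v))
  have hηskew : ∀ u v, polar Q (η u) v = -polar Q u (η v) := fun u v => by
    have h := hη₀s ⟨e u, hV₀mem u⟩ ⟨e v, hV₀mem v⟩
    simp only [QuadraticMap.polar, QuadraticMap.comp_apply, Submodule.subtype_apply, Submodule.coe_add] at h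
    change polar Q (η₀ ⟨e u, hV₀mem u⟩).1 (e v) = -polar Q (e u) (η₀ ⟨e v, hV₀mem v⟩).1 at h
    rw [← hηapp, ← hηapp] at h
    rw [show η u = e (η u) from (LinearMap.congr_fun heη u).symm, head, h, head,
      ← Module.End.mul_apply, heη]
  have hηG : η * G = η := by rw [← hηe, mul_assoc, heG]
  have hGη : G * η = η := by rw [← heη, ← mul_assoc, hGe]
  have hηG' : η * G' = η := by rw [← hηe, mul_assoc, heG']
  have hG'η : G' * η = η := by rw [← heη, ← mul_assoc, hG'e]
  obtain ⟨h, hh⟩ : ∃ h : Module.End F (ι → F), h = h0 + η := ⟨_, rfl⟩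
  have hcGh0 : Commute G h0 := hh0 ▸ (Commute.refl G).sub_right hcGG'
  have hcGη : Commute G η := hGη.trans hηG.symm
  have hcG'η : Commute G' η := hG'η.trans hηG'.symm
  have hcG'h0 : Commute G' h0 := hh0 ▸ hcGG'.symm.sub_right (Commute.refl G')
  have hcGh : Commute G h := hh ▸ hcGh0.add_right hcGη
  have hcG'h : Commute G' h := hh ▸ hcG'h0.add_right hcG'η
  have hceh : Commute e h := by
    show e * h = h * e
    rw [hh, mul_add, add_mul, he0, h0e, heη, hηe]
  obtain ⟨t, ht⟩ : ∃ t : Module.End F (ι → F), t = G + G' := ⟨_, rfl⟩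
  have hcte : Commute t e := ht ▸ hcGe.add_left (hG'e.trans heG'.symm)
  have hcth : Commute t h := ht ▸ hcGh.add_left hcG'h
  obtain ⟨R, hR⟩ : ∃ R, R = Algebra.adjoin F ({t, e, h * h} : Set (Module.End F (ι → F))) := ⟨_, rfl⟩
  have hsadj : ∀ x ∈ ({t, e, h * h} : Set (Module.End F (ι → F))), ∀ u v, polar Q (x u) v = polar Q u (x v) := by
    have hhs : ∀ u v, polar Q (h u) v = -polar Q u (h v) := fun u v => by
      simp only [hh, LinearMap.add_apply, QuadraticMap.polar_add_left, QuadraticMap.polar_add_right,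
        h0skew u v, hηskew u v]
      ring
    rintro x (rfl | rfl | rfl) u v
    · simp only [ht, LinearMap.add_apply, QuadraticMap.polar_add_left, QuadraticMap.polar_add_right, hGad,
        hG'ad]
      ring
    · exact head u v
    · rw [Module.End.mul_apply, Module.End.mul_apply, hhs, hhs, neg_neg]
  have hcomm : ∀ x ∈ ({t, e, h * h} : Set (Module.End F (ι → F))), ∀ y ∈ ({t, e, h * h} : Set _),
      x * y = y * x := by
    rintro x (rfl | rfl | rfl) y (rfl | rfl | rfl)
    · rfl
    · exact hcte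
    · exact hcth.mul_right hcth
    · exact hcte.symm
    · rfl
    · exact hceh.mul_right hceh
    · exact (hcth.mul_right hcth).symm
    · exact (hceh.mul_right hceh).symm
    · rfl
  have hRc : ∀ x ∈ R, ∀ y ∈ R, Commute x y := fun x hx y hy => by
    subst hR
    have := Algebra.isMulCommutative_adjoin F hcomm
    exact congrArg Subtype.val (this.is_comm.comm ⟨x, hx⟩ ⟨y, hy⟩)
  have hRsa : ∀ x ∈ R, ∀ u v, polar Q (x u) v = polar Q u (x v) := by
    intro x hx
    induction (hR ▸ hx : x ∈ Algebra.adjoin F _) using Algebra.adjoin_induction with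
    | mem y hy => exact hsadj y hy
    | algebraMap c => intro u v; simp [Module.algebraMap_end_apply, QuadraticMap.polar_smul_left,
        QuadraticMap.polar_smul_right]
    | add x y _ _ ihx ihy =>
      intro u v
      simp only [LinearMap.add_apply, QuadraticMap.polar_add_left, QuadraticMap.polar_add_right,
        ihx (hR ▸ by assumption), ihy (hR ▸ by assumption)]
    | mul x y hxR hyR ihx ihy =>
      intro u v
      rw [Module.End.mul_apply, ihx (hR ▸ hxR), ihy (hR ▸ hyR), ← Module.End.mul_apply,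
        (hRc x (hR ▸ hxR) y (hR ▸ hyR)).eq.symm]
  have hRh : ∀ x ∈ R, Commute x h := by
    intro x hx
    induction (hR ▸ hx : x ∈ Algebra.adjoin F _) using Algebra.adjoin_induction with
    | mem y hy =>
      rcases hy with rfl | rfl | rfl
      · exact hcth
      · exact hceh
      · exact (Commute.refl h).mul_left (Commute.refl h)
    | algebraMap c => exact Algebra.commute_algebraMap_left c h
    | add x y hxR hyR ihx ihy => exact (ihx (hR ▸ hxR)).add_left (ihy (hR ▸ hyR))
    | mul x y hxR hyR ihx ihy => exact (ihx (hR ▸ hxR)).mul_left (ihy (hR ▸ hyR))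
  -- every element is fixed by a power of the Frobenius
  obtain ⟨f, hF⟩ : ∃ f : ℕ, Fintype.card F = p ^ f := by
    obtain ⟨n, -, hn⟩ := FiniteField.card F p
    exact ⟨n, hn⟩
  obtain ⟨N, hN⟩ : ∃ N, N = f * (r - 1) := ⟨_, rfl⟩
  have hN1 : p ^ N % r = 1 := by
    rw [hN, mul_comm, pow_mul]
    have hcop : Nat.Coprime p r := (Nat.coprime_primes hpr hr).2 (Ne.symm hrp)
    have hm := Nat.ModEq.pow f (Nat.ModEq.pow_totient hcop)
    rw [Nat.totient_prime hr, one_pow] at hm
    rw [hm, Nat.mod_eq_of_lt (by omega)]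
  have hcF : ∀ c : F, c ^ p ^ N = c := fun c => by
    rw [hN, pow_mul, ← hF]
    exact FiniteField.pow_card_pow (r - 1) c
  have hGN : G ^ p ^ N = G := by
    conv_lhs => rw [← Nat.div_add_mod (p ^ N) r]
    rw [pow_add, pow_mul, hGr, one_pow, one_mul, hN1, pow_one]
  have hG'N : G' ^ p ^ N = G' := by rw [hG', ← pow_mul, mul_comm, pow_mul, hGN]
  have hchar : CharP (Module.End F (ι → F)) p := charP_of_injective_algebraMap (RingHom.injective (algebraMap F (Module.End F (ι → F)))) p
  have hq0 : 1 ≤ p ^ N := Nat.one_le_pow _ _ hpr.pos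
  have hnegone : (-1 : Module.End F (ι → F)) ^ p ^ N = -1 := by
    rw [← map_one (algebraMap F (Module.End F (ι → F))), ← map_neg, ← map_pow, hcF]
  have h0N : h0 ^ p ^ N = h0 := by
    rw [hh0, sub_eq_add_neg, add_pow_char_pow_of_commute p N hcGG'.neg_right, neg_pow, hnegone, hGN, hG'N]
    exact congrArg (G + ·) (neg_one_mul G')
  have hsumsq : h * h = h0 * h0 + η * η := by
    rw [hh, add_mul, mul_add, mul_add, show h0 * η = 0 by rw [← heη, ← mul_assoc, h0e, zero_mul],
      show η * h0 = 0 by rw [← hηe, mul_assoc, he0, mul_zero]]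
    abel
  have hηN : (η * η) ^ p ^ N = η * η := by
    obtain ⟨E, hE⟩ : ∃ E, E = η * η := ⟨_, rfl⟩
    rw [← hE]
    have hEb : ∀ j, E (b₀ j).1 = l j • (b₀ j).1 := fun j => by
      have e1 : η (b₀ j).1 = (η₀ (b₀ j)).1 := by
        rw [hηapp]; exact congrArg (fun z => (η₀ z).1) (Subtype.ext (hV₀fix _ (b₀ j).2))
      rw [hE, Module.End.mul_apply, e1, hηapp,
        show (⟨e (η₀ (b₀ j)).1, hV₀mem _⟩ : V₀) = η₀ (b₀ j) from Subtype.ext (hV₀fix _ (η₀ (b₀ j)).2), hl]
      rfl
    have hEn : ∀ n j, (E ^ n) (b₀ j).1 = l j ^ n • (b₀ j).1 := fun n j => by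
      induction n with
      | zero => simp
      | succ n ih => rw [pow_succ, Module.End.mul_apply, hEb, map_smul, ih, smul_smul, pow_succ']
    have hEe : E * e = E := by rw [hE, mul_assoc, hηe]
    have hall : ∀ n, 1 ≤ n → E ^ n * e = E ^ n := fun n hn => by
      obtain ⟨n, rfl⟩ := Nat.exists_eq_succ_of_ne_zero (by omega : n ≠ 0)
      rw [pow_succ, mul_assoc, hEe]
    have heq : (E ^ p ^ N).comp V₀.subtype = E.comp V₀.subtype := b₀.ext fun j => by
      show (E ^ p ^ N) (b₀ j).1 = E (b₀ j).1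
      rw [hEn, hcF, hEb]
    refine LinearMap.ext fun v => ?_
    have h1 := LinearMap.congr_fun heq ⟨e v, hV₀mem v⟩
    exact ((LinearMap.congr_fun (hall _ hq0) v).symm.trans h1).trans (LinearMap.congr_fun hEe v)
  have hch0η : Commute (h0 * h0) (η * η) := by
    have h1 : h0 * η = 0 := by rw [← heη, ← mul_assoc, h0e, zero_mul]
    have h2' : η * h0 = 0 := by rw [← hηe, mul_assoc, he0, mul_zero]
    show h0 * h0 * (η * η) = η * η * (h0 * h0)
    rw [mul_assoc, ← mul_assoc h0 η, h1, zero_mul, mul_zero, mul_assoc, ← mul_assoc η h0, h2', zero_mul, mul_zero]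
  have hsN : (h * h) ^ p ^ N = h * h := by
    rw [hsumsq, add_pow_char_pow_of_commute p N hch0η, hηN, (Commute.refl h0).mul_pow, h0N]
  have htN : t ^ p ^ N = t := by rw [ht, add_pow_char_pow_of_commute p N hcGG', hGN, hG'N]
  have heN : e ^ p ^ N = e := by
    obtain ⟨n, hn⟩ := Nat.exists_eq_succ_of_ne_zero (show p ^ N ≠ 0 by omega)
    rw [hn]
    exact (IsIdempotentElem.pow_succ_eq n hee)
  have hRN : ∀ x ∈ R, x ^ p ^ N = x := by
    intro x hx
    induction (hR ▸ hx : x ∈ Algebra.adjoin F _) using Algebra.adjoin_induction with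
    | mem y hy =>
      rcases hy with rfl | rfl | rfl
      · exact htN
      · exact heN
      · exact hsN
    | algebraMap c => rw [← map_pow, hcF]
    | add x y hxR hyR ihx ihy =>
      rw [add_pow_char_pow_of_commute p N (hRc x (hR ▸ hxR) y (hR ▸ hyR)), ihx (hR ▸ hxR), ihy (hR ▸ hyR)]
    | mul x y hxR hyR ihx ihy =>
      rw [(hRc x (hR ▸ hxR) y (hR ▸ hyR)).mul_pow, ihx (hR ▸ hxR), ihy (hR ▸ hyR)]
  have hN0 : 2 ≤ p ^ N := by
    refine le_trans hpr.two_le (Nat.le_self_pow ?_ p)
    intro h0'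
    have h1 := Fintype.one_lt_card (α := F)
    rw [hF] at h1
    rcases Nat.mul_eq_zero.1 (hN ▸ h0' : f * (r - 1) = 0) with e' | e'
    · rw [e', pow_zero] at h1; omega
    · omega
  have hRred : ∀ x ∈ R, IsNilpotent x → x = 0 := fun x hx ⟨n, hn⟩ => by
    have hm : ∀ j, x ^ (p ^ N) ^ j = x := fun j => by
      induction j with
      | zero => simp
      | succ j ih => rw [pow_succ, pow_mul, ih, hRN x hx]
    rw [← hm n]
    exact pow_eq_zero_of_le (Nat.le_of_lt (Nat.lt_pow_self hN0)) hn
  have htR : t ∈ R := hR ▸ Algebra.subset_adjoin (by simp)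
  have heR : e ∈ R := hR ▸ Algebra.subset_adjoin (by simp)
  refine ⟨{ R := R
            comm := hRc
            selfAdj := hRsa
            reduced := hRred
            h := h
            h_inj := ?_
            h_skew := fun u v => ?_
            h_comm := hRh
            h_sq := hR ▸ Algebra.subset_adjoin (by simp) },
    ⟨(2 : F)⁻¹ • (t * (1 - e)) + e, R.add_mem (R.smul_mem (R.mul_mem htR (R.sub_mem R.one_mem heR)) _) heR⟩,
    ⟨(2 : F)⁻¹ • (1 - e), R.smul_mem (R.sub_mem R.one_mem heR) _⟩, fun v => ?_⟩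
  · refine (injective_iff_map_eq_zero h).2 fun v hv => ?_
    have h1 : η v = 0 := by
      have := congrArg e hv
      rwa [map_zero, ← Module.End.mul_apply, hh, mul_add, he0, zero_add, heη] at this
    have h2v : h0 v = 0 := by rwa [hh, LinearMap.add_apply, h1, add_zero] at hv
    have h3 := hfix v (h0ker v h2v)
    rw [hηapp] at h1
    have h4 : (⟨e v, hV₀mem v⟩ : V₀) = 0 := hη₀i ((Subtype.ext h1).trans (map_zero η₀).symm)
    exact h3.symm.trans (congrArg Subtype.val h4)
  · simp only [hh, LinearMap.add_apply, QuadraticMap.polar_add_left, QuadraticMap.polar_add_right,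
      h0skew u v, hηskew u v]
    ring
  · show g.1 v = ((2 : F)⁻¹ • (t * (1 - e)) + e + (2 : F)⁻¹ • (1 - e) * h) v
    rw [show g.1 v = G v by rw [hG]; rfl]
    refine LinearMap.congr_fun ?_ v
    have h3 : t * (1 - e) + (1 - e) * h = (2 : F) • (G - e) := by
      rw [ht, hh, mul_sub, mul_one, sub_mul, one_mul, add_mul, hGe, hG'e, mul_add, he0, heη, two_smul, hh0]
      abel
    calc G = (2 : F)⁻¹ • ((2 : F) • (G - e)) + e := by rw [inv_smul_smul₀ h2, sub_add_cancel]
      _ = (2 : F)⁻¹ • (t * (1 - e) + (1 - e) * h) + e := by rw [h3]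
      _ = _ := by rw [smul_mul_assoc, smul_add]; abel

end CfsgLib.Classical
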