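import Mathlib
import Cfsg.Agent.Lib.Classical.OrthSemiData
import Cfsg.Agent.Lib.Classical.OrthDiagQuot
import Cfsg.Agent.Lib.Classical.OrthGraphCent

/-!
Fusion of classes of semisimple automorphisms of odd prime order of orthogonal groups.
-/

set_option autoImplicit false
set_option linter.unusedSectionVars false

namespace CfsgLib.Classical

namespace SemiSim

open CfsgLib.Geom
open Matrix
open QuadraticMap (polar)

variable {F : Type*} [Field F] [Finite F] {ι : Type} [Fintype ι] [DecidableEq ι]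
variable {Q : QuadraticForm F (ι → F)}
variable (hQ : ∀ x, (∀ y, polar Q x y = 0) → x = 0) (h2 : (2 : F) ≠ 0)
variable {k : ℕ} (hk : Fintype.card ι = 2 * k)

/-- The semisimilarities inducing automorphisms from isometries. -/
def poSub (Q : QuadraticForm F (ι → F)) : Subgroup (SemiSim Q) :=
  (scalar (Q := Q)).range ⊔ (isomHom (Q := Q)).range

theorem map_poSub {m : ℕ} (K : OFrame Q m) : (poSub Q).map (autC Q) = Cfsg.poAut F (⇑Q) := by
  rw [poSub, Subgroup.map_sup, (Subgroup.map_eq_bot_iff _).2 (autC_ker K).ge, bot_sup_eq]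
  refine le_antisymm ?_ ((Subgroup.closure_le _).2 ?_)
  · rintro _ ⟨_, ⟨g, rfl⟩, rfl⟩
    refine Subgroup.subset_closure ⟨(orEquiv Q g).1, (orEquiv Q g).2, ?_⟩
    have h := (ofIsom g).isInduced
    rw [ofIsom_gl] at h
    exact h
  · rintro β ⟨g, hg, hβ⟩
    obtain ⟨u, hu⟩ := (orEquiv Q).surjective ⟨g, hg⟩
    have h : Cfsg.IsSemisimilarityPair (⇑Q) g (RingEquiv.refl F) :=
      ⟨1, fun v => by rw [Units.val_one, one_mul]; exact (mem_isometryGroup_iff _ g).1 hg v⟩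
    refine ⟨isomHom u, ⟨u, rfl⟩, ?_⟩
    rw [(isInduced_iff h β).1 hβ]
    refine congrArg _ (K.semiSim_ext fun v => ?_)
    show u.1 v = (g : Matrix ι ι F) *ᵥ fun i => v i
    rw [← orEquiv_mulVec Q u v, hu]

theorem isConjUnder_congr {X : Type*} [Group X] {H G : Subgroup X} {x y : X} (hle : H ≤ G)
    (hdec : ∀ g ∈ G, ∃ h ∈ H, Commute (h⁻¹ * g) x) :
    Cfsg.IsConjUnder H x y ↔ Cfsg.IsConjUnder G x y := by
  constructor
  · rintro ⟨h, hh, hy⟩
    exact ⟨h, hle hh, hy⟩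
  · rintro ⟨g, hg, hy⟩
    obtain ⟨h, hh, hc⟩ := hdec g hg
    refine ⟨h, hh, hy.trans ?_⟩
    have hc' : h⁻¹ * g * x = x * (h⁻¹ * g) := hc.eq
    calc g * x * g⁻¹ = h * (h⁻¹ * g * x) * g⁻¹ := by group
      _ = h * (x * (h⁻¹ * g)) * g⁻¹ := by rw [hc']
      _ = h * x * h⁻¹ := by group

theorem map_dec {G : Subgroup (SemiSim Q)} {H : Subgroup (SemiSim Q)} {x : MulAut (Cfsg.POmega F (⇑Q))}
    (hdec : ∀ g ∈ G, ∃ h ∈ H, Commute (autC Q (h⁻¹ * g)) x) :
    ∀ g ∈ G.map (autC Q), ∃ h ∈ H.map (autC Q), Commute (h⁻¹ * g) x := by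
  rintro _ ⟨g, hg, rfl⟩
  obtain ⟨h, hh, hc⟩ := hdec g hg
  exact ⟨_, ⟨h, hh, rfl⟩, by rwa [← map_inv, ← map_mul]⟩

include hQ h2 hk in
/-- An automorphism of odd order induced by a similarity is induced by an isometry of the same order. -/
theorem exists_isom_of_odd_order {m : ℕ} (K : OFrame Q m) {x : MulAut (Cfsg.POmega F (⇑Q))}
    (hx : x ∈ Cfsg.pgoAut F (⇑Q)) {r : ℕ} (hro : Odd r) (hxr : x ^ r = 1) :
    ∃ g : quadIsoms Q, g ^ r = 1 ∧ x = autC Q (isomHom g) := by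
  rw [pgoAut_eq] at hx
  obtain ⟨S, hS, rfl⟩ := hx
  have hσ : S.σ = 1 := hS
  rw [← map_pow, ← MonoidHom.mem_ker, autC_ker K] at hxr
  obtain ⟨l, hl⟩ := hxr
  obtain ⟨t, rfl⟩ := hro
  have hσn : ∀ n : ℕ, (S ^ n).σ = 1 := fun n => by
    induction n with
    | zero => rfl
    | succ n ih => rw [pow_succ, mul_σ, ih, hσ, one_mul]
  have hcn : ∀ n : ℕ, (S ^ n).c = S.c ^ n := fun n => by
    induction n with
    | zero => rw [pow_zero, pow_zero, one_c]
    | succ n ih => rw [pow_succ, c_mul_of_σ (hσn n), ih, pow_succ]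
  have hcl : S.c ^ (2 * t + 1) = l * l := by
    rw [← hcn, ← hl, scalar_c]
  have hsq : sqProj F S.c = 1 := by
    have h := congrArg (sqProj F) hcl
    rwa [map_pow, map_mul, sqClass_mul_self, pow_succ, pow_mul, sq, sqClass_mul_self, one_pow, one_mul] at h
  obtain ⟨s0, hs0⟩ := (sqProj_eq_one_iff F S.c).1 hsq
  obtain ⟨a, ha⟩ : ∃ a, a = l * (s0 ^ (2 * t + 1))⁻¹ := ⟨_, rfl⟩
  have haa : a * a = 1 := by
    rw [ha, mul_mul_mul_comm, ← mul_inv, ← mul_pow, ← sq s0, show s0 ^ 2 = S.c from hs0, hcl, mul_inv_cancel]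
  obtain ⟨s, hs⟩ : ∃ s, s = s0 * a := ⟨_, rfl⟩
  have hss : s * s = S.c := by rw [hs, mul_mul_mul_comm, haa, mul_one, ← show s0 ^ 2 = S.c from hs0, sq]
  have hsl : s ^ (2 * t + 1) = l := by
    rw [hs, mul_pow, pow_succ a, pow_mul, sq, haa, one_pow, one_mul, ha, mul_comm, inv_mul_cancel_right]
  obtain ⟨g, hg⟩ := exists_isom (S := scalar s⁻¹ * S) (by rw [mul_σ, hσ, scalar_σ, one_mul])
    (by rw [c_mul_of_σ (scalar_σ _), scalar_c, ← hss, ← mul_inv, inv_mul_cancel])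
  refine ⟨g, isomHom_injective ?_, ?_⟩
  · have hcom : Commute (scalar s⁻¹) S := (scalar_central S hσ _).symm
    rw [map_pow, ← hg, hcom.mul_pow, ← map_pow, ← hl, ← map_mul, inv_pow, hsl, inv_mul_cancel, map_one, map_one]
  · rw [← hg, map_mul, show autC Q (scalar s⁻¹) = 1 from MonoidHom.mem_ker.1 ((autC_ker K).ge ⟨_, rfl⟩), one_mul]

include hQ h2 hk in
theorem exists_diag_commute [Fintype F] [Nonempty ι] {m : ℕ} (K : OFrame Q m) (D : SkewData Q) (g : quadIsoms Q) (a b : D.R)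
    (hg : ∀ v, g.1 v = D.el a b v) {X : SemiSim Q} (hX : X ∈ diagSub Q k) :
    ∃ i ∈ innerSub Q, Commute (autC Q (i⁻¹ * X)) (autC Q (isomHom g)) := by
  classical
  obtain ⟨c0, hc0⟩ := exists_nonsquare_class (F := F) h2
  obtain ⟨f, hfQ, hfd, hfc⟩ := D.exists_similitude hQ h2 hk c0
  have hfi : IsUnit f := (LinearMap.isUnit_iff_isUnit_det f).2 (by
    rw [hfd]; exact (pow_ne_zero _ c0.ne_zero).isUnit)
  obtain ⟨e, he⟩ : ∃ e : (ι → F) ≃ₗ[F] (ι → F), ∀ v, e v = f v :=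
    ⟨LinearEquiv.ofBijective f ((Module.End.isUnit_iff f).1 hfi), fun _ => rfl⟩
  let P : SemiSim Q :=
    { map := e.toAddEquiv
      σ := RingEquiv.refl F
      c := c0
      map_smul := fun x v => e.map_smul x v
      map_quad := fun v => by show Q (e v) = _; rw [he]; exact hfQ v }
  have hPg : Commute P (isomHom g) := ext' (fun v => by
    show e (g.1 v) = g.1 (e v)
    rw [he, he, hg, hg]
    exact LinearMap.congr_fun (hfc a b).eq v) rfl (Units.ext (by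
      show ((P * isomHom g).c : F) = (isomHom g * P).c
      rw [c_mul_of_σ (S := P) rfl, c_mul_of_σ (S := isomHom g) rfl, mul_comm]))
  have hPd : P ∈ diagSub Q k := by
    refine mem_diagSub.2 ⟨rfl, ?_⟩
    show (P.gl : Matrix ι ι F).det = (c0 : F) ^ k
    rw [← hfd, ← LinearMap.det_toMatrix']
    congr 1
    refine Matrix.ext_iff_mulVec.2 fun v => ?_
    rw [LinearMap.toMatrix'_mulVec]
    exact (P.gl_mulVec v).trans (he v)
  obtain ⟨H, hH1, hH2, hHc⟩ := D.exists_spinor hQ h2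
  have hHg : Commute (isomHom H) (isomHom g) := by
    refine (Commute.map ?_ isomHom)
    refine quadIsoms_ext Q fun v => ?_
    show H.1 (g.1 v) = g.1 (H.1 v)
    rw [hg, hg, hHc]
  -- the square case
  have key : ∀ Y ∈ soScal Q, ∃ i ∈ innerSub Q, Commute (i⁻¹ * Y) (isomHom g) := by
    intro Y hY
    obtain ⟨hYd, hYc⟩ := (mem_soScal hk).1 hY
    obtain ⟨s, hs⟩ := (sqProj_eq_one_iff F Y.c).1 hYc
    have hs' : s * s = Y.c := (sq s).symm.trans hs
    obtain ⟨u, hu⟩ := exists_isom (S := scalar s⁻¹ * Y) (by rw [mul_σ, scalar_σ, (mem_diagSub.1 hYd).1, one_mul])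
      (by rw [c_mul_of_σ (scalar_σ _), scalar_c, ← hs', ← mul_inv, inv_mul_cancel])
    have hud : isomHom u ∈ diagSub Q k :=
      ((mem_soScal hk).1 (hu ▸ (soScal Q).mul_mem (Subgroup.mem_sup_left ⟨s⁻¹, rfl⟩) hY)).1
    have hu : Y = scalar s * isomHom u := by rw [← hu, ← mul_assoc, ← map_mul, mul_inv_cancel, map_one, one_mul]
    subst hu
    have hu : LinearEquiv.det u.1 = 1 := Units.ext (by
      rw [← sdet_isom, (mem_diagSub.1 hud).2, show (isomHom u).c = 1 from rfl, Units.val_one, one_pow])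
    have hsc : scalar s ∈ innerSub Q := Subgroup.mem_sup_left ⟨s, rfl⟩
    have hu1 : (spin hQ h2 u).1 = 1 := (spin_fst_eq_one_iff hQ h2 u).2 hu
    by_cases he : (spin hQ h2 u).2 = 1
    · refine ⟨_, (innerSub Q).mul_mem hsc ((isom_mem_innerSub_iff hQ h2 K u).2 (Or.inl (Prod.ext hu1 he))), ?_⟩
      rw [inv_mul_cancel]
      exact Commute.one_left _
    · refine ⟨_, (innerSub Q).mul_mem hsc ((isom_mem_innerSub_iff hQ h2 K (u * H⁻¹)).2 (Or.inl ?_)), ?_⟩
      · refine Prod.ext ?_ ?_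
        · rw [map_mul, map_inv, Prod.fst_mul, Prod.fst_inv, hu1, hH1, inv_one, one_mul]
          rfl
        · rw [map_mul, map_inv, Prod.snd_mul, Prod.snd_inv, sqClass_two _ _ he hH2, mul_inv_cancel]
          rfl
      · rw [map_mul, map_inv, show (scalar s * (isomHom u * (isomHom H)⁻¹))⁻¹ * (scalar s * isomHom u) =
          isomHom H by group]
        exact hHg
  by_cases hcX : sqProj F X.c = 1
  · obtain ⟨i, hi, hc⟩ := key X ((mem_soScal hk).2 ⟨hX, hcX⟩)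
    exact ⟨i, hi, hc.map _⟩
  · have hY : X * P⁻¹ ∈ soScal Q := (mem_soScal hk).2 ⟨(diagSub Q k).mul_mem hX ((diagSub Q k).inv_mem hPd), by
      rw [c_mul_of_σ (mem_diagSub.1 hX).1, c_inv_of_σ (S := P) rfl, map_mul, map_inv,
        sqClass_two _ _ hcX (show sqProj F P.c ≠ 1 from hc0), mul_inv_cancel]⟩
    obtain ⟨i, hi, hc⟩ := key _ hY
    refine ⟨i, hi, Commute.map ?_ _⟩
    rw [show i⁻¹ * X = i⁻¹ * (X * P⁻¹) * P by group]
    exact hc.mul_left hPg

include hQ h2 hk in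
/-- Fusion of the classes of an automorphism of odd prime order different from the characteristic. -/
theorem semisimple_fusion [Fintype F] [Nonempty ι] {m : ℕ} (K : OFrame Q m) {p : ℕ} [Fact p.Prime] [CharP F p]
    {x : MulAut (Cfsg.POmega F (⇑Q))} (hx : x ∈ Cfsg.pgoAut F (⇑Q)) {r : ℕ} (hr : r.Prime) (hro : Odd r)
    (hrp : r ≠ p) (hxr : orderOf x = r) :
    (∀ y : MulAut (Cfsg.POmega F (⇑Q)),
      (Cfsg.IsConjUnder (Cfsg.Inn (Cfsg.POmega F (⇑Q))) x y ↔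
        Cfsg.IsConjUnder ((diagSub Q k).map (autC Q)) x y) ∧
      (Cfsg.IsConjUnder (Cfsg.psoAut F (⇑Q)) x y ↔ Cfsg.IsConjUnder ((diagSub Q k).map (autC Q)) x y)) ∧
      ∀ y : MulAut (Cfsg.POmega F (⇑Q)),
        Cfsg.IsConjUnder (Cfsg.poAut F (⇑Q)) x y ↔ Cfsg.IsConjUnder (Cfsg.pgoAut F (⇑Q)) x y := by
  obtain ⟨g, hgr, rfl⟩ := exists_isom_of_odd_order hQ h2 hk K hx hro (hxr ▸ pow_orderOf_eq_one x)
  obtain ⟨D, a, b, hg⟩ := exists_skewData hQ h2 ⟨k, by rw [hk, two_mul]⟩ hr hro hrp g hgr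
  have hdec := fun X (hX : X ∈ diagSub Q k) => exists_diag_commute hQ h2 hk K D g a b hg hX
  have hso : soScal Q ≤ diagSub Q k := fun S hS => ((mem_soScal hk).1 hS).1
  have hin : innerSub Q ≤ soScal Q := innerSub_le_soScal
  rw [← map_innerSub K, ← map_soScal K, ← map_poSub K, pgoAut_eq]
  refine ⟨fun y => ⟨isConjUnder_congr (Subgroup.map_mono (hin.trans hso)) (map_dec hdec),
    isConjUnder_congr (Subgroup.map_mono hso) (map_dec fun X hX =>
      (hdec X hX).imp fun i hi => ⟨hin hi.1, hi.2⟩)⟩, fun y => ?_⟩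
  refine isConjUnder_congr (Subgroup.map_mono (sup_le ?_ ?_)) (map_dec fun X hX => ?_)
  · rintro _ ⟨l, rfl⟩
    exact scalar_σ (Q := Q) l
  · rintro _ ⟨u, rfl⟩
    rfl
  have hiso : innerSub Q ≤ poSub Q := sup_le_sup_left (Subgroup.map_le_range _ _) _
  rcases detHom_values hQ hk ⟨X, hX⟩ with e | e
  · obtain ⟨i, hi, hc⟩ := hdec X (mem_diagSub.2 ⟨hX, (detHom_eq_one_iff k ⟨X, hX⟩).1 e⟩)
    exact ⟨i, hiso hi, hc⟩
  · obtain ⟨v, hv⟩ : ∃ v, Q v ≠ 0 := by
      by_contra hc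
      push_neg at hc
      obtain ⟨i⟩ := ‹Nonempty ι›
      have h1 := congrFun (hQ (Pi.single i 1) fun y => by simp [polar, hc]) i
      simp at h1
    obtain ⟨R, hR⟩ : ∃ R : quadIsoms Q, R = ⟨reflEquiv Q v hv, reflEquiv_mem Q v hv⟩ := ⟨_, rfl⟩
    have hRd : LinearEquiv.det R.1 = -1 := by
      rcases det_spin hQ h2 R with h | h
      · exact absurd h.1 (by rw [hR, spin_refl hQ h2 hv]; simp)
      · exact h.2
    have hd : isomHom R * X ∈ diagSub Q k := by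
      refine mem_diagSub.2 ⟨by rw [mul_σ, show X.σ = 1 from hX]; rfl, ?_⟩
      have h1 : detHom Q k ⟨isomHom R, rfl⟩ = -1 := by
        refine Units.ext ?_
        show (isomHom R).sdet * ((1 : Fˣ) ^ k)⁻¹ = _
        rw [sdet_isom, hRd]
        simp
      refine (detHom_eq_one_iff k ⟨_, (σHom (Q := Q)).ker.mul_mem (x := isomHom R) rfl hX⟩).1 ?_
      show detHom Q k (⟨isomHom R, rfl⟩ * ⟨X, hX⟩) = 1
      rw [map_mul, h1, e, neg_mul_neg, one_mul]
    obtain ⟨i, hi, hc⟩ := hdec _ hd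
    refine ⟨(isomHom R)⁻¹ * i, (poSub Q).mul_mem ((poSub Q).inv_mem (Subgroup.mem_sup_right ⟨R, rfl⟩)) (hiso hi), ?_⟩
    rwa [show ((isomHom R)⁻¹ * i)⁻¹ * X = i⁻¹ * (isomHom R * X) by group]

end SemiSim

end CfsgLib.Classical
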