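import Mathlib
import Cfsg.Prelude.Def_Classical
import Cfsg.Prelude.Def_ClassicalGeometry
import Cfsg.Agent.Lib.Classical.UnitaryGen
import Cfsg.Agent.Lib.Classical.HermOrder
import Cfsg.Agent.Lib.KnownC.UnitarySpectrum

/-!
# Small unitary groups on their isotropic points, in coordinates

An element `a + b s` of a field with `p ^ 2` elements, `p` odd and `s * s = d`, is coded by `a + p b`.
A list of normalised isotropic vectors, a few transvection centres and their tables give the group
`PSU n F p` as permutations of the indices of that list.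
-/

set_option autoImplicit false
set_option linter.unusedSectionVars false

namespace CfsgLib.Classical.QuadModel

open Matrix

/-- The parameters. -/
structure Par where
  p : ℕ
  d : ℕ
  n : ℕ

variable (P : Par)

/-- Sum of codes. -/
def cA (x y : ℕ) : ℕ := (x % P.p + y % P.p) % P.p + P.p * ((x / P.p + y / P.p) % P.p)

/-- Product of codes. -/
def cM (x y : ℕ) : ℕ :=
  ((x % P.p) * (y % P.p) + P.d * (x / P.p) * (y / P.p)) % P.p +
    P.p * (((x % P.p) * (y / P.p) + (x / P.p) * (y % P.p)) % P.p)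

/-- Conjugate of a code. -/
def cC (x : ℕ) : ℕ := x % P.p % P.p + P.p * ((P.p - 1) * (x / P.p) % P.p)

/-- A scalar multiple. -/
def cS (a : ℕ) (v : List ℕ) : List ℕ := v.map (cM P a)

/-- The form on lists. -/
def cH : List ℕ → List ℕ → ℕ
  | a :: u, b :: v => cA P (cM P a (cC P b)) (cH u v)
  | _, _ => 0

/-- The image of `z` under the transvection with centre `v` and parameter `s`. -/
def cT (v z : List ℕ) : List ℕ :=
  List.zipWith (fun x y => cA P x (cM P (cM P P.p (cH P z v)) y)) z v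

/-- All lists of codes of a given length. -/
def allVecs : ℕ → List (List ℕ)
  | 0 => [[]]
  | k + 1 => (List.range (P.p * P.p)).flatMap fun a => (allVecs k).map (a :: ·)

/-- The normalised lists of codes. -/
def normVecs : ℕ → List (List ℕ)
  | 0 => []
  | k + 1 => (allVecs P k).map (1 :: ·) ++ (normVecs k).map (0 :: ·)

/-- The test defining the points. -/
def isoTest (v : List ℕ) : Bool := cH P v v == 0

variable {F : Type} [Field F] [Fintype F]

section code

variable (s : F)

/-- The field element of a code. -/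
def φ (x : ℕ) : F := ((x % P.p : ℕ) : F) + ((x / P.p : ℕ) : F) * s

/-- The vector of a list of codes. -/
def vec : (k : ℕ) → List ℕ → Fin k → F
  | _, L => fun i => φ P s (L.getD i 0)

variable [CharP F P.p] {P} {s} (hs : s * s = (P.d : F)) (hsp : s ^ P.p = -s) (hp : P.p.Prime)
include hs hsp hp

theorem cast_mod (a : ℕ) : ((a % P.p : ℕ) : F) = (a : F) := (CharP.cast_eq_mod F P.p a).symm

theorem φ_code (a b : ℕ) : φ P s (a % P.p + P.p * (b % P.p)) = (a : F) + (b : F) * s := by
  have hpos := hp.pos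
  rw [φ, Nat.add_mul_mod_self_left, Nat.mod_mod, Nat.add_mul_div_left _ _ hpos,
    Nat.div_eq_of_lt (Nat.mod_lt _ hpos), zero_add, cast_mod hs hsp hp, cast_mod hs hsp hp]

theorem φ_zero : φ P s 0 = 0 := by simp [φ]

theorem φ_one : φ P s 1 = 1 := by
  simp [φ, Nat.mod_eq_of_lt hp.one_lt, Nat.div_eq_of_lt hp.one_lt]

theorem φ_s : φ P s P.p = s := by
  simp [φ, Nat.div_self hp.pos]

theorem φ_cA (x y : ℕ) : φ P s (cA P x y) = φ P s x + φ P s y := by
  rw [cA, φ_code hs hsp hp]
  simp only [φ, Nat.cast_add]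
  ring

theorem φ_cM (x y : ℕ) : φ P s (cM P x y) = φ P s x * φ P s y := by
  rw [cM, φ_code hs hsp hp]
  simp only [φ, Nat.cast_add, Nat.cast_mul]
  linear_combination -((x / P.p : ℕ) : F) * ((y / P.p : ℕ) : F) * hs

theorem φ_cC (x : ℕ) : φ P s (cC P x) = φ P s x ^ P.p := by
  haveI := Fact.mk hp
  rw [cC, φ_code hs hsp hp]
  have hfix : ∀ a : ℕ, (a : F) ^ P.p = a := fun a => by
    rw [← map_natCast (ZMod.castHom (dvd_refl P.p) F) a, ← map_pow, ZMod.pow_card]
  simp only [φ, add_pow_char, mul_pow, hfix, hsp, Nat.cast_mul, Nat.cast_sub hp.pos, Nat.cast_one,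
    CharP.cast_eq_zero]
  ring

theorem φ_inj (hd : (P.d : F) ≠ 0) (hp2 : P.p ≠ 2) {x y : ℕ} (hx : x < P.p * P.p)
    (hy : y < P.p * P.p) (h : φ P s x = φ P s y) : x = y := by
  have hs0 : s ≠ 0 := fun e => hd (by rw [← hs, e, mul_zero])
  haveI := Fact.mk hp
  have hfix : ∀ a : ℕ, (a : F) ^ P.p = a := fun a => by
    rw [← map_natCast (ZMod.castHom (dvd_refl P.p) F) a, ← map_pow, ZMod.pow_card]
  have key : ∀ z, φ P s z ^ P.p = ((z % P.p : ℕ) : F) - ((z / P.p : ℕ) : F) * s := fun z => by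
    simp only [φ, add_pow_char, mul_pow, hfix, hsp]
    ring
  have h1 := congrArg (fun t => t ^ P.p) h
  simp only [key] at h1
  simp only [φ] at h
  have two : (2 : F) ≠ 0 := by
    intro e
    have : ((2 : ℕ) : F) = 0 := by exact_mod_cast e
    rw [CharP.cast_eq_zero_iff F P.p] at this
    exact hp2 ((Nat.prime_dvd_prime_iff_eq hp Nat.prime_two).1 this)
  have ea : ((x % P.p : ℕ) : F) = ((y % P.p : ℕ) : F) :=
    mul_left_cancel₀ two (by linear_combination h + h1)
  have eb : ((x / P.p : ℕ) : F) = ((y / P.p : ℕ) : F) :=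
    mul_left_cancel₀ (mul_ne_zero two hs0) (by linear_combination h - h1)
  have ha := (CharP.natCast_eq_natCast F P.p).1 ea
  have hb := (CharP.natCast_eq_natCast F P.p).1 eb
  rw [Nat.ModEq, Nat.mod_mod, Nat.mod_mod] at ha
  rw [Nat.ModEq, Nat.mod_eq_of_lt ((Nat.div_lt_iff_lt_mul hp.pos).2 hx),
    Nat.mod_eq_of_lt ((Nat.div_lt_iff_lt_mul hp.pos).2 hy)] at hb
  rw [← Nat.mod_add_div x P.p, ← Nat.mod_add_div y P.p, ha, hb]

theorem φ_surj (hd : (P.d : F) ≠ 0) (hp2 : P.p ≠ 2) (hF : Fintype.card F = P.p ^ 2) (z : F) :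
    ∃ x < P.p * P.p, φ P s x = z := by
  have hinj : Function.Injective fun i : Fin (P.p * P.p) => φ P s i :=
    fun i j h => Fin.ext (φ_inj hs hsp hp hd hp2 i.2 j.2 h)
  have hb := (Fintype.bijective_iff_injective_and_card _).2
    ⟨hinj, by rw [Fintype.card_fin, hF, sq]⟩
  obtain ⟨i, rfl⟩ := hb.2 z
  exact ⟨i, i.2, rfl⟩

theorem vec_cS (k a : ℕ) (L : List ℕ) : vec P s k (cS P a L) = φ P s a • vec P s k L := by
  funext i
  simp only [vec, cS, Pi.smul_apply, smul_eq_mul, List.getD_eq_getElem?_getD, List.getElem?_map]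
  cases h : L[(i : ℕ)]? with
  | none => simp [φ_zero hs hsp hp]
  | some x => simp [φ_cM hs hsp hp]

theorem hermForm_vec : ∀ (k : ℕ) (u v : List ℕ), u.length = k → v.length = k →
    φ P s (cH P u v) = Cfsg.hermForm k F P.p (vec P s k u) (vec P s k v) := by
  intro k
  induction k with
  | zero =>
    intro u v hu hv
    rw [List.length_eq_zero_iff] at hu hv
    subst hu hv
    simp [cH, Cfsg.hermForm, φ_zero hs hsp hp]
  | succ k ih =>
    intro u v hu hv
    match u, v, hu, hv with
    | a :: u, b :: v, hu, hv =>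
      have := ih u v (by simpa using hu) (by simpa using hv)
      simp only [Cfsg.hermForm] at this
      rw [cH, φ_cA hs hsp hp, φ_cM hs hsp hp, φ_cC hs hsp hp, this]
      simp [Cfsg.hermForm, Fin.sum_univ_succ, vec]

theorem vec_cT {k : ℕ} {v z : List ℕ} (hv : v.length = k) (hz : z.length = k) :
    vec P s k (cT P v z) =
      vec P s k z + (s * Cfsg.hermForm k F P.p (vec P s k z) (vec P s k v)) • vec P s k v := by
  funext i
  have hi : (i : ℕ) < (cT P v z).length := by simp [cT, hv, hz]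
  have hiz : (i : ℕ) < z.length := by rw [hz]; exact i.2
  have hiv : (i : ℕ) < v.length := by rw [hv]; exact i.2
  simp only [vec, Pi.add_apply, Pi.smul_apply, smul_eq_mul]
  rw [List.getD_eq_getElem _ _ hi, List.getD_eq_getElem _ _ hiz, List.getD_eq_getElem _ _ hiv]
  simp only [cT, List.getElem_zipWith, φ_cA hs hsp hp, φ_cM hs hsp hp, φ_s hs hsp hp,
    hermForm_vec hs hsp hp k z v hz hv, vec]

end code

/-! ### The checked data -/

/-- Whether a list of transvection tables on the points is correct and transitive. -/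
def tablesOK (pts : List (List ℕ)) (cs : List ℕ) (tab : List (List ℕ)) : Bool :=
  (List.range cs.length).all fun g => (List.range pts.length).all fun j =>
    decide ((tab.getD g []).getD j 0 < pts.length) &&
      ((List.range (P.p * P.p)).any fun k => k != 0 &&
        cS P k (pts.getD ((tab.getD g []).getD j 0) []) == cT P (pts.getD (cs.getD g 0) []) (pts.getD j []))

/-- The points reached by a list of steps `(source, letter)` from the first centre. -/
def reached (tab : List (List ℕ)) (c₀ : ℕ) (steps : List (ℕ × ℕ)) : List ℕ :=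
  steps.foldl (fun acc e => if acc.contains e.1 then (tab.getD e.2 []).getD e.1 0 :: acc else acc) [c₀]

/-- All data of a model. -/
structure Data where
  pts : List (List ℕ)
  cs : List ℕ
  tab : List (List ℕ)
  steps : List (ℕ × ℕ)

/-- The conditions on the data. -/
structure Data.Valid (D : Data) : Prop where
  prime : P.p.Prime
  odd : P.p ≠ 2
  three : 3 ≤ P.n
  dne : P.d % P.p ≠ 0
  pts_eq : (normVecs P P.n).filter (isoTest P) = D.pts
  nodup : D.pts.Nodup
  cs_lt : D.cs ≠ [] ∧ D.cs.all (fun c => decide (c < D.pts.length)) = true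
  tables : tablesOK P D.pts D.cs D.tab = true
  letters : D.steps.all (fun e => decide (e.2 < D.cs.length) && decide (e.1 < D.pts.length)) = true
  covers : (List.range D.pts.length).all (fun j => (reached D.tab (D.cs.getD 0 0) D.steps).contains j) = true
  moves : (List.range D.pts.length).any (fun j => (D.tab.getD 0 []).getD j 0 != j) = true

theorem mem_allVecs : ∀ {k : ℕ} {L : List ℕ}, L ∈ allVecs P k ↔ L.length = k ∧ ∀ x ∈ L, x < P.p * P.p
  | 0, L => by simp [allVecs, List.length_eq_zero_iff]; rintro rfl; simp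
  | k + 1, L => by
    simp only [allVecs, List.mem_flatMap, List.mem_map, List.mem_range, mem_allVecs (k := k)]
    constructor
    · rintro ⟨a, ha, L, ⟨hl, hL⟩, rfl⟩
      exact ⟨by simp [hl], List.forall_mem_cons.2 ⟨ha, hL⟩⟩
    · rintro ⟨hl, hL⟩
      match L, hl, hL with
      | a :: L, hl, hL =>
        obtain ⟨h1, h2⟩ := List.forall_mem_cons.1 hL
        exact ⟨a, h1, L, ⟨by simpa using hl, h2⟩, rfl⟩

theorem normVecs_spec (hp : 1 < P.p) : ∀ {k : ℕ} {L : List ℕ}, L ∈ normVecs P k →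
    L.length = k ∧ (∀ x ∈ L, x < P.p * P.p) ∧ ∃ l < k, L.getD l 0 = 1 ∧ ∀ i < l, L.getD i 0 = 0
  | 0, L, h => by simp [normVecs] at h
  | k + 1, L, h => by
    have h1 : 1 < P.p * P.p := Nat.lt_of_lt_of_le hp (Nat.le_mul_of_pos_left _ (by omega))
    simp only [normVecs, List.mem_append, List.mem_map] at h
    rcases h with ⟨M, hM, rfl⟩ | ⟨M, hM, rfl⟩
    · obtain ⟨hl, hb⟩ := (mem_allVecs P).1 hM
      exact ⟨by simp [hl], List.forall_mem_cons.2 ⟨h1, hb⟩, 0, by omega, rfl, fun i hi => absurd hi (by omega)⟩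
    · obtain ⟨hl, hb, l, hlk, he, hz⟩ := normVecs_spec hp hM
      refine ⟨by simp [hl], List.forall_mem_cons.2 ⟨by omega, hb⟩, l + 1, by omega, he, fun i hi => ?_⟩
      cases i with
      | zero => rfl
      | succ i => exact hz i (by omega)

section group

variable [CharP F P.p] {P} {D : Data} {s : F} (hV : D.Valid P) (hs : s * s = (P.d : F))
  (hsp : s ^ P.p = -s) (hF : Fintype.card F = P.p ^ 2)
include hV hs hsp hF

theorem d_ne : (P.d : F) ≠ 0 := fun h =>
  hV.dne (Nat.mod_eq_zero_of_dvd ((CharP.cast_eq_zero_iff F P.p _).1 h))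

/-- Every non-zero vector is a multiple of a normalised one. -/
theorem exists_norm : ∀ {k : ℕ} (y : Fin k → F), y ≠ 0 →
    ∃ L ∈ normVecs P k, ∃ c : F, c ≠ 0 ∧ y = c • vec P s k L
  | 0, y, h => absurd (funext fun i => i.elim0) h
  | k + 1, y, h => by
    have hd := d_ne hV hs hsp hF
    by_cases h0 : y 0 = 0
    · have ht : Fin.tail y ≠ 0 := fun e => h (by
        funext i
        refine Fin.cases h0 (fun i => ?_) i
        exact congrFun e i)
      obtain ⟨L, hL, c, hc, e⟩ := exists_norm (Fin.tail y) ht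
      refine ⟨0 :: L, List.mem_append_right _ (List.mem_map.2 ⟨L, hL, rfl⟩), c, hc, ?_⟩
      funext i
      refine Fin.cases ?_ (fun i => ?_) i
      · simp [vec, h0, φ_zero hs hsp hV.prime]
      · have := congrFun e i
        simp only [Fin.tail] at this
        rw [this]
        simp [vec]
    · choose f hf hfe using fun i : Fin k =>
        φ_surj hs hsp hV.prime hd hV.odd hF (y i.succ / y 0)
      refine ⟨1 :: List.ofFn f, List.mem_append_left _ (List.mem_map.2 ⟨_, (mem_allVecs P).2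
        ⟨List.length_ofFn, fun x hx => ?_⟩, rfl⟩), y 0, h0, ?_⟩
      · obtain ⟨i, rfl⟩ := List.mem_ofFn.1 hx
        exact hf i
      funext i
      refine Fin.cases ?_ (fun i => ?_) i
      · simp [vec, φ_one hs hsp hV.prime]
      · simp [vec, List.getD_eq_getElem?_getD, hfe, mul_div_cancel₀ _ h0]

variable (P D s) in
/-- The vector of a point. -/
noncomputable def pt (j : Fin D.pts.length) : Fin P.n → F := vec P s P.n (D.pts.get j)

theorem pt_spec (j : Fin D.pts.length) : ((D.pts.get j).length = P.n ∧ (∀ x ∈ D.pts.get j, x < P.p * P.p) ∧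
    ∃ l < P.n, (D.pts.get j).getD l 0 = 1 ∧ ∀ i < l, (D.pts.get j).getD i 0 = 0) ∧
    Cfsg.hermForm P.n F P.p (pt P D s j) (pt P D s j) = 0 := by
  have h : D.pts.get j ∈ (normVecs P P.n).filter (isoTest P) := by
    rw [hV.pts_eq]; exact List.get_mem D.pts j
  rw [List.mem_filter] at h
  have hsp' := normVecs_spec P hV.prime.one_lt h.1
  refine ⟨hsp', ?_⟩
  rw [pt, ← hermForm_vec hs hsp hV.prime _ _ _ hsp'.1 hsp'.1, (beq_iff_eq.1 h.2 : cH P (D.pts.get j) (D.pts.get j) = 0),
    φ_zero hs hsp hV.prime]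

theorem pt_ne (j : Fin D.pts.length) : pt P D s j ≠ 0 := by
  obtain ⟨⟨-, -, l, hl, he, -⟩, -⟩ := pt_spec hV hs hsp hF j
  intro h
  have := congrFun h ⟨l, hl⟩
  simp only [pt, vec, he, φ_one hs hsp hV.prime, Pi.zero_apply] at this
  exact one_ne_zero this

theorem pt_exists (y : Fin P.n → F) (hy : y ≠ 0) (hi : Cfsg.hermForm P.n F P.p y y = 0) :
    ∃ (j : Fin D.pts.length) (c : F), c ≠ 0 ∧ y = c • pt P D s j := by
  obtain ⟨L, hL, c, hc, rfl⟩ := exists_norm hV hs hsp hF y hy
  obtain ⟨hl, hb, -⟩ := normVecs_spec P hV.prime.one_lt hL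
  have h0 : φ P s (cH P L L) = φ P s 0 := by
    rw [φ_zero hs hsp hV.prime, hermForm_vec hs hsp hV.prime _ _ _ hl hl]
    have e : Cfsg.hermForm P.n F P.p (c • vec P s P.n L) (c • vec P s P.n L) =
        (c * c ^ P.p) * Cfsg.hermForm P.n F P.p (vec P s P.n L) (vec P s P.n L) := by
      simp only [Cfsg.hermForm, Finset.mul_sum, Pi.smul_apply, smul_eq_mul, mul_pow]
      exact Finset.sum_congr rfl fun i _ => by ring
    rw [e] at hi
    exact (mul_eq_zero.1 hi).resolve_left (mul_ne_zero hc (pow_ne_zero _ hc))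
  have hlt : ∀ u v : List ℕ, cH P u v < P.p * P.p := by
    intro u v
    have hpos := hV.prime.pos
    have : ∀ x y, cA P x y < P.p * P.p := fun x y => by
      have h1 := Nat.mod_lt (x % P.p + y % P.p) hpos
      have h2 := Nat.mod_lt (x / P.p + y / P.p) hpos
      unfold cA
      calc _ < P.p + P.p * ((x / P.p + y / P.p) % P.p) := by omega
        _ = P.p * ((x / P.p + y / P.p) % P.p + 1) := by ring
        _ ≤ P.p * P.p := Nat.mul_le_mul_left _ h2
    match u, v with
    | a :: u, b :: v => exact this _ _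
    | [], _ => exact Nat.mul_pos hpos hpos
    | _ :: _, [] => exact Nat.mul_pos hpos hpos
  have hiso : isoTest P L = true := by
    rw [isoTest, φ_inj hs hsp hV.prime (d_ne hV hs hsp hF) hV.odd (hlt L L)
      (Nat.mul_pos hV.prime.pos hV.prime.pos) h0]
    rfl
  obtain ⟨j, hj⟩ := List.mem_iff_get.1 (hV.pts_eq ▸ List.mem_filter.2 ⟨hL, hiso⟩ : L ∈ D.pts)
  exact ⟨j, c, hc, by rw [pt, hj]⟩

theorem eq_of_smul {i j : Fin D.pts.length} {a b : F} (ha : a ≠ 0) (hb : b ≠ 0)
    (h : a • pt P D s i = b • pt P D s j) : i = j := by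
  obtain ⟨⟨li, bi, l, hl, he, hz⟩, -⟩ := pt_spec hV hs hsp hF i
  obtain ⟨⟨lj, bj, m, hm, fe, fz⟩, -⟩ := pt_spec hV hs hsp hF j
  have e : ∀ k (hk : k < P.n), a * φ P s ((D.pts.get i).getD k 0) = b * φ P s ((D.pts.get j).getD k 0) :=
    fun k hk => congrFun h ⟨k, hk⟩
  have hlm : l = m := by
    rcases lt_trichotomy l m with h' | h' | h'
    · have := e l hl
      rw [he, fz l h', φ_one hs hsp hV.prime, φ_zero hs hsp hV.prime] at this
      simp at this; exact absurd this ha
    · exact h'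
    · have := e m hm
      rw [fe, hz m h', φ_one hs hsp hV.prime, φ_zero hs hsp hV.prime] at this
      simp at this; exact absurd this.symm hb
  subst hlm
  have hab : a = b := by have := e l hl; rwa [he, fe, φ_one hs hsp hV.prime, mul_one, mul_one] at this
  subst hab
  refine Fin.ext ((hV.nodup.getElem_inj_iff).1 (List.ext_getElem (li.trans lj.symm) fun k h1 h2 => ?_))
  have := mul_left_cancel₀ ha (e k (li ▸ h1))
  simp only [List.get_eq_getElem] at this
  rw [List.getD_eq_getElem _ _ h1, List.getD_eq_getElem _ _ h2] at this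
  exact φ_inj hs hsp hV.prime (d_ne hV hs hsp hF) hV.odd (bi _ (List.getElem_mem _))
    (bj _ (List.getElem_mem _)) this

theorem mulVec_mem (A : Cfsg.SU P.n F P.p) (i : Fin D.pts.length) :
    ∃ (j : Fin D.pts.length) (c : F), c ≠ 0 ∧
      (A.1 : Matrix (Fin P.n) (Fin P.n) F) *ᵥ pt P D s i = c • pt P D s j := by
  refine pt_exists hV hs hsp hF _ (fun h => pt_ne hV hs hsp hF i ?_)
    ((A.2 _ _).trans (pt_spec hV hs hsp hF i).2)
  have h2 := congrArg (fun v => ((A⁻¹ : Cfsg.SU P.n F P.p).1 : Matrix (Fin P.n) (Fin P.n) F) *ᵥ v) h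
  simp only [Matrix.mulVec_mulVec, Matrix.mulVec_zero, ← Matrix.SpecialLinearGroup.coe_mul,
    ← Subgroup.coe_mul, inv_mul_cancel, Subgroup.coe_one, Matrix.SpecialLinearGroup.coe_one,
    Matrix.one_mulVec] at h2
  exact h2

/-- The image of a point. -/
noncomputable def ptMap (A : Cfsg.SU P.n F P.p) (i : Fin D.pts.length) : Fin D.pts.length :=
  Classical.choose (mulVec_mem hV hs hsp hF A i)

theorem ptMap_eq {A : Cfsg.SU P.n F P.p} {i j : Fin D.pts.length} {c : F} (hc : c ≠ 0)
    (h : (A.1 : Matrix (Fin P.n) (Fin P.n) F) *ᵥ pt P D s i = c • pt P D s j) :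
    ptMap hV hs hsp hF A i = j := by
  obtain ⟨c', hc', h'⟩ := Classical.choose_spec (mulVec_mem hV hs hsp hF A i)
  exact eq_of_smul hV hs hsp hF hc' hc (h'.symm.trans h)

theorem ptMap_spec (A : Cfsg.SU P.n F P.p) (i : Fin D.pts.length) : ∃ c : F, c ≠ 0 ∧
    (A.1 : Matrix (Fin P.n) (Fin P.n) F) *ᵥ pt P D s i = c • pt P D s (ptMap hV hs hsp hF A i) :=
  Classical.choose_spec (mulVec_mem hV hs hsp hF A i)

theorem ptMap_one (i : Fin D.pts.length) : ptMap hV hs hsp hF 1 i = i :=
  ptMap_eq hV hs hsp hF one_ne_zero (by simp)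

theorem ptMap_mul (A B : Cfsg.SU P.n F P.p) (i : Fin D.pts.length) :
    ptMap hV hs hsp hF (A * B) i = ptMap hV hs hsp hF A (ptMap hV hs hsp hF B i) := by
  obtain ⟨c, hc, h⟩ := ptMap_spec hV hs hsp hF B i
  obtain ⟨c', hc', h'⟩ := ptMap_spec hV hs hsp hF A (ptMap hV hs hsp hF B i)
  refine ptMap_eq hV hs hsp hF (mul_ne_zero hc hc') ?_
  rw [Subgroup.coe_mul, Matrix.SpecialLinearGroup.coe_mul, ← Matrix.mulVec_mulVec, h, Matrix.mulVec_smul,
    h', smul_smul]

/-- The action on the points. -/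
noncomputable def actHom : Cfsg.SU P.n F P.p →* Equiv.Perm (Fin D.pts.length) where
  toFun A :=
    { toFun := ptMap hV hs hsp hF A
      invFun := ptMap hV hs hsp hF A⁻¹
      left_inv := fun i => by rw [← ptMap_mul, inv_mul_cancel, ptMap_one]
      right_inv := fun i => by rw [← ptMap_mul, mul_inv_cancel, ptMap_one] }
  map_one' := Equiv.ext (ptMap_one hV hs hsp hF)
  map_mul' A B := Equiv.ext (ptMap_mul hV hs hsp hF A B)

theorem exists_transvection {v : Fin P.n → F} {c : F} (hv : Cfsg.hermForm P.n F P.p v v = 0)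
    (hc : c + c ^ P.p = 0) : ∃ A : Cfsg.SU P.n F P.p, ∀ z,
      (A.1 : Matrix (Fin P.n) (Fin P.n) F) *ᵥ z = z + (c * Cfsg.hermForm P.n F P.p z v) • v := by
  have hn : 3 ≤ P.n := hV.three
  have h32 : ¬ (P.n = 3 ∧ P.p = 2) := fun h => hV.odd h.2
  let H := isHermSpace_hermB hF P.n
  refine ⟨(suEquiv hF hn h32).symm ⟨eich H v 0 c, transv_mem H v c⟩, fun z => ?_⟩
  rw [← suHom_apply hF, ← suEquiv_coe hF hn h32, MulEquiv.apply_symm_apply]
  show (eich H v 0 c).1 z = _
  rw [transv_apply H (by rw [hermB_apply]; exact hv) (by rw [qFrob_apply]; exact hc), hermB_apply]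

theorem herm_smul_right (z v : Fin P.n → F) (k : F) :
    Cfsg.hermForm P.n F P.p z (k • v) = k ^ P.p * Cfsg.hermForm P.n F P.p z v := by
  simp only [Cfsg.hermForm, Finset.mul_sum, Pi.smul_apply, smul_eq_mul, mul_pow]
  exact Finset.sum_congr rfl fun i _ => by ring

/-- The permutation model of `PSU n F p`. -/
theorem exists_model : ∃ (ψ : Cfsg.PSU P.n F P.p →* Equiv.Perm (Fin D.pts.length))
    (b : Fin D.cs.length → Cfsg.PSU P.n F P.p), Function.Injective ψ ∧
      Subgroup.closure (Set.range b) = ⊤ ∧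
      ∀ g j, (ψ (b g) j : ℕ) = (D.tab.getD g []).getD j 0 := by
  classical
  have hp := hV.prime
  have hd := d_ne hV hs hsp hF
  have hn : 3 ≤ P.n := hV.three
  have h32 : ¬ (P.n = 3 ∧ P.p = 2) := fun h => hV.odd h.2
  have hcs : ∀ g : Fin D.cs.length, D.cs[(g : ℕ)] < D.pts.length := fun g => by
    simpa using List.all_eq_true.1 hV.cs_lt.2 _ (List.getElem_mem g.2)
  let cp : Fin D.cs.length → Fin D.pts.length := fun g => ⟨D.cs[(g : ℕ)], hcs g⟩
  have hss : s + s ^ P.p = 0 := by rw [hsp, add_neg_cancel]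
  choose B hB using fun g : Fin D.cs.length =>
    exists_transvection hV hs hsp hF (pt_spec hV hs hsp hF (cp g)).2 hss
  -- the tables
  have htab : ∀ (g : Fin D.cs.length) (j : Fin D.pts.length),
      (actHom hV hs hsp hF (B g) j : ℕ) = (D.tab.getD g []).getD j 0 := by
    intro g j
    have h := List.all_eq_true.1 (List.all_eq_true.1 hV.tables g (List.mem_range.2 g.2)) j
      (List.mem_range.2 j.2)
    rw [Bool.and_eq_true, List.any_eq_true, decide_eq_true_iff] at h
    obtain ⟨h1, k, hk, h2⟩ := h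
    rw [Bool.and_eq_true, bne_iff_ne, beq_iff_eq, List.getD_eq_getElem _ _ h1,
      List.getD_eq_getElem _ _ g.2, List.getD_eq_getElem _ _ (hcs g), List.getD_eq_getElem _ _ j.2] at h2
    have e := congrArg (vec P s P.n) h2.2
    have l1 : (D.pts[D.cs[(g : ℕ)]]'(hcs g)).length = P.n := (pt_spec hV hs hsp hF (cp g)).1.1
    have l2 : (D.pts[(j : ℕ)]).length = P.n := (pt_spec hV hs hsp hF j).1.1
    rw [vec_cS hs hsp hp, vec_cT hs hsp hp (k := P.n) l1 l2] at e
    have hk0 : φ P s k ≠ 0 := fun e0 => h2.1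
      (φ_inj hs hsp hp hd hV.odd (List.mem_range.1 hk) (Nat.mul_pos hp.pos hp.pos)
        (e0.trans (φ_zero hs hsp hp).symm))
    show (ptMap hV hs hsp hF (B g) j : ℕ) = _
    rw [ptMap_eq hV hs hsp hF (j := ⟨_, h1⟩) hk0 ((hB g (pt P D s j)).trans e.symm)]
  let K := Subgroup.closure (Set.range B)
  have hlen : 0 < D.cs.length := List.length_pos_iff.2 hV.cs_lt.1
  let g₀ : Fin D.cs.length := ⟨0, hlen⟩
  have hreach : ∀ x ∈ reached D.tab (D.cs.getD 0 0) D.steps,
      ∃ A ∈ K, (actHom hV hs hsp hF A (cp g₀) : ℕ) = x := by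
    have gen : ∀ (steps : List (ℕ × ℕ)) (acc : List ℕ),
        (∀ e ∈ steps, e.2 < D.cs.length ∧ e.1 < D.pts.length) →
        (∀ x ∈ acc, ∃ A ∈ K, (actHom hV hs hsp hF A (cp g₀) : ℕ) = x) →
        ∀ x ∈ steps.foldl (fun acc e =>
          if acc.contains e.1 then (D.tab.getD e.2 []).getD e.1 0 :: acc else acc) acc,
          ∃ A ∈ K, (actHom hV hs hsp hF A (cp g₀) : ℕ) = x := by
      intro steps
      induction steps with
      | nil => exact fun acc _ h => h
      | cons e steps ih =>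
        intro acc hlt h
        refine ih _ (fun e' he' => hlt e' (List.mem_cons_of_mem _ he')) ?_
        show ∀ x ∈ (if acc.contains e.1 = true then _ :: acc else acc), _
        by_cases hc : acc.contains e.1 = true
        · rw [if_pos hc]
          intro x hx
          rcases List.mem_cons.1 hx with rfl | hx
          · obtain ⟨A, hA, he⟩ := h _ (by simpa using hc)
            refine ⟨B ⟨e.2, (hlt e List.mem_cons_self).1⟩ * A,
              mul_mem (Subgroup.subset_closure ⟨_, rfl⟩) hA, ?_⟩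
            rw [map_mul, Equiv.Perm.mul_apply, htab, he]
          · exact h x hx
        · rw [if_neg hc]
          exact h
    refine gen _ _ (fun e he => by simpa using List.all_eq_true.1 hV.letters e he) fun x hx => ⟨1, one_mem _, ?_⟩
    rw [List.mem_singleton] at hx
    rw [hx, map_one, Equiv.Perm.one_apply, List.getD_eq_getElem _ _ hlen]
  -- transvections with the first centre
  let v₀ := pt P D s (cp g₀)
  have hpow : ∀ (u : ℕ) (z : Fin P.n → F), ((B g₀ ^ u : Cfsg.SU P.n F P.p).1 : Matrix (Fin P.n) (Fin P.n) F) *ᵥ z =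
      z + ((u : F) * s * Cfsg.hermForm P.n F P.p z v₀) • v₀ := by
    intro u
    induction u with
    | zero => intro z; simp
    | succ u ih =>
      intro z
      rw [pow_succ', Subgroup.coe_mul, Matrix.SpecialLinearGroup.coe_mul, ← Matrix.mulVec_mulVec, ih, hB]
      have h0 := (pt_spec hV hs hsp hF (cp g₀)).2
      have e : Cfsg.hermForm P.n F P.p (z + ((u : F) * s * Cfsg.hermForm P.n F P.p z v₀) • v₀) v₀ =
          Cfsg.hermForm P.n F P.p z v₀ := by
        have : ∀ a : F, Cfsg.hermForm P.n F P.p (z + a • v₀) v₀ =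
            Cfsg.hermForm P.n F P.p z v₀ + a * Cfsg.hermForm P.n F P.p v₀ v₀ := fun a => by
          simp only [Cfsg.hermForm, Pi.add_apply, Pi.smul_apply, smul_eq_mul, add_mul,
            Finset.sum_add_distrib, Finset.mul_sum, mul_assoc]
        rw [this, h0, mul_zero, add_zero]
      rw [e, add_assoc, ← add_smul]
      push_cast
      congr 2
      ring
  have hconj : ∀ (A : Cfsg.SU P.n F P.p) (u : ℕ) (z : Fin P.n → F),
      ((A * B g₀ ^ u * A⁻¹ : Cfsg.SU P.n F P.p).1 : Matrix (Fin P.n) (Fin P.n) F) *ᵥ z =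
        z + ((u : F) * s * Cfsg.hermForm P.n F P.p z ((A.1 : Matrix (Fin P.n) (Fin P.n) F) *ᵥ v₀)) •
          ((A.1 : Matrix (Fin P.n) (Fin P.n) F) *ᵥ v₀) := by
    intro A u z
    rw [Subgroup.coe_mul, Subgroup.coe_mul, Matrix.SpecialLinearGroup.coe_mul,
      Matrix.SpecialLinearGroup.coe_mul, ← Matrix.mulVec_mulVec, ← Matrix.mulVec_mulVec, hpow,
      Matrix.mulVec_add, Matrix.mulVec_smul]
    have hz : (A.1 : Matrix (Fin P.n) (Fin P.n) F) *ᵥ
        (((A⁻¹ : Cfsg.SU P.n F P.p).1 : Matrix (Fin P.n) (Fin P.n) F) *ᵥ z) = z := by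
      rw [Matrix.mulVec_mulVec, ← Matrix.SpecialLinearGroup.coe_mul, ← Subgroup.coe_mul, mul_inv_cancel,
        Subgroup.coe_one, Matrix.SpecialLinearGroup.coe_one, Matrix.one_mulVec]
    have hh := A.2 (((A⁻¹ : Cfsg.SU P.n F P.p).1 : Matrix (Fin P.n) (Fin P.n) F) *ᵥ z) v₀
    change Cfsg.hermForm P.n F P.p ((A.1 : Matrix (Fin P.n) (Fin P.n) F) *ᵥ _)
      ((A.1 : Matrix (Fin P.n) (Fin P.n) F) *ᵥ v₀) = _ at hh
    rw [hz] at hh
    rw [hz, hh]
  have hall : ∀ (A : Cfsg.SU P.n F P.p) (v : Fin P.n → F) (c : F), Cfsg.hermForm P.n F P.p v v = 0 →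
      (A.1 : Matrix (Fin P.n) (Fin P.n) F) = Cfsg.unitaryTransvection P.n P.p v c → A ∈ K := by
    intro A v c hv hA
    have hAz : ∀ z, (A.1 : Matrix (Fin P.n) (Fin P.n) F) *ᵥ z =
        z + (c * Cfsg.hermForm P.n F P.p z v) • v := fun z => by
      rw [hA, unitaryTransvection_mulVec hF, hermB_apply]
    by_cases hv0 : v = 0
    · have : A = 1 := Subtype.ext (Subtype.ext (Matrix.ext_iff_mulVec.2 fun z => by
        rw [hAz, hv0, smul_zero, add_zero]; simp))
      rw [this]; exact one_mem _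
    by_cases hc0 : c = 0
    · have : A = 1 := Subtype.ext (Subtype.ext (Matrix.ext_iff_mulVec.2 fun z => by
        rw [hAz, hc0, zero_mul, zero_smul, add_zero]; simp))
      rw [this]; exact one_mem _
    -- the parameter is skew
    have hcc : c + c ^ P.p = 0 := by
      obtain ⟨z, hz⟩ : ∃ z, hermB hF P.n v z ≠ 0 := by
        by_contra h
        push Not at h
        exact hv0 (hermB_sep hF v h)
      rw [hermB_apply] at hz
      have hh : Cfsg.hermForm P.n F P.p (z + (c * Cfsg.hermForm P.n F P.p z v) • v)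
          (z + (c * Cfsg.hermForm P.n F P.p z v) • v) = Cfsg.hermForm P.n F P.p z z := by
        rw [← hAz]; exact A.2 z z
      set h := Cfsg.hermForm P.n F P.p z v
      haveI := Fact.mk hp
      haveI : ExpChar F P.p := ExpChar.prime hp
      have hvz : Cfsg.hermForm P.n F P.p v z = h ^ P.p := by
        have := hermB_conj hF v z
        rw [hermB_apply, hermB_apply, qFrob_apply] at this
        exact this.symm
      have e : ∀ a : F, Cfsg.hermForm P.n F P.p (z + a • v) (z + a • v) =
          Cfsg.hermForm P.n F P.p z z + a ^ P.p * h + a * Cfsg.hermForm P.n F P.p v z +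
            a * a ^ P.p * Cfsg.hermForm P.n F P.p v v := by
        intro a
        simp only [h, Cfsg.hermForm, Pi.add_apply, Pi.smul_apply, smul_eq_mul, add_pow_expChar, mul_pow,
          Finset.mul_sum, ← Finset.sum_add_distrib]
        exact Finset.sum_congr rfl fun i _ => by ring
      rw [e, hv, mul_zero, add_zero, hvz, mul_pow] at hh
      have : (c + c ^ P.p) * (h * h ^ P.p) = 0 := by linear_combination hh
      exact (mul_eq_zero.1 this).resolve_right (mul_ne_zero hz (pow_ne_zero _ hz))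
    obtain ⟨j, k, hk, rfl⟩ := pt_exists hV hs hsp hF v hv0 hv
    obtain ⟨G, hG, hGj⟩ := hreach (j : ℕ) (by simpa using List.all_eq_true.1 hV.covers j (List.mem_range.2 j.2))
    obtain ⟨m, hm, hGm⟩ := ptMap_spec hV hs hsp hF G (cp g₀)
    have ej : ptMap hV hs hsp hF G (cp g₀) = j := Fin.ext hGj
    rw [ej] at hGm
    -- the scalar is in the prime field times `s`
    haveI := Fact.mk hp
    haveI : ExpChar F P.p := ExpChar.prime hp
    set t := c * (k * k ^ P.p) / (m * m ^ P.p) with ht
    have hpp : ∀ x : F, (x ^ P.p) ^ P.p = x := fun x => by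
      rw [← pow_mul, ← sq, ← hF, FiniteField.pow_card]
    have htt : t + t ^ P.p = 0 := by
      rw [ht, div_pow, mul_pow, mul_pow, mul_pow, hpp, hpp, mul_comm (k ^ P.p) k, mul_comm (m ^ P.p) m,
        ← add_div, ← add_mul, hcc, zero_mul, zero_div]
    obtain ⟨x, hx, hxt⟩ := φ_surj hs hsp hp hd hV.odd hF t
    obtain ⟨u, hu⟩ : ∃ u : ℕ, t = (u : F) * s := by
      refine ⟨x / P.p, ?_⟩
      have h2 := htt
      rw [← hxt, ← φ_cC hs hsp hp, ← φ_cA hs hsp hp] at h2
      rw [← hxt] at htt ⊢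
      simp only [φ, add_pow_char, mul_pow, hsp] at htt ⊢
      have hfix : ∀ a : ℕ, (a : F) ^ P.p = a := fun a => by
        rw [← map_natCast (ZMod.castHom (dvd_refl P.p) F) a, ← map_pow, ZMod.pow_card]
      rw [hfix, hfix] at htt
      have two : (2 : F) ≠ 0 := by
        intro e
        have : ((2 : ℕ) : F) = 0 := by exact_mod_cast e
        rw [CharP.cast_eq_zero_iff F P.p] at this
        exact hV.odd ((Nat.prime_dvd_prime_iff_eq hp Nat.prime_two).1 this)
      have : ((x % P.p : ℕ) : F) = 0 :=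
        (mul_eq_zero.1 (show (2 : F) * ((x % P.p : ℕ) : F) = 0 by linear_combination htt)).resolve_left two
      rw [this, zero_add]
    have hAG : A = G * B g₀ ^ u * G⁻¹ := by
      refine Subtype.ext (Subtype.ext (Matrix.ext_iff_mulVec.2 fun z => ?_))
      rw [hAz, hconj, hGm, herm_smul_right hV hs hsp hF, herm_smul_right hV hs hsp hF, smul_smul, smul_smul,
        ← hu, ht]
      congr 2
      field_simp
    rw [hAG]
    exact mul_mem (mul_mem hG (pow_mem (Subgroup.subset_closure (Set.mem_range_self g₀) : B g₀ ∈ K) u)) (inv_mem hG)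
  have htop : K = ⊤ := by
    rw [eq_top_iff, ← closure_transvections_eq_top hF hn h32, Subgroup.closure_le]
    rintro A ⟨v, c, hv, hA⟩
    exact hall A v c hv hA
  have hcen : Subgroup.center (Cfsg.SU P.n F P.p) ≤ (actHom hV hs hsp hF).ker := by
    intro A hA
    obtain ⟨c, hc1, hc⟩ := CfsgLib.KnownC.UnitarySpectrum.scalar_of_mk_eq_one hF (by omega) A
      ((QuotientGroup.eq_one_iff A).2 hA)
    have hc0 : c ≠ 0 := fun e => by rw [e, zero_mul] at hc1; exact zero_ne_one hc1
    refine MonoidHom.mem_ker.2 (Equiv.ext fun i => ?_)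
    show ptMap hV hs hsp hF A i = i
    refine ptMap_eq hV hs hsp hF hc0 ?_
    rw [show (A.1 : Matrix (Fin P.n) (Fin P.n) F) = c • 1 from hc, Matrix.smul_mulVec, Matrix.one_mulVec]
  let ψ : Cfsg.PSU P.n F P.p →* Equiv.Perm (Fin D.pts.length) :=
    QuotientGroup.lift _ (actHom hV hs hsp hF) fun A hA => MonoidHom.mem_ker.1 (hcen hA)
  haveI := isSimpleGroup_psu (n := P.n) (q := P.p) hF hn h32
  refine ⟨ψ, fun g => QuotientGroup.mk' _ (B g), ?_, ?_, htab⟩
  · rw [← MonoidHom.ker_eq_bot_iff]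
    refine ψ.normal_ker.eq_bot_or_eq_top.resolve_right fun h => ?_
    obtain ⟨j, hj, hne⟩ := List.any_eq_true.1 hV.moves
    have h1 : ψ (QuotientGroup.mk' _ (B g₀)) = 1 := MonoidHom.mem_ker.1 (h ▸ Subgroup.mem_top _)
    have h2 := htab g₀ ⟨j, List.mem_range.1 hj⟩
    change ((ψ (QuotientGroup.mk' _ (B g₀))) ⟨j, List.mem_range.1 hj⟩ : ℕ) = _ at h2
    rw [h1, Equiv.Perm.one_apply] at h2
    exact (bne_iff_ne.1 hne) h2.symm
  · rw [show (fun g => QuotientGroup.mk' (Subgroup.center (Cfsg.SU P.n F P.p)) (B g)) =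
      QuotientGroup.mk' _ ∘ B from rfl, Set.range_comp, ← MonoidHom.map_closure]
    change Subgroup.map _ K = ⊤
    rw [htop, Subgroup.map_top_of_surjective _ (QuotientGroup.mk'_surjective _)]

end group

end CfsgLib.Classical.QuadModel
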