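import Cfsg.Agent.Lib.Classical.SLMinDegRep

/-!
# The class of transvections and the divisibility it gives
-/

set_option autoImplicit false

namespace CfsgLib.Classical.SLMinDeg

open Module Matrix CfsgLib.MaxSub
open scoped MatrixGroups ComplexConjugate

variable {F : Type*} [Field F] [Fintype F]

/-- The incident pairs of non-zero vector and non-zero functional. -/
noncomputable def tvPairs (n : ℕ) : Finset ((Fin n → F) × (Fin n → F)) := by
  classical
  exact Finset.univ.filter fun p => p.1 ≠ 0 ∧ p.2 ≠ 0 ∧ p.2 ⬝ᵥ p.1 = 0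

theorem mem_tvPairs {n : ℕ} {p : (Fin n → F) × (Fin n → F)} :
    p ∈ tvPairs n ↔ p.1 ≠ 0 ∧ p.2 ≠ 0 ∧ p.2 ⬝ᵥ p.1 = 0 := by
  classical
  simp [tvPairs]

theorem card_perp (m : ℕ) {a : Fin (m + 1) → F} (ha : a ≠ 0) :
    Nat.card {φ : Fin (m + 1) → F // φ ⬝ᵥ a = 0} = Fintype.card F ^ m := by
  classical
  let L : (Fin (m + 1) → F) →ₗ[F] F :=
    { toFun := fun φ => φ ⬝ᵥ a
      map_add' := fun x y => add_dotProduct x y a
      map_smul' := fun c x => smul_dotProduct c x a }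
  have hL : LinearMap.range L = ⊤ := LinearMap.range_eq_top.2 fun c => by
    obtain ⟨i, hi⟩ := Function.ne_iff.1 ha
    have hi' : a i ≠ 0 := hi
    exact ⟨Pi.single i (c / a i), by simp [L, single_dotProduct, div_mul_cancel₀ c hi']⟩
  have h := LinearMap.finrank_range_add_finrank_ker L
  rw [hL, finrank_top, finrank_self, finrank_fin_fun] at h
  rw [show Fintype.card F ^ m = Fintype.card F ^ finrank F (LinearMap.ker L) by congr 1; omega,
    ← Module.card_eq_pow_finrank, ← Nat.card_eq_fintype_card]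
  exact Nat.card_congr (Equiv.refl _)

theorem card_tvPairs (m : ℕ) : (tvPairs (F := F) (m + 1)).card =
    (Fintype.card F ^ (m + 1) - 1) * (Fintype.card F ^ m - 1) := by
  classical
  rw [Finset.card_eq_sum_card_fiberwise (f := Prod.fst)
    (t := Finset.univ.erase (0 : Fin (m + 1) → F))
    (fun p hp => Finset.mem_erase.2 ⟨(mem_tvPairs.1 hp).1, Finset.mem_univ _⟩)]
  rw [Finset.sum_eq_card_nsmul (b := Fintype.card F ^ m - 1)]
  · rw [Finset.card_erase_of_mem (Finset.mem_univ _), Finset.card_univ, Fintype.card_fun,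
      Fintype.card_fin, smul_eq_mul]
  intro a ha
  have ha0 := (Finset.mem_erase.1 ha).1
  rw [← card_perp m ha0, Nat.card_eq_fintype_card, Fintype.card_subtype,
    ← Finset.card_erase_of_mem (a := (0 : Fin (m + 1) → F)) (by simp)]
  refine Finset.card_bij (fun p _ => p.2) (fun p hp => ?_) (fun p hp q hq e => ?_) fun φ hφ => ?_
  · simp only [Finset.mem_filter, mem_tvPairs] at hp
    simp [hp.1.2.1, ← hp.2, hp.1.2.2]
  · simp only [Finset.mem_filter] at hp hq
    exact Prod.ext (hp.2.trans hq.2.symm) e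
  · simp only [Finset.mem_erase, Finset.mem_filter] at hφ
    exact ⟨(a, φ), by simp [mem_tvPairs, ha0, hφ.1, hφ.2.2], rfl⟩

/-- The transvection of an incident pair. -/
noncomputable def tvOf {n : ℕ} (p : (Fin n → F) × (Fin n → F)) : SpecialLinearGroup (Fin n) F := by
  classical
  exact if h : p.2 ⬝ᵥ p.1 = 0 then ⟨tvMat p.1 p.2, det_tvMat _ _ h⟩ else 1

omit [Fintype F] in
theorem coe_tvOf {n : ℕ} {p : (Fin n → F) × (Fin n → F)} (h : p.2 ⬝ᵥ p.1 = 0) :
    (tvOf p).1 = tvMat p.1 p.2 := by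
  have e : tvOf p = (⟨tvMat p.1 p.2, det_tvMat _ _ h⟩ : SpecialLinearGroup (Fin n) F) := by
    unfold tvOf
    exact dif_pos h
  exact congrArg Subtype.val e

/-- The set of all transvections. -/
noncomputable def tvs (n : ℕ) : Finset (SpecialLinearGroup (Fin n) F) := by
  classical
  exact (tvPairs n).image tvOf

theorem mem_tvs {n : ℕ} {g : SpecialLinearGroup (Fin n) F} :
    g ∈ tvs n ↔ ∃ a φ : Fin n → F, a ≠ 0 ∧ φ ≠ 0 ∧ φ ⬝ᵥ a = 0 ∧ g.1 = tvMat a φ := by
  classical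
  simp only [tvs, Finset.mem_image, mem_tvPairs]
  constructor
  · rintro ⟨p, ⟨h1, h2, h3⟩, rfl⟩
    exact ⟨_, _, h1, h2, h3, coe_tvOf h3⟩
  · rintro ⟨a, φ, h1, h2, h3, h4⟩
    exact ⟨(a, φ), ⟨h1, h2, h3⟩, Subtype.ext ((coe_tvOf (p := (a, φ)) h3).trans h4.symm)⟩

theorem card_tvs (m : ℕ) : (tvs (F := F) (m + 1)).card * (Fintype.card F - 1) =
    (Fintype.card F ^ (m + 1) - 1) * (Fintype.card F ^ m - 1) := by
  classical
  rw [← card_tvPairs m, Finset.card_eq_sum_card_fiberwise (f := tvOf) (t := tvs (m + 1))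
    (fun p hp => by simp only [tvs]; exact Finset.mem_image_of_mem _ hp)]
  rw [Finset.sum_eq_card_nsmul (b := Fintype.card F - 1), smul_eq_mul]
  intro g hg
  simp only [tvs] at hg
  obtain ⟨p₀, hp₀, hp₀g⟩ := Finset.mem_image.1 hg
  obtain ⟨h1, h2, h3⟩ := mem_tvPairs.1 hp₀
  rw [← Fintype.card_units, ← Finset.card_univ]
  refine (Finset.card_bij (fun (u : Fˣ) _ => ((u : F) • p₀.1, ((u⁻¹ : Fˣ) : F) • p₀.2))
    (fun u _ => ?_) (fun u _ v _ e => ?_) fun p hp => ?_).symm
  · have h3' : (((u⁻¹ : Fˣ) : F) • p₀.2) ⬝ᵥ ((u : F) • p₀.1) = 0 := by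
      rw [smul_dotProduct, dotProduct_smul, h3, smul_zero, smul_zero]
    refine Finset.mem_filter.2 ⟨mem_tvPairs.2 ⟨by simp [h1], by simp [h2], h3'⟩, ?_⟩
    rw [← hp₀g]
    apply Subtype.ext
    rw [coe_tvOf h3', coe_tvOf h3, tvMat_smul, smul_smul, ← Units.val_mul, mul_inv_cancel,
      Units.val_one, one_smul]
  · obtain ⟨i, hi⟩ := Function.ne_iff.1 h1
    exact Units.ext (mul_right_cancel₀ hi (congrFun (congrArg Prod.fst e) i))
  · obtain ⟨hp1, hp2⟩ := Finset.mem_filter.1 hp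
    obtain ⟨g1, g2, g3⟩ := mem_tvPairs.1 hp1
    have e : vecMulVec p.1 p.2 = vecMulVec p₀.1 p₀.2 := by
      have := congrArg Subtype.val (hp2.trans hp₀g.symm)
      rw [coe_tvOf g3, coe_tvOf h3] at this
      exact add_left_cancel this
    obtain ⟨j, hj⟩ := Function.ne_iff.1 g2
    obtain ⟨i, hi⟩ := Function.ne_iff.1 g1
    have hij := congrFun (congrFun e i) j
    simp only [vecMulVec_apply] at hij
    have hj0 : p.2 j ≠ 0 := hj
    have hi0 : p.1 i ≠ 0 := hi
    have hj1 : p₀.2 j ≠ 0 := fun h => by rw [h, mul_zero] at hij; exact mul_ne_zero hi0 hj0 hij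
    refine ⟨Units.mk0 (p₀.2 j / p.2 j) (div_ne_zero hj1 hj0), Finset.mem_univ _,
      Prod.ext (funext fun k => ?_) (funext fun k => ?_)⟩
    · have := congrFun (congrFun e k) j
      simp only [vecMulVec_apply] at this
      simp only [Pi.smul_apply, Units.val_mk0, smul_eq_mul]
      field_simp
      linear_combination -this
    · have := congrFun (congrFun e i) k
      simp only [vecMulVec_apply] at this
      simp only [Pi.smul_apply, Units.val_inv_eq_inv_val, Units.val_mk0, smul_eq_mul, inv_div]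
      field_simp
      apply mul_left_cancel₀ hi0
      linear_combination (p₀.2 k) * hij - (p₀.2 j) * this

variable {m : ℕ} {V : Type*} [AddCommGroup V] [Module ℂ V] [FiniteDimensional ℂ V]
  {ρ : Representation ℂ (SpecialLinearGroup (Fin (m + 1)) F) V}

/-- The integrality of the class sum. -/
theorem Good.dvd (hρ : Good ρ) (hm : 2 ≤ m) :
    (finrank ℂ V : ℤ) ∣ ((tvs (F := F) (m + 1)).card : ℤ) * ((eigDim ρ row 1 : ℤ) - 1) := by
  classical
  have := hρ.isIrreducible hm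
  set S := tvs (F := F) (m + 1) with hS
  set f : SpecialLinearGroup (Fin (m + 1)) F → ℂ := fun g => if g ∈ S then 1 else 0 with hf
  have hchar : ∀ g ∈ S, ρ.character g = (eigDim ρ row 1 : ℂ) - 1 := by
    intro g hg
    obtain ⟨a, φ, h1, h2, h3, h4⟩ := mem_tvs.1 hg
    have hx : (fun _ => 1 : Fin m → F) ≠ 0 := fun e =>
      one_ne_zero (congrFun e (⟨0, by omega⟩ : Fin m))
    obtain ⟨c, hc⟩ := isConj_iff.1 (isConj_row hm h1 h2 h3 h4 hx)
    rw [← hc, Representation.char_conj]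
    exact (hρ.dim hm).2 _ hx
  have hconj : ∀ g h : SpecialLinearGroup (Fin (m + 1)) F, g ∈ S → h * g * h⁻¹ ∈ S := by
    intro g h hg
    obtain ⟨a, φ, h1, h2, h3, h4⟩ := mem_tvs.1 hg
    have e1 : (h⁻¹).1 * h.1 = 1 := congrArg Subtype.val (inv_mul_cancel h)
    have e2 : h.1 * (h⁻¹).1 = 1 := congrArg Subtype.val (mul_inv_cancel h)
    refine mem_tvs.2 ⟨h.1 *ᵥ a, φ ᵥ* (h⁻¹).1, fun e => h1 ?_, fun e => h2 ?_, ?_, ?_⟩
    · rw [← one_mulVec a, ← e1, ← mulVec_mulVec, e, mulVec_zero]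
    · rw [← vecMul_one φ, ← e1, ← vecMul_vecMul, e, zero_vecMul]
    · rw [← dotProduct_mulVec, mulVec_mulVec, e1, one_mulVec, h3]
    · change h.1 * g.1 * (h⁻¹).1 = _
      rw [h4, mul_tvMat_mul _ _ _ _ e2]
  have hcf : Cfsg.IsClassFunction _ f := by
    intro g h
    have hiff : h * g * h⁻¹ ∈ S ↔ g ∈ S :=
      ⟨fun hg => by have := hconj _ h⁻¹ hg; rwa [inv_inv, show h⁻¹ * (h * g * h⁻¹) * h = g by group]
        at this, hconj g h⟩
    simp only [hf, hiff]
  have hint : ∀ g, IsIntegral ℤ (f g) := fun g => by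
    simp only [hf]; split_ifs
    · exact isIntegral_one
    · exact isIntegral_zero
  have h := CfsgLib.Char.classOp_scalar_isIntegral hcf hint ρ
  have hG : (Nat.card (SpecialLinearGroup (Fin (m + 1)) F) : ℂ) ≠ 0 :=
    Nat.cast_ne_zero.mpr Nat.card_pos.ne'
  rw [Cfsg.classInner, mul_inv_cancel_left₀ hG] at h
  have hsum : ∑ g, f g * conj (ρ.character g) =
      ((((S.card : ℤ) * ((eigDim ρ row 1 : ℤ) - 1) : ℤ) : ℚ) : ℂ) := by
    simp only [hf, ite_mul, one_mul, zero_mul, Finset.sum_ite_mem, Finset.univ_inter]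
    rw [Finset.sum_congr rfl fun g hg => congrArg conj (hchar g hg), Finset.sum_const, nsmul_eq_mul]
    push_cast
    simp
  rw [hsum, ← Rat.cast_natCast, ← Rat.cast_div] at h
  obtain ⟨k, hk⟩ := CfsgLib.Char.exists_int_of_isIntegral_rat h
  refine ⟨k, ?_⟩
  have hD : (finrank ℂ V : ℚ) ≠ 0 := by
    have := CfsgLib.Char.nontrivial_of_isIrreducible ρ
    exact Nat.cast_ne_zero.mpr (Module.finrank_pos (R := ℂ) (M := V)).ne'
  rw [div_eq_iff hD] at hk
  rw [mul_comm (finrank ℂ V : ℤ) k]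
  exact_mod_cast hk

end CfsgLib.Classical.SLMinDeg
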