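import Mathlib
import Cfsg.Agent.Lib.Char.Integral

/-!
# Eigenspaces of a homomorphism from a finite abelian group into a group acting on a space

For `r : AddChar X G` and a representation `ρ` of `G`: the simultaneous eigenspaces of the
operators `ρ (r x)`, their projections and dimensions when all non-zero `r x` have equal trace.
-/

namespace CfsgLib.Classical.SLMinDeg

open Module

variable {G : Type*} [Group G] {X : Type*} [AddCommGroup X] [Fintype X]
  {V : Type*} [AddCommGroup V] [Module ℂ V]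

section
variable (ρ : Representation ℂ G V) (r : AddChar X G)

/-- The simultaneous eigenspace of `χ`. -/
def eigen (χ : AddChar X ℂ) : Submodule ℂ V where
  carrier := {v | ∀ x, ρ (r x) v = χ x • v}
  add_mem' := fun {a b} ha hb x => by rw [map_add, ha x, hb x, smul_add]
  zero_mem' := fun x => by simp
  smul_mem' := fun c v hv x => by rw [map_smul, hv x, smul_comm]

omit [Fintype X] in
theorem mem_eigen {χ : AddChar X ℂ} {v : V} :
    v ∈ eigen ρ r χ ↔ ∀ x, ρ (r x) v = χ x • v := Iff.rfl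

omit [Fintype X] in
theorem mem_eigen_one {v : V} : v ∈ eigen ρ r 1 ↔ ∀ x, ρ (r x) v = v := by
  simp [mem_eigen]

/-- The projection to the eigenspace of `χ`. -/
noncomputable def proj (χ : AddChar X ℂ) : Module.End ℂ V :=
  (Fintype.card X : ℂ)⁻¹ • ∑ x : X, χ (-x) • ρ (r x)

theorem rho_mul_proj (χ : AddChar X ℂ) (y : X) :
    ρ (r y) * proj ρ r χ = χ y • proj ρ r χ := by
  rw [proj, mul_smul_comm, smul_comm, Finset.mul_sum, Finset.smul_sum (r := χ y)]
  congr 1
  rw [← Equiv.sum_comp (Equiv.addLeft y) (fun x => χ y • χ (-x) • ρ (r x))]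
  refine Finset.sum_congr rfl fun x _ => ?_
  rw [Equiv.coe_addLeft, mul_smul_comm, ← map_mul, ← AddChar.map_add_eq_mul, smul_smul,
    ← AddChar.map_add_eq_mul χ]
  congr 2
  simp

theorem proj_mem (χ : AddChar X ℂ) (v : V) : proj ρ r χ v ∈ eigen ρ r χ := fun x =>
  congrFun (congrArg DFunLike.coe (rho_mul_proj ρ r χ x)) v

theorem proj_eq_self {χ : AddChar X ℂ} {v : V} (hv : v ∈ eigen ρ r χ) : proj ρ r χ v = v := by
  simp only [proj, LinearMap.smul_apply, LinearMap.sum_apply, mem_eigen ρ r |>.1 hv, smul_smul,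
    ← AddChar.map_add_eq_mul, neg_add_cancel, AddChar.map_zero_eq_one, one_smul]
  rw [Finset.sum_const, Finset.card_univ, ← Nat.cast_smul_eq_nsmul ℂ, smul_smul,
    inv_mul_cancel₀ (Nat.cast_ne_zero.mpr Fintype.card_ne_zero), one_smul]

theorem isProj_proj (χ : AddChar X ℂ) : LinearMap.IsProj (eigen ρ r χ) (proj ρ r χ) :=
  ⟨proj_mem ρ r χ, fun _ h => proj_eq_self ρ r h⟩

theorem sum_proj : ∑ χ : AddChar X ℂ, proj ρ r χ = 1 := by
  classical
  simp only [proj, ← Finset.smul_sum]
  rw [Finset.sum_comm]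
  simp only [← Finset.sum_smul, AddChar.sum_apply_eq_ite, neg_eq_zero, ite_smul, zero_smul]
  rw [Finset.sum_ite_eq' Finset.univ (0 : X), if_pos (Finset.mem_univ _), AddChar.map_zero_eq_one,
    map_one, smul_smul, inv_mul_cancel₀ (Nat.cast_ne_zero.mpr Fintype.card_ne_zero), one_smul]

theorem eq_sum_proj (v : V) : v = ∑ χ : AddChar X ℂ, proj ρ r χ v := by
  rw [← LinearMap.sum_apply, sum_proj, Module.End.one_apply]

/-- A vector all of whose non-trivial components vanish is fixed. -/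
theorem mem_eigen_one_of_proj {v : V} (h : ∀ χ : AddChar X ℂ, χ ≠ 1 → proj ρ r χ v = 0) :
    v ∈ eigen ρ r 1 := by
  classical
  rw [eq_sum_proj ρ r v, Finset.sum_eq_single 1 (fun χ _ hχ => h χ hχ) (by simp)]
  exact proj_mem ρ r 1 v

/-- An invariant subspace is closed under the projections. -/
theorem proj_mem_of_invariant (U : Submodule ℂ V) (hU : ∀ g, ∀ v ∈ U, ρ g v ∈ U)
    (χ : AddChar X ℂ) {v : V} (hv : v ∈ U) : proj ρ r χ v ∈ U := by
  simp only [proj, LinearMap.smul_apply, LinearMap.sum_apply]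
  exact U.smul_mem _ (U.sum_mem fun x _ => U.smul_mem _ (hU _ _ hv))

/-- The dimension of the eigenspace of `χ`. -/
noncomputable def eigDim (χ : AddChar X ℂ) : ℕ := finrank ℂ (eigen ρ r χ)

variable [FiniteDimensional ℂ V]

theorem eigDim_eq (χ : AddChar X ℂ) :
    (eigDim ρ r χ : ℂ) = (Fintype.card X : ℂ)⁻¹ * ∑ x : X, χ (-x) * ρ.character (r x) := by
  rw [eigDim, ← (isProj_proj ρ r χ).trace, proj, map_smul, map_sum, smul_eq_mul]
  simp only [map_smul, smul_eq_mul]
  rfl

/-- The dimensions when all `r x`, `x ≠ 0`, have the same character value. -/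
theorem eigDim_const {s : ℂ} (hs : ∀ x : X, x ≠ 0 → ρ.character (r x) = s) :
    (Fintype.card X : ℂ) * eigDim ρ r 1 = finrank ℂ V + ((Fintype.card X : ℂ) - 1) * s ∧
      ∀ χ : AddChar X ℂ, χ ≠ 1 → (Fintype.card X : ℂ) * eigDim ρ r χ = finrank ℂ V - s := by
  classical
  have key : ∀ χ : AddChar X ℂ, (Fintype.card X : ℂ) * eigDim ρ r χ
      = ((finrank ℂ V : ℂ) - s) + s * ∑ x : X, χ (-x) := by
    intro χ
    rw [eigDim_eq, mul_inv_cancel_left₀ (Nat.cast_ne_zero.mpr Fintype.card_ne_zero)]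
    have : ∀ x : X, χ (-x) * ρ.character (r x)
        = (if x = 0 then (finrank ℂ V : ℂ) - s else 0) + s * χ (-x) := by
      intro x
      split_ifs with hx
      · subst hx
        rw [neg_zero, AddChar.map_zero_eq_one, AddChar.map_zero_eq_one, Representation.char_one]
        ring
      · rw [hs x hx]; ring
    rw [Finset.sum_congr rfl fun x _ => this x, Finset.sum_add_distrib,
      Finset.sum_ite_eq' Finset.univ (0 : X), if_pos (Finset.mem_univ _), ← Finset.mul_sum]
  refine ⟨?_, fun χ hχ => ?_⟩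
  · rw [key]
    simp
    ring
  · have e : ∑ x, χ (-x) = ∑ x, χ x := Equiv.sum_comp (Equiv.neg X) (fun x => χ x)
    rw [key, e, AddChar.sum_eq_zero_of_ne_one hχ, mul_zero, add_zero]

/-- In that situation all non-trivial eigenspaces have one dimension `b`, and the character value
is `eigDim 1 - b`. -/
theorem exists_common_dim {s : ℂ} (hs : ∀ x : X, x ≠ 0 → ρ.character (r x) = s)
    (hX : Nontrivial X) :
    ∃ b : ℕ, (∀ χ : AddChar X ℂ, χ ≠ 1 → eigDim ρ r χ = b) ∧
      finrank ℂ V = eigDim ρ r 1 + b * (Fintype.card X - 1) ∧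
      s = (eigDim ρ r 1 : ℂ) - b := by
  obtain ⟨x, hx⟩ := exists_ne (0 : X)
  obtain ⟨χ₀, hχ₀⟩ := AddChar.exists_apply_ne_zero.2 hx
  have hne : χ₀ ≠ 1 := fun e => hχ₀ (by simp [e])
  obtain ⟨h1, h2⟩ := eigDim_const ρ r hs
  have hX0 : (Fintype.card X : ℂ) ≠ 0 := Nat.cast_ne_zero.mpr Fintype.card_ne_zero
  refine ⟨eigDim ρ r χ₀, fun χ hχ => ?_, ?_, ?_⟩
  · have := h2 χ hχ
    rw [← h2 χ₀ hne] at this
    exact_mod_cast mul_left_cancel₀ hX0 this
  · have h3 := h2 χ₀ hne
    have h4 : (Fintype.card X : ℂ) * (finrank ℂ V : ℂ) = (Fintype.card X : ℂ) *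
        ((eigDim ρ r 1 : ℂ) + eigDim ρ r χ₀ * ((Fintype.card X : ℂ) - 1)) := by
      linear_combination -h1 - ((Fintype.card X : ℂ) - 1) * h3
    have h5 := mul_left_cancel₀ hX0 h4
    have h6 : ((Fintype.card X - 1 : ℕ) : ℂ) = (Fintype.card X : ℂ) - 1 := by
      rw [Nat.cast_sub Fintype.card_pos]; simp
    rw [← h6] at h5
    exact_mod_cast h5
  · refine mul_left_cancel₀ hX0 ?_
    linear_combination -h1 + h2 χ₀ hne

end

end CfsgLib.Classical.SLMinDeg
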