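import Cfsg.Agent.Lib.Classical.SLMinDegTools

/-!
# Minimal degree of `SL_n(q)`: the case of a vector fixed by a vector stabiliser
-/

set_option autoImplicit false

namespace CfsgLib.Classical.SLMinDeg

open Module Matrix CfsgLib.MaxSub
open scoped MatrixGroups

universe uF uV

variable {F : Type uF} [Field F] [Fintype F]

/-- The statement proved by induction on `m`. -/
def MinOrSmall (F : Type uF) [Field F] [Fintype F] (m : ℕ) : Prop :=
  ∀ (V : Type uV) [AddCommGroup V] [Module ℂ V] [FiniteDimensional ℂ V]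
    (ρ : Representation ℂ (SpecialLinearGroup (Fin (m + 1)) F) V), Good ρ →
    bigT (Fintype.card F) m ≤ finrank ℂ V ∨
      (Small (Fintype.card F) m (finrank ℂ V) ∧ ∀ v, UFixed ρ v → v = 0)

theorem exists_smul_char {χ χ' : AddChar (Fin 1 → F) ℂ} (hχ : χ ≠ 1) (hχ' : χ' ≠ 1) :
    ∃ μ : F, μ ≠ 0 ∧ ∀ x, χ' x = χ (μ • x) := by
  classical
  let Φ : F → AddChar (Fin 1 → F) ℂ := fun μ =>
    χ.compAddMonoidHom (DistribSMul.toAddMonoidHom (Fin 1 → F) μ)
  have hinj : Function.Injective Φ := by
    intro μ ν e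
    by_contra hne
    refine hχ (DFunLike.ext _ _ fun y => ?_)
    have h0 : μ - ν ≠ 0 := sub_ne_zero.2 hne
    have e' : χ (μ • ((μ - ν)⁻¹ • y)) = χ (ν • ((μ - ν)⁻¹ • y)) :=
      DFunLike.congr_fun e ((μ - ν)⁻¹ • y)
    have key : μ • ((μ - ν)⁻¹ • y) = y + ν • ((μ - ν)⁻¹ • y) := by
      conv_rhs => arg 1; rw [← smul_inv_smul₀ h0 y]
      rw [← add_smul, sub_add_cancel]
    rw [key, AddChar.map_add_eq_mul] at e'
    have hne0 : χ (ν • ((μ - ν)⁻¹ • y)) ≠ 0 := (AddChar.val_isUnit χ _).ne_zero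
    simpa using mul_right_cancel₀ hne0 (e'.trans (one_mul _).symm)
  have hcard : Fintype.card F = Fintype.card (AddChar (Fin 1 → F) ℂ) := by
    rw [AddChar.card_eq, card_X, pow_one]
  obtain ⟨μ, hμ⟩ := ((Fintype.bijective_iff_injective_and_card Φ).2 ⟨hinj, hcard⟩).2 χ'
  refine ⟨μ, fun e => hχ' ?_, fun x => (DFunLike.congr_fun hμ x).symm⟩
  rw [← hμ, e]
  refine DFunLike.ext _ _ fun x => ?_
  change χ ((0 : F) • x) = 1
  rw [zero_smul, AddChar.map_zero_eq_one]

/-- A representation of `SL₂` with enough symmetry on the root group. -/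
theorem two_dim {W : Type*} [AddCommGroup W] [Module ℂ W] [FiniteDimensional ℂ W]
    (τ : Representation ℂ (SpecialLinearGroup (Fin (1 + 1)) F) W)
    (hA : ∀ μ : F, μ ≠ 0 → ∃ A : W →ₗ[ℂ] W, Function.Injective A ∧
      ∀ (x : Fin 1 → F) w, τ (row x) (A w) = A (τ (row (μ • x)) w)) :
    (∀ x w, τ (row x) w = w) ∨ eigDim τ row 1 + (Fintype.card F - 1) ≤ finrank ℂ W := by
  classical
  by_cases h : ∀ χ : AddChar (Fin 1 → F) ℂ, χ ≠ 1 → eigDim τ row χ = 0
  · left
    intro x w
    refine (mem_eigen_one τ row).1 (mem_eigen_one_of_proj τ row fun χ hχ => ?_) x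
    have hbot : eigen τ row χ = ⊥ := Submodule.finrank_eq_zero.1 (h χ hχ)
    simpa [hbot] using proj_mem τ row χ w
  · right
    push Not at h
    obtain ⟨χ₁, hχ₁, hne⟩ := h
    have hpos : ∀ χ : AddChar (Fin 1 → F) ℂ, χ ≠ 1 → 1 ≤ eigDim τ row χ := by
      intro χ hχ
      obtain ⟨μ, hμ, hμx⟩ := exists_smul_char hχ₁ hχ
      obtain ⟨A, hAi, hAc⟩ := hA μ hμ
      obtain ⟨w, hw, hw0⟩ := (Submodule.ne_bot_iff _).1
        (fun e => hne (by rw [eigDim, e, finrank_bot]) : eigen τ row χ₁ ≠ ⊥)
      have hAw : A w ∈ eigen τ row χ := fun x => by rw [hAc, hw, map_smul, hμx]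
      have hnb : eigen τ row χ ≠ ⊥ := fun e => hw0 (hAi (by
        rw [map_zero]; exact (Submodule.mem_bot ℂ).1 (e ▸ hAw)))
      exact Nat.one_le_iff_ne_zero.2 fun e => hnb (Submodule.finrank_eq_zero.1 e)
    rw [finrank_eq_sum_eigDim τ row,
      ← Finset.add_sum_erase Finset.univ _ (Finset.mem_univ (1 : AddChar (Fin 1 → F) ℂ))]
    gcongr
    calc Fintype.card F - 1 = (Finset.univ.erase (1 : AddChar (Fin 1 → F) ℂ)).card • 1 := by
          rw [Finset.card_erase_of_mem (Finset.mem_univ _), Finset.card_univ, AddChar.card_eq,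
            card_X, pow_one, smul_eq_mul, mul_one]
      _ ≤ _ := Finset.card_nsmul_le_sum _ _ _ fun χ hχ => hpos χ (Finset.mem_erase.1 hχ).1

theorem invariants_eq_average {H : Type*} [Group H] [Fintype H]
    [Invertible (Fintype.card H : ℂ)] {W : Type*} [AddCommGroup W] [Module ℂ W]
    (τ : Representation ℂ H W) (g : H) (w : W) : τ.averageMap (τ g w) = τ.averageMap w := by
  rw [Representation.averageMap, ← Representation.asAlgebraHom_single_one, ← Module.End.mul_apply,
    ← map_mul, GroupAlgebra.mul_average_right]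

variable {k : ℕ} {V : Type uV} [AddCommGroup V] [Module ℂ V] [FiniteDimensional ℂ V]
  {ρ : Representation ℂ (SpecialLinearGroup (Fin (k + 1 + 1)) F) V}

theorem case_fixed (hk : 1 ≤ k) (IH : 2 ≤ k → MinOrSmall.{uF, uV} F k) (hρ : Good ρ) {v : V}
    (hv : GensFixed ρ v) (hv0 : v ≠ 0) : bigT (Fintype.card F) (k + 1) ≤ finrank ℂ V := by
  classical
  have hm : 2 ≤ k + 1 := by omega
  set σ : Representation ℂ (SpecialLinearGroup (Fin (k + 1 + 1)) F) V := ρ.comp theta with hσdef
  obtain ⟨hσ, hdim⟩ := hρ.twist hm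
  obtain ⟨hD, -⟩ := hρ.dim hm
  set Wσ := eigen σ row 1 with hW
  have hinv : ∀ g : SpecialLinearGroup (Fin (k + 1)) F, ∀ w ∈ Wσ,
      (σ.comp (emb.comp theta)) g w ∈ Wσ := fun g w hw => eigen_one_emb hw (theta g)
  set τ := restr (σ.comp (emb.comp theta)) Wσ hinv with hτ
  have hτtt : ∀ i j c, i ≠ j → ∀ w : Wσ, ((τ (tt i j c) w : Wσ) : V) =
      ρ (tt i.castSucc j.castSucc c) w := by
    intro i j c hij w
    change ρ (theta (emb (theta (tt i j c)))) (w : V) = _
    rw [theta_tt, emb_tt, theta_tt, Fin.rev_succ, Fin.rev_succ, Fin.rev_rev, Fin.rev_rev, neg_neg]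
  have hvW : v ∈ Wσ := mem_twist_iff.2 fun i c hi => hv i _ hi Fin.last_pos.ne' c
  set v' : Wσ := ⟨v, hvW⟩ with hv'
  have hv'g : GensFixed τ v' := fun i j hij hj c => Subtype.ext <| by
    rw [hτtt i j c hij]
    exact hv _ _ (fun e => hij (Fin.castSucc_inj.1 e)) (Fin.castSucc_ne_zero_iff.2 hj) c
  have hnotfix : ¬ ∀ g, τ g v' = v' := by
    intro h
    refine hv0 (hρ.nofix v fun g => ?_)
    have key : ∀ i c, i ≠ (0 : Fin (k + 1 + 1)) → i ≠ Fin.last (k + 1) →
        tt i 0 c ∈ fixSub ρ v := by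
      intro i c hi0 hil
      obtain ⟨i', rfl⟩ := Fin.exists_castSucc_eq.2 hil
      have hi' : i' ≠ 0 := fun e => hi0 (by rw [e, Fin.castSucc_zero])
      have := congrArg Subtype.val (h (tt i' 0 c))
      rwa [hτtt i' 0 c hi', Fin.castSucc_zero] at this
    have htop : fixSub ρ v = ⊤ := eq_top_of_tt _ fun i j c hij => by
      rcases eq_or_ne j 0 with rfl | hj
      · rcases eq_or_ne i (Fin.last (k + 1)) with rfl | hil
        · have h1 : (1 : Fin (k + 1 + 1)) ≠ 0 := one_ne_zero
          have h2 : (1 : Fin (k + 1 + 1)) ≠ Fin.last (k + 1) := fun e => by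
            have e' := congrArg Fin.val e
            simp [Fin.val_last] at e'
            omega
          have h3 : ∀ c', tt (Fin.last (k + 1)) 1 c' ∈ fixSub ρ v := fun c' =>
            hv _ _ h2.symm h1 c'
          have e := tt_comm (a := (1 : F)) (b := c) h2.symm h1 hij
          rw [one_mul, ← mul_inv_eq_iff_eq_mul] at e
          rw [← e]
          exact mul_mem (mul_mem (mul_mem (h3 _) (key _ _ h1 h2)) (inv_mem (h3 _)))
            (inv_mem (key _ _ h1 h2))
        · exact key i c hij hil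
      · exact hv i j hij hj c
    have : g ∈ fixSub ρ v := htop ▸ Subgroup.mem_top g
    exact this
  have ha : bigT (Fintype.card F) k ≤ eigDim ρ row 1 := by
    rw [← hdim]
    rcases Nat.lt_or_ge k 2 with hk2 | hk2
    · obtain rfl : k = 1 := by omega
      have hτrow : ∀ x (w : Wσ), ((τ (row x) w : Wσ) : V) =
          ρ (tt (0 : Fin (1 + 1 + 1)) (1 : Fin (1 + 1)).castSucc (x 0)) w := by
        intro x w
        have hx : x = Pi.single (0 : Fin 1) (x 0) := by
          funext l; rw [Fin.eq_zero l, Pi.single_eq_same]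
        nth_rw 1 [hx]
        rw [row_single, hτtt _ _ _ (Fin.succ_ne_zero _).symm]
        rfl
      have hA : ∀ μ : F, μ ≠ 0 → ∃ A : Wσ →ₗ[ℂ] Wσ, Function.Injective A ∧
          ∀ (x : Fin 1 → F) w, τ (row x) (A w) = A (τ (row (μ • x)) w) := fun μ hμ => by
        have hd : ∏ i, (![μ⁻¹, 1, μ] : Fin (1 + 1 + 1) → F) i = 1 := by
          simp [Fin.prod_univ_three, hμ]
        set d := dG _ hd with hdd
        have hmem : ∀ w ∈ Wσ, ρ d w ∈ Wσ := fun w hw => mem_twist_iff.2 fun i c hi => by
          rw [← Module.End.mul_apply, ← map_mul, hdd, tt_mul_dG, map_mul, Module.End.mul_apply,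
            mem_twist_iff.1 hw i _ hi]
        refine ⟨(ρ d).restrict hmem, fun a b e => Subtype.ext ?_, fun x w => Subtype.ext ?_⟩
        · exact ρ.apply_bijective d |>.1 (congrArg Subtype.val e)
        · change _ = ρ d ((τ (row (μ • x)) w : Wσ) : V)
          rw [hτrow, hτrow, LinearMap.coe_restrict_apply, ← Module.End.mul_apply, ← map_mul,
            hdd, tt_mul_dG, map_mul, Module.End.mul_apply]
          congr 4
          simp
          field_simp
      rcases two_dim τ hA with h | h
      · exact absurd (fun g => trivial_of_row τ le_rfl h g v') hnotfix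
      · have hf : 1 ≤ eigDim τ row 1 := by
          refine Nat.one_le_iff_ne_zero.2 fun e => hv0 ?_
          have hmem : v' ∈ eigen τ row 1 := (mem_eigen_one τ row).2 fun x => Subtype.ext <| by
            rw [hτrow]
            exact hv _ _ (by decide) (by decide) _
          rw [Submodule.finrank_eq_zero.1 e, Submodule.mem_bot] at hmem
          exact congrArg Subtype.val hmem
        have hb : bigT (Fintype.card F) 1 = Fintype.card F := by simp [bigT]
        have := Fintype.one_lt_card (α := F)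
        change bigT (Fintype.card F) 1 ≤ finrank ℂ Wσ
        omega
    · have : Fintype (SpecialLinearGroup (Fin (k + 1)) F) := Fintype.ofFinite _
      have : Invertible (Fintype.card (SpecialLinearGroup (Fin (k + 1)) F) : ℂ) :=
        invertibleOfNonzero (Nat.cast_ne_zero.2 Fintype.card_ne_zero)
      set W0 := LinearMap.ker τ.averageMap with hW0
      have hinv0 : ∀ g, ∀ w ∈ W0, τ g w ∈ W0 := fun g w hw => by
        rw [hW0, LinearMap.mem_ker] at hw ⊢
        rw [invariants_eq_average, hw]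
      set τ0 := restr τ W0 hinv0 with hτ0
      have havg := τ.averageMap_invariant v'
      have huW : v' - τ.averageMap v' ∈ W0 := by
        rw [hW0, LinearMap.mem_ker, map_sub, τ.averageMap_id _ havg, sub_self]
      set u : W0 := ⟨_, huW⟩ with hu
      have hu0 : u ≠ 0 := fun e => hnotfix fun g => by
        have e' : v' = τ.averageMap v' := sub_eq_zero.1 (congrArg Subtype.val e)
        rw [e']; exact havg g
      have hug : GensFixed τ0 u := fun i j hij hj c => Subtype.ext <| by
        change τ (tt i j c) (v' - τ.averageMap v') = v' - τ.averageMap v'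
        rw [map_sub, hv'g i j hij hj c, havg]
      have hfix0 : ∀ w : W0, (∀ g, τ0 g w = w) → w = 0 := fun w hw => Subtype.ext <| by
        have h1 : (w : Wσ) ∈ τ.invariants := fun g => congrArg Subtype.val (hw g)
        have h2 := τ.averageMap_id _ h1
        rw [LinearMap.mem_ker.1 w.2] at h2
        exact h2.symm
      have hle : finrank ℂ W0 ≤ eigDim σ row 1 := Submodule.finrank_le W0
      rcases good_or_big τ0 hk2 hfix0 ⟨⟨u, 0, hu0⟩⟩ with h | h
      · exact h.trans hle
      rcases IH hk2 W0 τ0 h with h | ⟨-, h⟩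
      · exact h.trans hle
      · exact absurd (h u hug.uFixed) hu0
  have hne := hρ.ne_pred hm
  have hq : 1 ≤ Fintype.card F ^ (k + 1) := Nat.one_le_pow _ _ Fintype.card_pos
  rw [bigT_succ] at hne ⊢
  omega

end CfsgLib.Classical.SLMinDeg
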