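import Cfsg.Agent.Lib.Classical.SLMinDegFixed

/-!
# Minimal degree of `SL_n(q)`: no vector fixed by a vector stabiliser
-/

set_option autoImplicit false

namespace CfsgLib.Classical.SLMinDeg

open Module Matrix CfsgLib.MaxSub
open scoped MatrixGroups

universe uF uV

variable {F : Type uF} [Field F] [Fintype F]

theorem card_sub_one_dvd {e : ℕ} (h : ∀ x : F, x ≠ 0 → x ^ e = 1) : Fintype.card F - 1 ∣ e := by
  classical
  obtain ⟨g, hg⟩ := IsCyclic.exists_ofOrder_eq_natCard (α := Fˣ)
  rw [← Fintype.card_units, ← Nat.card_eq_fintype_card, ← hg]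
  exact orderOf_dvd_of_pow_eq_one (Units.ext (by rw [Units.val_pow_eq_pow_val]; exact h _ g.ne_zero))

variable {k : ℕ} {V : Type uV} [AddCommGroup V] [Module ℂ V] [FiniteDimensional ℂ V]
  {ρ : Representation ℂ (SpecialLinearGroup (Fin (k + 1 + 1)) F) V}

/-- The eigenvector argument when the row group has no fixed vector. -/
theorem small_of_bot (hk : 1 ≤ k) (hρ : Good ρ) (hW : eigen ρ row 1 = ⊥) :
    Small (Fintype.card F) (k + 1) (finrank ℂ V) := by
  classical
  have hm : 2 ≤ k + 1 := by omega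
  obtain ⟨hσ, hdim⟩ := hρ.twist hm
  obtain ⟨hD, -⟩ := hρ.dim hm
  have ha : eigDim ρ row 1 = 0 := by rw [eigDim, hW, finrank_bot]
  rw [ha, zero_add] at hD
  have hWσ : eigen (ρ.comp theta : Representation ℂ _ V) row 1 = ⊥ :=
    Submodule.finrank_eq_zero.1 (hdim.trans ha)
  obtain ⟨ψ, hψ⟩ := AddChar.exists_apply_ne_zero.2 (one_ne_zero (α := F))
  let χ : AddChar (Fin (k + 1) → F) ℂ :=
    ψ.compAddMonoidHom (Pi.evalAddMonoidHom (fun _ => F) 0)
  have hχ : χ ≠ 1 := fun e => hψ (by
    have := DFunLike.congr_fun e (Pi.single (0 : Fin (k + 1)) (1 : F))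
    simpa [χ] using this)
  have hχ0 : ∀ x y : Fin (k + 1) → F, x 0 = y 0 → χ x = χ y := fun x y e => congrArg ψ e
  obtain ⟨v, hv, hv0⟩ := hρ.exists_ne_zero hχ
  set last := Fin.last (k + 1) with hlast
  have hfix : ∀ g h u, ρ g v ∈ eigen ρ row χ → ρ h v ∈ eigen ρ row χ → h * g = u * g * h →
      ρ u v = v := by
    intro g h u hg hh e
    obtain ⟨α, hα⟩ := hρ.exists_smul hχ hv hv0 hg
    obtain ⟨β, hβ⟩ := hρ.exists_smul hχ hv hv0 hh
    have hα0 : α ≠ 0 := fun e => hv0 ((ρ.apply_bijective g).1 (by rw [← hα, e, zero_smul, map_zero]))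
    have hβ0 : β ≠ 0 := fun e => hv0 ((ρ.apply_bijective h).1 (by rw [← hβ, e, zero_smul, map_zero]))
    have h1 := congrArg (fun w => ρ w v) e
    simp only [map_mul, Module.End.mul_apply, ← hα, ← hβ, map_smul, smul_smul] at h1
    rw [mul_comm β α] at h1
    exact (smul_right_injective V (mul_ne_zero hα0 hβ0) h1.symm)
  have hemb : ∀ i j : Fin (k + 1 + 1), i ≠ 0 → j ≠ 0 → (j : ℕ) ≠ 1 → i ≠ j → ∀ c,
      ρ (tt i j c) v ∈ eigen ρ row χ := by
    intro i j hi hj hj1 hij c
    obtain ⟨i', rfl⟩ := Fin.exists_succ_eq.2 hi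
    obtain ⟨j', rfl⟩ := Fin.exists_succ_eq.2 hj
    have hij' : i' ≠ j' := fun e => hij (congrArg Fin.succ e)
    have hj' : j' ≠ 0 := fun e => hj1 (by simp [e])
    rw [← emb_tt]
    exact eigen_preserved (fun x => ⟨_, row_mul_emb x _,
      hχ0 _ _ (vecMul_tt_zero x i' j' hij' hj' c)⟩) hv
  have hdiag : ∀ (d : Fin (k + 1 + 1) → F) (hd : ∏ i, d i = 1), d (Fin.succ 0) = d 0 →
      ρ (dG d hd) v ∈ eigen ρ row χ := by
    intro d hd h1
    have h0 : d 0 ≠ 0 := fun e => one_ne_zero (α := F) <| by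
      rw [← hd]; exact Finset.prod_eq_zero (Finset.mem_univ 0) e
    refine eigen_preserved (fun x => ⟨_, row_mul_dG hd x, hχ0 _ _ ?_⟩) hv
    simp only [h1, mul_div_assoc, div_self h0, mul_one]
  have hlast0 : last ≠ 0 := Fin.last_pos.ne'
  have hlast1 : (last : ℕ) ≠ 1 := by simp [hlast]; omega
  have hnot : ¬ ∀ i c, i ≠ (0 : Fin (k + 1 + 1)) → i ≠ last → ρ (tt i last c) v = v := by
    intro h
    refine hv0 ((Submodule.mem_bot ℂ).1 (hWσ ▸ mem_twist_iff.2 fun i c hi => ?_))
    rcases eq_or_ne i 0 with rfl | hi0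
    · rw [← Fin.succ_last, ← row_single, hv]
      have e : χ (Pi.single (Fin.last k) c) = 1 := by
        rw [hχ0 (Pi.single (Fin.last k) c) 0 ?_, AddChar.map_zero_eq_one]
        rw [Pi.single_eq_of_ne (fun e => by simp [Fin.ext_iff] at e; omega), Pi.zero_apply]
      rw [e, one_smul]
    · exact h i c hi0 hi
  have hcomm : ∀ i j : Fin (k + 1 + 1), i ≠ 0 → (i : ℕ) ≠ 1 → i ≠ last → j ≠ 0 → j ≠ last →
      i ≠ j → ∀ c, ρ (tt j last c) v = v := by
    intro i j hi hi1 hil hj hjl hij c
    refine hfix (tt i last c) (tt j i 1) _ (hemb _ _ hi hlast0 hlast1 hil _)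
      (hemb _ _ hj hi hi1 hij.symm _) ?_
    have e := tt_comm (a := (1 : F)) (b := c) hij.symm hil hjl
    rw [one_mul] at e
    rw [← e]; group
  have hq2 : 2 ≤ Fintype.card F := Fintype.one_lt_card
  rcases Nat.lt_or_ge k 2 with hk2 | hk2
  · obtain rfl : k = 1 := by omega
    have hd : Fintype.card F - 1 ∣ 3 := by
      refine card_sub_one_dvd fun μ hμ => ?_
      by_contra h3
      refine hnot fun i c hi hil => ?_
      obtain rfl : i = (1 : Fin (1 + 1 + 1)) := by
        rw [hlast] at hil; revert hi hil; revert i; decide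
      have hp : ∏ i, (![μ, μ, (μ * μ)⁻¹] : Fin (1 + 1 + 1) → F) i = 1 := by
        simp [Fin.prod_univ_three]
        field_simp
      refine hfix (tt 1 last (c / (μ ^ 3 - 1))) (dG _ hp) _
        (hemb _ _ (by decide) hlast0 hlast1 hil _) (hdiag _ hp (by simp)) ?_
      rw [tt_add, tt_mul_dG]
      congr 2
      have : μ ^ 3 - 1 ≠ 0 := sub_ne_zero.2 h3
      simp [hlast, show Fin.last 2 = (2 : Fin 3) from rfl]
      field_simp
      ring
    rcases (Nat.dvd_prime Nat.prime_three).1 hd with h | h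
    · have hq : Fintype.card F = 2 := by omega
      rw [hq] at hD ⊢; rw [hD]; norm_num [Small]
    · have hq : Fintype.card F = 4 := by omega
      rw [hq] at hD ⊢; rw [hD]; norm_num [Small]
  · rcases Nat.lt_or_ge k 3 with hk3 | hk3
    · obtain rfl : k = 2 := by omega
      have hd : Fintype.card F - 1 ∣ 2 := by
        refine card_sub_one_dvd fun μ hμ => ?_
        by_contra h2
        refine hnot fun i c hi hil => ?_
        have hi12 : i = (1 : Fin (2 + 1 + 1)) ∨ i = (2 : Fin (2 + 1 + 1)) := by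
          rw [hlast] at hil; revert hi hil; revert i; decide
        rcases hi12 with rfl | rfl
        · exact hcomm 2 1 (by decide) (by decide) (by rw [hlast]; decide) (by decide) hil
            (by decide) c
        have hp : ∏ i, (![1, 1, μ, μ⁻¹] : Fin (2 + 1 + 1) → F) i = 1 := by
          simp [Fin.prod_univ_four, hμ]
        refine hfix (tt 2 last (c / (μ ^ 2 - 1))) (dG _ hp) _
          (hemb _ _ (by decide) hlast0 hlast1 hil _) (hdiag _ hp (by simp)) ?_
        rw [tt_add, tt_mul_dG]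
        congr 2
        have : μ ^ 2 - 1 ≠ 0 := sub_ne_zero.2 h2
        simp [hlast, show Fin.last 3 = (3 : Fin 4) from rfl]
        field_simp
        ring
      rcases (Nat.dvd_prime Nat.prime_two).1 hd with h | h
      · have hq : Fintype.card F = 2 := by omega
        rw [hq] at hD ⊢; rw [hD]; norm_num [Small]
      · have hq : Fintype.card F = 3 := by omega
        rw [hq] at hD ⊢; rw [hD]; norm_num [Small]
    · refine absurd (fun i c hi hil => ?_) hnot
      let two : Fin (k + 1 + 1) := ⟨2, by omega⟩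
      let three : Fin (k + 1 + 1) := ⟨3, by omega⟩
      rcases eq_or_ne i two with rfl | h2
      · exact hcomm three two (by simp [three, Fin.ext_iff]) (by simp [three])
          (by simp [three, hlast, Fin.ext_iff]; omega) hi hil (by simp [two, three, Fin.ext_iff]) c
      · exact hcomm two i (by simp [two, Fin.ext_iff]) (by simp [two])
          (by simp [two, hlast, Fin.ext_iff]; omega) hi hil h2.symm c

theorem not_dvd_of_small {q m a : ℕ} (h : Small q m a)
    (hdvd : ((q ^ (m + 1) - 1 + a : ℕ) : ℤ) ∣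
      (((bigT q (m + 1) + 1) * (q ^ (m + 1) - 1) : ℕ) : ℤ) * ((a : ℤ) - 1)) :
    q = 2 ∧ m = 2 ∧ a = 3 := by
  rcases h with ⟨rfl, rfl, rfl | rfl⟩ | ⟨rfl, rfl, rfl | rfl⟩ | ⟨rfl, rfl, rfl | rfl⟩ |
    ⟨rfl, rfl, rfl⟩
  all_goals first | exact ⟨rfl, rfl, rfl⟩ | norm_num [bigT, Finset.sum_range_succ] at hdvd

theorem case_free (hk : 1 ≤ k) (IH : 2 ≤ k → MinOrSmall.{uF, uV} F k) (hρ : Good ρ)
    (hfree : ∀ v, GensFixed ρ v → v = 0) :
    bigT (Fintype.card F) (k + 1) ≤ finrank ℂ V ∨
      (Small (Fintype.card F) (k + 1) (finrank ℂ V) ∧ ∀ v, UFixed ρ v → v = 0) := by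
  classical
  have hm : 2 ≤ k + 1 := by omega
  obtain ⟨hD, -⟩ := hρ.dim hm
  have hUW : ∀ v, UFixed ρ v → v ∈ eigen ρ row 1 := fun v hv => (mem_eigen_one ρ row).2
    fun x => row_mem_of_single (fixSub ρ v) (fun j c => hv _ _ (Fin.succ_pos j) c) x
  by_cases hW0 : eigen ρ row 1 = ⊥
  · exact .inr ⟨small_of_bot hk hρ hW0, fun v hv => by simpa [hW0] using hUW v hv⟩
  have hinv : ∀ g : SpecialLinearGroup (Fin (k + 1)) F, ∀ w ∈ eigen ρ row 1,
      (ρ.comp emb) g w ∈ eigen ρ row 1 := fun g w hw => eigen_one_emb hw g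
  set τ := restr (ρ.comp emb) (eigen ρ row 1) hinv with hτ
  have hfix : ∀ w, (∀ g, τ g w = w) → w = 0 := fun w hw => Subtype.ext <| hfree _ fun i j hij hj c => by
    obtain ⟨j', rfl⟩ := Fin.exists_succ_eq.2 hj
    rcases Fin.eq_zero_or_eq_succ i with rfl | ⟨i', rfl⟩
    · rw [← row_single]; exact (mem_eigen_one ρ row).1 w.2 _
    · rw [← emb_tt]; exact congrArg Subtype.val (hw (tt i' j' c))
  obtain ⟨w₀, hw₀, hw₀0⟩ := (Submodule.ne_bot_iff _).1 hW0
  have hnontriv : Nontrivial (eigen ρ row 1) :=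
    ⟨⟨⟨w₀, hw₀⟩, 0, fun e => hw₀0 (congrArg Subtype.val e)⟩⟩
  have hUτ : ∀ v (hv : UFixed ρ v), UFixed τ (⟨v, hUW v hv⟩ : eigen ρ row 1) :=
    fun v hv i j hij c => Subtype.ext <| by
      change ρ (emb (tt i j c)) v = v
      rw [emb_tt]; exact hv _ _ (Fin.succ_lt_succ_iff.2 hij) c
  have hne := hρ.ne_pred hm
  have hq1 : 1 ≤ Fintype.card F ^ (k + 1) := Nat.one_le_pow _ _ Fintype.card_pos
  have fin : bigT (Fintype.card F) k ≤ eigDim ρ row 1 →
      bigT (Fintype.card F) (k + 1) ≤ finrank ℂ V := fun ha => by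
    rw [bigT_succ] at hne ⊢
    omega
  rcases Nat.lt_or_ge k 2 with hk2 | hk2
  · obtain rfl : k = 1 := by omega
    have hτrow : ∀ x (w : eigen ρ row 1), ((τ (row x) w : eigen ρ row 1) : V) =
        ρ (tt (Fin.succ 0 : Fin (1 + 1 + 1)) (Fin.succ 1) (x 0)) w := by
      intro x w
      change ρ (emb (row x)) (w : V) = _
      have hx : x = Pi.single (0 : Fin 1) (x 0) := by
        funext l; rw [Fin.eq_zero l, Pi.single_eq_same]
      nth_rw 1 [hx]
      rw [row_single, emb_tt]
      rfl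
    have hA : ∀ μ : F, μ ≠ 0 → ∃ A : eigen ρ row 1 →ₗ[ℂ] eigen ρ row 1, Function.Injective A ∧
        ∀ (x : Fin 1 → F) w, τ (row x) (A w) = A (τ (row (μ • x)) w) := fun μ hμ => by
      have hd : ∏ i, (![μ⁻¹, 1, μ] : Fin (1 + 1 + 1) → F) i = 1 := by
        simp [Fin.prod_univ_three, hμ]
      set d := dG _ hd with hdd
      have hmem : ∀ w ∈ eigen ρ row 1, ρ d w ∈ eigen ρ row 1 := fun w hw =>
        eigen_preserved (fun x => ⟨_, row_mul_dG hd x, by simp⟩) hw
      refine ⟨(ρ d).restrict hmem, fun a b e => Subtype.ext ?_, fun x w => Subtype.ext ?_⟩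
      · exact (ρ.apply_bijective d).1 (congrArg Subtype.val e)
      · change _ = ρ d ((τ (row (μ • x)) w : eigen ρ row 1) : V)
        rw [hτrow, hτrow, LinearMap.coe_restrict_apply, ← Module.End.mul_apply, ← map_mul,
          hdd, tt_mul_dG, map_mul, Module.End.mul_apply]
        congr 4
        simp [mul_comm]
    rcases two_dim τ hA with h | h
    · exfalso
      exact hw₀0 (congrArg Subtype.val (hfix ⟨w₀, hw₀⟩ fun g => trivial_of_row τ le_rfl h g _))
    · change eigDim τ row 1 + (Fintype.card F - 1) ≤ eigDim ρ row 1 at h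
      have hb : bigT (Fintype.card F) 1 = Fintype.card F := by simp [bigT]
      have hq2 : 2 ≤ Fintype.card F := Fintype.one_lt_card
      by_cases hbig : Fintype.card F ≤ eigDim ρ row 1
      · exact .inl (fin (by omega))
      have ha : eigDim ρ row 1 = Fintype.card F - 1 := by omega
      have hf : eigen τ row 1 = ⊥ := Submodule.finrank_eq_zero.1 (by unfold eigDim at h ha; omega)
      refine .inr ⟨?_, fun v hv => ?_⟩
      · have hdvd := hρ.dvd hm
        rw [hD, ha, card_tvs_eq] at hdvd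
        rw [hD, ha]
        obtain ⟨r, hr⟩ : ∃ r, Fintype.card F = r + 2 := ⟨_, (Nat.sub_add_cancel hq2).symm⟩
        have hT : bigT (Fintype.card F) (1 + 1) = Fintype.card F + Fintype.card F ^ 2 := by
          simp [bigT, Finset.sum_range_succ]
        rw [hT] at hdvd
        have hsq : 1 ≤ Fintype.card F ^ (1 + 1) := Nat.one_le_pow _ _ (by omega)
        set q := Fintype.card F with hq
        push_cast [Nat.cast_sub (show 1 ≤ q by omega), Nat.cast_sub hsq] at hdvd
        obtain ⟨c, hc⟩ := hdvd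
        have hq0 : ((q : ℤ) - 1) ≠ 0 := by omega
        have hc' : ((q : ℤ) + 2) * c = ((q : ℤ) ^ 2 + q + 1) * (q + 1) * (q - 2) := by
          apply mul_left_cancel₀ hq0
          linear_combination -hc
        have h12 : ((q + 2 : ℕ) : ℤ) ∣ ((12 : ℕ) : ℤ) :=
          ⟨c - ((q : ℤ) ^ 3 - 2 * q ^ 2 + 2 * q - 7), by push_cast; linear_combination -hc'⟩
        have h12' : q + 2 ∣ 12 := Int.natCast_dvd_natCast.1 h12
        have hle : q ≤ 10 := by
          have := Nat.le_of_dvd (by norm_num) h12'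
          omega
        have hpp : IsPrimePow q := Fintype.isPrimePow_card_of_field
        rw [Small]
        interval_cases q
        all_goals first
          | (norm_num; done)
          | omega
          | exact absurd hpp (by rw [isPrimePow_nat_iff_bounded]; decide)
      · have hmem : (⟨v, hUW v hv⟩ : eigen ρ row 1) ∈ eigen τ row 1 :=
          (mem_eigen_one τ row).2 fun x => Subtype.ext <| by
            rw [hτrow]
            exact hv _ _ (by decide) _
        rw [hf, Submodule.mem_bot] at hmem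
        exact congrArg Subtype.val hmem
  · rcases good_or_big τ hk2 hfix hnontriv with h | h
    · exact .inl (fin h)
    rcases IH hk2 _ τ h with h | ⟨hs, hU⟩
    · exact .inl (fin h)
    · have hdvd := hρ.dvd hm
      rw [hD, card_tvs_eq, add_comm (eigDim ρ row 1)] at hdvd
      obtain ⟨h2, h3, h4⟩ := not_dvd_of_small (a := eigDim ρ row 1) hs hdvd
      refine .inr ⟨?_, fun v hv => congrArg Subtype.val (hU _ (hUτ v hv))⟩
      rw [hD, h4, h2]
      subst h3
      norm_num [Small]

/-- The induction. -/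
theorem minOrSmall : ∀ k, 1 ≤ k → MinOrSmall.{uF, uV} F (k + 1) := by
  intro k
  induction k with
  | zero => omega
  | succ l ih =>
    intro _ V _ _ _ ρ hρ
    have IH : 2 ≤ l + 1 → MinOrSmall.{uF, uV} F (l + 1) := fun h => ih (by omega)
    by_cases hfree : ∀ v, GensFixed ρ v → v = 0
    · exact case_free (by omega) IH hρ hfree
    · push Not at hfree
      obtain ⟨v, hv, hv0⟩ := hfree
      exact .inl (case_fixed (by omega) IH hρ hv hv0)

/-- Every representation without fixed vectors has degree at least `q + ⋯ + qᵐ`, or is one of the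
exceptions. -/
theorem min_degree {m : ℕ} (hm : 2 ≤ m) {V : Type uV} [AddCommGroup V] [Module ℂ V]
    [FiniteDimensional ℂ V] [Nontrivial V]
    (ρ : Representation ℂ (SpecialLinearGroup (Fin (m + 1)) F) V)
    (hfix : ∀ v : V, (∀ g, ρ g v = v) → v = 0) :
    bigT (Fintype.card F) m ≤ finrank ℂ V ∨
      (Good ρ ∧ Small (Fintype.card F) m (finrank ℂ V) ∧ ∀ v, UFixed ρ v → v = 0) := by
  rcases good_or_big ρ hm hfix ‹_› with h | h
  · exact .inl h
  obtain ⟨k, rfl⟩ : ∃ k, m = k + 1 := ⟨m - 1, by omega⟩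
  exact (minOrSmall k (by omega) V ρ h).imp id (fun h' => ⟨h, h'⟩)

end CfsgLib.Classical.SLMinDeg
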