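import Cfsg.Agent.Lib.Trans3.TvSL
import Cfsg.Agent.Lib.Classical.SLGen

/-!
# Row group, inverse transpose and block embedding in `SL_{m+1}(F)`
-/

set_option autoImplicit false

namespace CfsgLib.Classical.SLMinDeg

open Matrix CfsgLib.MaxSub
open scoped MatrixGroups

variable {F : Type*} [Field F] {n m : ℕ}

/-- The transvection `1 + c e_i e_jᵀ`, and `1` when `i = j`. -/
def tt (i j : Fin n) (c : F) : SpecialLinearGroup (Fin n) F :=
  if h : i ≠ j then SpecialLinearGroup.transvection h c else 1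

theorem coe_tt {i j : Fin n} (h : i ≠ j) (c : F) :
    (tt i j c).1 = tvMat (Pi.single i c) (Pi.single j 1) := by
  rw [tt, dif_pos h, tvMat_single]; rfl

theorem coe_tt' {i j : Fin n} (h : i ≠ j) (c : F) :
    (tt i j c).1 = Matrix.transvection i j c := by
  rw [coe_tt h, tvMat_single]

theorem tt_inv (i j : Fin n) (c : F) : (tt i j c)⁻¹ = tt i j (-c) := by
  unfold tt
  split_ifs with h
  · exact SpecialLinearGroup.transvection_inv h c
  · exact inv_one

theorem tt_comm {i j k : Fin n} (hij : i ≠ j) (hjk : j ≠ k) (hik : i ≠ k) (a b : F) :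
    tt i j a * tt j k b * (tt i j a)⁻¹ = tt i k (a * b) * tt j k b := by
  simp only [tt, dif_pos hij, dif_pos hjk, dif_pos hik,
    ← commutator_transvection_transvection hij hjk hik a b, commutatorElement_def]
  group

theorem closure_tt : Subgroup.closure
    {g : SpecialLinearGroup (Fin n) F | ∃ i j c, i ≠ j ∧ g = tt i j c} = ⊤ :=
  sl_transvection_induction _ fun i j hij c =>
    Subgroup.subset_closure ⟨i, j, c, hij, by rw [tt, dif_pos hij]⟩

/-- A subgroup with every `tt i j c` is everything. -/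
theorem eq_top_of_tt (H : Subgroup (SpecialLinearGroup (Fin n) F))
    (h : ∀ i j c, i ≠ j → tt i j c ∈ H) : H = ⊤ := by
  rw [eq_top_iff, ← closure_tt, Subgroup.closure_le]
  rintro g ⟨i, j, c, hij, rfl⟩
  exact h i j c hij

/-- The row group `1 + e₀ (0, x)ᵀ`. -/
def row : AddChar (Fin m → F) (SpecialLinearGroup (Fin (m + 1)) F) where
  toFun x := ⟨tvMat (Pi.single 0 1) (Fin.cons 0 x),
    det_tvMat _ _ (by simp [dotProduct_single])⟩
  map_zero_eq_one' := by
    apply Subtype.ext
    have : (Fin.cons 0 (0 : Fin m → F) : Fin (m + 1) → F) = 0 := by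
      ext i; refine Fin.cases ?_ ?_ i <;> simp
    simp [this]
  map_add_eq_mul' x y := by
    apply Subtype.ext
    change tvMat _ _ = tvMat _ _ * tvMat _ _
    rw [tvMat_mul_same_center _ _ _ (by simp [dotProduct_single])]
    congr 1
    ext i; refine Fin.cases ?_ ?_ i <;> simp

theorem coe_row (x : Fin m → F) : (row x).1 = tvMat (Pi.single 0 1) (Fin.cons 0 x) := rfl

theorem row_single (j : Fin m) (c : F) : row (Pi.single j c) = tt 0 j.succ c := by
  apply Subtype.ext
  rw [coe_row, coe_tt (Fin.succ_ne_zero j).symm]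
  have h1 : (Pi.single 0 c : Fin (m + 1) → F) = c • Pi.single 0 1 := by
    ext i; simp [Pi.single_apply]
  have h2 : c • (Pi.single j.succ 1 : Fin (m + 1) → F) = Fin.cons 0 (Pi.single j c) := by
    ext i; refine Fin.cases ?_ ?_ i <;>
      simp [Pi.single_apply, Fin.succ_inj, (Fin.succ_ne_zero _).symm]
  rw [h1, tvMat_smul, h2]

theorem row_mem_of_single (H : Subgroup (SpecialLinearGroup (Fin (m + 1)) F))
    (h : ∀ j c, tt 0 (Fin.succ j) c ∈ H) (x : Fin m → F) : row x ∈ H := by
  classical
  rw [← Finset.univ_sum_single x]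
  induction (Finset.univ : Finset (Fin m)) using Finset.induction_on with
  | empty => rw [Finset.sum_empty, AddChar.map_zero_eq_one]; exact one_mem H
  | insert i s hi ih =>
    rw [Finset.sum_insert hi, AddChar.map_add_eq_mul, row_single]
    exact mul_mem (h _ _) ih

theorem row_injective : Function.Injective (row (F := F) (m := m)) := by
  intro x y h
  funext j
  simpa [coe_row, tvMat, vecMulVec_apply, Matrix.one_apply] using
    congrFun (congrFun (congrArg Subtype.val h) 0) j.succ

/-- The inverse transpose followed by the reversal of the basis. -/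
def theta : SpecialLinearGroup (Fin n) F →* SpecialLinearGroup (Fin n) F where
  toFun g := ⟨(g⁻¹).1.transpose.submatrix Fin.revPerm Fin.revPerm, by
    rw [Matrix.det_submatrix_equiv_self, Matrix.det_transpose]; exact (g⁻¹).2⟩
  map_one' := by
    apply Subtype.ext
    simp
  map_mul' g h := by
    apply Subtype.ext
    rw [_root_.mul_inv_rev]
    change ((h⁻¹).1 * (g⁻¹).1).transpose.submatrix Fin.revPerm Fin.revPerm =
      (g⁻¹).1.transpose.submatrix Fin.revPerm Fin.revPerm *
        (h⁻¹).1.transpose.submatrix Fin.revPerm Fin.revPerm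
    rw [Matrix.transpose_mul, Matrix.submatrix_mul_equiv]

theorem coe_theta (g : SpecialLinearGroup (Fin n) F) :
    (theta g).1 = (g⁻¹).1.transpose.submatrix Fin.revPerm Fin.revPerm := rfl

theorem theta_theta (g : SpecialLinearGroup (Fin n) F) : theta (theta g) = g := by
  apply Subtype.ext
  rw [coe_theta, ← map_inv, coe_theta, inv_inv]
  ext i j
  simp

theorem theta_tt (i j : Fin n) (c : F) : theta (tt i j c) = tt j.rev i.rev (-c) := by
  by_cases h : i = j
  · subst h; simp [tt]
  apply Subtype.ext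
  rw [coe_theta, tt_inv, coe_tt' h, coe_tt' (fun e => h (Fin.rev_inj.1 e).symm)]
  ext k l
  simp [Matrix.transvection, Matrix.single_apply, Matrix.one_apply]
  grind [Fin.rev_rev]

/-- The matrix `1 ⊕ g`. -/
def embMat (A : Matrix (Fin m) (Fin m) F) : Matrix (Fin (m + 1)) (Fin (m + 1)) F :=
  Matrix.of fun i j => Fin.cases (Fin.cases (1 : F) (fun _ => 0) j)
    (fun i' => Fin.cases (0 : F) (A i') j) i

theorem embMat_mul (A B : Matrix (Fin m) (Fin m) F) : embMat (A * B) = embMat A * embMat B := by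
  ext i j
  rw [Matrix.mul_apply, Fin.sum_univ_succ]
  refine Fin.cases ?_ (fun i' => ?_) i <;> refine Fin.cases ?_ (fun j' => ?_) j <;>
    simp [embMat, Matrix.mul_apply]

/-- The embedding `g ↦ 1 ⊕ g`. -/
def emb : SpecialLinearGroup (Fin m) F →* SpecialLinearGroup (Fin (m + 1)) F where
  toFun g := ⟨embMat g.1, by
    rw [Matrix.det_succ_row_zero, Fin.sum_univ_succ]
    have e : (embMat g.1).submatrix Fin.succ Fin.succ = g.1 := by ext a b; simp [embMat]
    simp [embMat] at e ⊢
    simp [e]⟩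
  map_one' := by
    apply Subtype.ext
    ext i j
    refine Fin.cases ?_ (fun i' => ?_) i <;> refine Fin.cases ?_ (fun j' => ?_) j <;>
      simp [embMat, Matrix.one_apply, Fin.succ_inj, (Fin.succ_ne_zero _).symm]
  map_mul' g h := Subtype.ext (embMat_mul g.1 h.1)

theorem coe_emb (g : SpecialLinearGroup (Fin m) F) : (emb g).1 = embMat g.1 := rfl

theorem emb_tt (i j : Fin m) (c : F) : emb (tt i j c) = tt i.succ j.succ c := by
  by_cases h : i = j
  · subst h; simp [tt]
  apply Subtype.ext
  rw [coe_emb, coe_tt' h, coe_tt' (fun e => h (Fin.succ_inj.1 e))]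
  ext k l
  refine Fin.cases ?_ (fun k' => ?_) k <;> refine Fin.cases ?_ (fun l' => ?_) l <;>
    simp [embMat, Matrix.transvection, Matrix.single_apply, Matrix.one_apply, Fin.succ_inj,
      (Fin.succ_ne_zero _).symm]

theorem row_mul_emb (x : Fin m → F) (g : SpecialLinearGroup (Fin m) F) :
    row x * emb g = emb g * row (x ᵥ* g.1) := by
  apply Subtype.ext
  change (row x).1 * embMat g.1 = embMat g.1 * (row (x ᵥ* g.1)).1
  rw [coe_row, coe_row, tvMat, tvMat, add_mul, mul_add, one_mul, mul_one, Matrix.vecMulVec_mul, Matrix.mul_vecMulVec]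
  have h1 : (embMat g.1) *ᵥ Pi.single 0 1 = Pi.single 0 1 := by
    ext i; refine Fin.cases ?_ ?_ i <;> simp [embMat, Fin.succ_ne_zero]
  have h2 : (Fin.cons 0 x : Fin (m + 1) → F) ᵥ* embMat g.1 = Fin.cons 0 (x ᵥ* g.1) := by
    ext i
    refine Fin.cases ?_ (fun i' => ?_) i <;>
      simp [Matrix.vecMul, dotProduct, Fin.sum_univ_succ, embMat]
  rw [h1, h2]

/-- A diagonal element. -/
def dG (d : Fin n → F) (hd : ∏ i, d i = 1) : SpecialLinearGroup (Fin n) F :=
  ⟨Matrix.diagonal d, by rw [Matrix.det_diagonal, hd]⟩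

theorem tt_mul_dG {d : Fin n → F} (hd : ∏ i, d i = 1) (i j : Fin n) (c : F) :
    tt i j c * dG d hd = dG d hd * tt i j (c * d j / d i) := by
  have h0 : d i ≠ 0 := fun e => one_ne_zero (α := F) <| by
    rw [← hd]; exact Finset.prod_eq_zero (Finset.mem_univ i) e
  by_cases h : i = j
  · subst h; simp [tt]
  apply Subtype.ext
  change (tt i j c).1 * Matrix.diagonal d = Matrix.diagonal d * (tt i j (c * d j / d i)).1
  rw [coe_tt' h, coe_tt' h]
  ext k l
  simp [Matrix.transvection, Matrix.mul_diagonal, Matrix.diagonal_mul, Matrix.single_apply,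
    Matrix.one_apply]
  grind

/-- The Weyl element of the pair `(i, j)`. -/
def wy (i j : Fin n) : SpecialLinearGroup (Fin n) F := tt i j 1 * tt j i (-1) * tt i j 1

theorem wy_conj {i j : Fin n} (h : i ≠ j) (c : F) :
    wy i j * tt i j (-c) = tt j i c * wy i j := by
  simp only [wy, tt, dif_pos h, dif_pos h.symm]
  refine sl_ext_smul fun w => funext fun p => ?_
  simp only [mul_smul, transvection_smul_apply]
  by_cases hp : p = i
  · subst hp; simp [h, h.symm]; ring
  · by_cases hq : p = j
    · subst hq; simp [h, h.symm]; ring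
    · simp [hp, hq]

/-- A normal subgroup containing the row group is everything. -/
theorem eq_top_of_row (hm : 1 ≤ m) (N : Subgroup (SpecialLinearGroup (Fin (m + 1)) F)) [hN : N.Normal]
    (h : ∀ x, row x ∈ N) : N = ⊤ := by
  have _ := hm
  have h0 : ∀ j c, j ≠ 0 → tt (0 : Fin (m + 1)) j c ∈ N := fun j c hj => by
    obtain ⟨j', rfl⟩ := Fin.exists_succ_eq.2 hj
    rw [← row_single]; exact h _
  have h1 : ∀ j c, j ≠ 0 → tt j (0 : Fin (m + 1)) c ∈ N := fun j c hj => by
    have e : tt j 0 c = wy 0 j * tt 0 j (-c) * (wy 0 j)⁻¹ := by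
      rw [wy_conj hj.symm]; group
    rw [e]; exact hN.conj_mem _ (h0 _ _ hj) _
  refine eq_top_of_tt N fun i j c hij => ?_
  rcases eq_or_ne i 0 with rfl | hi
  · exact h0 j c hij.symm
  rcases eq_or_ne j 0 with rfl | hj
  · exact h1 i c hij
  have e := tt_comm (a := (1 : F)) (b := c) hi hj.symm hij
  rw [one_mul] at e
  have e' : tt i j c = tt i 0 1 * tt 0 j c * (tt i 0 1)⁻¹ * (tt 0 j c)⁻¹ := by rw [e]; group
  rw [e']
  exact mul_mem (hN.conj_mem _ (h0 _ _ hj) _) (inv_mem (h0 _ _ hj))

/-- For `n ≥ 3` every transvection is conjugate to each non-trivial row element. -/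
theorem isConj_row (hm : 2 ≤ m) {a φ : Fin (m + 1) → F} (ha : a ≠ 0) (hφ : φ ≠ 0)
    (h : φ ⬝ᵥ a = 0) {g : SpecialLinearGroup (Fin (m + 1)) F} (hg : g.1 = tvMat a φ)
    {x : Fin m → F} (hx : x ≠ 0) : IsConj (row x) g := by
  have h2 : (Fin.cons 0 x : Fin (m + 1) → F) ≠ 0 := fun e =>
    hx (funext fun j => by simpa using congrFun e j.succ)
  obtain ⟨k, hk1, hk2⟩ := Trans3.TvVec.moves_all (hι := by simp; omega)
    (Trans3.TvSL.hasAllTv (ι := Fin (m + 1)) (k := F)) (a := Pi.single 0 1)
    (φ := Fin.cons 0 x) (by simp) ha h2 hφ (by simp [dotProduct_single]) h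
  rw [isConj_iff]
  refine ⟨k, Subtype.ext ?_⟩
  change k.1 * tvMat _ _ * (k⁻¹).1 = g.1
  rw [mul_tvMat_mul _ _ _ _ (congrArg Subtype.val (mul_inv_cancel k)), hg]
  exact congrArg₂ tvMat hk1 hk2

theorem isConj_row_row (hm : 2 ≤ m) {x y : Fin m → F} (hx : x ≠ 0) (hy : y ≠ 0) :
    IsConj (row x) (row y) :=
  isConj_row hm (by simp) (fun e => hy (funext fun j => by simpa using congrFun e j.succ))
    (by simp [dotProduct_single]) (coe_row y) hx

end CfsgLib.Classical.SLMinDeg
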