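import Cfsg.Agent.Lib.Classical.SLMinDegPerm
import Cfsg.Agent.Lib.Classical.SLGen

/-!
# The smallest index of a proper subgroup of `PSL_n(q)`
-/

set_option autoImplicit false

namespace CfsgLib.Classical.SLMinDeg

open Module Matrix CfsgLib.MaxSub
open scoped MatrixGroups

universe u

variable {F : Type u} [Field F] [Fintype F]

omit [Fintype F] in
/-- In characteristic two every involution of `SL₃` is a transvection. -/
theorem tv_of_involution_three (h2 : (2 : F) = 0) {g : SL(2 + 1, F)} (hg : g ≠ 1)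
    (hgg : g * g = 1) :
    ∃ a φ : Fin (2 + 1) → F, a ≠ 0 ∧ φ ≠ 0 ∧ φ ⬝ᵥ a = 0 ∧ g.1 = tvMat a φ := by
  classical
  set N : Matrix (Fin (2 + 1)) (Fin (2 + 1)) F := g.1 - 1 with hN
  have hg1 : g.1 * g.1 = 1 := congrArg Subtype.val hgg
  have hNN : N * N = 0 := by
    have : N * N = (2 : F) • (1 - g.1) := by
      rw [hN, sub_mul, mul_sub, mul_sub, hg1, mul_one, one_mul, mul_one, two_smul]; abel
    rw [this, h2, zero_smul]
  have hN0 : N ≠ 0 := fun e => hg (Subtype.ext (sub_eq_zero.1 e))
  set f := Matrix.toLin' N with hf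
  have hff : ∀ x, f (f x) = 0 := fun x => by
    simp only [hf, Matrix.toLin'_apply, Matrix.mulVec_mulVec, hNN, Matrix.zero_mulVec]
  have hle : LinearMap.range f ≤ LinearMap.ker f := by
    rintro _ ⟨x, rfl⟩; exact hff x
  have hsum := LinearMap.finrank_range_add_finrank_ker f
  rw [finrank_fin_fun] at hsum
  have h1 := Submodule.finrank_mono hle
  have hne : LinearMap.range f ≠ ⊥ := fun e => hN0 (Matrix.toLin'.map_eq_zero_iff.1
    (LinearMap.range_eq_bot.1 e))
  obtain ⟨a, ha, ha0⟩ := (Submodule.ne_bot_iff _).1 hne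
  have hr : finrank F (LinearMap.range f) = 1 := by
    have := Submodule.one_le_finrank_iff.2 hne
    omega
  have hcol : ∀ j, ∃ c : F, c • a = N *ᵥ Pi.single j 1 := fun j => by
    obtain ⟨c, hc⟩ := exists_smul_eq_of_finrank_eq_one hr (x := ⟨a, ha⟩)
      (fun e => ha0 (congrArg Subtype.val e)) ⟨f (Pi.single j 1), LinearMap.mem_range_self f _⟩
    exact ⟨c, by simpa [hf] using congrArg Subtype.val hc⟩
  choose φ hφ using hcol
  have hNeq : N = vecMulVec a φ := by
    ext i j
    have := congrFun (hφ j) i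
    simp [Matrix.mulVec_single, vecMulVec_apply] at this ⊢
    rw [← this]; ring
  refine ⟨a, φ, ha0, fun e => hN0 (by rw [hNeq, e]; exact vecMulVec_zero a), ?_, ?_⟩
  · have h3 : f a = 0 := hle ha
    rw [hf, Matrix.toLin'_apply, hNeq, vecMulVec_mulVec] at h3
    obtain ⟨i, hi⟩ := Function.ne_iff.1 ha0
    have := congrFun h3 i
    simp at this
    rcases this with h | h
    · exact absurd h hi
    · exact h
  · rw [tvMat, ← hNeq, hN]; abel

/-- The case of 27 points for `SL₄(3)`. -/
theorem false_of_twentyseven (hq : Fintype.card F = 3) (X : Type*) [MulAction SL(3 + 1, F) X]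
    [Fintype X] (hX : Fintype.card X = 27)
    (hfree : ∀ g : SL(3 + 1, F), (∃ a φ : Fin (3 + 1) → F, a ≠ 0 ∧ φ ≠ 0 ∧ φ ⬝ᵥ a = 0 ∧
      g.1 = tvMat a φ) → Nat.card (MulAction.fixedBy X g) = 0) : False := by
  classical
  have hno : ∀ g : SL(3 + 1, F), (∃ a φ : Fin (3 + 1) → F, a ≠ 0 ∧ φ ≠ 0 ∧ φ ⬝ᵥ a = 0 ∧
      g.1 = tvMat a φ) → ∀ x : X, g • x ≠ x := fun g hg x hx => by
    have h := hfree g hg
    rw [Nat.card_eq_fintype_card, Fintype.card_eq_zero_iff] at h
    exact h.false ⟨x, hx⟩
  have htt : ∀ i j : Fin (3 + 1), i ≠ j → ∀ c : F, c ≠ 0 →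
      ∃ a φ : Fin (3 + 1) → F, a ≠ 0 ∧ φ ≠ 0 ∧ φ ⬝ᵥ a = 0 ∧ (tt i j c).1 = tvMat a φ :=
    fun i j hij c hc => ⟨_, _, by simp [hc], by simp, by simp [dotProduct_single, hij], coe_tt hij c⟩
  obtain ⟨p⟩ : Nonempty X := Fintype.card_pos_iff.1 (by omega)
  have hbij : Function.Bijective (fun x : Fin 3 → F => row x • p) := by
    refine (Fintype.bijective_iff_injective_and_card _).2 ⟨fun x y e => ?_, ?_⟩
    · by_contra hne
      have h0 : x - y ≠ 0 := sub_ne_zero.2 hne
      refine hno (row (x - y)) ⟨_, _, by simp, fun e => h0 (funext fun j => by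
        simpa using congrFun e j.succ), by simp [dotProduct_single], coe_row _⟩ (row y • p) ?_
      rw [← mul_smul, ← AddChar.map_add_eq_mul, sub_add_cancel]
      exact e
    · rw [card_X, hq, hX]; norm_num
  choose c hc using fun g : SL(3, F) => hbij.2 (emb g • p)
  have hswap : ∀ (g : SL(3, F)) (x : Fin 3 → F),
      emb g * row x = row (x ᵥ* (g⁻¹).1) * emb g := fun g x => by
    rw [row_mul_emb, Matrix.vecMul_vecMul,
      show (g⁻¹).1 * g.1 = 1 from congrArg Subtype.val (inv_mul_cancel g), Matrix.vecMul_one]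
  have hcoc : ∀ g h : SL(3, F), c (g * h) = c h ᵥ* (g⁻¹).1 + c g := fun g h => hbij.1 <| by
    simp only [hc, map_mul, mul_smul, AddChar.map_add_eq_mul]
    rw [← hc h, ← mul_smul, hswap, mul_smul, ← hc g]
  have htv : ∀ (x : Fin 3 → F) (i j : Fin 3), i ≠ j → ∀ t l,
      (x ᵥ* ((tt i j t)⁻¹).1) l = x l - if l = j then x i * t else 0 := by
    intro x i j hij t l
    rw [tt_inv, coe_tt hij, vecMul_tvMat, dotProduct_single, Pi.add_apply, Pi.smul_apply,
      smul_eq_mul, Pi.single_apply]
    split_ifs <;> ring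
  set g : SL(3, F) := tt 0 1 1 with hgdef
  set h : SL(3, F) := tt 1 2 1 with hhdef
  set k : SL(3, F) := tt 0 2 1 with hkdef
  have egk : g * k = k * g := by
    apply Subtype.ext
    ext i j
    simp [g, k, tt, Matrix.SpecialLinearGroup.transvection_coe, Matrix.mul_apply, Fin.sum_univ_three,
      Matrix.single_apply, Matrix.one_apply]
    fin_cases i <;> fin_cases j <;> simp
  have ehk : h * k = k * h := by
    apply Subtype.ext
    ext i j
    simp [h, k, tt, Matrix.SpecialLinearGroup.transvection_coe, Matrix.mul_apply, Fin.sum_univ_three,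
      Matrix.single_apply, Matrix.one_apply]
    fin_cases i <;> fin_cases j <;> simp
  have egh : g * h = k * (h * g) := by
    have e := tt_comm (i := (0 : Fin 3)) (j := 1) (k := 2) (by decide) (by decide) (by decide)
      (1 : F) 1
    rw [one_mul, ← hgdef, ← hhdef, ← hkdef, mul_inv_eq_iff_eq_mul, mul_assoc] at e
    exact e
  have r1 := congrArg c egk
  have r2 := congrArg c ehk
  have r3 := congrArg c egh
  rw [hcoc, hcoc] at r1 r2
  rw [hcoc g h, hcoc k (h * g), hcoc h g] at r3
  have hg' := fun x => htv x 0 1 (by decide) 1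
  have hh' := fun x => htv x 1 2 (by decide) 1
  have hk' := fun x => htv x 0 2 (by decide) 1
  rw [← hgdef] at hg'
  rw [← hhdef] at hh'
  rw [← hkdef] at hk'
  have a1 := congrFun r1 1
  have a2 := congrFun r1 2
  have b2 := congrFun r2 2
  have c1 := congrFun r3 1
  simp only [Pi.add_apply, hg', hh', hk', mul_one, reduceIte, Fin.reduceEq, sub_zero]
    at a1 a2 b2 c1
  have h2 : (2 : F) ≠ 0 := fun e => by
    have h3 := FiniteField.cast_card_eq_zero F
    rw [hq] at h3
    have : (1 : F) = 0 := by push_cast at h3; linear_combination h3 - e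
    exact one_ne_zero this
  have e1 : c k 0 = 0 := by linear_combination -a1
  have e2 : c k 1 = 0 := by
    apply mul_left_cancel₀ h2
    rw [mul_zero]
    linear_combination -b2 - c1
  refine hno (emb k) ?_ (row (Pi.single (0 : Fin 3) (c k 2)) • p) ?_
  · rw [hkdef, emb_tt]
    exact htt _ _ (by decide) 1 one_ne_zero
  · rw [← mul_smul, hswap, mul_smul, ← hc k, ← mul_smul, ← AddChar.map_add_eq_mul]
    congr 2
    funext l
    rw [Pi.add_apply, hk']
    fin_cases l <;> simp [e1, e2]

/-- A transitive set of `SL_{m+1}(q)` of size at least two has at least `1 + q + ⋯ + qᵐ` points,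
unless `(m, q)` is `(3, 2)`; the case `(m, q) = (2, 2)` is left aside. -/
theorem card_perm {m : ℕ} (hm : 2 ≤ m) (h32 : ¬ (m = 3 ∧ Fintype.card F = 2))
    (h22 : ¬ (m = 2 ∧ Fintype.card F = 2))
    (X : Type*) [MulAction SL(m + 1, F) X] [Fintype X]
    [MulAction.IsPretransitive SL(m + 1, F) X] (hX : 2 ≤ Fintype.card X) :
    bigT (Fintype.card F) m + 1 ≤ Fintype.card X := by
  classical
  rcases small_perm (F := F) hm X hX with h | ⟨hs, hfix⟩
  · exact h
  exfalso
  rcases hs with ⟨hq, rfl, -⟩ | ⟨hq, rfl, hD⟩ | ⟨hq, rfl, -⟩ | ⟨hq, rfl, hD⟩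
  · exact h22 ⟨rfl, hq⟩
  · have hcard : Nat.card SL(2 + 1, F) = 60480 := by
      have h := CfsgLib.Classical.card_sl_mul (F := F) (n := 2 + 1) (by omega)
      rw [hq] at h
      norm_num [Fin.prod_univ_succ, Nat.card_eq_fintype_card] at h ⊢
      omega
    obtain ⟨x⟩ : Nonempty X := Fintype.card_pos_iff.1 (by omega)
    set S := MulAction.stabilizer SL(2 + 1, F) x with hS
    have hmul := S.card_mul_index
    rw [MulAction.index_stabilizer_of_transitive _ x, Nat.card_eq_fintype_card (α := X), hcard] at hmul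
    rcases hD with hD | hD
    · have hk : Fintype.card X = 16 := by omega
      rw [hk] at hmul
      have : Fact (Nat.Prime 2) := ⟨Nat.prime_two⟩
      have := Fintype.ofFinite S
      obtain ⟨g, hg⟩ := exists_prime_orderOf_dvd_card' (G := S) 2 (by omega)
      have h2 : (2 : F) = 0 := by
        have h4 := FiniteField.cast_card_eq_zero F
        rw [hq] at h4
        have h5 : (2 : F) * 2 = 0 := by push_cast at h4; linear_combination h4
        rcases mul_eq_zero.1 h5 with h | h <;> exact h
      have hg1 : (g : SL(2 + 1, F)) ≠ 1 := fun e => by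
        have : g = 1 := Subtype.ext e
        rw [this, orderOf_one] at hg; omega
      have hgg : (g : SL(2 + 1, F)) * g = 1 := by
        have h1 := pow_orderOf_eq_one g
        rw [hg, pow_two] at h1
        exact congrArg Subtype.val h1
      have h := hfix g (tv_of_involution_three h2 hg1 hgg)
      rw [hq, hk] at h
      norm_num at h
      exact h g.2
    · have hk : Fintype.card X = 19 := by omega
      rw [hk] at hmul
      omega
  · exact h32 ⟨rfl, hq⟩
  · refine false_of_twentyseven hq X (by omega) fun g hg => ?_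
    have h := hfix g hg
    rw [hq, hD] at h
    exact Nat.cast_eq_zero.1 (h.trans (by norm_num))

omit [Fintype F] in
theorem center_le_stabilizer {n : ℕ} {X : Type*} [MulAction SL(n, F) X]
    [MulAction.IsMultiplyPretransitive SL(n, F) X 2] (hX : 3 ≤ Nat.card X) (p : X) :
    Subgroup.center SL(n, F) ≤ MulAction.stabilizer SL(n, F) p := by
  classical
  intro z hz
  rw [MulAction.mem_stabilizer_iff]
  by_contra hne
  obtain ⟨s, hs1, hs2⟩ : ∃ s : X, s ≠ p ∧ s ≠ z • p := by
    by_contra hh
    push Not at hh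
    have hfin : Finite X := Nat.finite_of_card_ne_zero (by omega)
    have := Fintype.ofFinite X
    have hle : (Finset.univ : Finset X).card ≤ ({p, z • p} : Finset X).card :=
      Finset.card_le_card fun s _ => by
        rcases eq_or_ne s p with h | h
        · simp [h]
        · simp [hh s h]
    rw [Finset.card_univ, ← Nat.card_eq_fintype_card] at hle
    have := Finset.card_le_two (a := p) (b := z • p)
    omega
  obtain ⟨g, hg1, hg2⟩ := MulAction.is_two_pretransitive_iff.mp ‹_› (Ne.symm hne) hs1.symm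
  rw [← mul_smul, Subgroup.mem_center_iff.1 hz g, mul_smul, hg1] at hg2
  exact hs2 hg2.symm

theorem psl_min_index_lower {n : ℕ} (hn : 3 ≤ n) (hexc : ¬ (n = 4 ∧ Fintype.card F = 2))
    (H : Subgroup (Matrix.ProjectiveSpecialLinearGroup (Fin n) F)) (hH : H ≠ ⊤) :
    bigT (Fintype.card F) (n - 1) + 1 ≤ H.index := by
  classical
  obtain ⟨m, rfl⟩ : ∃ m, n = m + 1 := ⟨n - 1, by omega⟩
  rw [Nat.add_sub_cancel]
  have hidx : 2 ≤ H.index := by
    have h0 : H.index ≠ 0 := Subgroup.index_ne_zero_of_finite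
    have h1 : H.index ≠ 1 := fun e => hH (Subgroup.index_eq_one.1 e)
    omega
  by_cases h22 : m = 2 ∧ Fintype.card F = 2
  · obtain ⟨rfl, hq⟩ := h22
    rw [hq]
    norm_num [bigT, Finset.sum_range_succ]
    by_contra hlt
    have hcard : Nat.card (Matrix.ProjectiveSpecialLinearGroup (Fin (2 + 1)) F) = 168 := by
      have h := CfsgLib.Classical.card_psl_mul (F := F) (n := 2 + 1) (by omega)
      rw [hq] at h
      norm_num [Fin.prod_univ_succ, Nat.card_eq_fintype_card] at h ⊢
      omega
    have : IsSimpleGroup (Matrix.ProjectiveSpecialLinearGroup (Fin (2 + 1)) F) :=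
      CfsgLib.Classical.isSimpleGroup_psl (by simp)
    have hinj : Function.Injective
        (MulAction.toPermHom (Matrix.ProjectiveSpecialLinearGroup (Fin (2 + 1)) F)
          (Matrix.ProjectiveSpecialLinearGroup (Fin (2 + 1)) F ⧸ H)) := by
      rw [← MonoidHom.ker_eq_bot_iff, ← Subgroup.normalCore_eq_ker]
      exact (Subgroup.normalCore_normal H).eq_bot_or_eq_top.resolve_right fun e =>
        hH (top_le_iff.1 (e ▸ Subgroup.normalCore_le H))
    have hdvd := Subgroup.card_dvd_of_injective _ hinj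
    rw [Nat.card_perm, hcard, ← Subgroup.index_eq_card] at hdvd
    interval_cases h : H.index <;> norm_num [Nat.factorial] at hdvd
  set K := H.comap (QuotientGroup.mk' (Subgroup.center SL(m + 1, F))) with hK
  have hKi : K.index = H.index := H.index_comap_of_surjective (QuotientGroup.mk'_surjective _)
  have := Fintype.ofFinite (SL(m + 1, F) ⧸ K)
  have hc : Fintype.card (SL(m + 1, F) ⧸ K) = H.index := by
    rw [← Nat.card_eq_fintype_card, ← Subgroup.index_eq_card, hKi]
  rw [← hc]
  exact card_perm (by omega) (fun h => hexc ⟨by omega, h.2⟩) h22 _ (by omega)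

theorem psl_min_index_attained {n : ℕ} (hn : 3 ≤ n) :
    ∃ H : Subgroup (Matrix.ProjectiveSpecialLinearGroup (Fin n) F),
      H.index = bigT (Fintype.card F) (n - 1) + 1 := by
  classical
  have hne : Nonempty (Fin n) := ⟨⟨0, by omega⟩⟩
  have hcard : Nat.card (Projectivization F (Fin n → F)) = bigT (Fintype.card F) (n - 1) + 1 := by
    rw [Projectivization.card_of_finrank F (Fin n → F) (finrank_fin_fun F), Nat.card_eq_fintype_card,
      bigT]
    conv_lhs => rw [show n = n - 1 + 1 by omega, Finset.sum_range_succ']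
    rw [pow_zero]
  have h3 : 3 ≤ Nat.card (Projectivization F (Fin n → F)) := by
    rw [hcard]
    obtain ⟨l, hl⟩ : ∃ l, n - 1 = l + 1 + 1 := ⟨n - 3, by omega⟩
    have : 2 ≤ Fintype.card F := Fintype.one_lt_card
    rw [hl, bigT_succ]
    have := Nat.le_self_pow (show l + 1 + 1 ≠ 0 by omega) (Fintype.card F)
    omega
  obtain ⟨p⟩ : Nonempty (Projectivization F (Fin n → F)) :=
    (Nat.card_pos_iff.1 (show 0 < Nat.card (Projectivization F (Fin n → F)) by omega)).1
  refine ⟨(MulAction.stabilizer SL(n, F) p).map (QuotientGroup.mk' _), ?_⟩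
  have htr : MulAction.IsPretransitive SL(n, F) (Projectivization F (Fin n → F)) :=
    MulAction.isPretransitive_of_is_two_pretransitive
  rw [Subgroup.index_map_eq _ (QuotientGroup.mk'_surjective _)
    (by rw [QuotientGroup.ker_mk']; exact center_le_stabilizer h3 p),
    MulAction.index_stabilizer_of_transitive _ p, hcard]

end CfsgLib.Classical.SLMinDeg
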