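import Cfsg.Agent.Lib.Classical.SLMinDegFree
import Cfsg.Agent.Lib.Classical.SLOrder
import Cfsg.Agent.Lib.Char.FS

/-!
# Small permutation representations of `SL_n(q)`
-/

set_option autoImplicit false

namespace CfsgLib.Classical.SLMinDeg

open Module Matrix CfsgLib.MaxSub
open scoped MatrixGroups

section perm

variable {G : Type*} [Group G] (X : Type*) [MulAction G X] [Fintype X]

/-- The functions of total zero. -/
def zeroSum : Submodule ℂ (X → ℂ) where
  carrier := {f | ∑ x, f x = 0}
  add_mem' := fun {a b} (ha : ∑ x, a x = 0) (hb : ∑ x, b x = 0) => by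
    change ∑ x, (a x + b x) = 0
    rw [Finset.sum_add_distrib, ha, hb, add_zero]
  zero_mem' := by simp
  smul_mem' := fun c f (hf : ∑ x, f x = 0) => by
    change ∑ x, c * f x = 0
    rw [← Finset.mul_sum, hf, mul_zero]

/-- Translation of functions. -/
def fnRep : Representation ℂ G (X → ℂ) where
  toFun g := LinearMap.funLeft ℂ ℂ (fun x => g⁻¹ • x)
  map_one' := by ext f x; simp [LinearMap.funLeft_apply]
  map_mul' g h := by ext f x; simp [LinearMap.funLeft_apply, mul_smul]

theorem fnRep_mem (g : G) (f : X → ℂ) (hf : f ∈ zeroSum X) : fnRep X g f ∈ zeroSum X := by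
  change ∑ x, f (g⁻¹ • x) = 0
  rw [← (hf : ∑ x, f x = 0)]
  exact Equiv.sum_comp (MulAction.toPerm g⁻¹) f

/-- The augmentation representation. -/
def augRep : Representation ℂ G (zeroSum X) := restr (fnRep X) (zeroSum X) (fnRep_mem X)

variable {X}

theorem augRep_apply (g : G) (f : zeroSum X) (x : X) :
    ((augRep X g f : zeroSum X) : X → ℂ) x = (f : X → ℂ) (g⁻¹ • x) := rfl

omit [MulAction G X] in
theorem finrank_zeroSum [Nonempty X] : finrank ℂ (zeroSum X) + 1 = Fintype.card X := by
  classical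
  let s : (X → ℂ) →ₗ[ℂ] ℂ :=
    { toFun := fun f => ∑ x, f x
      map_add' := fun a b => Finset.sum_add_distrib
      map_smul' := fun c a => (Finset.mul_sum ..).symm }
  have hs : LinearMap.range s = ⊤ := LinearMap.range_eq_top.2 fun c =>
    ⟨Pi.single (Classical.arbitrary X) c, by simp [s]⟩
  have hk : LinearMap.ker s = zeroSum X := rfl
  have h := LinearMap.finrank_range_add_finrank_ker s
  rw [hs, hk, finrank_top, finrank_self, finrank_fintype_fun_eq_card] at h
  omega

omit [MulAction G X] in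
theorem nontrivial_zeroSum (h : 2 ≤ Fintype.card X) : Nontrivial (zeroSum X) := by
  have : Nonempty X := Fintype.card_pos_iff.1 (by omega)
  have := finrank_zeroSum (X := X)
  exact nontrivial_of_finrank_pos (R := ℂ) (by omega)

theorem augRep_nofix [MulAction.IsPretransitive G X] (f : zeroSum X)
    (hf : ∀ g : G, augRep X g f = f) : f = 0 := by
  refine Subtype.ext (funext fun x => ?_)
  have hc : ∀ y, (f : X → ℂ) y = (f : X → ℂ) x := fun y => by
    obtain ⟨g, rfl⟩ := MulAction.exists_smul_eq G y x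
    have := congrArg (fun v : zeroSum X => (v : X → ℂ) (g • y)) (hf g)
    simpa [augRep_apply] using this
  have h := f.2
  change ∑ y, (f : X → ℂ) y = 0 at h
  rw [Finset.sum_congr rfl fun y _ => hc y, Finset.sum_const, Finset.card_univ, nsmul_eq_mul,
    mul_eq_zero] at h
  exact h.resolve_left (Nat.cast_ne_zero.2 (Fintype.card_pos_iff.2 ⟨x⟩).ne')

theorem char_augRep [Nonempty X] (g : G) :
    (augRep X).character g + 1 = (Nat.card (MulAction.fixedBy X g) : ℂ) := by
  classical
  let u : X → ℂ := fun _ => 1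
  let s : (X → ℂ) →ₗ[ℂ] ℂ :=
    { toFun := fun f => ∑ x, f x
      map_add' := fun a b => Finset.sum_add_distrib
      map_smul' := fun c a => (Finset.mul_sum ..).symm }
  have hN : (Fintype.card X : ℂ) ≠ 0 := Nat.cast_ne_zero.mpr Fintype.card_ne_zero
  let P : (X → ℂ) →ₗ[ℂ] (X → ℂ) :=
    LinearMap.id - (Fintype.card X : ℂ)⁻¹ • (LinearMap.smulRight s u)
  have hP : ∀ f, P f ∈ zeroSum X := fun f => by
    change ∑ x, P f x = 0
    simp [P, u, s, Finset.sum_sub_distrib]
  have hPid : ∀ f ∈ zeroSum X, P f = f := fun f (hf : ∑ x, f x = 0) => by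
    simp [P, s, hf]
  let Pc : (X → ℂ) →ₗ[ℂ] zeroSum X := P.codRestrict _ hP
  have e1 : augRep X g = Pc ∘ₗ (fnRep X g ∘ₗ (zeroSum X).subtype) := by
    ext f : 2
    exact (hPid _ (fnRep_mem X g f f.2)).symm
  rw [Representation.character, e1, LinearMap.trace_comp_comm',
    LinearMap.comp_assoc, LinearMap.subtype_comp_codRestrict]
  have e2 : fnRep X g ∘ₗ P = fnRep X g - (Fintype.card X : ℂ)⁻¹ • LinearMap.smulRight s u := by
    ext f : 1
    simp [P, fnRep, u]
    rfl
  rw [e2, map_sub, map_smul, LinearMap.trace_smulRight,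
    LinearMap.trace_eq_matrix_trace ℂ (Pi.basisFun ℂ X) (fnRep X g)]
  have hsu : s u = (Fintype.card X : ℂ) := by simp [s, u]
  rw [hsu, smul_eq_mul, inv_mul_cancel₀ hN, sub_add_cancel, Matrix.trace, Nat.card_eq_fintype_card,
    Fintype.card_subtype, Finset.card_filter, Nat.cast_sum]
  refine Finset.sum_congr rfl fun x _ => ?_
  simp [fnRep, LinearMap.funLeft_apply, Pi.single_apply, MulAction.mem_fixedBy, eq_comm]
  exact if_congr (eq_comm.trans (eq_inv_smul_iff.symm.trans Iff.rfl)) rfl rfl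

end perm

variable {F : Type*} [Field F] [Fintype F]

theorem small_perm {m : ℕ} (hm : 2 ≤ m) (X : Type*) [MulAction (SpecialLinearGroup (Fin (m + 1)) F) X]
    [Fintype X] [MulAction.IsPretransitive (SpecialLinearGroup (Fin (m + 1)) F) X]
    (hX : 2 ≤ Fintype.card X) :
    bigT (Fintype.card F) m + 1 ≤ Fintype.card X ∨
      (Small (Fintype.card F) m (Fintype.card X - 1) ∧
        ∀ g : SpecialLinearGroup (Fin (m + 1)) F,
          (∃ a φ : Fin (m + 1) → F, a ≠ 0 ∧ φ ≠ 0 ∧ φ ⬝ᵥ a = 0 ∧ g.1 = tvMat a φ) →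
          (Nat.card (MulAction.fixedBy X g) : ℂ) =
            ((Fintype.card X - 1 : ℕ) : ℂ) - ((Fintype.card F ^ m - 1 : ℕ) : ℂ)) := by
  classical
  have := nontrivial_zeroSum hX
  have : Nonempty X := Fintype.card_pos_iff.1 (by omega)
  have e := finrank_zeroSum (X := X)
  rcases min_degree hm (augRep (G := SpecialLinearGroup (Fin (m + 1)) F) X)
    augRep_nofix with h | ⟨hG, hs, -⟩
  · left; omega
  right
  have e' : finrank ℂ (zeroSum X) = Fintype.card X - 1 := by omega
  rw [e'] at hs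
  refine ⟨hs, fun g ⟨a, φ, h1, h2, h3, h4⟩ => ?_⟩
  have hx : (fun _ => 1 : Fin m → F) ≠ 0 := fun e =>
    one_ne_zero (congrFun e (⟨0, by omega⟩ : Fin m))
  obtain ⟨c, hc⟩ := isConj_iff.1 (isConj_row hm h1 h2 h3 h4 hx)
  obtain ⟨hD, hval⟩ := hG.dim hm
  rw [← char_augRep g, ← hc, Representation.char_conj, hval _ hx, ← e', hD]
  push_cast
  ring

end CfsgLib.Classical.SLMinDeg
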