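import Cfsg.Agent.Lib.Classical.SLMinDegEigen
import Cfsg.Agent.Lib.Classical.SLMinDegGroup
import Cfsg.Agent.Lib.Char.Basic

/-!
# Representations of `SL_{m+1}(q)` on which the row group has multiplicity-free non-trivial part
-/

set_option autoImplicit false

namespace CfsgLib.Classical.SLMinDeg

open Module Matrix CfsgLib.MaxSub
open scoped MatrixGroups

/-- The restriction of a representation to an invariant subspace. -/
def restr {H : Type*} [Group H] {V : Type*} [AddCommGroup V] [Module ℂ V]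
    (ρ : Representation ℂ H V) (W : Submodule ℂ V) (h : ∀ g, ∀ v ∈ W, ρ g v ∈ W) :
    Representation ℂ H W :=
  ρ.subrepresentation W (fun g v hv => h g v hv)

theorem coe_restr {H : Type*} [Group H] {V : Type*} [AddCommGroup V] [Module ℂ V]
    (ρ : Representation ℂ H V) (W : Submodule ℂ V) (h : ∀ g, ∀ v ∈ W, ρ g v ∈ W) (g : H) (w : W) :
    ((restr ρ W h g w : W) : V) = ρ g w := rfl

/-- The sum `q + q² + ⋯ + qᵐ`. -/
def bigT (q m : ℕ) : ℕ := ∑ i ∈ Finset.range m, q ^ (i + 1)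

theorem bigT_succ (q m : ℕ) : bigT q (m + 1) = bigT q m + q ^ (m + 1) := Finset.sum_range_succ ..

theorem bigT_eq {q : ℕ} (hq : 2 ≤ q) (m : ℕ) : bigT q m = (q ^ (m + 1) - q) / (q - 1) := by
  refine (Nat.div_eq_of_eq_mul_left (by omega) ?_).symm
  suffices bigT q m * (q - 1) + q = q ^ (m + 1) by omega
  induction m with
  | zero => simp [bigT]
  | succ k ih =>
    have e : q ^ (k + 1 + 1) = q ^ (k + 1) * (q - 1) + q ^ (k + 1) := by
      rw [pow_succ _ (k + 1), ← mul_add_one, show q - 1 + 1 = q by omega]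
    rw [bigT_succ, add_mul, e]; omega

theorem bigT_add_two_le {q : ℕ} (hq : 2 ≤ q) (m : ℕ) : bigT q m + 2 ≤ 2 * q ^ m := by
  induction m with
  | zero => simp [bigT]
  | succ k ih =>
    have h2 : 2 * q ^ k ≤ q ^ (k + 1) := by rw [pow_succ']; exact Nat.mul_le_mul_right _ hq
    rw [bigT_succ]; omega

variable {F : Type*} [Field F] [Fintype F] {m : ℕ}
variable {V : Type*} [AddCommGroup V] [Module ℂ V]

omit [Field F] in
theorem card_X : Fintype.card (Fin m → F) = Fintype.card F ^ m := by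
  rw [Fintype.card_fun, Fintype.card_fin]

section
variable (ρ : Representation ℂ (SpecialLinearGroup (Fin (m + 1)) F) V)

omit [Fintype F] in
/-- If the row group acts trivially then so does everything. -/
theorem trivial_of_row (hm : 1 ≤ m) (h : ∀ x v, ρ (row x) v = v) (g) (v : V) : ρ g v = v := by
  have e : MonoidHom.ker ρ = ⊤ := eq_top_of_row hm _ fun x =>
    MonoidHom.mem_ker.2 (LinearMap.ext fun v => by rw [h x v]; rfl)
  have hg : g ∈ MonoidHom.ker ρ := e ▸ Subgroup.mem_top g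
  rw [MonoidHom.mem_ker.1 hg]; rfl

/-- The multiplicity-free situation. -/
structure Good : Prop where
  nofix : ∀ v : V, (∀ g, ρ g v = v) → v = 0
  one : ∀ χ : AddChar (Fin m → F) ℂ, χ ≠ 1 → eigDim ρ row χ = 1

variable [FiniteDimensional ℂ V]

omit [Fintype F] [FiniteDimensional ℂ V] in
theorem char_row (hm : 2 ≤ m) {x y : Fin m → F} (hx : x ≠ 0) (hy : y ≠ 0) :
    ρ.character (row x) = ρ.character (row y) := by
  obtain ⟨c, hc⟩ := isConj_iff.1 (isConj_row_row hm hx hy)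
  rw [← hc, Representation.char_conj]

/-- The common dimension of the non-trivial eigenspaces. -/
theorem exists_dim (hm : 2 ≤ m) :
    ∃ b : ℕ, (∀ χ : AddChar (Fin m → F) ℂ, χ ≠ 1 → eigDim ρ row χ = b) ∧
      finrank ℂ V = eigDim ρ row 1 + b * (Fintype.card F ^ m - 1) ∧
      ∀ x : Fin m → F, x ≠ 0 → ρ.character (row x) = (eigDim ρ row 1 : ℂ) - b := by
  have : Nonempty (Fin m) := ⟨⟨0, by omega⟩⟩
  have hX : Nontrivial (Fin m → F) := Function.nontrivial
  obtain ⟨x₀, hx₀⟩ := exists_ne (0 : Fin m → F)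
  obtain ⟨b, h1, h2, h3⟩ := exists_common_dim ρ row
    (fun x hx => char_row ρ hm hx hx₀) hX
  refine ⟨b, h1, by rwa [card_X] at h2, fun x hx => ?_⟩
  rw [char_row ρ hm hx hx₀, h3]

variable {ρ}

theorem Good.dim (hρ : Good ρ) (hm : 2 ≤ m) :
    finrank ℂ V = eigDim ρ row 1 + (Fintype.card F ^ m - 1) ∧
      ∀ x : Fin m → F, x ≠ 0 → ρ.character (row x) = (eigDim ρ row 1 : ℂ) - 1 := by
  obtain ⟨b, h1, h2, h3⟩ := exists_dim ρ hm
  have : Nonempty (Fin m) := ⟨⟨0, by omega⟩⟩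
  obtain ⟨χ, hχ⟩ : ∃ χ : AddChar (Fin m → F) ℂ, χ ≠ 1 := by
    obtain ⟨x, hx⟩ := exists_ne (0 : Fin m → F)
    obtain ⟨χ, hχ⟩ := AddChar.exists_apply_ne_zero.2 hx
    exact ⟨χ, fun e => hχ (by simp [e])⟩
  have hb : b = 1 := (h1 χ hχ).symm.trans (hρ.one χ hχ)
  subst hb
  exact ⟨by rwa [one_mul] at h2, fun x hx => by rw [h3 x hx, Nat.cast_one]⟩

omit [Fintype F] [FiniteDimensional ℂ V] in
/-- A line is spanned by any non-zero vector. -/
theorem Good.exists_smul (hρ : Good ρ) {χ : AddChar (Fin m → F) ℂ} (hχ : χ ≠ 1) {v w : V}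
    (hv : v ∈ eigen ρ row χ) (hv0 : v ≠ 0) (hw : w ∈ eigen ρ row χ) : ∃ c : ℂ, c • v = w := by
  obtain ⟨c, hc⟩ := exists_smul_eq_of_finrank_eq_one (hρ.one χ hχ)
    (x := ⟨v, hv⟩) (fun e => hv0 (congrArg Subtype.val e)) ⟨w, hw⟩
  exact ⟨c, congrArg Subtype.val hc⟩

omit [Fintype F] [FiniteDimensional ℂ V] in
theorem Good.exists_ne_zero (hρ : Good ρ) {χ : AddChar (Fin m → F) ℂ} (hχ : χ ≠ 1) :
    ∃ v ∈ eigen ρ row χ, v ≠ 0 := by
  refine (Submodule.ne_bot_iff _).1 fun e => ?_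
  have := hρ.one χ hχ
  rw [eigDim, e, finrank_bot] at this
  omega

variable (ρ)

/-- Either large degree or multiplicity-freeness. -/
theorem good_or_big (hm : 2 ≤ m) (hfix : ∀ v : V, (∀ g, ρ g v = v) → v = 0) (hV : Nontrivial V) :
    bigT (Fintype.card F) m ≤ finrank ℂ V ∨ Good ρ := by
  obtain ⟨b, h1, h2, -⟩ := exists_dim ρ hm
  rcases Nat.lt_or_ge b 2 with hb | hb
  · right
    refine ⟨hfix, fun χ hχ => (h1 χ hχ).trans ?_⟩
    rcases (show b = 0 ∨ b = 1 by omega) with rfl | rfl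
    · exfalso
      obtain ⟨v, hv⟩ := exists_ne (0 : V)
      refine hv (hfix v fun g => trivial_of_row ρ (by omega) (fun x w => ?_) g v)
      refine (mem_eigen_one ρ row).1 (mem_eigen_one_of_proj ρ row fun χ hχ => ?_) x
      have hbot : eigen ρ row χ = ⊥ := Submodule.finrank_eq_zero.1 (h1 χ hχ)
      simpa [hbot] using proj_mem ρ row χ w
    · rfl
  · left
    have h3 := bigT_add_two_le (q := Fintype.card F) Fintype.one_lt_card m
    have h4 : 2 * (Fintype.card F ^ m - 1) ≤ b * (Fintype.card F ^ m - 1) :=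
      Nat.mul_le_mul_right _ hb
    omega

variable {ρ}

omit [FiniteDimensional ℂ V] [Fintype F] in
/-- The images of the non-trivial row elements under `theta` are transvections. -/
theorem isConj_theta_row (hm : 2 ≤ m) {x y : Fin m → F} (hx : x ≠ 0) (hy : y ≠ 0) :
    IsConj (row y) (theta (row x)) := by
  have e1 : IsConj (theta (row (Pi.single (⟨0, by omega⟩ : Fin m) (1 : F)))) (theta (row x)) :=
    theta.map_isConj (isConj_row_row hm (by simp) hx)
  refine IsConj.trans ?_ e1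
  rw [row_single, theta_tt]
  have hne : (⟨0, by omega⟩ : Fin m).succ.rev ≠ (0 : Fin (m + 1)).rev :=
    fun e => Fin.succ_ne_zero _ (Fin.rev_inj.1 e)
  refine isConj_row hm (a := Pi.single _ (-1)) (φ := Pi.single _ 1) (by simp) (by simp) ?_
    (coe_tt hne _) hy
  rw [dotProduct_single, Pi.single_eq_of_ne hne, zero_mul]

/-- The twist by `theta` has the same eigenspace dimensions. -/
theorem Good.twist (hρ : Good ρ) (hm : 2 ≤ m) :
    Good (ρ.comp theta) ∧ eigDim (ρ.comp theta : Representation ℂ _ V) row 1 = eigDim ρ row 1 := by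
  set σ : Representation ℂ (SpecialLinearGroup (Fin (m + 1)) F) V := ρ.comp theta with hσ
  have hs : ∀ x : Fin m → F, x ≠ 0 → σ.character (row x) = (eigDim ρ row 1 : ℂ) - 1 := by
    intro x hx
    obtain ⟨c, hc⟩ := isConj_iff.1 (isConj_theta_row hm hx hx)
    change ρ.character (theta (row x)) = _
    rw [← hc, Representation.char_conj]
    exact (hρ.dim hm).2 x hx
  obtain ⟨h1, h2⟩ := eigDim_const σ row hs
  obtain ⟨g1, g2⟩ := eigDim_const ρ row (hρ.dim hm).2
  have hX : (Fintype.card (Fin m → F) : ℂ) ≠ 0 := Nat.cast_ne_zero.mpr Fintype.card_ne_zero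
  refine ⟨⟨fun v hv => hρ.nofix v fun g => ?_, fun χ hχ => ?_⟩, ?_⟩
  · have := hv (theta g)
    change ρ (theta (theta g)) v = v at this
    rwa [theta_theta] at this
  · have e : eigDim σ row χ = eigDim ρ row χ := by
      exact_mod_cast mul_left_cancel₀ hX ((h2 χ hχ).trans (g2 χ hχ).symm)
    rw [e, hρ.one χ hχ]
  · exact_mod_cast mul_left_cancel₀ hX (h1.trans g1.symm)

theorem Good.isIrreducible (hρ : Good ρ) (hm : 2 ≤ m) : ρ.IsIrreducible := by
  have : Nonempty (Fin m) := ⟨⟨0, by omega⟩⟩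
  obtain ⟨χ, hχ⟩ : ∃ χ : AddChar (Fin m → F) ℂ, χ ≠ 1 := by
    obtain ⟨x, hx⟩ := exists_ne (0 : Fin m → F)
    obtain ⟨χ, hχ⟩ := AddChar.exists_apply_ne_zero.2 hx
    exact ⟨χ, fun e => hχ (by simp [e])⟩
  have key : ∀ U : Subrepresentation ρ, U.toSubmodule ≠ ⊥ →
      ∃ v ∈ U.toSubmodule, v ≠ 0 ∧ v ∈ eigen ρ row χ := by
    intro U hU
    have hinv : ∀ g, ∀ v ∈ U.toSubmodule, ρ g v ∈ U.toSubmodule := fun g v hv =>
      U.apply_mem_toSubmodule g hv
    obtain ⟨b, h1, -, -⟩ := exists_dim (restr ρ U.toSubmodule hinv) hm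
    rcases Nat.eq_zero_or_pos b with rfl | hb
    · obtain ⟨v, hv, hv0⟩ := (Submodule.ne_bot_iff _).1 hU
      refine absurd (hρ.nofix v fun g => ?_) hv0
      have := trivial_of_row (restr ρ U.toSubmodule hinv) (by omega) (fun x w => ?_) g ⟨v, hv⟩
      · exact congrArg Subtype.val this
      refine (mem_eigen_one (restr ρ U.toSubmodule hinv) row).1
        (mem_eigen_one_of_proj (restr ρ U.toSubmodule hinv) row fun ψ hψ => ?_) x
      have hbot : eigen (restr ρ U.toSubmodule hinv) row ψ = ⊥ :=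
        Submodule.finrank_eq_zero.1 (h1 ψ hψ)
      simpa [hbot] using proj_mem (restr ρ U.toSubmodule hinv) row ψ w
    · have hne : eigen (restr ρ U.toSubmodule hinv) row χ ≠ ⊥ := fun e => by
        have h := h1 χ hχ
        rw [eigDim, e, finrank_bot] at h
        omega
      obtain ⟨w, hw, hw0⟩ := (Submodule.ne_bot_iff _).1 hne
      exact ⟨w, w.2, fun e => hw0 (Subtype.ext e), fun x => congrArg Subtype.val (hw x)⟩
  have hV : (⊥ : Subrepresentation ρ) ≠ ⊤ := fun e => by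
    obtain ⟨v, -, hv0⟩ := hρ.exists_ne_zero hχ
    have : v ∈ (⊥ : Subrepresentation ρ) := e ▸ trivial
    exact hv0 this
  have : Nontrivial (Subrepresentation ρ) := ⟨⟨⊥, ⊤, hV⟩⟩
  refine IsSimpleOrder.mk fun U => ?_
  by_contra hU
  push Not at hU
  obtain ⟨U', hU'⟩ := exists_isCompl U
  have h0 : U'.toSubmodule ≠ ⊥ := fun e => hU.2 (by
    have e' : U' = ⊥ := Subrepresentation.toSubmodule_injective e
    rw [e'] at hU'; exact eq_top_of_isCompl_bot hU')
  obtain ⟨v, hv, hv0, hve⟩ := key U (fun e => hU.1 (Subrepresentation.toSubmodule_injective e))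
  obtain ⟨w, hw, hw0, hwe⟩ := key U' h0
  obtain ⟨c, hc⟩ := hρ.exists_smul hχ hve hv0 hwe
  have hmem : w ∈ (U ⊓ U' : Subrepresentation ρ) := ⟨hc ▸ U.toSubmodule.smul_mem c hv, hw⟩
  rw [hU'.disjoint.eq_bot] at hmem
  exact hw0 hmem

end

end CfsgLib.Classical.SLMinDeg
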