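import Cfsg.Agent.Lib.Classical.SLTwoSylowTwo
import Cfsg.Agent.Lib.Classical.SLTwoCent
import Cfsg.Agent.Lib.StructC.UniqueInvol

/-!
# Sylow 2-subgroups of subgroups of `SL(2, F)` containing some `SL(2, p)`
-/

set_option autoImplicit false

namespace CfsgLib.Classical

open Matrix
open scoped MatrixGroups

variable {F : Type*} [Field F]

theorem eq_neg_one_of_orderOf_two (h2 : (2 : F) ≠ 0) {g : SL(2, F)} (hg : orderOf g = 2) : g.1 = -1 := by
  have h := pow_orderOf_eq_one g
  rw [hg, pow_two] at h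
  have hne : g ≠ 1 := fun e => by simp [e] at hg
  have hinv : g⁻¹ = g := inv_eq_of_mul_eq_one_right h
  obtain ⟨i00, i01, i10, i11⟩ := slTwo_inv_apply g
  rw [hinv] at i00 i01 i10
  have hs : IsScalarSL g :=
    ⟨(mul_eq_zero.1 (show (2 : F) * g.1 0 1 = 0 by linear_combination i01)).resolve_left h2,
      (mul_eq_zero.1 (show (2 : F) * g.1 1 0 = 0 by linear_combination i10)).resolve_left h2, i00⟩
  exact (isScalarSL_cases hs).resolve_left fun e => hne (Subtype.ext e)

theorem quaternion_sylow_of_contains_sl_two [Finite F] {p : ℕ} [Fact p.Prime] (hp : p ≠ 2)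
    (h2 : (2 : F) ≠ 0) (H K : Subgroup SL(2, F)) (hKH : K ≤ H) (e : K ≃* SL(2, ZMod p)) (S : Sylow 2 H) :
    ∃ k : ℕ, 1 ≤ k ∧ Nonempty ((S : Subgroup H) ≃* QuaternionGroup (2 ^ k)) := by
  refine (CfsgLib.StructC.isCyclic_or_quaternion S.isPGroup' fun a b ha hb _ => ?_).resolve_left fun hcyc => ?_
  · have hinj : ∀ x : (S : Subgroup H), orderOf ((x : H) : SL(2, F)) = orderOf x := fun x => by
      rw [Subgroup.orderOf_coe, Subgroup.orderOf_coe]
    have hab : a = b := Subtype.ext (Subtype.ext (Subtype.ext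
      ((eq_neg_one_of_orderOf_two h2 ((hinj a).trans ha)).trans
        (eq_neg_one_of_orderOf_two h2 ((hinj b).trans hb)).symm)))
    rw [hab]
    exact Subgroup.mem_zpowers b
  · have : Fact (Nat.Prime 2) := ⟨Nat.prime_two⟩
    have hodd : Odd (Fintype.card (ZMod p)) := by
      rw [ZMod.card]; exact (Fact.out : p.Prime).odd_of_ne_two hp
    obtain ⟨k, hk1, -, hQ⟩ := sylow_two_sl_two (F := ZMod p) hodd
    obtain ⟨T⟩ := (inferInstance : Nonempty (Sylow 2 SL(2, ZMod p)))
    obtain ⟨eT⟩ := hQ T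
    let ι : SL(2, ZMod p) →* H := (Subgroup.inclusion hKH).comp e.symm.toMonoidHom
    have hι : Function.Injective ι := (Subgroup.inclusion_injective hKH).comp e.symm.injective
    obtain ⟨S', hS'⟩ := (T.isPGroup'.map ι).exists_le_sylow
    have hS'c : IsCyclic (S' : Subgroup H) := isCyclic_of_surjective (S.equiv S') (S.equiv S').surjective
    let j : QuaternionGroup (2 ^ k) →* (S' : Subgroup H) :=
      (Subgroup.inclusion hS').comp (((T : Subgroup SL(2, ZMod p)).equivMapOfInjective ι hι).toMonoidHom.comp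
        eT.symm.toMonoidHom)
    have hj : Function.Injective j :=
      (Subgroup.inclusion_injective hS').comp
        (((T : Subgroup SL(2, ZMod p)).equivMapOfInjective ι hι).injective.comp eT.symm.injective)
    obtain ⟨g, hg⟩ := hS'c.exists_zpow_surjective
    have hcomm : ∀ x y : QuaternionGroup (2 ^ k), x * y = y * x := fun x y => hj (by
      obtain ⟨i, hi⟩ := hg (j x)
      obtain ⟨l, hl⟩ := hg (j y)
      rw [map_mul, map_mul, ← hi, ← hl]
      group)
    have h := hcomm (QuaternionGroup.a 1) (QuaternionGroup.xa 0)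
    simp only [QuaternionGroup.a_mul_xa, QuaternionGroup.xa_mul_a, QuaternionGroup.xa.injEq] at h
    have h2' : ((2 : ℕ) : ZMod (2 * 2 ^ k)) = 0 := by
      push_cast
      linear_combination -h
    rw [ZMod.natCast_eq_zero_iff] at h2'
    have hle := Nat.le_of_dvd two_pos h2'
    have : 2 ^ 1 ≤ 2 ^ k := Nat.pow_le_pow_right two_pos hk1
    omega

end CfsgLib.Classical
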