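import Mathlib
import Cfsg.Agent.Lib.Classical.SLTwoTori

/-!
Sylow subgroups of `SL_2(q)` for odd primes other than the characteristic are cyclic.
-/

set_option autoImplicit false

namespace CfsgLib.Classical

open Matrix
open scoped MatrixGroups

theorem isCyclic_sylow_of_le_cyclic {G : Type*} [Group G] [Finite G] {r : ℕ} [Fact r.Prime]
    (C : Subgroup G) [IsCyclic C]
    (h : (Nat.card C).factorization r = (Nat.card G).factorization r) (P : Sylow r G) :
    IsCyclic (P : Subgroup G) := by
  obtain ⟨Q, hQ⟩ : ∃ Q : Sylow r C, True := ⟨default, trivial⟩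
  let S : Subgroup G := (Q : Subgroup C).map C.subtype
  have hS : Nat.card S = r ^ (Nat.card G).factorization r := by
    rw [← h, ← Q.card_eq_multiplicity]
    exact (Nat.card_congr ((Q : Subgroup C).equivMapOfInjective _ C.subtype_injective).toEquiv).symm
  have hScyc : IsCyclic S :=
    isCyclic_of_surjective ((Q : Subgroup C).equivMapOfInjective C.subtype C.subtype_injective)
      (MulEquiv.surjective _)
  have e := Sylow.equiv (Sylow.ofCard S hS) P
  have : IsCyclic ((Sylow.ofCard S hS : Sylow r G) : Subgroup G) := by rw [Sylow.coe_ofCard]; exact hScyc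
  exact isCyclic_of_surjective e e.surjective

variable {F : Type*} [Field F] [Fintype F]

theorem isCyclic_sylow_sl_two_odd (p : ℕ) [Fact p.Prime] [CharP F p] (r : ℕ) [Fact r.Prime]
    (hr : r ≠ 2) (hrp : r ≠ p) (R : Sylow r SL(2, F)) : IsCyclic (R : Subgroup SL(2, F)) := by
  obtain ⟨a, b, hab⟩ := exists_anisotropic_binary (F := F)
  obtain ⟨f, hp, hf⟩ := FiniteField.card F p
  have hq : 1 < Fintype.card F := Fintype.one_lt_card
  have hr' := (Fact.out : r.Prime)
  have h0 : (Fintype.card F).factorization r = 0 := Nat.factorization_eq_zero_of_not_dvd fun h => by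
    rw [hf] at h
    exact hrp ((Nat.prime_dvd_prime_iff_eq hr' hp).1 (hr'.dvd_of_dvd_pow h))
  have hsum : (Nat.card SL(2, F)).factorization r =
      (Fintype.card F - 1).factorization r + (Fintype.card F + 1).factorization r := by
    rw [card_sl_two_eq, show Fintype.card F ^ 2 - 1 = (Fintype.card F + 1) * (Fintype.card F - 1) by
      simpa [sq] using Nat.sq_sub_sq (Fintype.card F) 1,
      Nat.factorization_mul (by omega) (mul_ne_zero (by omega) (by omega)),
      Nat.factorization_mul (by omega) (by omega)]
    simp [h0, add_comm]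
  by_cases h : r ∣ Fintype.card F - 1
  · have : IsCyclic (splitTorus F).range := isCyclic_splitTorus
    refine isCyclic_sylow_of_le_cyclic (splitTorus F).range ?_ R
    rw [card_splitTorus, hsum, Nat.factorization_eq_zero_of_not_dvd (n := Fintype.card F + 1), add_zero]
    intro h2
    have h3 := Nat.dvd_sub h2 h
    rw [show Fintype.card F + 1 - (Fintype.card F - 1) = 2 by omega] at h3
    exact hr ((Nat.prime_dvd_prime_iff_eq hr' Nat.prime_two).1 h3)
  · have : IsCyclic (nsTorus a b) := isCyclic_nsTorus hab
    refine isCyclic_sylow_of_le_cyclic (nsTorus a b) ?_ R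
    rw [card_nsTorus hab, hsum, Nat.factorization_eq_zero_of_not_dvd h, zero_add]

end CfsgLib.Classical
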