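import Cfsg.Agent.Lib.Classical.SpIdxTransfer

/-!
# The stabiliser of a point of the projective space
-/

set_option autoImplicit false

namespace CfsgLib.Classical.SpIdx

open CfsgLib.Geom Module

/-- The isometry group acting on the points of the projective space. -/
@[instance_reducible]
def pointAction {F V : Type*} [Field F] [AddCommGroup V] [Module F V]
    (B : V →ₗ[F] V →ₗ[F] F) : MulAction (formIsoms B) (Projectivization F V) where
  smul g := Projectivization.map (g.1 : V →ₗ[F] V) g.1.injective
  one_smul p := by
    induction p using Projectivization.ind with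
    | _ v hv => rfl
  mul_smul g h p := by
    induction p using Projectivization.ind with
    | _ v hv => rfl

theorem exists_point_stabilizer {F : Type*} [Field F] [Fintype F] (m : ℕ) (hm : 1 ≤ m) :
    ∃ H : Subgroup (formIsoms (sympBilin m F)),
      H.index = (Fintype.card F ^ (2 * m) - 1) / (Fintype.card F - 1) ∧
      Subgroup.center (formIsoms (sympBilin m F)) ≤ H := by
  classical
  letI := pointAction (sympBilin m F)
  have hd : finrank F (Fin m ⊕ Fin m → F) = 2 * m := by
    rw [Module.finrank_fintype_fun_eq_card, Fintype.card_sum, Fintype.card_fin]; ring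
  have : Nontrivial (Fin m ⊕ Fin m → F) := Module.nontrivial_of_finrank_pos (R := F) (by omega)
  obtain ⟨e, he⟩ := exists_ne (0 : Fin m ⊕ Fin m → F)
  have : MulAction.IsPretransitive (formIsoms (sympBilin m F))
      (Projectivization F (Fin m ⊕ Fin m → F)) := ⟨fun p p' => by
    induction p using Projectivization.ind with
    | _ v hv =>
      induction p' using Projectivization.ind with
      | _ v' hv' =>
        obtain ⟨g, hg⟩ := exists_isom_one sympBilin_self sympBilin_sep hv hv'
        exact ⟨g, (Projectivization.mk_eq_mk_iff' F _ _ _ _).2 ⟨1, by rw [one_smul]; exact hg.symm⟩⟩⟩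
  refine ⟨MulAction.stabilizer _ (Projectivization.mk F e he), ?_, fun z hz => ?_⟩
  · rw [MulAction.index_stabilizer_of_transitive, Projectivization.card_of_finrank F _ hd,
      Nat.card_eq_fintype_card, Nat.geomSum_eq Fintype.one_lt_card]
  · obtain ⟨c, hc⟩ := center_scales sympBilin_self sympBilin_sep hz e
    exact (Projectivization.mk_eq_mk_iff' F _ _ _ _).2 ⟨c, hc.symm⟩

end CfsgLib.Classical.SpIdx
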