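import Cfsg.Agent.Lib.Classical.SpIdxPerp

/-!
# Lower bounds from one family of translates
-/

set_option autoImplicit false

namespace CfsgLib.Classical.SpIdx

open CfsgLib.Geom Module

variable {F V : Type*} [Field F] [AddCommGroup V] [Module F V] [FiniteDimensional F V]
  {B : V →ₗ[F] V →ₗ[F] F} (R : Frame B) {X : Type*} [MulAction (formIsoms B) X]
  (ψ : AddChar F ℂ)

namespace Frame

/-- An action with all transvection groups at `e` trivial is trivial. -/
theorem exists_stA_ne_top [MulAction.IsPretransitive (formIsoms B) X] [Finite X]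
    (hk : 1 < Nat.card X) : ∃ x : X, R.stA x ≠ ⊤ := by
  by_contra h
  push Not at h
  have hall : ∀ (v : V) (y : X), R.Full y v := by
    intro v y
    by_cases hv : v = 0
    · rw [hv]; exact R.full_zero y
    obtain ⟨g, hg⟩ := exists_isom_one R.hA R.hB R.e_ne hv
    have h' := R.full_map (g := g) (R.full_e_iff.2 (h (g⁻¹ • y)))
    rwa [smul_inv_smul, hg] at h'
  have hfix : ∀ (g : formIsoms B) (y : X), g • y = y := by
    intro g
    have hg : g.1 ∈ Subgroup.closure (altTransvectionSet B) := by
      rw [← formIsoms_eq_closure_alt B R.hA R.hB]; exact g.2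
    suffices ∀ t ∈ Subgroup.closure (altTransvectionSet B), ∀ (ht : t ∈ formIsoms B) (y : X),
        (⟨t, ht⟩ : formIsoms B) • y = y from this g.1 hg g.2
    intro t ht
    induction ht using Subgroup.closure_induction with
    | mem t ht =>
      intro ht' y
      obtain ⟨p, c, hpc⟩ := ht
      rw [show (⟨t, ht'⟩ : formIsoms B) = altTv R.hA R.hB p c from
        formIsoms_ext fun x => (hpc x).trans (altTv_apply R.hA R.hB p c x).symm]
      exact hall p y c
    | one => intro h1 y; exact one_smul _ y
    | mul a b ha hb iha ihb =>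
      intro hab y
      have h1 := iha (altTransvectionSet_closure_le B R.hA ha) y
      have h2 := ihb (altTransvectionSet_closure_le B R.hA hb) y
      calc (⟨a * b, hab⟩ : formIsoms B) • y
          = (⟨a, altTransvectionSet_closure_le B R.hA ha⟩ : formIsoms B) •
              (⟨b, altTransvectionSet_closure_le B R.hA hb⟩ : formIsoms B) • y := by
            rw [← mul_smul]; rfl
        _ = y := by rw [h2, h1]
    | inv a ha iha =>
      intro hab y
      have h1 := iha (altTransvectionSet_closure_le B R.hA ha) y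
      conv_lhs => rw [← h1]
      rw [← mul_smul]
      convert one_smul (formIsoms B) y using 2
      exact Subtype.ext (inv_mul_cancel a)
  have : Subsingleton X := ⟨fun a b => by
    obtain ⟨g, rfl⟩ := MulAction.exists_smul_eq (formIsoms B) a b
    exact (hfix g a).symm⟩
  have := Finite.card_le_one_iff_subsingleton.2 this
  omega

variable [Finite F] [Finite X]

/-- The family of translates of one point. -/
theorem fam_bound (hψ : ψ.IsPrimitive) {x : X} (hx : R.stA x ≠ ⊤) (N : ℕ)
    (hN : ∀ g : formIsoms B, ∀ s : F, s ≠ 0 → R.Scales g s → N ≤ (R.famS (g • x)).ncard) :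
    (Prod.snd '' R.fam x).ncard * N * ((R.stA x).index * Nat.card (R.perp ψ (R.stS x))) +
      Nat.card {z : X // R.Full z R.e} ≤ Nat.card X :=
  (Nat.add_le_add_right (Nat.mul_le_mul (R.fam_count x N hN) (R.le_card_label ψ hψ x)) _).trans
    (R.fam_mul_le hx)

omit [Finite X] in
theorem exists_psi : ∃ ψ : AddChar F ℂ, ψ.IsPrimitive := by
  obtain ⟨φ, hφ⟩ := AddChar.exists_apply_ne_zero.2 (one_ne_zero (α := F))
  exact ⟨φ, AddChar.IsPrimitive.of_ne_one fun e => hφ (by simp [e])⟩

omit [Finite X] in
theorem perp_ne_bot (hψ : ψ.IsPrimitive) {S : AddSubgroup R.W} (hS : S ≠ ⊤) : R.perp ψ S ≠ ⊥ := by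
  intro h
  have : Finite V := Module.finite_of_finite F
  refine hS ((AddSubgroup.card_eq_iff_eq_top S).1 ?_)
  have h1 := R.card_perp ψ hψ S
  rwa [h, AddSubgroup.card_bot, one_mul] at h1

theorem famS_pos (x : X) : 1 ≤ (R.famS x).ncard := by
  have : Finite V := Module.finite_of_finite F
  exact (Set.ncard_pos (Set.toFinite _)).2
    ⟨R.stS x, 1, ⟨by simp, by simp⟩, by rw [one_smul]⟩

theorem perp_ne_bot_smul (hψ : ψ.IsPrimitive) {g : formIsoms B} {s : F} (hs : s ≠ 0)
    (hg : R.Scales g s) {x : X} (h : R.perp ψ (R.stS x) ≠ ⊥) : R.perp ψ (R.stS (g • x)) ≠ ⊥ := by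
  intro e
  have h1 := R.card_perp_smul ψ hψ hs hg x
  rw [e, AddSubgroup.card_bot, eq_comm, AddSubgroup.card_eq_one] at h1
  exact h h1

/-- Some translates cover the complement. -/
theorem card_le_famS_mul (hψ : ψ.IsPrimitive) {x : X} (hS : R.stS x ≠ ⊤) :
    Nat.card R.W ≤ (R.famS x).ncard * Nat.card (R.perp ψ (R.stS x)) := by
  have : Finite V := Module.finite_of_finite F
  have h1 := (R.cover_count ψ hψ (R.perp_ne_bot ψ hψ hS)).1
  have h2 := R.famS_pos x
  obtain ⟨d, hd⟩ : ∃ d, Nat.card (R.perp ψ (R.stS x)) = d + 1 :=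
    ⟨_, (Nat.succ_pred_eq_of_pos Nat.card_pos).symm⟩
  rw [hd, Nat.add_sub_cancel] at h1
  rw [hd, mul_add, mul_one]
  omega

end Frame

end CfsgLib.Classical.SpIdx
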