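import Cfsg.Agent.Lib.Classical.SpIdxLabel

/-!
# Counting translates of a stabiliser in the radical
-/

set_option autoImplicit false

namespace CfsgLib.Classical.SpIdx

open CfsgLib.Geom Module

variable {F V : Type*} [Field F] [AddCommGroup V] [Module F V] [FiniteDimensional F V]
  {B : V →ₗ[F] V →ₗ[F] F} (R : Frame B) {X : Type*} [MulAction (formIsoms B) X]

namespace Frame

theorem stA_smul_one {g : formIsoms B} (hg : R.Scales g 1) (x : X) : R.stA (g • x) = R.stA x := by
  ext c
  have h := R.mem_stA_smul one_ne_zero hg x c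
  rwa [one_mul, one_mul] at h

theorem mem_stS_smul_one {g : formIsoms B} (hg : R.Scales g 1) (x : X) (w : R.W) :
    (⟨g.1 (w : V), R.scales_W one_ne_zero hg w⟩ : R.W) ∈ R.stS (g • x) ↔ w ∈ R.stS x := by
  have h := R.mem_stS_smul one_ne_zero hg x w
  rwa [one_smul] at h

/-- The subgroup is a line. -/
def IsLine (S : AddSubgroup R.W) : Prop := ∃ u : R.W, u ≠ 0 ∧ ∀ w, w ∈ S ↔ ∃ t : F, w = t • u

theorem isLine_smul {g : formIsoms B} (hg : R.Scales g 1) (x : X) (h : R.IsLine (R.stS (g • x))) :
    R.IsLine (R.stS x) := by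
  obtain ⟨u, hu, h⟩ := h
  obtain ⟨v, hv⟩ : ∃ v : R.W, g.1 (v : V) = u :=
    ⟨⟨(g⁻¹).1 (u : V), R.scales_W (inv_ne_zero one_ne_zero) (R.scales_inv one_ne_zero hg) u⟩,
      g.1.apply_symm_apply _⟩
  refine ⟨v, fun e => hu (Subtype.ext (by rw [← hv, e, ZeroMemClass.coe_zero, map_zero])),
    fun w => ?_⟩
  rw [← R.mem_stS_smul_one hg, h]
  refine exists_congr fun t => ⟨fun e => Subtype.ext (g.1.injective ?_), fun e => Subtype.ext ?_⟩
  · rw [Submodule.coe_smul, map_smul, hv]; exact congrArg Subtype.val e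
  · subst e
    change g.1 ((t • v : R.W) : V) = ((t • u : R.W) : V)
    rw [Submodule.coe_smul, map_smul, hv, Submodule.coe_smul]

/-- The subgroups attached to translates by the complement group. -/
def famS (x : X) : Set (AddSubgroup R.W) := {S | ∃ g, R.Scales g 1 ∧ R.stS (g • x) = S}

variable [Finite F]

theorem exists_ann {A : AddSubgroup F} (hA : A ≠ ⊤) {ψ : AddChar F ℂ} (hψ : ψ.IsPrimitive) :
    ∃ d : F, d ≠ 0 ∧ ∀ c ∈ A, ψ (d * c) = 1 := by
  classical
  have := Fintype.ofFinite F
  obtain ⟨c, hc⟩ : ∃ c, c ∉ A := by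
    by_contra h
    push Not at h
    exact hA ((AddSubgroup.eq_top_iff' A).2 h)
  obtain ⟨χ, hχ⟩ := AddChar.exists_apply_ne_zero.2
    (mt (QuotientAddGroup.eq_zero_iff c).1 hc : (c : F ⧸ A) ≠ 0)
  obtain ⟨d, hd⟩ := ((Fintype.bijective_iff_injective_and_card _).2
    ⟨AddChar.to_mulShift_inj_of_isPrimitive hψ, (AddChar.card_eq (α := F)).symm⟩).2
      (χ.compAddMonoidHom (QuotientAddGroup.mk' A))
  have key : ∀ z, ψ (d * z) = χ (z : F ⧸ A) := fun z => by
    have h := DFunLike.congr_fun hd z
    rwa [AddChar.mulShift_apply] at h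
  refine ⟨d, fun e => hχ ?_, fun z hz => ?_⟩
  · rw [← key, e, zero_mul, AddChar.map_zero_eq_one]
  · rw [key, (QuotientAddGroup.eq_zero_iff z).2 hz, AddChar.map_zero_eq_one]

/-- The stabiliser is isotropic. -/
theorem stS_sq_dvd (h2 : (2 : F) ≠ 0) {x : X} (hx : R.stA x ≠ ⊤) :
    Nat.card (R.stS x) * Nat.card (R.stS x) ∣ Nat.card R.W := by
  classical
  have := Fintype.ofFinite F
  have : Finite V := Module.finite_of_finite F
  obtain ⟨φ, hφ⟩ := AddChar.exists_apply_ne_zero.2 (one_ne_zero (α := F))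
  have hψ : φ.IsPrimitive := AddChar.IsPrimitive.of_ne_one fun e => hφ (by simp [e])
  obtain ⟨d, hd0, hd⟩ := exists_ann hx hψ
  let χ : R.stS x → R.W →+ F := fun u =>
    (AddMonoidHom.mulLeft (d * 2)).comp (R.BW (u : R.W)).toAddMonoidHom
  have hker : ∀ (u : R.stS x) (w : R.W), w ∈ R.stS x → φ (χ u w) = 1 := fun u w hw => by
    have h := hd _ (R.two_B_mem u.2 hw)
    rw [← mul_assoc] at h
    exact h
  let f : R.stS x → AddChar (R.W ⧸ R.stS x) ℂ := fun u => AddChar.toAddMonoidHomEquiv.symm
    (QuotientAddGroup.lift (R.stS x) (φ.compAddMonoidHom (χ u)).toAddMonoidHom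
      fun w hw => congrArg Additive.ofMul (hker u w hw))
  let g : R.stS x →+ AddChar (R.W ⧸ R.stS x) ℂ :=
    AddMonoidHom.mk' f fun u v => DFunLike.ext _ _ fun z => by
      obtain ⟨w, rfl⟩ := QuotientAddGroup.mk_surjective z
      rw [AddChar.add_apply]
      change φ (d * 2 * R.BW ((u + v : R.stS x) : R.W) w) =
        φ (d * 2 * R.BW (u : R.W) w) * φ (d * 2 * R.BW (v : R.W) w)
      rw [← AddChar.map_add_eq_mul, AddSubgroup.coe_add, map_add, LinearMap.add_apply, mul_add]
  have hinj : Function.Injective g := (injective_iff_map_eq_zero g).2 fun u hu => by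
    refine Subtype.ext (R.BW_sep _ fun w => by_contra fun hne => ?_)
    refine hψ (mul_ne_zero (mul_ne_zero hd0 h2) hne) (DFunLike.ext _ _ fun r => ?_)
    have h := DFunLike.congr_fun hu ((r • w : R.W) : R.W ⧸ R.stS x)
    rw [AddChar.zero_apply] at h
    change φ (d * 2 * R.BW (u : R.W) (r • w)) = 1 at h
    rw [map_smul, smul_eq_mul] at h
    rw [AddChar.mulShift_apply, AddChar.one_apply, ← h]
    congr 1; ring
  have h := AddSubgroup.card_dvd_of_injective g hinj
  haveI := Fintype.ofFinite (R.W ⧸ R.stS x)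
  rw [Nat.card_eq_fintype_card (α := AddChar (R.W ⧸ R.stS x) ℂ), AddChar.card_eq,
    ← Nat.card_eq_fintype_card] at h
  rw [AddSubgroup.card_eq_card_quotient_mul_card_addSubgroup (R.stS x)]
  exact Nat.mul_dvd_mul h dvd_rfl

/-- The translates cover every non-zero vector, and twice unless they are lines or small. -/
theorem famS_count [Finite X] {x : X} (hS : R.stS x ≠ ⊥) :
    (Nat.card R.W - 1 ≤ (R.famS x).ncard * (Nat.card (R.stS x) - 1)) ∧
    ((Nat.card (R.stS x) * Nat.card (R.stS x) = Nat.card R.W ∧ Nat.card F ^ 2 ≤ Nat.card R.W ∧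
        ¬ R.IsLine (R.stS x)) →
      2 * (Nat.card R.W - 1) ≤ (R.famS x).ncard * (Nat.card (R.stS x) - 1)) := by
  classical
  have : Finite V := Module.finite_of_finite F
  have := Fintype.ofFinite R.W
  have hfin : (R.famS x).Finite := Set.toFinite _
  let T := hfin.toFinset
  have hmem : ∀ S, S ∈ T ↔ ∃ g, R.Scales g 1 ∧ R.stS (g • x) = S := fun S => hfin.mem_toFinset
  have hcard : ∀ S ∈ T, Nat.card S = Nat.card (R.stS x) := fun S hS => by
    obtain ⟨g, hg, rfl⟩ := (hmem S).1 hS
    exact R.card_stS_smul one_ne_zero hg x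
  let mult : R.W → ℕ := fun u => (T.filter fun S => u ∈ S).card
  have hsum : ∑ u ∈ Finset.univ.erase (0 : R.W), mult u =
      (R.famS x).ncard * (Nat.card (R.stS x) - 1) := by
    simp only [mult, Finset.card_filter]
    rw [Finset.sum_comm]
    have h1 : ∀ S ∈ T, ∑ u ∈ Finset.univ.erase (0 : R.W), (if u ∈ S then 1 else 0) =
        Nat.card (R.stS x) - 1 := fun S hS => by
      rw [← Finset.card_filter, Finset.filter_erase, Finset.card_erase_of_mem (by simp),
        ← Fintype.card_subtype, ← Nat.card_eq_fintype_card, ← hcard S hS]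
    rw [Finset.sum_congr rfl h1, Finset.sum_const, smul_eq_mul, Set.ncard_eq_toFinset_card _ hfin]
  have hcount : (Finset.univ.erase (0 : R.W)).card = Nat.card R.W - 1 := by
    rw [Finset.card_erase_of_mem (Finset.mem_univ _), Finset.card_univ, Nat.card_eq_fintype_card]
  have hone : ∀ u : R.W, u ≠ 0 → 1 ≤ mult u := by
    intro u hu
    obtain ⟨v, hv, hv0⟩ : ∃ v ∈ R.stS x, v ≠ 0 := by
      by_contra h
      push Not at h
      exact hS ((AddSubgroup.eq_bot_iff_forall _).2 h)
    obtain ⟨g, hg, hgv⟩ := R.exists_move hv0 hu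
    refine Finset.card_pos.2 ⟨R.stS (g • x), Finset.mem_filter.2 ⟨(hmem _).2 ⟨g, hg, rfl⟩, ?_⟩⟩
    have h := (R.mem_stS_smul_one hg x v).2 hv
    rwa [show (⟨g.1 (v : V), R.scales_W one_ne_zero hg v⟩ : R.W) = u from Subtype.ext hgv] at h
  refine ⟨?_, fun ⟨hsq, hq2, hline⟩ => ?_⟩
  · rw [← hsum, ← hcount, Finset.card_eq_sum_ones]
    exact Finset.sum_le_sum fun u hu => hone u (Finset.ne_of_mem_erase hu)
  rw [← hsum, ← hcount, mul_comm, ← smul_eq_mul, ← Finset.sum_const]
  refine Finset.sum_le_sum fun u hu => ?_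
  have hu0 := Finset.ne_of_mem_erase hu
  by_contra hlt
  have h1 : mult u = 1 := by have := hone u hu0; omega
  obtain ⟨S, hS1⟩ := Finset.card_eq_one.1 h1
  have huS : S ∈ T ∧ u ∈ S := Finset.mem_filter.1 (hS1 ▸ Finset.mem_singleton_self S)
  obtain ⟨g₀, hg₀, hSg⟩ := (hmem S).1 huS.1
  have hmove : ∀ v v' : R.W, v ∈ S → LinearIndependent F ![u, v] → LinearIndependent F ![u, v'] →
      B (u : V) (v : V) = B (u : V) (v' : V) → v' ∈ S := by
    intro v v' hv hi hi' hB
    obtain ⟨g, hg, hgu, hgv⟩ := R.exists_move_pair hi hi' hB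
    have hg' : R.Scales (g * g₀) 1 := by simpa using R.scales_mul hg hg₀
    have hin : ∀ w : R.W, w ∈ S → ∀ w' : R.W, g.1 (w : V) = w' → w' ∈ R.stS ((g * g₀) • x) := by
      intro w hw w' hww'
      rw [← hSg] at hw
      have h := (R.mem_stS_smul_one hg (g₀ • x) w).2 hw
      rwa [show (⟨g.1 (w : V), R.scales_W one_ne_zero hg w⟩ : R.W) = w' from Subtype.ext hww',
        ← mul_smul] at h
    have hmem' : R.stS ((g * g₀) • x) ∈ T.filter fun S => u ∈ S :=
      Finset.mem_filter.2 ⟨(hmem _).2 ⟨_, hg', rfl⟩, hin u huS.2 u hgu⟩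
    rw [hS1, Finset.mem_singleton] at hmem'
    exact hmem' ▸ hin v hv v' hgv
  have hScard : Nat.card S * Nat.card S = Nat.card R.W := by rw [hcard S huS.1, hsq]
  obtain ⟨v, hvS, hvu⟩ : ∃ v ∈ S, LinearIndependent F ![u, v] := by
    by_contra hall
    push Not at hall
    have hsub : ∀ w ∈ S, ∃ t : F, w = t • u := fun w hw => by
      have h := hall w hw
      rw [LinearIndependent.pair_iff' hu0] at h
      push Not at h
      obtain ⟨t, ht⟩ := h
      exact ⟨t, ht.symm⟩
    refine hline (R.isLine_smul hg₀ x (hSg.symm ▸ ⟨u, hu0, fun w => ⟨hsub w, ?_⟩⟩))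
    rintro ⟨t, rfl⟩
    have hF : Nat.card S ≤ Nat.card F := by
      choose t ht using fun w : S => hsub w.1 w.2
      exact Nat.card_le_card_of_injective t fun a b e =>
        Subtype.ext ((ht a).trans (by rw [e]; exact (ht b).symm))
    have hFS : Nat.card F ≤ Nat.card S := by
      by_contra h
      push Not at h
      nlinarith
    choose s hs using fun w : S => hsub w.1 w.2
    have hbij : Function.Bijective s := (Nat.bijective_iff_injective_and_card s).2
      ⟨fun a b e => Subtype.ext ((hs a).trans (by rw [e]; exact (hs b).symm)), le_antisymm hF hFS⟩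
    obtain ⟨w, hw⟩ := hbij.2 t
    rw [← hw, ← hs w]
    exact w.2
  set K := LinearMap.ker (R.BW u) with hK
  have hKcard : Nat.card R.W ≤ Nat.card K * Nat.card F := by
    have h1 := LinearMap.finrank_range_add_finrank_ker (R.BW u)
    rw [← hK] at h1
    have h2 := Submodule.finrank_le (LinearMap.range (R.BW u))
    rw [finrank_self] at h2
    rw [Module.natCard_eq_pow_finrank (K := F) (V := R.W),
      Module.natCard_eq_pow_finrank (K := F) (V := K), ← pow_succ]
    exact Nat.pow_le_pow_right Nat.card_pos (by omega)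
  have hvK : ∀ z ∈ K, z ∈ S := by
    intro z hz
    rw [hK, LinearMap.mem_ker, R.BW_apply] at hz
    by_cases hc : B (u : V) (v : V) = 0
    · by_cases hzu : LinearIndependent F ![u, z]
      · exact hmove v z hvS hvu hzu (by rw [hc, hz])
      · have h3 : LinearIndependent F ![u, z + v] := by
          rw [LinearIndependent.pair_iff' hu0] at hzu hvu ⊢
          push Not at hzu
          obtain ⟨t, rfl⟩ := hzu
          intro s hs
          exact hvu (s - t) (by rw [sub_smul, hs]; abel)
        have h4 := hmove v _ hvS hvu h3 (by rw [Submodule.coe_add, map_add, hz, hc, add_zero])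
        simpa using S.sub_mem h4 hvS
    · have h3 : LinearIndependent F ![u, z + v] := by
        rw [LinearIndependent.pair_iff' hu0]
        intro s hs
        have e := congrArg (fun w : R.W => B (u : V) (w : V)) hs
        simp only [Submodule.coe_smul, Submodule.coe_add, map_smul, map_add, R.hA, hz, smul_zero,
          zero_add] at e
        exact hc e.symm
      have h4 := hmove v _ hvS hvu h3 (by rw [Submodule.coe_add, map_add, hz, zero_add])
      simpa using S.sub_mem h4 hvS
  have hKS : Nat.card K ≤ Nat.card S :=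
    Nat.card_le_card_of_injective (fun z : K => (⟨z.1, hvK z.1 z.2⟩ : S)) fun a b e =>
      Subtype.ext (congrArg (fun w : S => w.1) e)
  have hSq : Nat.card S ≤ Nat.card F := by
    have hpos : 0 < Nat.card S := Nat.card_pos
    refine Nat.le_of_mul_le_mul_right ?_ hpos
    rw [hScard, mul_comm]
    exact hKcard.trans (Nat.mul_le_mul_right _ hKS)
  have hqS : Nat.card F ≤ Nat.card S := by
    by_contra h
    push Not at h
    nlinarith
  have hkq : Nat.card F ≤ Nat.card K := by
    have h : Nat.card F * Nat.card F ≤ Nat.card K * Nat.card F := by rw [← sq]; exact hq2.trans hKcard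
    exact Nat.le_of_mul_le_mul_right h Nat.card_pos
  -- `S` is then the kernel and strictly larger than the line through `u`
  have hbij : Function.Bijective (fun z : K => (⟨z.1, hvK z.1 z.2⟩ : S)) :=
    (Nat.bijective_iff_injective_and_card _).2
      ⟨fun a b e => Subtype.ext (congrArg (fun w : S => w.1) e), le_antisymm hKS (hSq.trans hkq)⟩
  obtain ⟨⟨z, hz⟩, hzv⟩ := hbij.2 ⟨v, hvS⟩
  have hzv' : z = v := congrArg Subtype.val hzv
  subst hzv'
  have hline' : Nat.card (F × F) ≤ Nat.card K := by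
    refine Nat.card_le_card_of_injective (fun p : F × F => (⟨p.1 • u + p.2 • z, ?_⟩ : K)) ?_
    · exact K.add_mem (K.smul_mem _ (by rw [hK, LinearMap.mem_ker]; exact R.BW_self u))
        (K.smul_mem _ hz)
    · intro p p' e
      have e' := congrArg (fun w : K => (w : R.W)) e
      obtain ⟨h1, h2⟩ := LinearIndependent.pair_iff.1 hvu (p.1 - p'.1) (p.2 - p'.2) (by
        rw [sub_smul, sub_smul]
        linear_combination (norm := module) e')
      exact Prod.ext (sub_eq_zero.1 h1) (sub_eq_zero.1 h2)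
  rw [Nat.card_prod] at hline'
  have hq1 : 1 < Nat.card F := Finite.one_lt_card
  nlinarith

theorem fam_count [Finite X] (x : X) (N : ℕ)
    (hN : ∀ g : formIsoms B, ∀ s : F, s ≠ 0 → R.Scales g s → N ≤ (R.famS (g • x)).ncard) :
    (Prod.snd '' R.fam x).ncard * N ≤ (R.fam x).ncard := by
  classical
  have : Finite V := Module.finite_of_finite F
  have hfin : (R.fam x).Finite := Set.toFinite _
  rw [Set.ncard_eq_toFinset_card _ hfin,
    Set.ncard_eq_toFinset_card _ (hfin.image Prod.snd)]
  rw [Finset.card_eq_sum_card_fiberwise (f := Prod.snd) (s := hfin.toFinset)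
    (t := (hfin.image Prod.snd).toFinset) fun p hp => by
      rw [Finset.mem_coe, Set.Finite.mem_toFinset] at hp ⊢
      exact Set.mem_image_of_mem _ hp]
  rw [← smul_eq_mul, ← Finset.sum_const]
  refine Finset.sum_le_sum fun A hA => ?_
  rw [Set.Finite.mem_toFinset] at hA
  obtain ⟨l, ⟨g, s, hs, hg, rfl⟩, rfl⟩ := hA
  refine (hN g s hs hg).trans ?_
  have hfS : (R.famS (g • x)).Finite := Set.toFinite _
  rw [Set.ncard_eq_toFinset_card _ hfS]
  refine Finset.card_le_card_of_injOn (fun S => (S, R.stA (g • x))) (fun S hS => ?_)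
    fun a _ b _ e => congrArg Prod.fst e
  rw [Finset.mem_coe, Set.Finite.mem_toFinset] at hS
  obtain ⟨h, hh, rfl⟩ := hS
  rw [Finset.mem_coe, Finset.mem_filter, Set.Finite.mem_toFinset]
  refine ⟨⟨h * g, 1 * s, mul_ne_zero one_ne_zero hs, R.scales_mul hh hg, ?_⟩, rfl⟩
  rw [mul_smul]
  exact Prod.ext rfl (R.stA_smul_one hh _)

/-- The conjugates of the stabiliser among the transvections at `e`. -/
theorem famA_count [Finite X] {x : X} (hA : R.stA x ≠ ⊤) :
    Nat.card F - 1 ≤ 2 * ((Prod.snd '' R.fam x).ncard * ((R.stA x).index - 1)) ∧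
    ((2 : F) = 0 → Nat.card F - 1 ≤ (Prod.snd '' R.fam x).ncard * ((R.stA x).index - 1)) := by
  classical
  have := Fintype.ofFinite F
  have : Finite V := Module.finite_of_finite F
  obtain ⟨ψ, hψ'⟩ := AddChar.exists_apply_ne_zero.2 (one_ne_zero (α := F))
  have hψ : ψ.IsPrimitive := AddChar.IsPrimitive.of_ne_one fun e => hψ' (by simp [e])
  obtain ⟨d, hd0, hd⟩ := exists_ann hA hψ
  let ann : AddSubgroup F → Finset F := fun A =>
    Finset.univ.filter fun d => d ≠ 0 ∧ ∀ c ∈ A, ψ (d * c) = 1
  have hann : ∀ A : AddSubgroup F, (ann A).card ≤ A.index - 1 := by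
    intro A
    have h0 : (0 : F) ∉ ann A := by simp [ann]
    have h1 : (insert 0 (ann A)).card ≤ A.index := by
      haveI := Fintype.ofFinite (F ⧸ A)
      rw [AddSubgroup.index, ← Nat.card_eq_finsetCard, Nat.card_eq_fintype_card (α := F ⧸ A),
        ← AddChar.card_eq (α := F ⧸ A), ← Nat.card_eq_fintype_card (α := AddChar (F ⧸ A) ℂ)]
      have hk : ∀ e : (insert 0 (ann A) : Finset F), ∀ c ∈ A, ψ ((e : F) * c) = 1 := fun e c hc => by
        rcases Finset.mem_insert.1 e.2 with h | h
        · rw [h, zero_mul, AddChar.map_zero_eq_one]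
        · exact (Finset.mem_filter.1 h).2.2 c hc
      refine Nat.card_le_card_of_injective (fun e => AddChar.toAddMonoidHomEquiv.symm
        (QuotientAddGroup.lift A (ψ.mulShift (e : F)).toAddMonoidHom fun c hc =>
          congrArg Additive.ofMul (show ψ ((e : F) * c) = 1 from hk e c hc))) fun e e' h => ?_
      refine Subtype.ext (AddChar.to_mulShift_inj_of_isPrimitive hψ (DFunLike.ext _ _ fun c => ?_))
      exact DFunLike.congr_fun h (c : F ⧸ A)
    rw [Finset.card_insert_of_notMem h0] at h1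
    omega
  set sq := (Finset.univ.filter fun s : F => s ≠ 0).image fun s => (s * s)⁻¹ * d with hsq
  have hfin : (Prod.snd '' R.fam x).Finite := (Set.toFinite _).image _
  have hsub : sq ⊆ hfin.toFinset.biUnion ann := by
    intro e he
    obtain ⟨s, hs, rfl⟩ := Finset.mem_image.1 he
    have hs0 : s ≠ 0 := (Finset.mem_filter.1 hs).2
    obtain ⟨g, hg⟩ := R.exists_torus hs0
    refine Finset.mem_biUnion.2 ⟨R.stA (g • x), ?_, Finset.mem_filter.2 ⟨Finset.mem_univ _,
      mul_ne_zero (inv_ne_zero (mul_ne_zero hs0 hs0)) hd0, fun c hc => ?_⟩⟩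
    · rw [Set.Finite.mem_toFinset]
      exact ⟨R.label (g • x), ⟨g, s, hs0, hg, rfl⟩, rfl⟩
    · rw [show c = s * s * ((s * s)⁻¹ * c) by rw [mul_inv_cancel_left₀ (mul_ne_zero hs0 hs0)],
        R.mem_stA_smul hs0 hg] at hc
      rw [mul_assoc, mul_left_comm]
      exact hd _ hc
  have h2' : Fintype.card F - 1 ≤ 2 * sq.card := by
    have h1 := Finset.card_le_mul_card_image (Finset.univ.filter fun a : F => a ≠ 0) 2
      (f := fun s => (s * s)⁻¹ * d) fun e _ => by
        by_contra hcon
        obtain ⟨x, hx, y, hy, z, hz, hxy, hxz, hyz⟩ := Finset.two_lt_card.1 (Nat.lt_of_not_le hcon)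
        simp only [Finset.mem_filter, Finset.mem_univ, true_and] at hx hy hz
        have e1 := inv_injective (mul_right_cancel₀ hd0 (hx.2.trans hy.2.symm))
        have e2 := inv_injective (mul_right_cancel₀ hd0 (hx.2.trans hz.2.symm))
        rcases mul_self_eq_mul_self_iff.1 e1 with e | e
        · exact hxy e
        rcases mul_self_eq_mul_self_iff.1 e2 with e' | e'
        · exact hxz e'
        · exact hyz (neg_injective (e.symm.trans e'))
    rw [Finset.filter_ne', Finset.card_erase_of_mem (Finset.mem_univ _), Finset.card_univ] at h1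
    rw [hsq, Finset.filter_ne']
    exact h1
  have h1' : (2 : F) = 0 → Fintype.card F - 1 ≤ sq.card := fun h20 => by
    haveI := CharTwo.of_one_ne_zero_of_two_eq_zero (R := F) one_ne_zero h20
    rw [hsq, Finset.card_image_of_injective _ fun s t e => ?_, Finset.filter_ne',
      Finset.card_erase_of_mem (Finset.mem_univ _), Finset.card_univ]
    rcases mul_self_eq_mul_self_iff.1 (inv_injective (mul_right_cancel₀ hd0 e)) with h | h
    · exact h
    · exact h.trans (CharTwo.neg_eq t)
  rw [Nat.card_eq_fintype_card]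
  suffices hle : sq.card ≤ (Prod.snd '' R.fam x).ncard * ((R.stA x).index - 1) from
    ⟨h2'.trans (Nat.mul_le_mul_left _ hle), fun h20 => (h1' h20).trans hle⟩
  refine (Finset.card_le_card hsub).trans ?_
  refine (Finset.card_biUnion_le_card_mul _ _ _ fun A hA' => ?_).trans
    (le_of_eq (by rw [Set.ncard_eq_toFinset_card _ hfin]))
  rw [Set.Finite.mem_toFinset] at hA'
  obtain ⟨l, ⟨g, s, hs, hg, rfl⟩, rfl⟩ := hA'
  refine (hann _).trans (Nat.sub_le_sub_right (le_of_eq ?_) 1)
  refine Nat.eq_of_mul_eq_mul_right (Nat.card_pos (α := R.stA x)) ?_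
  conv_lhs => rw [← R.card_stA_smul hs hg x]
  rw [AddSubgroup.index_mul_card]
  exact AddSubgroup.index_mul_card _

end Frame

end CfsgLib.Classical.SpIdx
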