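import Cfsg.Agent.Lib.Classical.SpIdxFull

/-!
# A single orbit of the radical: points fixed by the complement
-/

set_option autoImplicit false

namespace CfsgLib.Classical.SpIdx

open CfsgLib.Geom Module
open scoped commutatorElement

/-- An additive subgroup of a space over a finite field of odd order is closed under halving. -/
theorem mem_of_two_smul_mem {F M : Type*} [Field F] [Finite F] [AddCommGroup M] [Module F M]
    (h2 : (2 : F) ≠ 0) (A : AddSubgroup M) {x : M} (h : (2 : F) • x ∈ A) : x ∈ A := by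
  obtain ⟨p, hp⟩ : ∃ p, CharP F p := ⟨ringChar F, inferInstance⟩
  rcases CharP.char_is_prime_or_zero F p with hp' | hp'
  · have hpx : (p : ℕ) • x = 0 := by rw [← Nat.cast_smul_eq_nsmul F, CharP.cast_eq_zero, zero_smul]
    obtain ⟨k, hk⟩ : ∃ k, p = 2 * k + 1 := by
      rcases hp'.eq_two_or_odd' with e | e
      · subst e; exact absurd (by simpa using CharP.cast_eq_zero F 2) h2
      · exact e
    have h1 : (k + 1) • ((2 : F) • x) ∈ A := A.nsmul_mem h _
    have e : (k + 1) • ((2 : F) • x) = x := by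
      rw [two_smul, ← two_nsmul, ← mul_nsmul', show (k + 1) * 2 = p + 1 by omega, add_nsmul, hpx,
        zero_add, one_nsmul]
    rwa [e] at h1
  · subst hp'
    haveI : CharZero F := CharP.charP_to_charZero F
    exact (not_finite F).elim

variable {F V : Type*} [Field F] [AddCommGroup V] [Module F V] [FiniteDimensional F V]
  {B : V →ₗ[F] V →ₗ[F] F} (R : Frame B) {X : Type*} [MulAction (formIsoms B) X]

namespace Frame

/-- All points with the label of `x` form one orbit of the radical. -/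
def One (x : X) : Prop := ∀ z, R.label z = R.label x → ∃ w c, R.rho w c • x = z

theorem rho_zero_comm {g : formIsoms B} (hg : R.Scales g 1) (c : F) :
    g * R.rho 0 c = R.rho 0 c * g := by
  have h := R.conj_rho one_ne_zero hg 0 c
  have e : (⟨g.1 ((0 : R.W) : V), R.scales_W one_ne_zero hg 0⟩ : R.W) = 0 := Subtype.ext (map_zero g.1)
  rw [e, smul_zero, one_mul, one_mul, mul_inv_eq_iff_eq_mul] at h
  exact h

theorem stS_smul_eq {g : formIsoms B} (hg : R.Scales g 1) {x : X}
    (h : ∀ w : R.W, (⟨g.1 (w : V), R.scales_W one_ne_zero hg w⟩ : R.W) ∈ R.stS x ↔ w ∈ R.stS x) :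
    R.stS (g • x) = R.stS x := by
  ext v
  obtain ⟨w, rfl⟩ : ∃ w : R.W, (⟨g.1 (w : V), R.scales_W one_ne_zero hg w⟩ : R.W) = v :=
    ⟨⟨(g⁻¹).1 (v : V), R.scales_W (inv_ne_zero one_ne_zero) (R.scales_inv one_ne_zero hg) v⟩,
      Subtype.ext (g.1.apply_symm_apply _)⟩
  rw [R.mem_stS_smul_one hg, h]

theorem label_flipI (x : X) : R.label (R.flipI • x) = R.label x := by
  refine Prod.ext (R.stS_smul_eq R.flipI_scales fun w => ?_) (R.stA_smul_one R.flipI_scales x)
  rw [show (⟨R.flipI.1 (w : V), R.scales_W one_ne_zero R.flipI_scales w⟩ : R.W) = -w from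
    Subtype.ext (R.flipI_W w)]
  exact neg_mem_iff

theorem flipI_conj (v : R.W) (d : F) : R.flipI * R.rho v d = R.rho (-v) d * R.flipI := by
  have h := R.conj_rho one_ne_zero R.flipI_scales v d
  rw [show (⟨R.flipI.1 (v : V), R.scales_W one_ne_zero R.flipI_scales v⟩ : R.W) = -v from
    Subtype.ext (R.flipI_W v), one_smul, one_mul, one_mul, mul_inv_eq_iff_eq_mul] at h
  exact h

variable [Finite F]

theorem exists_center (h2 : (2 : F) ≠ 0) {x : X} (h1 : R.One x) :
    ∃ x₀ : X, R.label x₀ = R.label x ∧ R.One x₀ ∧ R.flipI • x₀ = x₀ := by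
  obtain ⟨w, c, hwc⟩ := h1 _ (R.label_flipI x)
  have hi2 : R.flipI * R.flipI = 1 := by
    refine formIsoms_ext fun z => ?_
    rw [Subgroup.coe_mul, LinearEquiv.mul_apply]
    conv_lhs => rw [R.split z]
    rw [R.flipI_add, sub_eq_add_neg, ← Submodule.coe_neg, R.flipI_add, Submodule.coe_neg,
      sub_neg_eq_add, ← R.split z]
    rfl
  -- applying the flip twice
  have hc : c ∈ R.stA x := by
    have h : R.rho (-w) c • R.rho w c • x = x := by
      conv_rhs => rw [← one_smul (formIsoms B) x, ← hi2, mul_smul, ← hwc, ← mul_smul, R.flipI_conj,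
        mul_smul, ← hwc]
    rw [← mul_smul, R.rho_mul, neg_add_cancel, Submodule.coe_neg, map_neg, R.hA, neg_zero,
      add_zero, ← R.mem_stA] at h
    exact mem_of_two_smul_mem h2 _ (by rwa [smul_eq_mul, two_mul])
  refine ⟨R.rho ((2 : F)⁻¹ • w) 0 • x, R.label_rho _ _ _, fun z hz => ?_, ?_⟩
  · obtain ⟨v, d, rfl⟩ := h1 z (hz.trans (R.label_rho _ _ _))
    refine ⟨v + -((2 : F)⁻¹ • w),
      d + -0 + B ((-((2 : F)⁻¹ • w) : R.W) : V) (v : V), ?_⟩
    rw [← R.rho_mul, mul_smul, ← R.rho_inv, inv_smul_smul]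
  · rw [← mul_smul, R.flipI_conj, mul_smul, ← hwc, ← mul_smul, R.rho_mul]
    have e : -((2 : F)⁻¹ • w) + w = (2 : F)⁻¹ • w := by
      match_scalars
      field_simp
      ring
    rw [e, zero_add, Submodule.coe_neg, Submodule.coe_smul, map_neg, map_smul, R.hA, smul_zero,
      neg_zero, add_zero,
      show R.rho ((2 : F)⁻¹ • w) c = R.rho ((2 : F)⁻¹ • w) 0 * R.rho 0 c by
        rw [R.rho_mul, add_zero, zero_add, ZeroMemClass.coe_zero, map_zero, LinearMap.zero_apply,
          add_zero],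
      mul_smul, R.mem_stA.1 hc]

variable {x : X} (h1 : R.One x) (hi : R.flipI • x = x)
include h1 hi

theorem translate (h2 : (2 : F) ≠ 0) {g : formIsoms B} (hg : R.Scales g 1)
    (hS : R.stS (g • x) = R.stS x) : ∃ a, g • x = R.rho 0 a • x := by
  obtain ⟨v, d, hvd⟩ := h1 (g • x) (Prod.ext hS (R.stA_smul_one hg x))
  have hfix : R.flipI • (g • x) = g • x := by rw [← mul_smul, ← R.flipI_comm hg, mul_smul, hi]
  rw [← hvd] at hfix ⊢
  rw [← mul_smul, R.flipI_conj, mul_smul, hi, eq_comm, ← inv_smul_eq_iff, ← mul_smul, R.rho_inv,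
    R.rho_mul, neg_neg] at hfix
  obtain ⟨d', hd'⟩ : v ∈ R.stS x :=
    mem_of_two_smul_mem h2 _ (by rw [two_smul]; exact ⟨_, hfix⟩)
  refine ⟨d - d', ?_⟩
  conv_lhs => rw [show R.rho v d = R.rho 0 (d - d') * R.rho v d' by
    rw [R.rho_mul_zero, sub_add_cancel], mul_smul, hd']

theorem commutator_fix (h2 : (2 : F) ≠ 0) {g h : formIsoms B} (hg : R.Scales g 1)
    (hh : R.Scales h 1) (hgS : R.stS (g • x) = R.stS x) (hhS : R.stS (h • x) = R.stS x) :
    ⁅g, h⁆ • x = x := by
  have hinv : ∀ k : formIsoms B, R.Scales k 1 → R.stS (k • x) = R.stS x →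
      R.Scales k⁻¹ 1 ∧ R.stS (k⁻¹ • x) = R.stS x := by
    intro k hk hkS
    refine ⟨by simpa using R.scales_inv one_ne_zero hk, ?_⟩
    ext w
    conv_rhs => rw [← R.mem_stS_smul_one hk x, hkS]
    rw [← R.mem_stS_smul_one hk (k⁻¹ • x), smul_inv_smul]
  obtain ⟨hg', hgS'⟩ := hinv g hg hgS
  obtain ⟨hh', hhS'⟩ := hinv h hh hhS
  obtain ⟨a, ha⟩ := R.translate h1 hi h2 hg' hgS'
  obtain ⟨b, hb⟩ := R.translate h1 hi h2 hh' hhS'
  have e : g⁻¹ • h⁻¹ • x = h⁻¹ • g⁻¹ • x := by
    rw [ha, hb, ← mul_smul, R.rho_zero_comm hg', mul_smul, ha, ← mul_smul h⁻¹,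
      R.rho_zero_comm hh', mul_smul, hb, ← mul_smul, ← mul_smul, R.rho_mul_zero, R.rho_mul_zero,
      add_comm]
  rw [commutatorElement_def, mul_smul, mul_smul, mul_smul, e, smul_inv_smul, smul_inv_smul]

omit h1 hi in
/-- A trivial stabiliser stays trivial. -/
theorem label_one_smul {x : X} {g : formIsoms B} (hg : R.Scales g 1) (hS : R.stS x = ⊥) :
    R.stS (g • x) = R.stS x := by
  have : Finite V := Module.finite_of_finite F
  have h := R.card_stS_smul one_ne_zero hg x
  rw [hS, AddSubgroup.card_bot] at h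
  rw [hS, AddSubgroup.card_eq_one.1 h]

theorem full_W (h2 : (2 : F) ≠ 0) (hS : R.stS x = ⊥) (hperf : commutator (formIsoms R.BW) = ⊤)
    (w : R.W) : R.Full x (w : V) := by
  intro c
  obtain ⟨φ, hφ⟩ : ∃ φ : formIsoms R.BW →* formIsoms B, ∀ g, φ g = R.ext g :=
    ⟨MonoidHom.mk' R.ext fun g g' => formIsoms_ext fun y => by
      rw [Subgroup.coe_mul, LinearEquiv.mul_apply]
      conv_rhs => rw [R.ext_apply g' y, map_add, R.ext_plane g, R.ext_W g]
      rw [R.ext_apply]
      rfl, fun g => rfl⟩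
  have hcomm : commutator (formIsoms R.BW) ≤ (MulAction.stabilizer (formIsoms B) x).comap φ := by
    rw [commutator_eq_closure, Subgroup.closure_le]
    rintro _ ⟨g, g', rfl⟩
    rw [SetLike.mem_coe, Subgroup.mem_comap, map_commutatorElement, MulAction.mem_stabilizer_iff,
      hφ, hφ]
    exact R.commutator_fix h1 hi h2 (R.ext_scales g) (R.ext_scales g')
      (R.label_one_smul (R.ext_scales g) hS) (R.label_one_smul (R.ext_scales g') hS)
  have hmem := hcomm (hperf ▸ Subgroup.mem_top (altTv R.BW_self R.BW_sep w c))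
  rw [Subgroup.mem_comap, MulAction.mem_stabilizer_iff, hφ] at hmem
  rwa [show R.ext (altTv R.BW_self R.BW_sep w c) = altTv R.hA R.hB (w : V) c from
    formIsoms_ext fun y => by
      conv_rhs => rw [altTv_apply, R.split y]
      rw [R.ext_apply, altTv_apply, Submodule.coe_add, Submodule.coe_smul, R.BW_apply]
      simp [R.W_e, R.W_f, R.e_W, R.f_W, add_assoc]] at hmem

theorem full_line_vector (h2 : (2 : F) ≠ 0) {u : R.W} (hu : u ≠ 0) {t : F} (ht : t ≠ 0)
    (ht2 : t * t ≠ 1)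
    (hline : ∀ g : formIsoms B, R.Scales g 1 → (∃ s : F, s ≠ 0 ∧ g.1 (u : V) = s • (u : V)) →
      R.stS (g • x) = R.stS x) :
    R.Full x (u : V) := by
  obtain ⟨h, hh, hhu⟩ := R.exists_move hu (smul_ne_zero ht hu)
  intro c
  obtain ⟨d, hd⟩ : ∃ d, d = c / (t * t - 1) := ⟨_, rfl⟩
  have hT : R.Scales (altTv R.hA R.hB (u : V) d) 1 :=
    ⟨by simp [altTv_apply, R.e_W], by simp [altTv_apply, R.f_W]⟩
  have h3 := R.commutator_fix h1 hi h2 hh hT
    (hline h hh ⟨t, ht, by rw [hhu, Submodule.coe_smul]⟩)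
    (hline _ hT ⟨1, one_ne_zero, by simp [altTv_apply, R.hA]⟩)
  rw [commutatorElement_def, altTv_conj, altTv_neg, hhu, Submodule.coe_smul, altTv_smul,
    ← altTv_add] at h3
  have : (t * t - 1) ≠ 0 := sub_ne_zero.2 ht2
  rwa [show t ^ 2 * d + -d = c by
    rw [show t ^ 2 * d + -d = (t * t - 1) * d by ring, hd, mul_div_cancel₀ _ this]] at h3

end Frame

end CfsgLib.Classical.SpIdx
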