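import Cfsg.Agent.Lib.Classical.SpIdxBound
import Cfsg.Agent.Lib.Classical.SpIdxFix

/-!
# Endgames of the bound
-/

set_option autoImplicit false

namespace CfsgLib.Classical.SpIdx

open CfsgLib.Geom Module

variable {F V : Type*} [Field F] [AddCommGroup V] [Module F V] [FiniteDimensional F V]
  {B : V →ₗ[F] V →ₗ[F] F} (R : Frame B) {X : Type*} [MulAction (formIsoms B) X]

namespace Frame

variable [Finite F] [Finite X]

theorem le_card_label_of_not_one (ψ : AddChar F ℂ) (hψ : ψ.IsPrimitive) {x : X} (h1 : ¬ R.One x) :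
    2 * ((R.stA x).index * Nat.card (R.perp ψ (R.stS x))) ≤
      Nat.card {z : X // R.label z = R.label x} := by
  classical
  have : Finite V := Module.finite_of_finite F
  simp only [One, not_forall] at h1
  obtain ⟨z, hz, hno⟩ := h1
  push Not at hno
  let O : X → Set X := fun y => Set.range fun p : R.W × F => R.rho p.1 p.2 • y
  have hbound : ∀ y : X, R.label y = R.label x →
      (R.stA x).index * Nat.card (R.perp ψ (R.stS x)) ≤ (O y).ncard := by
    intro y hy
    have h := R.le_card_orbit y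
    rw [show R.stS y = R.stS x from congrArg Prod.fst hy,
      show R.stA y = R.stA x from congrArg Prod.snd hy,
      ← AddSubgroup.index_mul_card (R.stA x), ← R.card_perp ψ hψ (R.stS x)] at h
    refine Nat.le_of_mul_le_mul_right ?_
      (Nat.mul_pos (Nat.card_pos (α := R.stS x)) (Nat.card_pos (α := R.stA x)))
    refine le_trans (le_of_eq ?_) (h.trans (le_of_eq (by rw [Nat.card_coe_set_eq])))
    ring
  have hdisj : Disjoint (O x) (O z) := by
    rw [Set.disjoint_left]
    rintro _ ⟨p, rfl⟩ ⟨p', hp'⟩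
    refine hno (-p'.1 + p.1) (-p'.2 + p.2 + B (p.1 : V) ((-p'.1 : R.W) : V)) ?_
    rw [← R.rho_mul, mul_smul, ← R.rho_inv, inv_smul_eq_iff]
    exact hp'.symm
  have hsub : O x ∪ O z ⊆ {y | R.label y = R.label x} := by
    rintro y (⟨p, rfl⟩ | ⟨p, rfl⟩)
    · exact R.label_rho _ _ x
    · exact (R.label_rho _ _ z).trans hz
  have h := Set.ncard_le_ncard hsub (Set.toFinite _)
  rw [Set.ncard_union_eq hdisj (Set.toFinite _) (Set.toFinite _)] at h
  have h1 := hbound x rfl
  have h2 := hbound z hz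
  rw [← Nat.card_coe_set_eq {y | R.label y = R.label x}] at h
  exact le_trans (by omega) h

omit [Finite F] in
/-- Some point is fixed by all transvections at `e`. -/
theorem full_pos {x : X} {u : V} (hu : u ≠ 0) (h : R.Full x u) :
    1 ≤ Nat.card {z : X // R.Full z R.e} := by
  obtain ⟨g, hg⟩ := exists_isom_one R.hA R.hB hu R.e_ne
  have h' := R.full_map (g := g) h
  rw [hg] at h'
  have : Nonempty {z : X // R.Full z R.e} := ⟨⟨_, h'⟩⟩
  exact Nat.card_pos

/-- The translates of a centre fixed by one transvection group. -/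
theorem le_card_full {x : X} (hS : R.stS x = ⊥) {u : R.W} (hu : R.Full x (u : V)) (hu0 : u ≠ 0) :
    Nat.card R.W * (R.stA x).index ≤ Nat.card F * Nat.card {z : X // R.Full z R.e} := by
  classical
  have : Finite V := Module.finite_of_finite F
  obtain ⟨K, hK⟩ : ∃ K, K = LinearMap.ker (R.BW u) := ⟨_, rfl⟩
  have hKcard : Nat.card R.W ≤ Nat.card K * Nat.card F := by
    have h1 := LinearMap.finrank_range_add_finrank_ker (R.BW u)
    rw [← hK] at h1
    have h2 := Submodule.finrank_le (LinearMap.range (R.BW u))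
    rw [finrank_self] at h2
    rw [Module.natCard_eq_pow_finrank (K := F) (V := R.W),
      Module.natCard_eq_pow_finrank (K := F) (V := K), ← pow_succ]
    exact Nat.pow_le_pow_right Nat.card_pos (by omega)
  obtain ⟨g, hg⟩ := exists_isom_one R.hA R.hB
    (fun h => hu0 (Subtype.ext h) : (u : V) ≠ 0) R.e_ne
  have hfull : ∀ (w : K) (c : F), R.Full (g • R.rho (w : R.W) c • x) R.e := by
    intro w c
    have hw : B (u : V) ((w : R.W) : V) = 0 := by
      have h := LinearMap.mem_ker.1 (show (w : R.W) ∈ LinearMap.ker (R.BW u) from hK.le w.2)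
      exact h
    have h1 : R.Full (R.rho (w : R.W) c • x) (u : V) := by
      intro d
      have hT : R.Scales (altTv R.hA R.hB (u : V) d) 1 :=
        ⟨by simp [altTv_apply, R.e_W], by simp [altTv_apply, R.f_W]⟩
      have h := R.conj_rho one_ne_zero hT (w : R.W) c
      rw [show (⟨(altTv R.hA R.hB (u : V) d).1 ((w : R.W) : V), R.scales_W one_ne_zero hT (w : R.W)⟩
          : R.W) = w from Subtype.ext (by
            change (altTv R.hA R.hB (u : V) d).1 ((w : R.W) : V) = ((w : R.W) : V)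
            rw [altTv_apply, R.swap (u : V), hw]; simp),
        one_smul, one_mul, one_mul, mul_inv_eq_iff_eq_mul] at h
      rw [← mul_smul, h, mul_smul, hu d]
    have h2 := R.full_map (g := g) h1
    rwa [hg] at h2
  have hinj : Function.Injective (fun p : K × (F ⧸ R.stA x) =>
      (⟨g • R.rho (p.1 : R.W) p.2.out • x, hfull _ _⟩ : {z : X // R.Full z R.e})) := by
    rintro ⟨w, c⟩ ⟨w', c'⟩ e
    have e' := MulAction.injective g (congrArg Subtype.val e)
    simp only at e'
    rw [eq_comm, ← inv_smul_eq_iff, ← mul_smul, R.rho_inv, R.rho_mul] at e'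
    have hw : -(w : R.W) + (w' : R.W) ∈ R.stS x := ⟨_, e'⟩
    rw [hS, AddSubgroup.mem_bot, neg_add_eq_zero] at hw
    obtain rfl : w = w' := Subtype.ext hw
    rw [neg_add_cancel, Submodule.coe_neg, map_neg, R.hA, neg_zero, add_zero] at e'
    refine Prod.ext rfl ?_
    have h2 : -c.out + c'.out ∈ R.stA x := e'
    rw [← QuotientAddGroup.out_eq' c, ← QuotientAddGroup.out_eq' c']
    exact QuotientAddGroup.eq.2 h2
  have h := Nat.card_le_card_of_injective _ hinj
  rw [Nat.card_prod, ← AddSubgroup.index] at h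
  calc Nat.card R.W * (R.stA x).index ≤ Nat.card K * Nat.card F * (R.stA x).index :=
        Nat.mul_le_mul_right _ hKcard
    _ = Nat.card F * (Nat.card K * (R.stA x).index) := by ring
    _ ≤ _ := Nat.mul_le_mul_left _ h

omit [Finite X] in
/-- Outside plane and complement: the full vectors cover a hyperplane. -/
theorem le_card_full_vectors {x : X} (hW : ∀ w : R.W, R.Full x (w : V)) (hq : 3 ≤ Nat.card F)
    {g : V} (hg0 : g ≠ 0) (hgW : R.pr g = 0) {w₀ : R.W} (hw₀ : w₀ ≠ 0)
    (hfull : R.Full x (g + (w₀ : V))) :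
    Nat.card F * Nat.card R.W - 1 ≤ Nat.card {v : V // v ≠ 0 ∧ R.Full x v} := by
  classical
  have : Finite V := Module.finite_of_finite F
  have hgo : ∀ z : R.W, B g (z : V) = 0 := fun z => by
    rw [R.swap (z : V) g, R.B_pr, hgW]
    simp
  have hog : ∀ z : R.W, B (z : V) g = 0 := fun z => by rw [R.B_pr, hgW]; simp
  have hmove : ∀ z z' : R.W, R.Full x (g + (z : V)) → B (z : V) (z' : V) ≠ 0 →
      ∀ t : F, R.Full x (g + ((z + t • z' : R.W) : V)) := by
    intro z z' hz hne t
    have h := R.full_line hz (hW z') (by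
      rw [map_add, hog z', zero_add, R.swap (z : V) (z' : V), neg_ne_zero]
      exact hne) 1 t
    rwa [one_smul, add_assoc, ← Submodule.coe_smul, ← Submodule.coe_add] at h
  have hall : ∀ z : R.W, z ≠ 0 → R.Full x (g + (z : V)) := by
    intro z hz
    obtain ⟨w₁, h01, h1z⟩ : ∃ w₁ : R.W, B (w₀ : V) (w₁ : V) ≠ 0 ∧ B (w₁ : V) (z : V) ≠ 0 := by
      have hex : ∀ a : R.W, a ≠ 0 → ∃ b : R.W, B (a : V) (b : V) ≠ 0 := fun a ha => by
        by_contra h
        push Not at h
        exact ha (R.BW_sep a h)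
      obtain ⟨a, ha⟩ := hex w₀ hw₀
      obtain ⟨b, hb⟩ := hex z hz
      by_cases ha' : B (z : V) (a : V) = 0
      · by_cases hb' : B (w₀ : V) (b : V) = 0
        · refine ⟨a + b, ?_, ?_⟩
          · rwa [Submodule.coe_add, map_add, hb', add_zero]
          · rw [R.swap (z : V), Submodule.coe_add, map_add, ha', zero_add, neg_ne_zero]
            exact hb
        · exact ⟨b, hb', by rw [R.swap (z : V), neg_ne_zero]; exact hb⟩
      · exact ⟨a, ha, by rw [R.swap (z : V), neg_ne_zero]; exact ha'⟩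
    have h1 : R.Full x (g + (w₁ : V)) := by
      have h := hmove w₀ (w₁ - w₀) hfull (by rwa [Submodule.coe_sub, map_sub, R.hA, sub_zero]) 1
      rwa [one_smul, add_sub_cancel] at h
    have h := hmove w₁ (z - w₁) h1 (by rwa [Submodule.coe_sub, map_sub, R.hA, sub_zero]) 1
    rwa [one_smul, add_sub_cancel] at h
  have hg : R.Full x g := by
    intro t
    obtain ⟨c', hc'0, hc't⟩ : ∃ c' : F, c' ≠ 0 ∧ c' ≠ t := by
      by_contra h
      push Not at h
      haveI := Fintype.ofFinite F
      have : Fintype.card F ≤ ({0, t} : Finset F).card := Finset.card_le_card fun a _ => by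
        rcases eq_or_ne a 0 with ha | ha
        · simp [ha]
        · simp [h a ha]
      rw [← Nat.card_eq_fintype_card] at this
      have := Finset.card_le_two (a := (0 : F)) (b := t)
      omega
    have hc0 : t - c' ≠ 0 := sub_ne_zero.2 hc't.symm
    obtain ⟨w', hw'⟩ : ∃ w' : R.W, w' = (-((t - c') / c')) • w₀ := ⟨_, rfl⟩
    have hw'0 : w' ≠ 0 := by
      rw [hw']
      exact smul_ne_zero (neg_ne_zero.2 (div_ne_zero hc0 hc'0)) hw₀
    have e : altTv R.hA R.hB g t =
        (altTv R.hA R.hB (g + (w₀ : V)) (t - c') * altTv R.hA R.hB (w₀ : V) (-(t - c'))) *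
          (altTv R.hA R.hB (g + (w' : V)) c' * altTv R.hA R.hB (w' : V) (-c')) := by
      refine formIsoms_ext fun y => ?_
      simp only [Subgroup.coe_mul, LinearEquiv.mul_apply, altTv_apply, hw', Submodule.coe_smul,
        map_add, map_smul, LinearMap.add_apply, LinearMap.smul_apply, smul_eq_mul, R.hA,
        hgo w₀, hog w₀]
      match_scalars <;> field_simp <;> ring
    rw [e, mul_smul, mul_smul, mul_smul, hW w', hall w' hw'0, hW w₀, hfull]
  have hvec : ∀ p : {p : F × R.W // p ≠ 0},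
      p.1.1 • g + (p.1.2 : V) ≠ 0 ∧ R.Full x (p.1.1 • g + (p.1.2 : V)) := by
    rintro ⟨⟨b, z⟩, hp⟩
    refine ⟨fun h => ?_, ?_⟩
    · have hz := congrArg R.pr h
      rw [map_add, map_smul, hgW, smul_zero, zero_add, R.pr_W, map_zero] at hz
      dsimp only at hz h
      simp only [hz, ZeroMemClass.coe_zero, add_zero, smul_eq_zero, hg0, or_false] at h
      exact hp (by simp [h, hz])
    · by_cases hb : b = 0
      · simp only [hb, zero_smul, zero_add]; exact hW z
      by_cases hz : z = 0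
      · simp only [hz, ZeroMemClass.coe_zero, add_zero]; exact R.full_smul hg b
      have h := R.full_smul (hall (b⁻¹ • z) (smul_ne_zero (inv_ne_zero hb) hz)) b
      rwa [smul_add, Submodule.coe_smul, smul_inv_smul₀ hb] at h
  have hinj : Function.Injective (fun p : {p : F × R.W // p ≠ 0} =>
      (⟨p.1.1 • g + (p.1.2 : V), hvec p⟩ : {v : V // v ≠ 0 ∧ R.Full x v})) := by
    rintro ⟨⟨b, z⟩, hp⟩ ⟨⟨b', z'⟩, hp'⟩ e
    have e' := congrArg Subtype.val e
    simp only at e'
    have hz := congrArg R.pr e'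
    rw [map_add, map_add, map_smul, map_smul, hgW, smul_zero, smul_zero, zero_add, zero_add,
      R.pr_W, R.pr_W] at hz
    subst hz
    simp [smul_left_injective F hg0 (add_right_cancel e')]
  have h := Nat.card_le_card_of_injective _ hinj
  refine le_trans (le_of_eq ?_) h
  haveI := Fintype.ofFinite F
  haveI := Fintype.ofFinite R.W
  rw [Nat.card_eq_fintype_card (α := {p : F × R.W // p ≠ 0}), Fintype.card_subtype_compl,
    Fintype.card_subtype_eq, Fintype.card_prod, Nat.card_eq_fintype_card, Nat.card_eq_fintype_card]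

/-- Full vectors inside the plane and the complement. -/
theorem card_full_vectors_le {x : X} (h : ∀ v, v ≠ 0 → R.Full x v → R.pr v = 0 ∨
    (B v R.f = 0 ∧ B R.e v = 0)) :
    Nat.card {v : V // v ≠ 0 ∧ R.Full x v} ≤ (Nat.card F ^ 2 - 1) + (Nat.card R.W - 1) := by
  classical
  have : Finite V := Module.finite_of_finite F
  let f : {v : V // v ≠ 0 ∧ R.Full x v} → {p : F × F // p ≠ 0} ⊕ {w : R.W // w ≠ 0} := fun v =>
    if hp : R.pr v.1 = 0 then
      .inl ⟨(B v.1 R.f, B R.e v.1), fun e => v.2.1 (by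
        rw [R.split v.1, hp, (Prod.mk.inj e).1, (Prod.mk.inj e).2]; simp)⟩
    else .inr ⟨R.pr v.1, hp⟩
  have hf : Function.Injective f := by
    intro v v' e
    simp only [f] at e
    by_cases hp : R.pr v.1 = 0 <;> by_cases hp' : R.pr v'.1 = 0
    · rw [dif_pos hp, dif_pos hp'] at e
      have e' := congrArg Subtype.val (Sum.inl.inj e)
      refine Subtype.ext ?_
      rw [R.split v.1, R.split v'.1, hp, hp', (Prod.mk.inj e').1, (Prod.mk.inj e').2]
    · rw [dif_pos hp, dif_neg hp'] at e; exact absurd e Sum.inl_ne_inr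
    · rw [dif_neg hp, dif_pos hp'] at e; exact absurd e Sum.inr_ne_inl
    · rw [dif_neg hp, dif_neg hp'] at e
      have e' := congrArg Subtype.val (Sum.inr.inj e)
      simp only at e'
      obtain ⟨h1, h2⟩ := (h _ v.2.1 v.2.2).resolve_left hp
      obtain ⟨h1', h2'⟩ := (h _ v'.2.1 v'.2.2).resolve_left hp'
      refine Subtype.ext ?_
      rw [R.split v.1, R.split v'.1, e', h1, h2, h1', h2']
  have hc := Nat.card_le_card_of_injective f hf
  haveI := Fintype.ofFinite F
  haveI := Fintype.ofFinite R.W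
  rw [Nat.card_sum, Nat.card_eq_fintype_card (α := {p : F × F // p ≠ 0}),
    Nat.card_eq_fintype_card (α := {w : R.W // w ≠ 0}), Fintype.card_subtype_compl,
    Fintype.card_subtype_eq, Fintype.card_subtype_compl, Fintype.card_subtype_eq,
    Fintype.card_prod, ← Nat.card_eq_fintype_card, ← Nat.card_eq_fintype_card, ← sq] at hc
  exact hc

end Frame

theorem ev_gt {q Y k F Ev : ℕ} (hq : 2 ≤ q) (hY : 1 ≤ Y) (h : Ev * k = (q * q * Y - 1) * F)
    (hk : (q - 1) * k < q * q * Y - 1) (hF : 1 ≤ F) : (q - 1) * F < Ev := by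
  by_contra hc
  push Not at hc
  have h1 : Ev * k ≤ (q - 1) * F * k := Nat.mul_le_mul_right _ hc
  have h2 : (q - 1) * F * k < (q * q * Y - 1) * F := by
    calc (q - 1) * F * k = ((q - 1) * k) * F := by ring
      _ < (q * q * Y - 1) * F := Nat.mul_lt_mul_of_pos_right hk (by omega)
  omega

theorem regular_arith {q Y k F Ev : ℕ} (hq : 2 ≤ q) (hY : 1 ≤ Y)
    (h : Ev * k = (q * q * Y - 1) * F) (hEv : q * Y - 1 ≤ Ev) (hk : q * Y + F ≤ k) :
    q * q * Y - 1 ≤ (q - 1) * k := by
  have h1 : (q * Y - 1) * (q * Y + F) ≤ (q * q * Y - 1) * F :=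
    (Nat.mul_le_mul hEv hk).trans (le_of_eq h)
  obtain ⟨a, ha⟩ : ∃ a, q * Y = a + 1 := ⟨q * Y - 1, by have := Nat.mul_pos (by omega : 0 < q) hY; omega⟩
  obtain ⟨b, rfl⟩ : ∃ b, q = b + 1 := ⟨q - 1, by omega⟩
  rw [show (b + 1) * (b + 1) * Y = (a + 1) + b * (a + 1) by rw [← ha]; ring] at h1 ⊢
  rw [ha, Nat.add_sub_cancel, show a + 1 + b * (a + 1) - 1 = a + b * (a + 1) by omega] at h1
  rw [Nat.add_sub_cancel, show a + 1 + b * (a + 1) - 1 = a + b * (a + 1) by omega]
  have h2 : (a + 1) * a ≤ (a + 1) * (b * F) := by linarith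
  have h3 := Nat.le_of_mul_le_mul_left h2 (by omega)
  have h4 : b * ((a + 1) + F) ≤ b * k := Nat.mul_le_mul_left _ (by rw [← ha]; exact hk)
  linarith

theorem line_arith {q Y k F Ev : ℕ} (hq : 3 ≤ q) (hY : q * q ≤ Y)
    (h : Ev * k = (q * q * Y - 1) * F) (hk : q * q * (Y - 1) + (q - 1) * F ≤ (q - 1) * k)
    (hF : 1 ≤ F) : q * q * Y - 1 ≤ (q - 1) * k := by
  by_contra hc
  push Not at hc
  have hgt := ev_gt (show 2 ≤ q by omega) ((Nat.mul_pos (by omega) (by omega : 0 < q)).trans_le hY) h hc hF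
  obtain ⟨z, hz⟩ : ∃ z, (q - 1) * k + z = q * q * Y - 1 := ⟨_, Nat.add_sub_of_le hc.le⟩
  have e : q * q * (Y - 1) = q * q * Y - q * q := by rw [Nat.mul_sub, mul_one]
  have hqY : q * q ≤ q * q * Y := Nat.le_mul_of_pos_right _ ((Nat.mul_pos (by omega) (by omega : 0 < q)).trans_le hY)
  have hbig : (q * q) * (q * q) ≤ q * q * Y := Nat.mul_le_mul_left _ hY
  obtain ⟨N, hN⟩ : ∃ N, N = q * q * Y - 1 := ⟨_, rfl⟩
  rw [← hN] at hz h
  obtain ⟨D, hD⟩ : ∃ D, Ev = (q - 1) * F + D := ⟨Ev - (q - 1) * F, by omega⟩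
  obtain ⟨G, hG⟩ : ∃ G, G = (q - 1) * F := ⟨_, rfl⟩
  rw [← hG] at hD hk
  have h' : Ev * ((q - 1) * k) = N * G := by rw [hG, mul_left_comm, h]; ring
  have h5 : Ev * z = N * D := by
    have e1 : Ev * ((q - 1) * k) + Ev * z = Ev * N := by rw [← mul_add, hz]
    rw [h', hD] at e1
    rw [hD]
    linarith [e1]
  have hz1 : z + G + 1 ≤ q * q := by omega
  have hD1 : 1 ≤ D := by omega
  have h6 : N * 1 ≤ N * D := Nat.mul_le_mul_left _ hD1
  have h7 : G * z + z ≤ (q * q - 1) * z := by
    rw [← Nat.succ_mul]; exact Nat.mul_le_mul_right _ (by omega)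
  have h8 : (q * q - 1) * z ≤ (q * q - 1) * (q * q - 1) := Nat.mul_le_mul_left _ (by omega)
  have h9 : (q * q - 1) * (q * q - 1) < N := by
    obtain ⟨r, hr⟩ : ∃ r, q * q = r + 1 := ⟨q * q - 1, by omega⟩
    have : 3 ≤ r := by nlinarith
    rw [hr] at hbig
    rw [hN, hr, Nat.add_sub_cancel]
    have : r * r + 2 * r + 1 ≤ (r + 1) * Y := by linarith
    omega
  have h10 : N * (G * z) = (Ev * z) * ((q - 1) * k) := by rw [← mul_assoc N, ← h']; ring
  have h11 : N * ((q - 1) * k) ≤ (Ev * z) * ((q - 1) * k) :=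
    Nat.mul_le_mul_right _ (by rw [h5]; simpa using h6)
  rw [← h10] at h11
  have h12 := Nat.le_of_mul_le_mul_left h11 (by omega)
  omega

end CfsgLib.Classical.SpIdx
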