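import Cfsg.Agent.Lib.Classical.SpIdxTwoExcl

/-!
# Characteristic two: a split stabiliser has no full vector
-/

set_option autoImplicit false

namespace CfsgLib.Classical.SpIdx

open CfsgLib.Geom Module

variable {F V : Type*} [Field F] [AddCommGroup V] [Module F V] [FiniteDimensional F V]
  {B : V →ₗ[F] V →ₗ[F] F} (R : Frame B) {X : Type*} [MulAction (formIsoms B) X]

namespace Frame

theorem not_full_of_split (h2 : (2 : F) = 0) (hq : ∃ s : F, s ≠ 0 ∧ s ≠ 1)
    (hW : 1 < finrank F R.W + 1) {x : X} (hx : R.stA x ≠ ⊤) (hS : R.stS x = ⊤) {v : V}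
    (hv : v ≠ 0) : ¬ R.Full x v := by
  intro hfull
  have hc : ∀ w : R.W, ∃ c, R.rho w c • x = x := fun w =>
    (hS ▸ AddSubgroup.mem_top w : w ∈ R.stS x)
  -- vectors orthogonal to `e`
  have hperp : ∀ v : V, v ≠ 0 → B R.e v = 0 → ¬ R.Full x v := by
    intro v hv he hf
    by_cases hp : R.pr v = 0
    · have e1 : v = B v R.f • R.e := by
        conv_lhs => rw [R.split v, he, hp]
        simp
      rw [e1] at hf hv
      exact hx (R.full_e_iff.1 (R.full_of_smul (left_ne_zero_of_smul hv) hf))
    obtain ⟨w', hw'⟩ : ∃ w' : R.W, B v (w' : V) = 1 := by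
      by_contra hc
      push Not at hc
      refine hp (R.BW_sep _ fun w => by_contra fun h => hc ((B v (w : V))⁻¹ • w) ?_)
      have e : B v (w : V) = R.BW (R.pr v) w := by
        rw [R.BW_apply]
        conv_lhs => rw [R.split v]
        simp [R.e_W, R.f_W]
      rw [Submodule.coe_smul, map_smul, smul_eq_mul, inv_mul_cancel₀ (e ▸ h)]
    have hve : B v R.e = 0 := by rw [R.swap R.e v, he, neg_zero]
    have hline : ∀ t : F, R.Full x (v + t • R.e) := by
      intro t
      obtain ⟨c, hc⟩ := hc (t • w')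
      have h := R.full_map_fixed hc hf
      rwa [R.rho_apply, Submodule.coe_smul, map_smul, hw', hve, smul_eq_mul, mul_one, zero_smul,
        add_zero, mul_zero, zero_smul, add_zero] at h
    obtain ⟨s, hs0, hs1⟩ := hq
    have key : ∀ l t : F, t ≠ 0 → R.rho (l • R.pr v) (l * t) • x = x := by
      intro l t ht
      have e : R.rho (l • R.pr v) (l * t) =
          altTv R.hA R.hB (v + t • R.e) (l / t) * altTv R.hA R.hB v (-(l / t)) := by
        refine formIsoms_ext fun y => ?_
        have hp' : v = B v R.f • R.e + (R.pr v : V) := by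
          conv_lhs => rw [R.split v, he]
          simp
        obtain ⟨a, ha⟩ : ∃ a, a = B v R.f := ⟨_, rfl⟩
        obtain ⟨w, hw⟩ : ∃ w : R.W, w = R.pr v := ⟨_, rfl⟩
        rw [← ha, ← hw] at hp'
        rw [← hw]
        subst hp'
        simp only [Subgroup.coe_mul, LinearEquiv.mul_apply, R.rho_apply, altTv_apply, map_add,
          map_smul, LinearMap.add_apply, LinearMap.smul_apply, Submodule.coe_smul, smul_eq_mul,
          R.hA, R.e_W, R.W_e]
        match_scalars <;> field_simp <;> grind
      rw [e, mul_smul, hf, hline t]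
    refine hx ((AddSubgroup.eq_top_iff' _).2 fun d => ?_)
    have hs : s - 1 ≠ 0 := sub_ne_zero.2 hs1
    obtain ⟨l, rfl⟩ : ∃ l, l * (s - 1) = d := ⟨d / (s - 1), div_mul_cancel₀ _ hs⟩
    rw [mem_stA]
    conv_lhs => rw [← key l 1 one_ne_zero]
    rw [← mul_smul, R.rho_mul_zero, show l * (s - 1) + l * 1 = l * s by ring, key l s hs0]
  -- the others
  have hβ : B R.e v ≠ 0 := fun h => hperp v hv h hfull
  have hzero : ∀ (w : R.W) (c : F), R.rho w c • x = x → c = 0 := by
    intro w c hc'
    by_contra hne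
    obtain ⟨v', hv'⟩ : ∃ v', v' = (R.rho w c).1 v := ⟨_, rfl⟩
    have hf' : R.Full x v' := hv' ▸ R.full_map_fixed hc' hfull
    have hB : B v' v ≠ 0 := by
      have e : B v' v = c * B v R.e * B R.e v + (B v (w : V) * B R.e v + B v R.e * B (w : V) v) := by
        simp only [hv', R.rho_apply, map_add, map_smul, LinearMap.add_apply, LinearMap.smul_apply,
          smul_eq_mul, R.hA]
        ring
      rw [e, R.swap v (w : V), R.swap v R.e]
      have : c * B v R.e * -B v R.e + (B v (w : V) * -B v R.e + B v R.e * -B v (w : V)) =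
          -(c * (B v R.e * B v R.e)) := by linear_combination -(B v (w : V) * B v R.e) * h2
      rw [this]
      refine neg_ne_zero.2 (mul_ne_zero hne (mul_self_ne_zero.2 ?_))
      rwa [R.swap R.e v, neg_ne_zero]
    have h := R.full_line hfull hf' hB (-1) 1
    refine hperp _ ?_ ?_ h
    · intro h0
      rw [neg_one_smul, one_smul, neg_add_eq_zero] at h0
      rw [← h0, R.hA] at hB
      exact hB rfl
    · simp [hv', R.rho_apply, R.hA, R.e_W]
  have : Nontrivial R.W := Module.nontrivial_of_finrank_pos (R := F) (by omega)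
  obtain ⟨w, hw⟩ := exists_ne (0 : R.W)
  obtain ⟨y, hy⟩ : ∃ y : R.W, B (y : V) (w : V) ≠ 0 := by
    by_contra h
    push Not at h
    refine hw (R.BW_sep w fun y => ?_)
    rw [R.BW_apply, R.swap (y : V) (w : V), h, neg_zero]
  obtain ⟨c, hcw⟩ := hc w
  obtain ⟨d, hdy⟩ := hc y
  have e := R.rho_mul w y c d
  have h := hzero (w + y) (c + d + B (y : V) (w : V)) (by rw [← e, mul_smul, hdy, hcw])
  rw [hzero w c hcw, hzero y d hdy, add_zero, zero_add] at h
  exact hy h

end Frame

end CfsgLib.Classical.SpIdx
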