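import Cfsg.Agent.Lib.Classical.AltPerfect

/-!
# A hyperbolic pair of an alternating form and the radical of its point stabiliser
-/

set_option autoImplicit false

namespace CfsgLib.Classical.SpIdx

open CfsgLib.Geom Module

variable {F V : Type*} [Field F] [AddCommGroup V] [Module F V]

/-- A non-degenerate alternating form with a hyperbolic pair. -/
structure Frame (B : V →ₗ[F] V →ₗ[F] F) where
  /-- first vector -/
  e : V
  /-- second vector -/
  f : V
  hA : ∀ v, B v v = 0
  hB : ∀ x, (∀ y, B x y = 0) → x = 0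
  hef : B e f = 1

namespace Frame

variable {B : V →ₗ[F] V →ₗ[F] F} (R : Frame B)

include R in
theorem swap (u v : V) : B v u = -B u v := alt_swap B R.hA u v

theorem hfe : B R.f R.e = -1 := by rw [R.swap R.e R.f, R.hef]

theorem e_ne : R.e ≠ 0 := fun h => by
  have h1 := R.hef
  rw [h, map_zero, LinearMap.zero_apply] at h1
  exact zero_ne_one h1

/-- The orthogonal complement of the pair. -/
def W : Submodule F V := LinearMap.ker (B R.e) ⊓ LinearMap.ker (B R.f)

theorem mem_W {w : V} : w ∈ R.W ↔ B R.e w = 0 ∧ B R.f w = 0 := Iff.rfl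

theorem e_W (w : R.W) : B R.e (w : V) = 0 := w.2.1
theorem f_W (w : R.W) : B R.f (w : V) = 0 := w.2.2
theorem W_e (w : R.W) : B (w : V) R.e = 0 := by rw [R.swap R.e, R.e_W, neg_zero]
theorem W_f (w : R.W) : B (w : V) R.f = 0 := by rw [R.swap R.f, R.f_W, neg_zero]

/-- The projection to the complement. -/
noncomputable def pr : V →ₗ[F] R.W :=
  LinearMap.codRestrict R.W
    (LinearMap.id - (B.flip R.f).smulRight R.e - (B R.e).smulRight R.f) fun x => R.mem_W.2 (by
      constructor <;> simp [R.hA, R.hef, R.hfe, R.swap x R.f])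

theorem coe_pr (x : V) : (R.pr x : V) = x - B x R.f • R.e - B R.e x • R.f := by
  simp [pr, LinearMap.codRestrict_apply]

theorem split (x : V) : x = B x R.f • R.e + B R.e x • R.f + (R.pr x : V) := by
  rw [R.coe_pr]; abel

theorem pr_W (w : R.W) : R.pr (w : V) = w :=
  Subtype.ext (by rw [R.coe_pr, R.W_f, R.e_W]; simp)

theorem pr_plane (a b : F) : R.pr (a • R.e + b • R.f) = 0 :=
  Subtype.ext (by simp [R.coe_pr, R.hA, R.hef])

/-- Coordinates. -/
noncomputable def coords : V ≃ₗ[F] F × F × R.W where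
  toFun x := (B x R.f, B R.e x, R.pr x)
  map_add' x y := by simp [map_add]
  map_smul' c x := by simp [map_smul]
  invFun p := p.1 • R.e + p.2.1 • R.f + (p.2.2 : V)
  left_inv x := (R.split x).symm
  right_inv := fun ⟨a, b, w⟩ => by
    refine Prod.ext ?_ (Prod.ext ?_ ?_)
    · simp [R.hef, R.hA, R.W_f]
    · simp [R.hef, R.hA, R.e_W]
    · simp only
      rw [map_add, R.pr_plane, R.pr_W, zero_add]

theorem finrank_W [FiniteDimensional F V] : finrank F R.W + 2 = finrank F V := by
  rw [R.coords.finrank_eq, finrank_prod, finrank_prod, finrank_self]; ring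

theorem natCard_V : Nat.card V = Nat.card F ^ 2 * Nat.card R.W := by
  rw [Nat.card_congr R.coords.toEquiv, Nat.card_prod, Nat.card_prod]; ring

/-- The form on the complement. -/
noncomputable def BW : R.W →ₗ[F] R.W →ₗ[F] F := B.compl₁₂ R.W.subtype R.W.subtype

theorem BW_apply (u w : R.W) : R.BW u w = B (u : V) (w : V) := rfl

theorem BW_self (w : R.W) : R.BW w w = 0 := R.hA _

theorem B_pr (u : R.W) (y : V) : B (u : V) y = B (u : V) (R.pr y : V) := by
  conv_lhs => rw [R.split y]
  simp [R.W_e, R.W_f]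

theorem BW_sep (u : R.W) (h : ∀ w, R.BW u w = 0) : u = 0 :=
  Subtype.ext (R.hB _ fun y => by rw [R.B_pr]; exact h (R.pr y))

variable [FiniteDimensional F V]

/-- The map `x ↦ x + B(x,w) e + B(x,e) w + c B(x,e) e`. -/
def rhoLin (w : R.W) (c : F) : V →ₗ[F] V :=
  LinearMap.id + (B.flip (w : V)).smulRight R.e + (B.flip R.e).smulRight (w : V) +
    c • (B.flip R.e).smulRight R.e

theorem exists_rho (w : R.W) (c : F) : ∃ g : formIsoms B, ∀ x, g.1 x =
    x + B x (w : V) • R.e + B x R.e • (w : V) + (c * B x R.e) • R.e := by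
  have h : ∀ x, R.rhoLin w c x =
      x + B x (w : V) • R.e + B x R.e • (w : V) + (c * B x R.e) • R.e := fun x => by
    simp [rhoLin, smul_smul]
  obtain ⟨g, hg, hgx⟩ := exists_mem_formIsoms B R.hB (R.rhoLin w c) fun u v => by
    simp only [h, map_add, map_smul, LinearMap.add_apply, LinearMap.smul_apply, smul_eq_mul,
      R.hA, R.e_W, R.W_e]
    rw [R.swap v R.e, R.swap v (w : V)]
    ring
  exact ⟨⟨g, hg⟩, fun x => (hgx x).trans (h x)⟩

/-- The element of the radical of the point stabiliser. -/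
noncomputable def rho (w : R.W) (c : F) : formIsoms B := (R.exists_rho w c).choose

theorem rho_apply (w : R.W) (c : F) (x : V) : (R.rho w c).1 x =
    x + B x (w : V) • R.e + B x R.e • (w : V) + (c * B x R.e) • R.e :=
  (R.exists_rho w c).choose_spec x

theorem rho_mul (w w' : R.W) (c c' : F) :
    R.rho w c * R.rho w' c' = R.rho (w + w') (c + c' + B (w' : V) (w : V)) := by
  refine formIsoms_ext fun x => ?_
  simp only [Subgroup.coe_mul, LinearEquiv.mul_apply, R.rho_apply, map_add, map_smul,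
    LinearMap.add_apply, LinearMap.smul_apply, smul_eq_mul, R.hA, R.e_W, R.W_e, Submodule.coe_add]
  module

theorem rho_zero : R.rho 0 0 = 1 := formIsoms_ext fun x => by simp [R.rho_apply]

theorem rho_tv (c : F) : R.rho 0 c = altTv R.hA R.hB R.e c :=
  formIsoms_ext fun x => by simp [R.rho_apply, altTv_apply]

theorem rho_inv (w : R.W) (c : F) : (R.rho w c)⁻¹ = R.rho (-w) (-c) := by
  refine inv_eq_of_mul_eq_one_right ?_
  rw [R.rho_mul, Submodule.coe_neg, map_neg, LinearMap.neg_apply, R.hA, add_neg_cancel,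
    add_neg_cancel, neg_zero, add_zero, R.rho_zero]

theorem rho_mul_zero (w : R.W) (c d : F) : R.rho 0 c * R.rho w d = R.rho w (c + d) := by
  rw [R.rho_mul, zero_add, ZeroMemClass.coe_zero, map_zero, add_zero]

/-- The elements scaling the pair. -/
def Scales (g : formIsoms B) (s : F) : Prop := g.1 R.e = s • R.e ∧ g.1 R.f = s⁻¹ • R.f

theorem scales_W {g : formIsoms B} {s : F} (hs : s ≠ 0) (hg : R.Scales g s) (w : R.W) :
    g.1 (w : V) ∈ R.W := by
  refine R.mem_W.2 ⟨?_, ?_⟩
  · have h := g.2 R.e (w : V)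
    rw [hg.1, R.e_W, map_smul, LinearMap.smul_apply, smul_eq_mul] at h
    exact (mul_eq_zero.1 h).resolve_left hs
  · have h := g.2 R.f (w : V)
    rw [hg.2, R.f_W, map_smul, LinearMap.smul_apply, smul_eq_mul] at h
    exact (mul_eq_zero.1 h).resolve_left (inv_ne_zero hs)

theorem scales_mul {g h : formIsoms B} {s t : F} (hg : R.Scales g s) (hh : R.Scales h t) :
    R.Scales (g * h) (s * t) :=
  ⟨by rw [Subgroup.coe_mul, LinearEquiv.mul_apply, hh.1, map_smul, hg.1, smul_smul, mul_comm],
    by rw [Subgroup.coe_mul, LinearEquiv.mul_apply, hh.2, map_smul, hg.2, smul_smul, mul_inv,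
      mul_comm]⟩

theorem scales_inv {g : formIsoms B} {s : F} (hs : s ≠ 0) (hg : R.Scales g s) :
    R.Scales g⁻¹ s⁻¹ := by
  refine ⟨g.1.injective ?_, g.1.injective ?_⟩
  · rw [map_smul, hg.1, smul_smul, inv_mul_cancel₀ hs, one_smul]
    exact g.1.apply_symm_apply _
  · rw [map_smul, hg.2, smul_smul, inv_inv, mul_inv_cancel₀ hs, one_smul]
    exact g.1.apply_symm_apply _

theorem conj_rho {g : formIsoms B} {s : F} (hs : s ≠ 0) (hg : R.Scales g s) (w : R.W) (c : F) :
    g * R.rho w c * g⁻¹ = R.rho (s • ⟨g.1 (w : V), R.scales_W hs hg w⟩) (s * s * c) := by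
  refine formIsoms_ext fun x => ?_
  obtain ⟨y, rfl⟩ := g.1.surjective x
  rw [Subgroup.coe_mul, Subgroup.coe_mul, LinearEquiv.mul_apply, LinearEquiv.mul_apply,
    Subgroup.coe_inv, LinearEquiv.coe_inv, LinearEquiv.symm_apply_apply, R.rho_apply, R.rho_apply]
  have h1 : B (g.1 y) (g.1 (w : V)) = B y (w : V) := g.2 _ _
  have h2 : s * B (g.1 y) R.e = B y R.e := by
    rw [← g.2 y R.e, hg.1, map_smul, smul_eq_mul]
  simp only [map_add, map_smul, hg.1, Submodule.coe_smul, smul_eq_mul, h1, ← h2]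
  module

/-- The extension of an isometry of the complement. -/
theorem exists_ext (g : formIsoms R.BW) : ∃ h : formIsoms B, ∀ x,
    h.1 x = B x R.f • R.e + B R.e x • R.f + (g.1 (R.pr x) : V) := by
  let T : V →ₗ[F] V :=
    (B.flip R.f).smulRight R.e + (B R.e).smulRight R.f +
      R.W.subtype.comp ((g.1 : R.W →ₗ[F] R.W).comp R.pr)
  have hT : ∀ x, T x = B x R.f • R.e + B R.e x • R.f + (g.1 (R.pr x) : V) := fun x => by simp [T]
  obtain ⟨h, hh, hhx⟩ := exists_mem_formIsoms B R.hB T fun u v => by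
    have hg : B (g.1 (R.pr u) : V) (g.1 (R.pr v) : V) = B (R.pr u : V) (R.pr v : V) :=
      g.2 (R.pr u) (R.pr v)
    conv_rhs => rw [R.split u, R.split v]
    simp only [hT, map_add, map_smul, LinearMap.add_apply, LinearMap.smul_apply, smul_eq_mul, R.hA,
      R.e_W, R.f_W, R.W_e, R.W_f, R.hef, R.hfe, hg]
  exact ⟨⟨h, hh⟩, fun x => (hhx x).trans (hT x)⟩

/-- Extension of isometries of the complement. -/
noncomputable def ext (g : formIsoms R.BW) : formIsoms B := (R.exists_ext g).choose

theorem ext_apply (g : formIsoms R.BW) (x : V) :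
    (R.ext g).1 x = B x R.f • R.e + B R.e x • R.f + (g.1 (R.pr x) : V) :=
  (R.exists_ext g).choose_spec x

theorem ext_W (g : formIsoms R.BW) (w : R.W) : (R.ext g).1 (w : V) = (g.1 w : V) := by
  simp [R.ext_apply, R.W_f, R.e_W, R.pr_W]

theorem ext_plane (g : formIsoms R.BW) (a b : F) :
    (R.ext g).1 (a • R.e + b • R.f) = a • R.e + b • R.f := by
  rw [R.ext_apply, R.pr_plane]
  simp [R.hef, R.hA]

theorem ext_scales (g : formIsoms R.BW) : R.Scales (R.ext g) 1 := by
  have h1 := R.ext_plane g 1 0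
  have h2 := R.ext_plane g 0 1
  simp only [one_smul, zero_smul, add_zero, zero_add] at h1 h2
  exact ⟨by rw [h1, one_smul], by rw [h2, inv_one, one_smul]⟩

theorem exists_torus_fix {s : F} (hs : s ≠ 0) :
    ∃ d : formIsoms B, R.Scales d s ∧ ∀ w : R.W, d.1 (w : V) = w := by
  let T : V →ₗ[F] V :=
    s • (B.flip R.f).smulRight R.e + s⁻¹ • (B R.e).smulRight R.f + R.W.subtype.comp R.pr
  have hT : ∀ x, T x = (s * B x R.f) • R.e + (s⁻¹ * B R.e x) • R.f + (R.pr x : V) := fun x => by
    simp [T, smul_smul]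
  obtain ⟨h, hh, hhx⟩ := exists_mem_formIsoms B R.hB T fun u v => by
    conv_rhs => rw [R.split u, R.split v]
    simp only [hT, map_add, map_smul, LinearMap.add_apply, LinearMap.smul_apply, smul_eq_mul, R.hA,
      R.e_W, R.f_W, R.W_e, R.W_f, R.hef, R.hfe]
    field_simp
    ring
  refine ⟨⟨h, hh⟩, ⟨?_, ?_⟩, fun w => ?_⟩
  · show h R.e = _
    have := R.pr_plane 1 0
    simp only [one_smul, zero_smul, add_zero] at this
    rw [hhx, hT, this]
    simp [R.hef, R.hA]
  · show h R.f = _
    have := R.pr_plane 0 1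
    simp only [one_smul, zero_smul, zero_add] at this
    rw [hhx, hT, this]
    simp [R.hef, R.hA]
  · show h (w : V) = _
    rw [hhx, hT, R.pr_W]
    simp [R.W_f, R.e_W]

theorem exists_torus {s : F} (hs : s ≠ 0) : ∃ d : formIsoms B, R.Scales d s :=
  (R.exists_torus_fix hs).imp fun _ h => h.1

/-- Transitivity of the complement group on pairs of equal product. -/
theorem exists_move_pair {u v u' v' : R.W} (h1 : LinearIndependent F ![u, v])
    (h2 : LinearIndependent F ![u', v']) (h : B (u : V) (v : V) = B (u' : V) (v' : V)) :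
    ∃ g : formIsoms B, R.Scales g 1 ∧ g.1 (u : V) = u' ∧ g.1 (v : V) = v' := by
  obtain ⟨g, hu, hv⟩ := exists_isom_pair (B := R.BW) R.BW_self R.BW_sep h1 h2 h
  exact ⟨R.ext g, R.ext_scales g, by rw [R.ext_W, hu], by rw [R.ext_W, hv]⟩

/-- Transitivity of the complement group on non-zero vectors. -/
theorem exists_move {u u' : R.W} (h1 : u ≠ 0) (h2 : u' ≠ 0) :
    ∃ g : formIsoms B, R.Scales g 1 ∧ g.1 (u : V) = u' := by
  obtain ⟨g, hu⟩ := exists_isom_one (B := R.BW) R.BW_self R.BW_sep h1 h2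
  exact ⟨R.ext g, R.ext_scales g, by rw [R.ext_W, hu]⟩

/-- Minus one on the complement. -/
theorem exists_flip : ∃ i : formIsoms B, R.Scales i 1 ∧
    ∀ x, i.1 x = B x R.f • R.e + B R.e x • R.f - (R.pr x : V) := by
  let g : formIsoms R.BW := ⟨LinearEquiv.neg F, fun u v => by simp⟩
  exact ⟨R.ext g, R.ext_scales g, fun x => by rw [R.ext_apply]; simp [g, sub_eq_add_neg]⟩

end Frame

end CfsgLib.Classical.SpIdx
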