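import Cfsg.Agent.Lib.Classical.SpIdxCount

/-!
# Transvection groups fixing a point
-/

set_option autoImplicit false

namespace CfsgLib.Classical.SpIdx

open CfsgLib.Geom Module

variable {F V : Type*} [Field F] [AddCommGroup V] [Module F V] [FiniteDimensional F V]
  {B : V →ₗ[F] V →ₗ[F] F} (R : Frame B) {X : Type*} [MulAction (formIsoms B) X]

namespace Frame

theorem full_smul {x : X} {v : V} (h : R.Full x v) (t : F) : R.Full x (t • v) := fun c => by
  rw [altTv_smul]; exact h _

theorem full_of_smul {x : X} {v : V} {t : F} (ht : t ≠ 0) (h : R.Full x (t • v)) : R.Full x v := by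
  have h' := R.full_smul h t⁻¹
  rwa [smul_smul, inv_mul_cancel₀ ht, one_smul] at h'

theorem full_zero (x : X) : R.Full x 0 := fun c => by
  rw [show altTv R.hA R.hB (0 : V) c = 1 from formIsoms_ext fun z => by simp [altTv_apply], one_smul]

theorem full_map {g : formIsoms B} {x : X} {v : V} (h : R.Full x v) : R.Full (g • x) (g.1 v) :=
  fun c => by
    rw [← altTv_conj R.hA R.hB g v c, ← mul_smul, inv_mul_cancel_right, mul_smul, h c]

theorem full_map_fixed {g : formIsoms B} {x : X} (hg : g • x = x) {v : V} (h : R.Full x v) :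
    R.Full x (g.1 v) := hg ▸ R.full_map h

theorem full_line {x : X} {v z : V} (hv : R.Full x v) (hz : R.Full x z) (hne : B z v ≠ 0)
    (a b : F) : R.Full x (a • v + b • z) := by
  by_cases hb : b = 0
  · rw [hb, zero_smul, add_zero]; exact R.full_smul hv a
  refine R.full_of_smul (inv_ne_zero hb) ?_
  have h := R.full_map_fixed (hv ((b⁻¹ * a) * (B z v)⁻¹)) hz
  rw [altTv_apply, mul_assoc, inv_mul_cancel₀ hne, mul_one] at h
  rwa [smul_add, smul_smul, smul_smul, inv_mul_cancel₀ hb, one_smul, add_comm]

theorem full_of_partial {x : X} {v z : V} {c : F} (hc : c ≠ 0)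
    (ht : altTv R.hA R.hB v c • x = x) (hz : R.Full x z) (hne : B z v ≠ 0) : R.Full x v := by
  have h1 := R.full_map_fixed ht hz
  rw [altTv_apply] at h1
  set l := c * B z v with hl
  have hl0 : l ≠ 0 := mul_ne_zero hc hne
  have hne' : B (z + l • v) z ≠ 0 := by
    rw [map_add, LinearMap.add_apply, R.hA, map_smul, LinearMap.smul_apply, zero_add, smul_eq_mul,
      R.swap z v, mul_neg, neg_ne_zero]
    exact mul_ne_zero hl0 hne
  have h2 := R.full_line hz h1 hne' (-1) 1
  rw [neg_one_smul, one_smul, neg_add_cancel_left] at h2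
  exact R.full_of_smul hl0 h2

/-- Minus one on the complement. -/
noncomputable def flipI : formIsoms B := R.exists_flip.choose

theorem flipI_scales : R.Scales R.flipI 1 := R.exists_flip.choose_spec.1

theorem flipI_apply (x : V) :
    R.flipI.1 x = B x R.f • R.e + B R.e x • R.f - (R.pr x : V) :=
  R.exists_flip.choose_spec.2 x

theorem flipI_add (a b : F) (w : R.W) :
    R.flipI.1 (a • R.e + b • R.f + (w : V)) = a • R.e + b • R.f - (w : V) := by
  rw [R.flipI_apply, map_add R.pr, R.pr_plane, R.pr_W]
  simp [R.hef, R.hA, R.W_f, R.e_W]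

theorem flipI_W (w : R.W) : R.flipI.1 (w : V) = -(w : V) := by
  simpa using R.flipI_add 0 0 w

theorem flipI_comm {g : formIsoms B} (hg : R.Scales g 1) : g * R.flipI = R.flipI * g := by
  refine formIsoms_ext fun x => ?_
  simp only [Subgroup.coe_mul, LinearEquiv.mul_apply]
  have he : g.1 R.e = R.e := by rw [hg.1, one_smul]
  have hf : g.1 R.f = R.f := by rw [hg.2, inv_one, one_smul]
  have hgx : g.1 x = B x R.f • R.e + B R.e x • R.f +
      ((⟨_, R.scales_W one_ne_zero hg (R.pr x)⟩ : R.W) : V) := by
    conv_lhs => rw [R.split x]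
    rw [map_add, map_add, map_smul, map_smul, he, hf]
  rw [hgx, R.flipI_add, R.flipI_apply, map_sub, map_add, map_smul, map_smul, he, hf]

/-- A full vector with both components: each component is full. -/
theorem full_parts (h2 : (2 : F) ≠ 0) {x : X} (hi : R.flipI • x = x) {a b : F} {w : R.W}
    (hb : R.Full x (a • R.e + b • R.f + (w : V))) {u : R.W} (hu : R.Full x (u : V))
    (hw : R.Full x (w : V) ∨ B (u : V) (w : V) ≠ 0) :
    R.Full x (w : V) ∧ R.Full x (a • R.e + b • R.f) := by
  obtain ⟨g, hg⟩ : ∃ g, g = a • R.e + b • R.f := ⟨_, rfl⟩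
  rw [← hg] at hb ⊢
  have hgW : ∀ z : R.W, B g (z : V) = 0 ∧ B (z : V) g = 0 := fun z => by
    simp [hg, R.e_W, R.f_W, R.W_e, R.W_f]
  have hb' : R.Full x (g - (w : V)) := by
    have h := R.full_map_fixed hi hb
    rwa [hg, R.flipI_add, ← hg] at h
  have hprod : ∀ c, altTv R.hA R.hB (g + (w : V)) c * altTv R.hA R.hB (g - (w : V)) c =
      altTv R.hA R.hB g (2 * c) * altTv R.hA R.hB (w : V) (2 * c) := by
    intro c
    refine formIsoms_ext fun z => ?_
    simp only [Subgroup.coe_mul, LinearEquiv.mul_apply, altTv_apply, map_add, map_sub, map_smul,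
      LinearMap.add_apply, LinearMap.sub_apply, LinearMap.smul_apply, R.hA, (hgW w).1, (hgW w).2,
      smul_eq_mul]
    module
  have hz : ∀ c, (altTv R.hA R.hB g (2 * c) * altTv R.hA R.hB (w : V) (2 * c)) • x = x := fun c => by
    rw [← hprod, mul_smul, hb', hb]
  have hwfull : R.Full x (w : V) := by
    rcases hw with h | hne
    · exact h
    set l := (2 : F) * B (u : V) (w : V) with hl
    have h1 := R.full_map_fixed (hz 1) hu
    rw [Subgroup.coe_mul, LinearEquiv.mul_apply, altTv_apply, altTv_apply, map_add,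
      LinearMap.add_apply, map_smul, LinearMap.smul_apply, (hgW u).2, (hgW w).2, smul_zero,
      add_zero, mul_zero, zero_smul, add_zero, mul_one, ← hl] at h1
    have hl0 : l ≠ 0 := mul_ne_zero h2 hne
    have h3 := R.full_line hu h1 (by
      rw [map_add, LinearMap.add_apply, R.hA, map_smul, LinearMap.smul_apply, zero_add, smul_eq_mul,
        R.swap (u : V) (w : V), mul_neg, neg_ne_zero]
      exact mul_ne_zero hl0 hne) (-1) 1
    rw [neg_one_smul, one_smul, neg_add_cancel_left] at h3
    exact R.full_of_smul hl0 h3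
  refine ⟨hwfull, fun c => ?_⟩
  have h := hz (c / 2)
  rw [mul_smul, hwfull, mul_div_cancel₀ _ h2] at h
  exact h

variable [Finite F] [Finite X]

/-- Double counting of fixed transvection groups. -/
theorem full_count [MulAction.IsPretransitive (formIsoms B) X] (x : X) :
    Nat.card {v : V // v ≠ 0 ∧ R.Full x v} * Nat.card X =
      (Nat.card V - 1) * Nat.card {z : X // R.Full z R.e} := by
  classical
  have : Finite V := Module.finite_of_finite F
  have := Fintype.ofFinite V
  have := Fintype.ofFinite X
  have hV : ∀ z : X, Nat.card {v : V // v ≠ 0 ∧ R.Full z v} =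
      Nat.card {v : V // v ≠ 0 ∧ R.Full x v} := by
    intro z
    obtain ⟨g, rfl⟩ := MulAction.exists_smul_eq (formIsoms B) x z
    refine Nat.card_congr (Equiv.subtypeEquiv g.1.symm.toEquiv fun v => ?_)
    refine and_congr (by simp) ⟨fun h => ?_, fun h => ?_⟩
    · have h' := R.full_map (g := g⁻¹) h
      rwa [inv_smul_smul] at h'
    · have h' := R.full_map (g := g) h
      rwa [show g.1 (g.1.symm.toEquiv v) = v from g.1.apply_symm_apply v] at h'
  have hX : ∀ v : V, v ≠ 0 →
      Nat.card {z : X // R.Full z v} = Nat.card {z : X // R.Full z R.e} := by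
    intro v hv
    obtain ⟨g, hg⟩ := exists_isom_one R.hA R.hB hv R.e_ne
    refine Nat.card_congr (Equiv.subtypeEquiv (MulAction.toPerm g) fun z => ⟨fun h => ?_, fun h => ?_⟩)
    · exact hg ▸ R.full_map h
    · have h' := R.full_map (g := g⁻¹) h
      rwa [MulAction.toPerm_apply, inv_smul_smul, ← hg,
        show (g⁻¹).1 (g.1 v) = v from g.1.symm_apply_apply v] at h'
  have key := Finset.sum_card_bipartiteAbove_eq_sum_card_bipartiteBelow
    (r := fun (z : X) (v : V) => R.Full z v) (s := (Finset.univ : Finset X))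
    (t := Finset.univ.erase (0 : V))
  have e1 : ∀ z : X, (Finset.bipartiteAbove (fun (z : X) (v : V) => R.Full z v)
      (Finset.univ.erase (0 : V)) z).card = Nat.card {v : V // v ≠ 0 ∧ R.Full x v} := fun z => by
    rw [← hV z, Nat.card_eq_fintype_card, Fintype.card_subtype]
    congr 1
    ext v
    simp [Finset.bipartiteAbove]
  have e2 : ∀ v ∈ Finset.univ.erase (0 : V), (Finset.bipartiteBelow
      (fun (z : X) (v : V) => R.Full z v) (Finset.univ : Finset X) v).card =
      Nat.card {z : X // R.Full z R.e} := fun v hv => by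
    rw [← hX v (Finset.ne_of_mem_erase hv), Nat.card_eq_fintype_card, Fintype.card_subtype]
    rfl
  rw [Finset.sum_congr rfl fun z _ => e1 z, Finset.sum_congr rfl e2, Finset.sum_const,
    Finset.sum_const, Finset.card_univ, Finset.card_erase_of_mem (Finset.mem_univ _),
    Finset.card_univ, smul_eq_mul, smul_eq_mul] at key
  rw [Nat.card_eq_fintype_card (α := X), Nat.card_eq_fintype_card (α := V), mul_comm]
  exact key

end Frame

end CfsgLib.Classical.SpIdx
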