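import Cfsg.Agent.Lib.Classical.SpIdxFrame

/-!
# The stabiliser of a point of a permutation representation in the radical
-/

set_option autoImplicit false

namespace CfsgLib.Classical.SpIdx

open CfsgLib.Geom Module

variable {F V : Type*} [Field F] [AddCommGroup V] [Module F V] [FiniteDimensional F V]
  {B : V →ₗ[F] V →ₗ[F] F} (R : Frame B) {X : Type*} [MulAction (formIsoms B) X]

namespace Frame

/-- The transvections at `v` fix `x`. -/
def Full (x : X) (v : V) : Prop := ∀ c : F, altTv R.hA R.hB v c • x = x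

/-- The transvections at `e` fixing `x`. -/
def stA (x : X) : AddSubgroup F where
  carrier := {c | R.rho 0 c • x = x}
  zero_mem' := by simp [R.rho_zero]
  add_mem' := fun {a b} (ha : R.rho 0 a • x = x) (hb : R.rho 0 b • x = x) => by
    change R.rho 0 (a + b) • x = x
    rw [← R.rho_mul_zero, mul_smul, hb, ha]
  neg_mem' := fun {a} (ha : R.rho 0 a • x = x) => by
    change R.rho 0 (-a) • x = x
    rw [← neg_zero (G := R.W), ← R.rho_inv, inv_smul_eq_iff, ha]

theorem mem_stA {x : X} {c : F} : c ∈ R.stA x ↔ R.rho 0 c • x = x := Iff.rfl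

/-- The complement components of the radical elements fixing `x`. -/
def stS (x : X) : AddSubgroup R.W where
  carrier := {w | ∃ c, R.rho w c • x = x}
  zero_mem' := ⟨0, by simp [R.rho_zero]⟩
  add_mem' := fun {a b} ⟨c, hc⟩ ⟨d, hd⟩ => ⟨_, by rw [← R.rho_mul, mul_smul, hd, hc]⟩
  neg_mem' := fun {a} ⟨c, hc⟩ => ⟨-c, by rw [← R.rho_inv, inv_smul_eq_iff, hc]⟩

theorem mem_stS {x : X} {w : R.W} : w ∈ R.stS x ↔ ∃ c, R.rho w c • x = x := Iff.rfl

theorem full_e_iff {x : X} : R.Full x R.e ↔ R.stA x = ⊤ := by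
  simp only [Full, AddSubgroup.eq_top_iff', mem_stA, R.rho_tv]

theorem two_B_mem {x : X} {w w' : R.W} (hw : w ∈ R.stS x) (hw' : w' ∈ R.stS x) :
    2 * B (w : V) (w' : V) ∈ R.stA x := by
  obtain ⟨c, hc⟩ := hw
  obtain ⟨d, hd⟩ := hw'
  have e : R.rho w' d * R.rho w c = R.rho 0 (2 * B (w : V) (w' : V)) * (R.rho w c * R.rho w' d) := by
    rw [R.rho_mul, R.rho_mul, R.rho_mul_zero, R.swap (w : V) (w' : V), add_comm w' w]
    congr 1
    ring
  rw [mem_stA]
  calc R.rho 0 (2 * B (w : V) (w' : V)) • x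
      = R.rho 0 (2 * B (w : V) (w' : V)) • R.rho w c • R.rho w' d • x := by rw [hd, hc]
    _ = (R.rho 0 (2 * B (w : V) (w' : V)) * (R.rho w c * R.rho w' d)) • x := by
      rw [mul_smul, mul_smul]
    _ = x := by rw [← e, mul_smul, hc, hd]

theorem rho_conj_rho (w v : R.W) (c d : F) :
    R.rho w c * R.rho v d * (R.rho w c)⁻¹ = R.rho v (d + 2 * B (v : V) (w : V)) := by
  rw [R.rho_inv, R.rho_mul, R.rho_mul, Submodule.coe_add, map_add, Submodule.coe_neg, map_neg,
    LinearMap.neg_apply, LinearMap.neg_apply, R.hA, R.swap (v : V) (w : V)]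
  exact congrArg₂ R.rho (by abel) (by ring)

theorem stA_rho (w : R.W) (c : F) (x : X) : R.stA (R.rho w c • x) = R.stA x := by
  ext d
  have h := R.rho_conj_rho w 0 c d
  rw [ZeroMemClass.coe_zero, map_zero, LinearMap.zero_apply, mul_zero, add_zero,
    mul_inv_eq_iff_eq_mul] at h
  rw [mem_stA, mem_stA, ← mul_smul, ← h, mul_smul]
  exact ⟨fun e => MulAction.injective _ e, fun e => by rw [e]⟩

theorem stS_rho (w : R.W) (c : F) (x : X) : R.stS (R.rho w c • x) = R.stS x := by
  ext v
  rw [mem_stS, mem_stS]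
  constructor
  · rintro ⟨d, hd⟩
    refine ⟨d - 2 * B (v : V) (w : V), ?_⟩
    have h := R.rho_conj_rho w v c (d - 2 * B (v : V) (w : V))
    rw [sub_add_cancel, mul_inv_eq_iff_eq_mul] at h
    rw [← mul_smul, ← h, mul_smul] at hd
    exact MulAction.injective _ hd
  · rintro ⟨d, hd⟩
    refine ⟨d + 2 * B (v : V) (w : V), ?_⟩
    have h := R.rho_conj_rho w v c d
    rw [mul_inv_eq_iff_eq_mul] at h
    rw [← mul_smul, ← h, mul_smul, hd]

/-- The label of a point. -/
def label (x : X) : AddSubgroup R.W × AddSubgroup F := (R.stS x, R.stA x)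

theorem label_rho (w : R.W) (c : F) (x : X) : R.label (R.rho w c • x) = R.label x := by
  rw [label, label, R.stS_rho, R.stA_rho]

theorem mem_stA_smul {g : formIsoms B} {s : F} (hs : s ≠ 0) (hg : R.Scales g s) (x : X) (c : F) :
    s * s * c ∈ R.stA (g • x) ↔ c ∈ R.stA x := by
  have h := R.conj_rho hs hg 0 c
  have e : (⟨g.1 ((0 : R.W) : V), R.scales_W hs hg 0⟩ : R.W) = 0 := Subtype.ext (map_zero g.1)
  rw [e, smul_zero, mul_inv_eq_iff_eq_mul] at h
  rw [mem_stA, mem_stA, ← mul_smul, ← h, mul_smul]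
  exact ⟨fun e => MulAction.injective _ e, fun e => by rw [e]⟩

theorem mem_stS_smul {g : formIsoms B} {s : F} (hs : s ≠ 0) (hg : R.Scales g s) (x : X) (w : R.W) :
    s • (⟨g.1 (w : V), R.scales_W hs hg w⟩ : R.W) ∈ R.stS (g • x) ↔ w ∈ R.stS x := by
  rw [mem_stS, mem_stS]
  constructor
  · rintro ⟨d, hd⟩
    refine ⟨(s * s)⁻¹ * d, ?_⟩
    have h := R.conj_rho hs hg w ((s * s)⁻¹ * d)
    rw [mul_inv_cancel_left₀ (mul_ne_zero hs hs), mul_inv_eq_iff_eq_mul] at h
    rw [← mul_smul, ← h, mul_smul] at hd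
    exact MulAction.injective _ hd
  · rintro ⟨d, hd⟩
    refine ⟨s * s * d, ?_⟩
    have h := R.conj_rho hs hg w d
    rw [mul_inv_eq_iff_eq_mul] at h
    rw [← mul_smul, ← h, mul_smul, hd]

theorem card_stS_smul {g : formIsoms B} {s : F} (hs : s ≠ 0) (hg : R.Scales g s) (x : X) :
    Nat.card (R.stS (g • x)) = Nat.card (R.stS x) := by
  let φ : R.W → R.W := fun w => s • ⟨g.1 (w : V), R.scales_W hs hg w⟩
  have hb : Function.Bijective φ := by
    refine ⟨fun a b e => ?_, fun w => ?_⟩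
    · have e' := congrArg (Subtype.val) (smul_right_injective R.W hs e)
      exact Subtype.ext (g.1.injective e')
    · refine ⟨⟨(g⁻¹).1 ((s⁻¹ • w : R.W) : V),
        R.scales_W (inv_ne_zero hs) (R.scales_inv hs hg) _⟩, ?_⟩
      change s • (⟨g.1 _, _⟩ : R.W) = w
      rw [show (⟨g.1 ((g⁻¹).1 ((s⁻¹ • w : R.W) : V)), _⟩ : R.W) = s⁻¹ • w from
        Subtype.ext (g.1.apply_symm_apply _), smul_inv_smul₀ hs]
  exact (Nat.card_congr ((Equiv.ofBijective φ hb).subtypeEquiv fun w =>
    (R.mem_stS_smul hs hg x w).symm)).symm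

theorem card_stA_smul {g : formIsoms B} {s : F} (hs : s ≠ 0) (hg : R.Scales g s) (x : X) :
    Nat.card (R.stA (g • x)) = Nat.card (R.stA x) :=
  (Nat.card_congr ((Equiv.mulLeft₀ (s * s) (mul_ne_zero hs hs)).subtypeEquiv fun c =>
    (R.mem_stA_smul hs hg x c).symm)).symm

/-- The labels of the translates by elements scaling the pair. -/
def fam (x : X) : Set (AddSubgroup R.W × AddSubgroup F) :=
  {l | ∃ g : formIsoms B, ∃ s : F, s ≠ 0 ∧ R.Scales g s ∧ R.label (g • x) = l}

theorem stA_ne_top {x y : X} (hx : R.stA x ≠ ⊤) (hy : R.label y ∈ R.fam x) : R.stA y ≠ ⊤ := by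
  obtain ⟨g, s, hs, hg, hl⟩ := hy
  intro htop
  refine hx ((AddSubgroup.eq_top_iff' _).2 fun c => (R.mem_stA_smul hs hg x c).1 ?_)
  rw [show R.stA (g • x) = R.stA y from congrArg Prod.snd hl, htop]
  exact AddSubgroup.mem_top _

variable [Finite F] [Finite X]

/-- Translates with distinct labels are disjoint, and none is fixed by all transvections at `e`. -/
theorem fam_mul_le {x : X} (hx : R.stA x ≠ ⊤) :
    (R.fam x).ncard * Nat.card {z : X // R.label z = R.label x} +
      Nat.card {z : X // R.Full z R.e} ≤ Nat.card X := by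
  classical
  have : Finite V := Module.finite_of_finite F
  have : Finite R.W := inferInstance
  rw [← Nat.card_coe_set_eq, ← Nat.card_prod, ← Nat.card_sum]
  choose g s hs hg hl using fun l : R.fam x => l.2
  have hlab : ∀ (l : R.fam x) (z : X), R.label z = R.label x → R.label (g l • z) = l.1 := by
    intro l z hz
    have key : ∀ y : X, R.stS y = R.stS x → R.stA y = R.stA x → R.label (g l • y) = l.1 := by
      intro y h1 h2
      rw [← hl l]
      refine Prod.ext ?_ ?_
      · ext w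
        obtain ⟨v, rfl⟩ : ∃ v : R.W, s l • (⟨(g l).1 (v : V), R.scales_W (hs l) (hg l) v⟩ : R.W) = w := by
          refine ⟨⟨((g l)⁻¹).1 (((s l)⁻¹ • w : R.W) : V),
            R.scales_W (inv_ne_zero (hs l)) (R.scales_inv (hs l) (hg l)) _⟩, ?_⟩
          rw [show (⟨(g l).1 (((g l)⁻¹).1 (((s l)⁻¹ • w : R.W) : V)), _⟩ : R.W) = (s l)⁻¹ • w from
            Subtype.ext ((g l).1.apply_symm_apply _), smul_inv_smul₀ (hs l)]
        change _ ∈ R.stS _ ↔ _ ∈ R.stS _
        rw [R.mem_stS_smul (hs l) (hg l), R.mem_stS_smul (hs l) (hg l), h1]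
      · ext c
        rw [show c = s l * s l * ((s l * s l)⁻¹ * c) by
          rw [mul_inv_cancel_left₀ (mul_ne_zero (hs l) (hs l))]]
        change _ ∈ R.stA _ ↔ _ ∈ R.stA _
        rw [R.mem_stA_smul (hs l) (hg l), R.mem_stA_smul (hs l) (hg l), h2]
    exact key z (congrArg Prod.fst hz) (congrArg Prod.snd hz)
  refine Nat.card_le_card_of_injective (fun p : (R.fam x × {z : X // R.label z = R.label x}) ⊕
      {z : X // R.Full z R.e} => match p with
    | .inl p => g p.1 • p.2.1
    | .inr z => z.1) ?_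
  have hne : ∀ (l : R.fam x) (z : {z : X // R.label z = R.label x}) (y : {z : X // R.Full z R.e}),
      g l • z.1 ≠ y.1 := by
    intro l z y e
    have h := hlab l z.1 z.2
    rw [e] at h
    exact R.stA_ne_top hx (h ▸ l.2 : R.label y.1 ∈ R.fam x) (R.full_e_iff.1 y.2)
  rintro (⟨l, z⟩ | y) (⟨l', z'⟩ | y') e
  · simp only at e
    obtain rfl : l = l' := Subtype.ext (by rw [← hlab l z.1 z.2, ← hlab l' z'.1 z'.2, e])
    rw [Subtype.ext (MulAction.injective _ e)]
  · exact absurd e (hne l z y')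
  · exact absurd e.symm (hne l' z' y)
  · rw [Subtype.ext e]

omit [Finite X] in
/-- The size of an orbit of the radical. -/
theorem le_card_orbit (x : X) :
    Nat.card F * Nat.card R.W ≤
      Nat.card (Set.range fun p : R.W × F => R.rho p.1 p.2 • x) *
        (Nat.card (R.stS x) * Nat.card (R.stA x)) := by
  classical
  have : Finite V := Module.finite_of_finite F
  have := Fintype.ofFinite F
  have := Fintype.ofFinite R.W
  choose c hc using fun w : R.stS x => w.2
  rw [mul_comm (Nat.card F), ← Nat.card_prod]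
  let f : R.W × F → X := fun p => R.rho p.1 p.2 • x
  have hfib : ∀ z ∈ Finset.univ.image f, (Finset.univ.filter fun p => f p = z).card ≤
      Nat.card (R.stS x) * Nat.card (R.stA x) := by
    intro z hz
    obtain ⟨p₀, -, rfl⟩ := Finset.mem_image.1 hz
    rw [← Fintype.card_subtype, ← Nat.card_eq_fintype_card, ← Nat.card_prod]
    have hmem : ∀ p : {p // f p = f p₀},
        (R.rho p₀.1 p₀.2)⁻¹ * R.rho p.1.1 p.1.2 ∈ MulAction.stabilizer (formIsoms B) x := fun p =>
      MulAction.mem_stabilizer_iff.2 (by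
        rw [mul_smul]; exact inv_smul_eq_iff.2 p.2)
    have hfix : ∀ p : {p // f p = f p₀}, ∃ d, R.rho (-p₀.1 + p.1.1) d • x = x := fun p => by
      have h := MulAction.mem_stabilizer_iff.1 (hmem p)
      rw [R.rho_inv, R.rho_mul] at h
      exact ⟨_, h⟩
    have hA : ∀ p : {p // f p = f p₀},
        -p₀.2 + p.1.2 + B (p.1.1 : V) ((-p₀.1 : R.W) : V) - c ⟨-p₀.1 + p.1.1, hfix p⟩ ∈ R.stA x := by
      intro p
      have h := MulAction.mem_stabilizer_iff.1 (hmem p)
      rw [R.rho_inv, R.rho_mul,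
        ← sub_add_cancel (-p₀.2 + p.1.2 + B (p.1.1 : V) ((-p₀.1 : R.W) : V))
          (c ⟨-p₀.1 + p.1.1, hfix p⟩), ← R.rho_mul_zero, mul_smul, hc ⟨_, hfix p⟩] at h
      exact h
    refine Nat.card_le_card_of_injective
      (fun p => ((⟨_, hfix p⟩ : R.stS x), (⟨_, hA p⟩ : R.stA x))) fun p p' e => ?_
    simp only [Prod.mk.injEq, Subtype.mk.injEq] at e
    obtain ⟨e1, e2⟩ := e
    have e1' := add_left_cancel (congrArg (fun w : R.stS x => (w : R.W)) e1)
    refine Subtype.ext (Prod.ext e1' ?_)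
    simp only [e1', sub_left_inj, add_left_inj, add_right_inj] at e2
    exact e2
  have h := Finset.card_le_mul_card_image (f := f) (s := Finset.univ) _ hfib
  rw [Finset.card_univ, ← Nat.card_eq_fintype_card, mul_comm] at h
  refine h.trans (le_of_eq ?_)
  congr 1
  rw [Nat.card_coe_set_eq, ← Set.ncard_coe_finset]
  congr 1
  simp [f]

omit [Finite F] [Finite X] in
theorem range_subset_label (x : X) :
    (Set.range fun p : R.W × F => R.rho p.1 p.2 • x) ⊆ {z | R.label z = R.label x} := by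
  rintro _ ⟨p, rfl⟩
  exact R.label_rho p.1 p.2 x

end Frame

end CfsgLib.Classical.SpIdx
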