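import Cfsg.Agent.Lib.Classical.SpIdxFix

/-!
# The centre given by a torus element
-/

set_option autoImplicit false

namespace CfsgLib.Classical.SpIdx

open CfsgLib.Geom Module

variable {F V : Type*} [Field F] [AddCommGroup V] [Module F V] [FiniteDimensional F V]
  {B : V →ₗ[F] V →ₗ[F] F} (R : Frame B) {X : Type*} [MulAction (formIsoms B) X] [Finite F]

namespace Frame

theorem exists_torus_center {s : F} (hs : s ≠ 0) (hs2 : s * s ≠ 1) {x : X} (h1 : R.One x)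
    (hS : ∀ (t : F) (w : R.W), w ∈ R.stS x → t • w ∈ R.stS x) (hA : R.stA x = ⊥) :
    ∃ x₀ : X, R.label x₀ = R.label x ∧ ∀ g : formIsoms B, R.Scales g 1 →
      R.stS (g • x₀) = R.stS x₀ →
      (∀ d : formIsoms B, R.Scales d s → (∀ w : R.W, d.1 (w : V) = w) → g * d = d * g) →
      g • x₀ = x₀ := by
  have : Finite V := Module.finite_of_finite F
  obtain ⟨d, hd, hdW⟩ := R.exists_torus_fix hs
  have hw' : ∀ w : R.W, (⟨d.1 (w : V), R.scales_W hs hd w⟩ : R.W) = w := fun w =>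
    Subtype.ext (hdW w)
  have hlab : R.label (d • x) = R.label x := by
    refine Prod.ext ?_ ?_
    · ext w
      have h := R.mem_stS_smul hs hd x (s⁻¹ • w)
      rw [hw', smul_inv_smul₀ hs] at h
      refine h.trans ⟨fun h' => ?_, hS _ w⟩
      change w ∈ R.stS x
      simpa [smul_smul, mul_inv_cancel₀ hs] using hS s _ h'
    · have h := R.card_stA_smul hs hd x
      rw [hA, AddSubgroup.card_bot] at h
      exact (AddSubgroup.card_eq_one.1 h).trans hA.symm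
  obtain ⟨w, c, hwc⟩ := h1 _ hlab
  have hcomm : ∀ (v : R.W) (b : F), d * R.rho v b = R.rho (s • v) (s * s * b) * d := fun v b => by
    have h := R.conj_rho hs hd v b
    rw [hw', mul_inv_eq_iff_eq_mul] at h
    exact h
  have hs1 : s - 1 ≠ 0 := sub_ne_zero.2 fun e => hs2 (by rw [e, one_mul])
  have hss : s * s - 1 ≠ 0 := sub_ne_zero.2 hs2
  obtain ⟨v, hv⟩ : ∃ v : R.W, v = (-(s - 1)⁻¹) • w := ⟨_, rfl⟩
  obtain ⟨b, hb⟩ : ∃ b : F, b = -(c / (s * s - 1)) := ⟨_, rfl⟩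
  obtain ⟨x₀, hx₀⟩ : ∃ x₀, x₀ = R.rho v b • x := ⟨_, rfl⟩
  have hdx : d • x₀ = x₀ := by
    rw [hx₀, ← mul_smul, hcomm, mul_smul, ← hwc, ← mul_smul, R.rho_mul]
    congr 2
    · rw [hv]; match_scalars; field_simp; ring
    · rw [hv, Submodule.coe_smul, Submodule.coe_smul]
      simp only [map_smul, R.hA, smul_eq_mul, mul_zero, add_zero, hb]
      linear_combination -(div_mul_cancel₀ c hss)
  have hl₀ : R.label x₀ = R.label x := hx₀ ▸ R.label_rho v b x
  refine ⟨x₀, hl₀, fun g hg hgS hgd => ?_⟩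
  obtain ⟨v₁, b₁, hvb⟩ := h1 (g • x₀)
    (Prod.ext (hgS.trans (congrArg Prod.fst hl₀))
      ((R.stA_smul_one hg x₀).trans (congrArg Prod.snd hl₀)))
  obtain ⟨w', c', hwc'⟩ : ∃ w' c', R.rho w' c' • x₀ = g • x₀ :=
    ⟨v₁ + -v, b₁ + -b + B ((-v : R.W) : V) (v₁ : V), by
      rw [← R.rho_mul, mul_smul, ← R.rho_inv, hx₀, inv_smul_smul, hvb, hx₀]⟩
  have hfix : d • g • x₀ = g • x₀ := by rw [← mul_smul, ← hgd d hd hdW, mul_smul, hdx]
  rw [← hwc', ← mul_smul, hcomm, mul_smul, hdx, eq_comm, ← inv_smul_eq_iff, ← mul_smul, R.rho_inv,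
    R.rho_mul] at hfix
  have hS0 : ∀ (t : F) (z : R.W), z ∈ R.stS x₀ → t • z ∈ R.stS x₀ := by
    rw [show R.stS x₀ = R.stS x from congrArg Prod.fst hl₀]; exact hS
  have hA0 : R.stA x₀ = ⊥ := (congrArg Prod.snd hl₀ : R.stA x₀ = R.stA x).trans hA
  obtain ⟨e, he⟩ : w' ∈ R.stS x₀ := by
    have h : -(s • w') + w' ∈ R.stS x₀ := ⟨_, hfix⟩
    have h' := hS0 (-(s - 1)⁻¹) _ h
    rwa [show (-(s - 1)⁻¹) • (-(s • w') + w') = w' by match_scalars; field_simp; ring] at h'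
  have hgz : g • x₀ = R.rho 0 (c' - e) • x₀ := by
    rw [← hwc', show R.rho w' c' = R.rho 0 (c' - e) * R.rho w' e by
      rw [R.rho_mul_zero, sub_add_cancel], mul_smul, he]
  have hfix2 : d • g • x₀ = g • x₀ := by rw [← mul_smul, ← hgd d hd hdW, mul_smul, hdx]
  rw [hgz, ← mul_smul, hcomm, smul_zero, mul_smul, hdx] at hfix2
  have h : s * s * (c' - e) - (c' - e) ∈ R.stA x₀ := by
    rw [mem_stA, sub_eq_add_neg, add_comm, ← R.rho_mul_zero, mul_smul, hfix2, ← mul_smul,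
      R.rho_mul_zero, neg_add_cancel, R.rho_zero, one_smul]
  rw [hA0, AddSubgroup.mem_bot] at h
  have h' : (s * s - 1) * (c' - e) = 0 := by linear_combination h
  rw [hgz, (mul_eq_zero.1 h').resolve_left hss, R.rho_zero, one_smul]

omit [Finite F] in
theorem torus_full {s : F} {x₀ : X}
    (h : ∀ g : formIsoms B, R.Scales g 1 → R.stS (g • x₀) = R.stS x₀ →
      (∀ d : formIsoms B, R.Scales d s → (∀ w : R.W, d.1 (w : V) = w) → g * d = d * g) →
      g • x₀ = x₀)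
    {u : R.W} (hS : ∀ c, R.stS (altTv R.hA R.hB (u : V) c • x₀) = R.stS x₀) :
    R.Full x₀ (u : V) := fun c => by
  refine h _ ⟨by simp [altTv_apply, R.e_W], by simp [altTv_apply, R.f_W]⟩ (hS c) fun d _ hdW => ?_
  conv_lhs => rw [← hdW u, ← altTv_conj, inv_mul_cancel_right]

end Frame

end CfsgLib.Classical.SpIdx
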