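import Cfsg.Agent.Lib.Classical.SpIdxEnd
import Cfsg.Agent.Lib.Classical.SpIdxTorus
import Cfsg.Agent.Lib.Classical.SpIdxEven

/-!
# The bound over fields with at least three elements
-/

set_option autoImplicit false

namespace CfsgLib.Classical.SpIdx

open CfsgLib.Geom Module

variable {F V : Type*} [Field F] [Finite F] [AddCommGroup V] [Module F V] [FiniteDimensional F V]
  {B : V →ₗ[F] V →ₗ[F] F} (R : Frame B) {X : Type*} [MulAction (formIsoms B) X] [Finite X]

theorem dvd_cases {d q : ℕ} (h : d ∣ q) (hq : 0 < q) :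
    d = q ∨ (2 * d ≤ q ∧ (q % 2 = 1 → 3 * d ≤ q)) := by
  obtain ⟨c, rfl⟩ := h
  rcases eq_or_ne c 1 with rfl | h1
  · exact Or.inl (mul_one d).symm
  have h0 : c ≠ 0 := by rintro rfl; simp at hq
  refine Or.inr ⟨?_, fun hodd => ?_⟩
  · rw [mul_comm 2]; exact Nat.mul_le_mul_left _ (by omega)
  · rw [mul_comm 3]
    refine Nat.mul_le_mul_left _ ?_
    rcases Nat.lt_or_ge c 3 with h3 | h3
    · obtain rfl : c = 2 := by omega
      omega
    · exact h3

theorem odd_card {F : Type*} [Field F] [Finite F] (h2 : (2 : F) ≠ 0) : Nat.card F % 2 = 1 := by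
  haveI := Fintype.ofFinite F
  rw [Nat.card_eq_fintype_card]
  refine FiniteField.odd_card_of_char_ne_two fun e => h2 ?_
  haveI : CharP F 2 := ringChar.of_eq e
  exact CharTwo.two_eq_zero

theorem exists_sq_ne_one {F : Type*} [Field F] [Finite F] (h4 : 4 ≤ Nat.card F) :
    ∃ s : F, s ≠ 0 ∧ s * s ≠ 1 := by
  classical
  haveI := Fintype.ofFinite F
  by_contra h
  push Not at h
  have : Fintype.card F ≤ ({0, 1, -1} : Finset F).card := Finset.card_le_card fun a _ => by
    rcases eq_or_ne a 0 with ha | ha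
    · simp [ha]
    · rcases mul_self_eq_one_iff.1 (h a ha) with h' | h' <;> simp [h']
  rw [← Nat.card_eq_fintype_card] at this
  have := Finset.card_le_three (a := (0 : F)) (b := 1) (c := -1)
  omega

theorem four_le_card {F : Type*} [Field F] [Finite F] (h2 : (2 : F) = 0) (h3 : 3 ≤ Nat.card F) :
    4 ≤ Nat.card F := by
  by_contra hlt
  haveI := CharTwo.of_one_ne_zero_of_two_eq_zero (R := F) one_ne_zero h2
  haveI := Fintype.ofFinite F
  obtain ⟨n, -, hn⟩ := FiniteField.card F 2
  rw [← Nat.card_eq_fintype_card] at hn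
  have hn2 : 2 ∣ Nat.card F := hn ▸ dvd_pow_self 2 n.ne_zero
  omega

theorem two_lt_sq_mul {q a M : ℕ} (hq : 1 ≤ q) (ha : 2 ≤ a) (hM : q - 1 ≤ M * (a - 1))
    (h2a : 2 * a ≤ q) : q * q ≤ (q - 1) * (M * a) := by
  obtain ⟨b, rfl⟩ : ∃ b, q = b + 1 := ⟨q - 1, by omega⟩
  obtain ⟨c, rfl⟩ : ∃ c, a = c + 1 := ⟨a - 1, by omega⟩
  simp only [Nat.add_sub_cancel] at hM ⊢
  refine Nat.le_of_mul_le_mul_right ?_ (show 0 < c by omega)
  have h1 : b * (c + 1) * b ≤ b * (c + 1) * (M * c) := Nat.mul_le_mul_left _ hM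
  have h2 : (b + 1) * (2 * (c + 1)) ≤ (b + 1) * (b + 1) := Nat.mul_le_mul_left _ h2a
  linarith

namespace Frame

theorem perp_line {ψ : AddChar F ℂ} (hψ : ψ.IsPrimitive) {x : X} {u : R.W} (hu : u ≠ 0)
    (hsub : ∀ v ∈ R.perp ψ (R.stS x), ∃ t : F, v = t • u) :
    Nat.card (R.perp ψ (R.stS x)) ∣ Nat.card F ∧
    (Nat.card (R.perp ψ (R.stS x)) = Nat.card F →
      ∀ w, w ∈ R.stS x ↔ R.BW u w = 0) := by
  classical
  have : Finite V := Module.finite_of_finite F
  let φ : F →+ R.W := AddMonoidHom.mk' (fun t => t • u) fun a b => add_smul a b u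
  have hφ : Function.Injective φ := smul_left_injective F hu
  have hcard : Nat.card ((R.perp ψ (R.stS x)).comap φ) = Nat.card (R.perp ψ (R.stS x)) := by
    refine Nat.card_congr (Equiv.ofBijective (fun t => ⟨φ t.1, t.2⟩) ⟨fun a b e =>
      Subtype.ext (hφ (congrArg Subtype.val e)), fun v => ?_⟩)
    obtain ⟨t, ht⟩ := hsub v.1 v.2
    exact ⟨⟨t, show φ t ∈ R.perp ψ (R.stS x) from (ht ▸ v.2 : t • u ∈ R.perp ψ (R.stS x))⟩,
      Subtype.ext ht.symm⟩
  refine ⟨hcard ▸ AddSubgroup.card_addSubgroup_dvd_card _, fun hd => ?_⟩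
  have htop : (R.perp ψ (R.stS x)).comap φ = ⊤ :=
    (AddSubgroup.card_eq_iff_eq_top _).1 (hcard.trans hd)
  have hall : ∀ t : F, t • u ∈ R.perp ψ (R.stS x) := fun t =>
    (htop ▸ AddSubgroup.mem_top t : t ∈ (R.perp ψ (R.stS x)).comap φ)
  have hle : ∀ w ∈ R.stS x, R.BW u w = 0 := by
    intro w hw
    by_contra hne
    refine hψ hne (DFunLike.ext _ _ fun r => ?_)
    have h := hall r w hw
    rw [map_smul, LinearMap.smul_apply, smul_eq_mul, mul_comm] at h
    rw [AddChar.mulShift_apply, AddChar.one_apply, h]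
  obtain ⟨K, hK⟩ : ∃ K : AddSubgroup R.W, K = (LinearMap.ker (R.BW u)).toAddSubgroup := ⟨_, rfl⟩
  have hmem : ∀ w, w ∈ K ↔ R.BW u w = 0 := fun w => by rw [hK]; exact LinearMap.mem_ker
  have hKne : LinearMap.ker (R.BW u) ≠ ⊤ := fun h => hu (R.BW_sep u fun w =>
    LinearMap.mem_ker.1 (h ▸ Submodule.mem_top))
  have hKcard : Nat.card K * Nat.card F ≤ Nat.card R.W := by
    have h := Submodule.finrank_lt hKne
    rw [hK, show Nat.card (LinearMap.ker (R.BW u)).toAddSubgroup =
      Nat.card (LinearMap.ker (R.BW u)) from rfl, Module.natCard_eq_pow_finrank (K := F),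
      Module.natCard_eq_pow_finrank (K := F) (V := R.W), ← pow_succ]
    exact Nat.pow_le_pow_right Nat.card_pos h
  have hSK : R.stS x ≤ K := fun w hw => (hmem w).2 (hle w hw)
  have hSeq : R.stS x = K := by
    refine AddSubgroup.eq_of_le_of_card_ge hSK ?_
    rw [← R.card_perp ψ hψ (R.stS x), hd, mul_comm (Nat.card F)] at hKcard
    exact Nat.le_of_mul_le_mul_right hKcard Nat.card_pos
  intro w
  rw [hSeq, hmem]

theorem plane_eq_zero (h2 : (2 : F) ≠ 0) {x : X} (hA : R.stA x ≠ ⊤) (hA' : R.stA x ≠ ⊥) {a b : F}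
    (h : R.Full x (a • R.e + b • R.f)) : a = 0 ∧ b = 0 := by
  by_cases hb : b = 0
  · refine ⟨by_contra fun ha => hA (R.full_e_iff.1 (R.full_of_smul ha ?_)), hb⟩
    rwa [hb, zero_smul, add_zero] at h
  obtain ⟨c, hc, hc0⟩ : ∃ c ∈ R.stA x, c ≠ 0 := by
    by_contra hne
    push Not at hne
    exact hA' ((AddSubgroup.eq_bot_iff_forall _).2 hne)
  rw [mem_stA, R.rho_tv] at hc
  refine absurd (R.full_e_iff.1 (R.full_of_partial hc0 hc h ?_)) hA
  simp [R.hA, R.hfe, hb]

/-- The main bound. -/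
theorem card_ge [MulAction.IsPretransitive (formIsoms B) X] (hk : 1 < Nat.card X)
    (hq : 3 ≤ Nat.card F) (h4 : 4 ≤ finrank F V) (h3 : Nat.card F = 3 → 6 ≤ finrank F V) :
    Nat.card F * Nat.card F * Nat.card R.W - 1 ≤ (Nat.card F - 1) * Nat.card X := by
  classical
  have : Finite V := Module.finite_of_finite F
  obtain ⟨ψ, hψ⟩ := exists_psi (F := F)
  have hfr := R.finrank_W
  obtain ⟨q, hqd⟩ : ∃ q, q = Nat.card F := ⟨_, rfl⟩
  obtain ⟨Y, hYd⟩ : ∃ Y, Y = Nat.card R.W := ⟨_, rfl⟩
  obtain ⟨k, hkd⟩ : ∃ k, k = Nat.card X := ⟨_, rfl⟩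
  rw [← hqd, ← hYd, ← hkd]
  have hYpow : Y = q ^ finrank F R.W := by
    rw [hYd, hqd, Module.natCard_eq_pow_finrank (K := F) (V := R.W)]
  have hY2 : q * q ≤ Y := by
    rw [hYpow, ← sq]; exact Nat.pow_le_pow_right (by omega) (by omega)
  have hqq : 9 ≤ q * q := Nat.mul_le_mul (by omega : 3 ≤ q) (by omega : 3 ≤ q)
  by_contra hcon
  push Not at hcon
  obtain ⟨x₀, hx₀⟩ := R.exists_stA_ne_top hk
  -- a point with a proper annihilator
  obtain ⟨x₁, hx₁, hS₁⟩ : ∃ x : X, R.stA x ≠ ⊤ ∧ R.stS x ≠ ⊤ := by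
    by_cases h2 : (2 : F) = 0
    · by_contra hno
      push Not at hno
      obtain ⟨s, hs, hs'⟩ := exists_sq_ne_one (four_le_card h2 hq)
      have hs : ∃ s : F, s ≠ 0 ∧ s ≠ 1 := ⟨s, hs, fun e => hs' (by rw [e, one_mul])⟩
      have hF0 : Nat.card {z : X // R.Full z R.e} = 0 := by
        have h := R.full_count (X := X) x₀
        have : IsEmpty {v : V // v ≠ 0 ∧ R.Full x₀ v} :=
          ⟨fun v => R.not_full_of_split h2 hs (by omega) hx₀ (hno x₀ hx₀) v.2.1 v.2.2⟩
        rw [Nat.card_of_isEmpty, zero_mul, R.natCard_V, ← hqd, ← hYd] at h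
        have hpos : 0 < q ^ 2 * Y - 1 := by
          have := Nat.mul_le_mul (show 9 ≤ q ^ 2 by rw [sq]; omega) (show 1 ≤ Y by omega)
          omega
        exact (Nat.mul_eq_zero.1 h.symm).resolve_left (by omega)
      refine R.false_of_split h2 (fun y => hno y fun h => ?_) hx₀ (Or.inl ⟨h4, ?_⟩)
      · have : Nonempty {z : X // R.Full z R.e} := ⟨⟨y, R.full_e_iff.2 h⟩⟩
        exact (Nat.card_pos (α := {z : X // R.Full z R.e})).ne' hF0
      · exact four_le_card h2 hq
    · refine ⟨x₀, hx₀, fun h => ?_⟩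
      have h' := R.stS_sq_dvd h2 hx₀
      rw [h, AddSubgroup.card_top, ← hYd] at h'
      have hle := Nat.le_of_dvd (by omega) h'
      have := Nat.mul_le_mul_left Y (show 2 ≤ Y by omega)
      omega
  -- a translate with the fewest conjugates
  obtain ⟨x, ⟨hxA, hxS⟩, hmin⟩ := Set.exists_min_image
    {y : X | Nat.card (R.stA y) = Nat.card (R.stA x₁) ∧ Nat.card (R.stS y) = Nat.card (R.stS x₁)}
    (fun y => (R.famS y).ncard) (Set.toFinite _) ⟨x₁, rfl, rfl⟩
  have hx : R.stA x ≠ ⊤ := fun h => hx₁ ((AddSubgroup.card_eq_iff_eq_top _).1 (by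
    rw [← hxA, h, AddSubgroup.card_top]))
  have hS : R.stS x ≠ ⊤ := fun h => hS₁ ((AddSubgroup.card_eq_iff_eq_top _).1 (by
    rw [← hxS, h, AddSubgroup.card_top]))
  obtain ⟨N, hNd⟩ : ∃ N, N = (R.famS x).ncard := ⟨_, rfl⟩
  obtain ⟨M, hMd⟩ : ∃ M, M = (Prod.snd '' R.fam x).ncard := ⟨_, rfl⟩
  obtain ⟨a, had⟩ : ∃ a, a = (R.stA x).index := ⟨_, rfl⟩
  obtain ⟨d, hdd⟩ : ∃ d, d = Nat.card (R.perp ψ (R.stS x)) := ⟨_, rfl⟩
  obtain ⟨C, hCd⟩ : ∃ C, C = Nat.card {z : X // R.label z = R.label x} := ⟨_, rfl⟩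
  obtain ⟨E, hEd⟩ : ∃ E, E = Nat.card {z : X // R.Full z R.e} := ⟨_, rfl⟩
  have hb : M * N * C + E ≤ k := by
    rw [hMd, hCd, hEd, hkd, hNd]
    refine (Nat.add_le_add_right (Nat.mul_le_mul_right _ (R.fam_count x _ fun g s hs hg => ?_)) _).trans
      (R.fam_mul_le hx)
    exact hmin _ ⟨(R.card_stA_smul hs hg x).trans hxA, (R.card_stS_smul hs hg x).trans hxS⟩
  have hC1 : a * d ≤ C := by rw [had, hdd, hCd]; exact R.le_card_label ψ hψ x
  have hC2 : ¬ R.One x → 2 * (a * d) ≤ C := fun h => by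
    rw [had, hdd, hCd]; exact R.le_card_label_of_not_one ψ hψ h
  have hM1 : 1 ≤ M := hMd ▸ (Set.ncard_pos (Set.toFinite _)).2 ⟨R.stA ((1 : formIsoms B) • x),
    _, ⟨1, 1, one_ne_zero, ⟨by simp, by simp⟩, rfl⟩, rfl⟩
  have hN1 : 1 ≤ N := hNd ▸ R.famS_pos x
  have ha2 : 2 ≤ a := by
    have h0 : (R.stA x).index ≠ 0 := AddSubgroup.index_ne_zero_of_finite
    have h1 : (R.stA x).index ≠ 1 := fun h => hx (AddSubgroup.index_eq_one.1 h)
    omega
  have haq : a ∣ q := had ▸ hqd ▸ AddSubgroup.index_dvd_card _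
  have hU : R.perp ψ (R.stS x) ≠ ⊥ := R.perp_ne_bot ψ hψ hS
  have hd2 : 2 ≤ d := hdd ▸ (AddSubgroup.one_lt_card_iff_ne_bot _).2 hU
  have hcov : Y - 1 ≤ N * (d - 1) := by
    rw [hYd, hNd, hdd]; exact (R.cover_count ψ hψ hU).1
  have hNd' : Y ≤ N * d := by rw [hYd, hNd, hdd]; exact R.card_le_famS_mul ψ hψ hS
  have hdS : d * Nat.card (R.stS x) = Y := by rw [hdd, hYd]; exact R.card_perp ψ hψ _
  have hdodd : (2 : F) ≠ 0 → Y ≤ d * d := fun h2 => by
    have h := Nat.le_of_dvd (by rw [← hYd]; omega) (R.stS_sq_dvd h2 hx)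
    rw [← hYd, ← hdS] at h
    rw [← hdS]
    exact Nat.mul_le_mul_left _ (Nat.le_of_mul_le_mul_right h Nat.card_pos)
  have hfc : ∀ z : X, Nat.card {v : V // v ≠ 0 ∧ R.Full z v} * k = (q * q * Y - 1) * E := fun z => by
    rw [hkd, hEd, hqd, hYd, R.full_count z, R.natCard_V, sq]
  have hk1 : M * N * C ≤ k := by omega
  -- doubling gives the bound
  have hdouble : (a = q ∨ 2 * a ≤ q) → ∀ L, 2 * Y ≤ L → M * (a * L) ≤ k → False := by
    intro hcase L hL hLk
    have h1 : (q - 1) * (M * a) * (2 * Y) ≤ (q - 1) * k := by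
      calc (q - 1) * (M * a) * (2 * Y) ≤ (q - 1) * (M * a) * L := Nat.mul_le_mul_left _ hL
        _ = (q - 1) * (M * (a * L)) := by ring
        _ ≤ _ := Nat.mul_le_mul_left _ hLk
    have h2 : q * q ≤ 2 * ((q - 1) * (M * a)) := by
      rcases hcase with h | h
      · subst h
        have h5 : (a - 1) * (1 * a) ≤ (a - 1) * (M * a) :=
          Nat.mul_le_mul_left _ (Nat.mul_le_mul_right _ hM1)
        have h6 : a * a ≤ (2 * (a - 1)) * a := Nat.mul_le_mul_right _ (by omega)
        linarith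
      · have h5 : q - 1 ≤ 2 * M * (a - 1) := by
          rw [hqd, hMd, had, mul_assoc]; exact (R.famA_count hx).1
        have := two_lt_sq_mul (by omega) ha2 h5 h
        linarith
    have h3 : q * q * Y ≤ 2 * ((q - 1) * (M * a)) * Y := Nat.mul_le_mul_right _ h2
    have h4 : q * q * Y ≤ (q - 1) * k := h3.trans (le_of_eq (by ring) |>.trans h1)
    omega
  have hacase : a = q ∨ 2 * a ≤ q := (dvd_cases haq (by omega)).imp id And.left
  -- one orbit with the label
  have hone : R.One x := by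
    by_contra h
    refine hdouble hacase (2 * (N * d)) (by omega) (le_trans ?_ hk1)
    calc M * (a * (2 * (N * d))) = M * N * (2 * (a * d)) := by ring
      _ ≤ M * N * C := Nat.mul_le_mul_left _ (hC2 h)
  -- the annihilator is everything or lies in a line
  have hshape : R.perp ψ (R.stS x) = ⊤ ∨ ∃ u : R.W, u ≠ 0 ∧
      ∀ v ∈ R.perp ψ (R.stS x), ∃ t : F, v = t • u := by
    by_contra hno
    push Not at hno
    obtain ⟨htop, hline⟩ := hno
    have hpart : ∀ u : R.W, ∃ v ∈ R.perp ψ (R.stS x), ∀ t : F, v ≠ t • u := fun u => by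
      by_cases hu : u = 0
      · obtain ⟨v, hv, hv0⟩ : ∃ v ∈ R.perp ψ (R.stS x), v ≠ 0 := by
          by_contra h
          push Not at h
          exact hU ((AddSubgroup.eq_bot_iff_forall _).2 h)
        exact ⟨v, hv, fun t => by rwa [hu, smul_zero]⟩
      · exact hline u hu
    have h := (R.cover_count ψ hψ hU).2 htop hpart
    rw [← hYd, ← hNd, ← hdd] at h
    have hdY : d < Y := by
      rw [hdd, hYd]
      rcases Nat.lt_or_ge (Nat.card (R.perp ψ (R.stS x))) (Nat.card R.W) with h' | h'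
      · exact h'
      · exact absurd ((AddSubgroup.card_eq_iff_eq_top _).1
          (le_antisymm (Nat.card_le_card_of_injective _ Subtype.val_injective) h')) htop
    have hN2 : 2 ≤ N := by
      by_contra h'
      obtain rfl : N = 1 := by omega
      omega
    have e : N * d = N * (d - 1) + N := by
      obtain ⟨d', rfl⟩ : ∃ d', d = d' + 1 := ⟨d - 1, by omega⟩
      rw [Nat.add_sub_cancel]; ring
    refine hdouble hacase (N * d) (by omega) (le_trans ?_ hk1)
    calc M * (a * (N * d)) = M * N * (a * d) := by ring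
      _ ≤ M * N * C := Nat.mul_le_mul_left _ hC1
  rcases dvd_cases haq (by omega) with haq' | ⟨h2a, h3a⟩
  · -- the stabiliser at `e` is trivial
    have hAbot : R.stA x = ⊥ := by
      refine AddSubgroup.card_eq_one.1 ?_
      have h := AddSubgroup.index_mul_card (R.stA x)
      rw [← had, ← hqd, haq'] at h
      exact Nat.eq_of_mul_eq_mul_left (by omega : 0 < q) (h.trans (mul_one q).symm)
    rcases hshape with htop | ⟨u, hu, hsub⟩
    · -- regular
      have hdY : d = Y := by rw [hdd, htop, AddSubgroup.card_top, hYd]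
      have hSbot : R.stS x = ⊥ := AddSubgroup.card_eq_one.1
        (Nat.eq_of_mul_eq_mul_left (by omega : 0 < Y) (by rw [← hdY, hdS, hdY, mul_one]))
      obtain ⟨z, hzl, hzW⟩ : ∃ z : X, R.label z = R.label x ∧ ∀ w : R.W, R.Full z (w : V) := by
        by_cases h2 : (2 : F) = 0
        · obtain ⟨s, hs, hs2⟩ := exists_sq_ne_one (four_le_card h2 hq)
          obtain ⟨z, hzl, hz⟩ := R.exists_torus_center hs hs2 hone
            (fun t w hw => by rw [hSbot, AddSubgroup.mem_bot] at hw ⊢; rw [hw, smul_zero]) hAbot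
          exact ⟨z, hzl, fun w => R.torus_full hz fun c => R.label_one_smul
            ⟨by simp [altTv_apply, R.e_W], by simp [altTv_apply, R.f_W]⟩
            ((congrArg Prod.fst hzl : R.stS z = R.stS x).trans hSbot)⟩
        · obtain ⟨z, hzl, hz1, hzi⟩ := R.exists_center h2 hone
          refine ⟨z, hzl, R.full_W hz1 hzi h2
            ((congrArg Prod.fst hzl : R.stS z = R.stS x).trans hSbot)
            (commutator_formIsoms_alt_eq_top R.BW_self R.BW_sep ?_)⟩
          rcases Nat.lt_or_ge (Nat.card F) 4 with h | h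
          · exact Or.inr (Or.inl ⟨by have := h3 (by omega); omega, h2⟩)
          · obtain ⟨s, hs, hs2⟩ := exists_sq_ne_one h
            exact Or.inl ⟨s, hs, by rwa [sq]⟩
      have hzS : R.stS z = ⊥ := (congrArg Prod.fst hzl : R.stS z = R.stS x).trans hSbot
      have hzA : R.stA z = R.stA x := congrArg Prod.snd hzl
      obtain ⟨w₁, hw₁⟩ : ∃ w : R.W, w ≠ 0 := by
        have : Nontrivial R.W := Module.nontrivial_of_finrank_pos (R := F) (by omega)
        exact exists_ne 0
      have hE : Y ≤ E := by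
        have h := R.le_card_full hzS (hzW w₁) hw₁
        rw [hzA, ← had, ← hEd, ← hYd, ← hqd, haq', mul_comm Y] at h
        exact Nat.le_of_mul_le_mul_left h (by omega)
      have hkE : q * Y + E ≤ k := by
        have h1 : 1 * 1 * (q * Y) ≤ M * N * C :=
          Nat.mul_le_mul (Nat.mul_le_mul hM1 hN1) (by rw [← hdY, ← haq']; exact hC1)
        omega
      obtain ⟨v, hv0, hvf, hvp, hvg⟩ : ∃ v : V, v ≠ 0 ∧ R.Full z v ∧ R.pr v ≠ 0 ∧
          ¬ (B v R.f = 0 ∧ B R.e v = 0) := by
        by_contra hno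
        push Not at hno
        have h1 := R.card_full_vectors_le (x := z) fun v hv hf => or_iff_not_imp_left.2
          fun hp => hno v hv hf hp
        have h2 := ev_gt (by omega : 2 ≤ q) (by omega : 1 ≤ Y) (hfc z) hcon (by omega)
        rw [sq, ← hqd, ← hYd] at h1
        obtain ⟨b, rfl⟩ : ∃ b, q = b + 1 := ⟨q - 1, by omega⟩
        rw [Nat.add_sub_cancel] at h2
        have h3 : b * Y ≤ b * E := Nat.mul_le_mul_left _ hE
        have h4' : 2 * Y ≤ b * Y := Nat.mul_le_mul_right _ (by omega)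
        omega
      have hg0 : B v R.f • R.e + B R.e v • R.f ≠ 0 := fun h => hvg (by
        have h1 := congrArg (fun y => B y R.f) h
        have h2 := congrArg (fun y => B R.e y) h
        simp only [map_add, map_smul, LinearMap.add_apply, LinearMap.smul_apply, R.hef, R.hA,
          smul_eq_mul, mul_one, mul_zero, add_zero, zero_add, map_zero, LinearMap.zero_apply] at h1 h2
        exact ⟨h1, h2⟩)
      have hEv := R.le_card_full_vectors hzW (by omega) hg0 (R.pr_plane _ _) hvp
        (by rw [← R.split v]; exact hvf)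
      rw [← hqd, ← hYd] at hEv
      have := regular_arith (by omega : 2 ≤ q) (by omega : 1 ≤ Y) (hfc z) hEv hkE
      omega
    · -- a line
      obtain ⟨hdiv, hker⟩ := R.perp_line hψ hu hsub
      rw [← hdd, ← hqd] at hdiv hker
      rcases dvd_cases hdiv (by omega) with hdq | ⟨h2d, -⟩
      · subst hdq
        have hq4 : 4 ≤ Nat.card F := by
          by_contra hlt
          have h6 := h3 (by omega)
          have h2 : (2 : F) ≠ 0 := fun h2 => hlt (four_le_card h2 hq)
          have h5 := hdodd h2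
          have h7 : d ^ 3 ≤ Y := by rw [hYpow]; exact Nat.pow_le_pow_right (by omega) (by omega)
          have h8 : d ^ 3 = d * (d * d) := by ring
          have h9 : 2 * (d * d) ≤ d * (d * d) := Nat.mul_le_mul_right _ hd2
          omega
        obtain ⟨s, hs, hs2⟩ := exists_sq_ne_one hq4
        have hS' : ∀ w, w ∈ R.stS x ↔ R.BW u w = 0 := hker rfl
        obtain ⟨z, hzl, hz⟩ := R.exists_torus_center hs hs2 hone
          (fun t w hw => by rw [hS'] at hw ⊢; rw [map_smul, hw, smul_zero]) hAbot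
        have hzu : R.Full z (u : V) := R.torus_full hz fun c =>
          R.stS_smul_eq ⟨by simp [altTv_apply, R.e_W], by simp [altTv_apply, R.f_W]⟩ fun w => by
            rw [show R.stS z = R.stS x from congrArg Prod.fst hzl, hS', hS', R.BW_apply,
              R.BW_apply]
            simp only [altTv_apply, map_add, map_smul, R.hA, smul_zero, add_zero]
        have hE : 1 ≤ E := hEd ▸ R.full_pos (fun h => hu (Subtype.ext h)) hzu
        refine absurd (line_arith (by omega) hY2 (hfc z) ?_ hE) (not_le.2 hcon)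
        have h1 : (d - 1) * (1 * N * (d * d)) ≤ (d - 1) * (M * N * C) :=
          Nat.mul_le_mul_left _ (Nat.mul_le_mul (Nat.mul_le_mul_right _ hM1)
            (by rw [haq'] at hC1; exact hC1))
        have h2 : d * d * (Y - 1) ≤ d * d * (N * (d - 1)) := Nat.mul_le_mul_left _ hcov
        have h3' : (d - 1) * (M * N * C + E) ≤ (d - 1) * k := Nat.mul_le_mul_left _ hb
        linarith
      · -- at most half of a line
        obtain ⟨c, rfl⟩ : ∃ c, d = c + 1 := ⟨d - 1, by omega⟩
        obtain ⟨b, rfl⟩ : ∃ b, q = b + 1 := ⟨q - 1, by omega⟩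
        obtain ⟨Y', rfl⟩ : ∃ Y', Y = Y' + 1 := ⟨Y - 1, by omega⟩
        rw [haq'] at hC1
        simp only [Nat.add_sub_cancel] at hcov hcon
        have h1 : b * c * (1 * N * ((b + 1) * (c + 1))) ≤ b * c * (M * N * C) :=
          Nat.mul_le_mul_left _ (Nat.mul_le_mul (Nat.mul_le_mul_right _ hM1) hC1)
        have h2 : b * (b + 1) * (c + 1) * Y' ≤ b * (b + 1) * (c + 1) * (N * c) :=
          Nat.mul_le_mul_left _ hcov
        have h3' : b * c * (M * N * C) ≤ b * c * k := Nat.mul_le_mul_left _ hk1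
        have h4' : (b * k + 1) * c ≤ ((b + 1) * (b + 1) * (Y' + 1) - 1) * c :=
          Nat.mul_le_mul_right _ (by omega)
        have h5 : (2 * c + 2) * ((b + 1) * Y') ≤ (b + 1) * ((b + 1) * Y') :=
          Nat.mul_le_mul_right _ (by omega)
        have h6 : (b + 1) * (b + 1) * (b + 1) ≤ (b + 1) * ((Y' + 1)) :=
          by rw [mul_assoc]; exact Nat.mul_le_mul_left _ hY2
        have h7 : ((b + 1) * (b + 1) * (Y' + 1) - 1) + 1 = (b + 1) * (b + 1) * (Y' + 1) :=
          Nat.sub_add_cancel (Nat.mul_pos (Nat.mul_pos (by omega) (by omega)) (by omega))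
        obtain ⟨Z, hZ⟩ : ∃ Z, Z = (b + 1) * (b + 1) * (Y' + 1) - 1 := ⟨_, rfl⟩
        rw [← hZ] at h4' h7
        have h8 : Z * c + c = (b + 1) * (b + 1) * (Y' + 1) * c := by rw [← h7]; ring
        nlinarith [h1, h2, h3', h4', h5, h6, h8]
  · -- a proper non-trivial stabiliser at `e`
    by_cases h2 : (2 : F) = 0
    · have h5 : q - 1 ≤ M * (a - 1) := by rw [hqd, hMd, had]; exact (R.famA_count hx).2 h2
      have h6 := Nat.mul_le_mul_right Y (two_lt_sq_mul (by omega) ha2 h5 h2a)
      have h7 : (q - 1) * (M * a) * Y ≤ (q - 1) * k := by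
        calc (q - 1) * (M * a) * Y ≤ (q - 1) * (M * a) * (N * d) := Nat.mul_le_mul_left _ hNd'
          _ = (q - 1) * (M * N * (a * d)) := by ring
          _ ≤ (q - 1) * (M * N * C) := Nat.mul_le_mul_left _ (Nat.mul_le_mul_left _ hC1)
          _ ≤ _ := Nat.mul_le_mul_left _ hk1
      omega
    have hq5 : 5 ≤ q := by
      have h := h3a (by rw [hqd]; exact odd_card h2)
      omega
    have hAbot : R.stA x ≠ ⊥ := fun h => by
      have h' := AddSubgroup.index_mul_card (R.stA x)
      rw [h, AddSubgroup.card_bot, mul_one, ← hqd] at h'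
      rw [had, h] at h2a
      omega
    obtain ⟨z, hzl, hz1, hzi⟩ := R.exists_center h2 hone
    have hzA : R.stA z = R.stA x := congrArg Prod.snd hzl
    have hzS : R.stS z = R.stS x := congrArg Prod.fst hzl
    obtain ⟨s, hs, hs2⟩ := exists_sq_ne_one (F := F) (by omega)
    have hplane : ∀ v : V, R.Full z (B v R.f • R.e + B R.e v • R.f) →
        B v R.f = 0 ∧ B R.e v = 0 := fun v h =>
      R.plane_eq_zero h2 (hzA ▸ hx) (hzA ▸ hAbot) h
    rcases hshape with htop | ⟨u, hu, hsub⟩
    · have hdY : d = Y := by rw [hdd, htop, AddSubgroup.card_top, hYd]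
      have hSbot : R.stS x = ⊥ := AddSubgroup.card_eq_one.1
        (Nat.eq_of_mul_eq_mul_left (by omega : 0 < Y) (by rw [← hdY, hdS, hdY, mul_one]))
      have hzW : ∀ w : R.W, R.Full z (w : V) := R.full_W hz1 hzi h2 (hzS.trans hSbot)
        (commutator_formIsoms_alt_eq_top R.BW_self R.BW_sep (Or.inl ⟨s, hs, by rwa [sq]⟩))
      obtain ⟨w₁, hw₁⟩ : ∃ w : R.W, w ≠ 0 := by
        have : Nontrivial R.W := Module.nontrivial_of_finrank_pos (R := F) (by omega)
        exact exists_ne 0
      have h1 := R.le_card_full (hzS.trans hSbot) (hzW w₁) hw₁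
      rw [hzA, ← had, ← hEd, ← hYd, ← hqd] at h1
      have hY1 : 1 ≤ Y := by omega
      have hE : 1 ≤ E := by
        rcases Nat.eq_zero_or_pos E with h | h
        · rw [h, mul_zero] at h1
          have := Nat.mul_le_mul hY1 ha2
          omega
        · exact h
      have h2' := ev_gt (by omega : 2 ≤ q) hY1 (hfc z) hcon hE
      have hle : Nat.card {v : V // v ≠ 0 ∧ R.Full z v} ≤ Y - 1 := by
        have hinW : ∀ v : V, v ≠ 0 → R.Full z v → B v R.f = 0 ∧ B R.e v = 0 := fun v hv hf => by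
          refine hplane v ((R.full_parts h2 hzi (by rw [← R.split v]; exact hf) (hzW w₁)
            (Or.inl (hzW (R.pr v)))).2)
        haveI := Fintype.ofFinite R.W
        rw [hYd, Nat.card_eq_fintype_card (α := R.W), ← Fintype.card_subtype_eq (0 : R.W),
          ← Fintype.card_subtype_compl, ← Nat.card_eq_fintype_card]
        refine Nat.card_le_card_of_injective (fun v => (⟨R.pr v.1, fun h => v.2.1 (by
          obtain ⟨e1, e2⟩ := hinW _ v.2.1 v.2.2
          rw [R.split v.1, e1, e2, h]; simp)⟩ : {w : R.W // ¬ w = 0})) fun v v' e => ?_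
        obtain ⟨e1, e2⟩ := hinW _ v.2.1 v.2.2
        obtain ⟨e1', e2'⟩ := hinW _ v'.2.1 v'.2.2
        have e' : R.pr v.1 = R.pr v'.1 := congrArg Subtype.val e
        exact Subtype.ext (by rw [R.split v.1, R.split v'.1, e1, e2, e1', e2', e'])
      -- `2 (q - 1) Y ≤ q (q - 1) E < q Y`
      have h4' : q * ((q - 1) * E + 1) ≤ q * Y := Nat.mul_le_mul_left _ (by omega)
      have h5 : (q - 1) * (Y * a) ≤ (q - 1) * (q * E) := Nat.mul_le_mul_left _ h1
      have h6 : (q - 1) * (Y * 2) ≤ (q - 1) * (Y * a) :=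
        Nat.mul_le_mul_left _ (Nat.mul_le_mul_left _ ha2)
      have h7 : q * Y ≤ (2 * (q - 1)) * Y := Nat.mul_le_mul_right _ (by omega)
      linarith
    · obtain ⟨hdiv, hker⟩ := R.perp_line hψ hu hsub
      rw [← hdd, ← hqd] at hdiv hker
      have hdq : d = q := by
        rcases dvd_cases hdiv (by omega) with h | ⟨h, -⟩
        · exact h
        · have h1 := hdodd h2
          have h2' : (2 * d) * (2 * d) ≤ q * q := Nat.mul_le_mul h h
          nlinarith
      have hS' := hker hdq
      have hYq : Y = q * q := le_antisymm (hdq ▸ hdodd h2) hY2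
      have hstab : ∀ g : formIsoms B, R.Scales g 1 →
          (∃ t : F, t ≠ 0 ∧ g.1 (u : V) = t • (u : V)) → R.stS (g • z) = R.stS z := by
        intro g hg ⟨t, ht, hgu⟩
        refine R.stS_smul_eq hg fun w => ?_
        rw [hzS, hS', hS', R.BW_apply, R.BW_apply]
        have e : t * B (u : V) (g.1 (w : V)) = B (u : V) (w : V) := by
          rw [← g.2 (u : V) (w : V), hgu, map_smul, LinearMap.smul_apply, smul_eq_mul]
        rw [← e, mul_eq_zero, or_iff_right ht]
      have hzu : R.Full z (u : V) := R.full_line_vector hz1 hzi h2 hu hs hs2 hstab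
      have hE : 1 ≤ E := hEd ▸ R.full_pos (fun h => hu (Subtype.ext h)) hzu
      have h2' := ev_gt (by omega : 2 ≤ q) (by omega : 1 ≤ Y) (hfc z) hcon hE
      have hin : ∀ v : V, v ≠ 0 → R.Full z v → ∃ t : F, t ≠ 0 ∧ v = t • (u : V) := by
        intro v hv hf
        have hwK : ∀ w : R.W, R.Full z (w : V) → R.BW u w = 0 := by
          intro w hw
          by_contra hne
          have hT : R.Scales (altTv R.hA R.hB (w : V) 1) 1 :=
            ⟨by simp [altTv_apply, R.e_W], by simp [altTv_apply, R.f_W]⟩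
          have h := (R.mem_stS_smul_one hT z u).2 (by rw [hzS, hS', R.BW_self])
          rw [hw 1, hzS, hS', R.BW_apply] at h
          simp only [altTv_apply, map_add, map_smul, R.hA, zero_add, one_mul, smul_eq_mul] at h
          exact hne (mul_self_eq_zero.1 h)
        have hline : ∀ w : R.W, R.BW u w = 0 → ∃ t : F, w = t • u := by
          intro w hw
          have hcardS : Nat.card (R.stS x) = q := by
            rw [hdq, hYq] at hdS
            exact Nat.eq_of_mul_eq_mul_left (by omega : 0 < q) hdS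
          have hinj : Function.Injective (fun t : F => (⟨t • u, (hS' _).2 (by
              rw [map_smul, R.BW_self, smul_zero])⟩ : R.stS x)) :=
            fun t t' e => smul_left_injective F hu (congrArg Subtype.val e)
          obtain ⟨t, ht⟩ := ((Nat.bijective_iff_injective_and_card _).2
            ⟨hinj, by rw [hcardS, hqd]⟩).2 ⟨w, (hS' w).2 hw⟩
          exact ⟨t, (congrArg Subtype.val ht).symm⟩
        have hparts := R.full_parts h2 hzi (w := R.pr v) (u := u)
          (by rw [← R.split v]; exact hf) hzu (by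
            by_cases hne : R.BW u (R.pr v) = 0
            · obtain ⟨t, ht⟩ := hline _ hne
              left; rw [ht, Submodule.coe_smul]; exact R.full_smul hzu t
            · exact Or.inr hne)
        obtain ⟨t, ht⟩ := hline _ (hwK _ hparts.1)
        obtain ⟨e1, e2⟩ := hplane v hparts.2
        have e : v = t • (u : V) := by
          conv_lhs => rw [R.split v, e1, e2, ht]
          simp
        exact ⟨t, fun h => hv (by rw [e, h, zero_smul]), e⟩
      choose t ht0 ht using fun v : {v : V // v ≠ 0 ∧ R.Full z v} => hin v.1 v.2.1 v.2.2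
      have hle := Nat.card_le_card_of_injective (fun v => Units.mk0 (t v) (ht0 v)) fun v v' e =>
        Subtype.ext (by rw [ht v, ht v', show t v = t v' from congrArg Units.val e])
      rw [Nat.card_units, ← hqd] at hle
      have := Nat.mul_le_mul_left (q - 1) hE
      omega

end Frame

end CfsgLib.Classical.SpIdx
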