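import Cfsg.Agent.Lib.Classical.SpIdxFull

/-!
# The annihilator of the stabiliser in the radical
-/

set_option autoImplicit false

namespace CfsgLib.Classical.SpIdx

open CfsgLib.Geom Module

variable {F V : Type*} [Field F] [AddCommGroup V] [Module F V] [FiniteDimensional F V]
  {B : V →ₗ[F] V →ₗ[F] F} (R : Frame B) {X : Type*} [MulAction (formIsoms B) X]
  (ψ : AddChar F ℂ)

namespace Frame

/-- The annihilator of a subgroup of the complement. -/
def perp (S : AddSubgroup R.W) : AddSubgroup R.W where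
  carrier := {v | ∀ w ∈ S, ψ (R.BW v w) = 1}
  zero_mem' := fun w _ => by rw [map_zero, LinearMap.zero_apply, AddChar.map_zero_eq_one]
  add_mem' := fun {a b} ha hb w hw => by
    rw [map_add, LinearMap.add_apply, AddChar.map_add_eq_mul, ha w hw, hb w hw, one_mul]
  neg_mem' := fun {a} ha w hw => by
    rw [map_neg, LinearMap.neg_apply, ← map_neg, ha _ (S.neg_mem hw)]

theorem mem_perp {S : AddSubgroup R.W} {v : R.W} :
    v ∈ R.perp ψ S ↔ ∀ w ∈ S, ψ (R.BW v w) = 1 := Iff.rfl

variable [Finite F]

theorem card_perp (hψ : ψ.IsPrimitive) (S : AddSubgroup R.W) :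
    Nat.card (R.perp ψ S) * Nat.card S = Nat.card R.W := by
  classical
  have : Finite V := Module.finite_of_finite F
  have := Fintype.ofFinite R.W
  apply le_antisymm
  · let g : R.perp ψ S →+ AddChar (R.W ⧸ S) ℂ :=
      AddMonoidHom.mk' (fun v => AddChar.toAddMonoidHomEquiv.symm
        (QuotientAddGroup.lift S (ψ.compAddMonoidHom (R.BW (v : R.W)).toAddMonoidHom).toAddMonoidHom
          fun w hw => congrArg Additive.ofMul (v.2 w hw))) fun u v => DFunLike.ext _ _ fun z => by
        obtain ⟨w, rfl⟩ := QuotientAddGroup.mk_surjective z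
        rw [AddChar.add_apply]
        change ψ (R.BW ((u + v : R.perp ψ S) : R.W) w) =
          ψ (R.BW (u : R.W) w) * ψ (R.BW (v : R.W) w)
        rw [← AddChar.map_add_eq_mul, AddSubgroup.coe_add, map_add, LinearMap.add_apply]
    have hinj : Function.Injective g := (injective_iff_map_eq_zero g).2 fun u hu => by
      refine Subtype.ext (R.BW_sep _ fun w => by_contra fun hne => ?_)
      refine hψ hne (DFunLike.ext _ _ fun r => ?_)
      have h := DFunLike.congr_fun hu ((r • w : R.W) : R.W ⧸ S)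
      rw [AddChar.zero_apply] at h
      change ψ (R.BW (u : R.W) (r • w)) = 1 at h
      rw [map_smul, smul_eq_mul] at h
      rw [AddChar.mulShift_apply, AddChar.one_apply, ← h, mul_comm]
    haveI := Fintype.ofFinite (R.W ⧸ S)
    have h := Nat.card_le_card_of_injective g hinj
    rw [Nat.card_eq_fintype_card (α := AddChar (R.W ⧸ S) ℂ), AddChar.card_eq,
      ← Nat.card_eq_fintype_card] at h
    rw [AddSubgroup.card_eq_card_quotient_mul_card_addSubgroup S]
    exact Nat.mul_le_mul_right _ h
  · haveI := Fintype.ofFinite S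
    let g : R.W →+ AddChar S ℂ :=
      AddMonoidHom.mk' (fun v => ψ.compAddMonoidHom ((R.BW v).toAddMonoidHom.comp S.subtype))
        fun u v => DFunLike.ext _ _ fun w => by
          rw [AddChar.add_apply]
          change ψ (R.BW (u + v) (w : R.W)) = ψ (R.BW u (w : R.W)) * ψ (R.BW v (w : R.W))
          rw [← AddChar.map_add_eq_mul, map_add, LinearMap.add_apply]
    have hker : g.ker ≤ R.perp ψ S := fun v hv w hw => by
      have h := DFunLike.congr_fun (AddMonoidHom.mem_ker.1 hv) (⟨w, hw⟩ : S)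
      exact h
    have h := Nat.card_le_card_of_injective (QuotientAddGroup.kerLift g)
      (QuotientAddGroup.kerLift_injective g)
    rw [Nat.card_eq_fintype_card (α := AddChar S ℂ), AddChar.card_eq, ← Nat.card_eq_fintype_card] at h
    rw [AddSubgroup.card_eq_card_quotient_mul_card_addSubgroup g.ker, mul_comm]
    exact Nat.mul_le_mul (Nat.card_le_card_of_injective _ (AddSubgroup.inclusion_injective hker)) h

theorem mem_perp_smul {g : formIsoms B} (hg : R.Scales g 1) (x : X) (v : R.W) :
    (⟨g.1 (v : V), R.scales_W one_ne_zero hg v⟩ : R.W) ∈ R.perp ψ (R.stS (g • x)) ↔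
      v ∈ R.perp ψ (R.stS x) := by
  refine ⟨fun h w hw => ?_, fun h w hw => ?_⟩
  · have h' := h _ ((R.mem_stS_smul_one hg x w).2 hw)
    rwa [R.BW_apply, g.2, ← R.BW_apply] at h'
  · obtain ⟨w0, rfl⟩ : ∃ w0 : R.W, (⟨g.1 (w0 : V), R.scales_W one_ne_zero hg w0⟩ : R.W) = w :=
      ⟨⟨(g⁻¹).1 (w : V), R.scales_W (inv_ne_zero one_ne_zero) (R.scales_inv one_ne_zero hg) w⟩,
        Subtype.ext (g.1.apply_symm_apply _)⟩
    rw [R.BW_apply, g.2, ← R.BW_apply]
    exact h _ ((R.mem_stS_smul_one hg x w0).1 hw)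

theorem stS_smul_inj {g : formIsoms B} (hg : R.Scales g 1) {x y : X}
    (h : R.stS (g • x) = R.stS (g • y)) : R.stS x = R.stS y := by
  ext w
  rw [← R.mem_stS_smul_one hg x, h, R.mem_stS_smul_one hg y]

theorem card_perp_smul (hψ : ψ.IsPrimitive) {g : formIsoms B} {s : F} (hs : s ≠ 0)
    (hg : R.Scales g s) (x : X) :
    Nat.card (R.perp ψ (R.stS (g • x))) = Nat.card (R.perp ψ (R.stS x)) := by
  have : Finite V := Module.finite_of_finite F
  refine Nat.eq_of_mul_eq_mul_right (Nat.card_pos (α := R.stS x)) ?_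
  conv_lhs => rw [← R.card_stS_smul hs hg x]
  rw [R.card_perp ψ hψ, R.card_perp ψ hψ]

/-- The translates of the annihilator cover all non-zero vectors, twice if it is not in a line. -/
theorem cover_count [Finite X] (hψ : ψ.IsPrimitive) {x : X} (hne : R.perp ψ (R.stS x) ≠ ⊥) :
    (Nat.card R.W - 1 ≤ (R.famS x).ncard * (Nat.card (R.perp ψ (R.stS x)) - 1)) ∧
    (R.perp ψ (R.stS x) ≠ ⊤ → (∀ u : R.W, ∃ v ∈ R.perp ψ (R.stS x), ∀ t : F, v ≠ t • u) →
      2 * (Nat.card R.W - 1) ≤ (R.famS x).ncard * (Nat.card (R.perp ψ (R.stS x)) - 1)) := by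
  classical
  have : Finite V := Module.finite_of_finite F
  have := Fintype.ofFinite R.W
  have hfin : (R.famS x).Finite := Set.toFinite _
  let T := hfin.toFinset
  have hmem : ∀ S, S ∈ T ↔ ∃ g, R.Scales g 1 ∧ R.stS (g • x) = S := fun S => hfin.mem_toFinset
  have hcard : ∀ S ∈ T, Nat.card (R.perp ψ S) = Nat.card (R.perp ψ (R.stS x)) := fun S hS => by
    obtain ⟨g, hg, rfl⟩ := (hmem S).1 hS
    exact R.card_perp_smul ψ hψ one_ne_zero hg x
  let fil : R.W → Finset (AddSubgroup R.W) := fun u => T.filter fun S => u ∈ R.perp ψ S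
  have hsum : ∑ u ∈ Finset.univ.erase (0 : R.W), (fil u).card =
      (R.famS x).ncard * (Nat.card (R.perp ψ (R.stS x)) - 1) := by
    simp only [fil, Finset.card_filter]
    rw [Finset.sum_comm]
    have h1 : ∀ S ∈ T, ∑ u ∈ Finset.univ.erase (0 : R.W), (if u ∈ R.perp ψ S then 1 else 0) =
        Nat.card (R.perp ψ (R.stS x)) - 1 := fun S hS => by
      rw [← Finset.card_filter, Finset.filter_erase,
        Finset.card_erase_of_mem (by simp [(R.perp ψ S).zero_mem]), ← Fintype.card_subtype,
        ← Nat.card_eq_fintype_card, ← hcard S hS]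
    rw [Finset.sum_congr rfl h1, Finset.sum_const, smul_eq_mul, Set.ncard_eq_toFinset_card _ hfin]
  have hcount : (Finset.univ.erase (0 : R.W)).card = Nat.card R.W - 1 := by
    rw [Finset.card_erase_of_mem (Finset.mem_univ _), Finset.card_univ, Nat.card_eq_fintype_card]
  have hone : ∀ u : R.W, u ≠ 0 → 1 ≤ (fil u).card := by
    intro u hu
    obtain ⟨v, hv, hv0⟩ : ∃ v ∈ R.perp ψ (R.stS x), v ≠ 0 := by
      by_contra h
      push Not at h
      exact hne ((AddSubgroup.eq_bot_iff_forall _).2 h)
    obtain ⟨g, hg, hgv⟩ := R.exists_move hv0 hu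
    refine Finset.card_pos.2 ⟨R.stS (g • x), Finset.mem_filter.2 ⟨(hmem _).2 ⟨g, hg, rfl⟩, ?_⟩⟩
    have h := (R.mem_perp_smul ψ hg x v).2 hv
    rwa [show (⟨g.1 (v : V), R.scales_W one_ne_zero hg v⟩ : R.W) = u from Subtype.ext hgv] at h
  refine ⟨?_, fun htop hpart => ?_⟩
  · rw [← hsum, ← hcount, Finset.card_eq_sum_ones]
    exact Finset.sum_le_sum fun u hu => hone u (Finset.ne_of_mem_erase hu)
  rw [← hsum, ← hcount, mul_comm, ← smul_eq_mul, ← Finset.sum_const]
  refine Finset.sum_le_sum fun u hu => ?_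
  by_contra hlt
  have h1 : (fil u).card = 1 := by have := hone u (Finset.ne_of_mem_erase hu); omega
  -- all multiplicities are then one
  have hall1 : ∀ u' : R.W, u' ≠ 0 → (fil u').card ≤ 1 := by
    intro u' hu'
    obtain ⟨g, hg, hgu⟩ := R.exists_move hu' (Finset.ne_of_mem_erase hu)
    rw [← h1]
    choose h hh hS using fun S : {S // S ∈ fil u'} => (hmem S.1).1 (Finset.mem_filter.1 S.2).1
    rw [← Fintype.card_coe, ← Fintype.card_coe (fil u)]
    refine Fintype.card_le_of_injective (fun S => ⟨R.stS ((g * h S) • x), ?_⟩) fun S S' e => ?_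
    · refine Finset.mem_filter.2 ⟨(hmem _).2 ⟨g * h S, by simpa using R.scales_mul hg (hh S), rfl⟩, ?_⟩
      have h3 := (R.mem_perp_smul ψ hg (h S • x) u').2 (by
        rw [hS S]; exact (Finset.mem_filter.1 S.2).2)
      rwa [show (⟨g.1 (u' : V), R.scales_W one_ne_zero hg u'⟩ : R.W) = u from Subtype.ext hgu,
        ← mul_smul] at h3
    · have e' := congrArg Subtype.val e
      simp only [mul_smul] at e'
      exact Subtype.ext (by rw [← hS S, ← hS S']; exact R.stS_smul_inj hg e')
  -- the annihilator then contains the hyperplane orthogonal to each of its vectors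
  have hker : ∀ u' ∈ R.perp ψ (R.stS x), u' ≠ 0 → ∀ z, R.BW u' z = 0 →
      z ∈ R.perp ψ (R.stS x) := by
    intro u' hu'U hu'0 z hz
    obtain ⟨v, hv, hvind⟩ := hpart u'
    have hvu : LinearIndependent F ![u', v] :=
      (LinearIndependent.pair_iff' hu'0).2 fun t h => hvind t h.symm
    have hx' : R.stS x ∈ fil u' :=
      Finset.mem_filter.2 ⟨(hmem _).2 ⟨1, ⟨by simp, by simp⟩, by rw [one_smul]⟩, hu'U⟩
    have hmove : ∀ v' : R.W, LinearIndependent F ![u', v'] →
        B (u' : V) (v : V) = B (u' : V) (v' : V) → v' ∈ R.perp ψ (R.stS x) := by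
      intro v' hi' hB
      obtain ⟨g, hg, hgu, hgv⟩ := R.exists_move_pair hvu hi' hB
      have hin : ∀ w ∈ R.perp ψ (R.stS x), ∀ w' : R.W, g.1 (w : V) = w' →
          w' ∈ R.perp ψ (R.stS (g • x)) := by
        intro w hw w' hww'
        have h := (R.mem_perp_smul ψ hg x w).2 hw
        rwa [show (⟨g.1 (w : V), R.scales_W one_ne_zero hg w⟩ : R.W) = w' from Subtype.ext hww'] at h
      have hgx : R.stS (g • x) ∈ fil u' :=
        Finset.mem_filter.2 ⟨(hmem _).2 ⟨g, hg, rfl⟩, hin u' hu'U u' hgu⟩
      rw [Finset.card_le_one.1 (hall1 u' hu'0) _ hx' _ hgx]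
      exact hin v hv v' hgv
    rw [R.BW_apply] at hz
    by_cases hc : B (u' : V) (v : V) = 0
    · by_cases hzu : LinearIndependent F ![u', z]
      · exact hmove z hzu (by rw [hc, hz])
      · have h3 : LinearIndependent F ![u', z + v] := by
          rw [LinearIndependent.pair_iff' hu'0] at hzu hvu ⊢
          push Not at hzu
          obtain ⟨t, rfl⟩ := hzu
          intro s hs
          exact hvu (s - t) (by rw [sub_smul, hs]; abel)
        have h4 := hmove _ h3 (by rw [Submodule.coe_add, map_add, hz, hc, add_zero])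
        simpa using (R.perp ψ (R.stS x)).sub_mem h4 hv
    · have h3 : LinearIndependent F ![u', z + v] := by
        rw [LinearIndependent.pair_iff' hu'0]
        intro s hs
        have e := congrArg (fun w : R.W => B (u' : V) (w : V)) hs
        simp only [Submodule.coe_smul, Submodule.coe_add, map_smul, map_add, R.hA, hz, smul_zero,
          zero_add] at e
        exact hc e.symm
      have h4 := hmove _ h3 (by rw [Submodule.coe_add, map_add, hz, zero_add])
      simpa using (R.perp ψ (R.stS x)).sub_mem h4 hv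
  -- two independent vectors give everything
  obtain ⟨a, ha, ha0⟩ : ∃ a ∈ R.perp ψ (R.stS x), a ≠ 0 := by
    by_contra h
    push Not at h
    exact hne ((AddSubgroup.eq_bot_iff_forall _).2 h)
  obtain ⟨b, hb, hbind⟩ := hpart a
  have hb0 : b ≠ 0 := fun h => hbind 0 (by rw [h, zero_smul])
  obtain ⟨z0, hz1, hz2⟩ : ∃ z, R.BW a z = 0 ∧ R.BW b z = 1 := by
    obtain ⟨y, hy⟩ : ∃ y, R.BW a y ≠ 0 := by
      by_contra hc
      push Not at hc
      exact ha0 (R.BW_sep a hc)
    by_contra hc
    push Not at hc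
    have hker : ∀ z, R.BW a z = 0 → R.BW b z = 0 := fun z hz => by
      by_contra h
      exact hc ((R.BW b z)⁻¹ • z) (by rw [map_smul, hz, smul_zero])
        (by rw [map_smul, smul_eq_mul, inv_mul_cancel₀ h])
    refine hbind (R.BW b y / R.BW a y) (sub_eq_zero.1 (R.BW_sep _ fun z => ?_))
    have h := hker (z - (R.BW a z / R.BW a y) • y) (by
      rw [map_sub, map_smul, smul_eq_mul, div_mul_cancel₀ _ hy, sub_self])
    rw [map_sub, map_smul, smul_eq_mul] at h
    rw [map_sub, map_smul, LinearMap.sub_apply, LinearMap.smul_apply, smul_eq_mul]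
    linear_combination h
  refine htop ((AddSubgroup.eq_top_iff' _).2 fun w => ?_)
  have h := add_mem (hker a ha ha0 (R.BW b w • z0) (by rw [map_smul, hz1, smul_zero]))
    (hker b hb hb0 (w - R.BW b w • z0) (by
      rw [map_sub, map_smul, hz2, smul_eq_mul, mul_one, sub_self]))
  rwa [add_sub_cancel] at h

/-- The points sharing a label. -/
theorem le_card_label [Finite X] (hψ : ψ.IsPrimitive) (x : X) :
    (R.stA x).index * Nat.card (R.perp ψ (R.stS x)) ≤
      Nat.card {z : X // R.label z = R.label x} := by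
  have : Finite V := Module.finite_of_finite F
  have hO := R.le_card_orbit x
  have hsub : Nat.card (Set.range fun p : R.W × F => R.rho p.1 p.2 • x) ≤
      Nat.card {z : X // R.label z = R.label x} :=
    Nat.card_le_card_of_injective (Set.inclusion (R.range_subset_label x))
      (Set.inclusion_injective _)
  have h := hO.trans (Nat.mul_le_mul_right _ hsub)
  rw [← AddSubgroup.index_mul_card (R.stA x), ← R.card_perp ψ hψ (R.stS x)] at h
  refine Nat.le_of_mul_le_mul_right ?_
    (Nat.mul_pos (Nat.card_pos (α := R.stS x)) (Nat.card_pos (α := R.stA x)))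
  refine le_trans (le_of_eq ?_) h
  ring

omit [Finite F] in
/-- Translates of a point fixed by all transvections at `e`. -/
theorem card_full_ge [Finite X] {z : X} (hz : R.stA z = ⊤) :
    (R.famS z).ncard * Nat.card {y : X // R.label y = R.label z} ≤
      Nat.card {y : X // R.Full y R.e} := by
  classical
  rw [← Nat.card_coe_set_eq, ← Nat.card_prod]
  choose g hg hl using fun l : R.famS z => l.2
  have hlab : ∀ (l : R.famS z) (y : X), R.label y = R.label z → R.stS (g l • y) = l.1 := by
    intro l y hy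
    rw [← hl l]
    ext w
    obtain ⟨v, rfl⟩ : ∃ v : R.W,
        (⟨(g l).1 (v : V), R.scales_W one_ne_zero (hg l) v⟩ : R.W) = w :=
      ⟨⟨((g l)⁻¹).1 (w : V), R.scales_W (inv_ne_zero one_ne_zero)
        (R.scales_inv one_ne_zero (hg l)) w⟩, Subtype.ext ((g l).1.apply_symm_apply _)⟩
    rw [R.mem_stS_smul_one (hg l), R.mem_stS_smul_one (hg l),
      show R.stS y = R.stS z from congrArg Prod.fst hy]
  refine Nat.card_le_card_of_injective
    (fun p => (⟨g p.1 • p.2.1, R.full_e_iff.2 ?_⟩ : {y : X // R.Full y R.e})) ?_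
  · rw [R.stA_smul_one (hg p.1), show R.stA p.2.1 = R.stA z from congrArg Prod.snd p.2.2, hz]
  · rintro ⟨l, y⟩ ⟨l', y'⟩ e
    have e' := congrArg Subtype.val e
    simp only at e'
    obtain rfl : l = l' := Subtype.ext (by rw [← hlab l y.1 y.2, ← hlab l' y'.1 y'.2, e'])
    rw [Subtype.ext (MulAction.injective _ e')]

end Frame

end CfsgLib.Classical.SpIdx
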