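import Cfsg.Prelude.Def_Classical
import Cfsg.Agent.Lib.Geom.Symp
import Cfsg.Agent.Lib.Classical.SpIdxFrame

/-!
# Passing between isometry groups and `PSp`
-/

set_option autoImplicit false

namespace CfsgLib.Classical.SpIdx

open CfsgLib.Geom Module

universe u

theorem exists_frame {F V : Type*} [Field F] [AddCommGroup V] [Module F V] [Nontrivial V]
    {B : V →ₗ[F] V →ₗ[F] F} (hA : ∀ v, B v v = 0) (hB : ∀ x, (∀ y, B x y = 0) → x = 0) :
    Nonempty (Frame B) := by
  obtain ⟨e, he⟩ := exists_ne (0 : V)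
  obtain ⟨y, hy⟩ : ∃ y, B e y ≠ 0 := by
    by_contra h
    push Not at h
    exact he (hB e h)
  exact ⟨⟨e, (B e y)⁻¹ • y, hA, hB, by rw [map_smul, smul_eq_mul, inv_mul_cancel₀ hy]⟩⟩

theorem center_scales {F V : Type*} [Field F] [AddCommGroup V] [Module F V] [FiniteDimensional F V]
    {B : V →ₗ[F] V →ₗ[F] F} (hA : ∀ v, B v v = 0) (hB : ∀ x, (∀ y, B x y = 0) → x = 0)
    {z : formIsoms B} (hz : z ∈ Subgroup.center (formIsoms B)) (v : V) : ∃ c : F, z.1 v = c • v := by
  by_cases hv : v = 0
  · exact ⟨0, by rw [hv, map_zero, smul_zero]⟩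
  obtain ⟨y, hy⟩ : ∃ y, B v y ≠ 0 := by
    by_contra h
    push Not at h
    exact hv (hB v h)
  have h := altTv_conj hA hB z v 1
  rw [← Subgroup.mem_center_iff.1 hz, mul_inv_cancel_right] at h
  have e := congrArg (fun g : formIsoms B => g.1 y) h
  simp only [altTv_apply, one_mul, add_right_inj] at e
  have hyv : B y v ≠ 0 := by rw [alt_swap B hA v y]; simpa using hy
  have hne : B y (z.1 v) ≠ 0 := by
    intro h0
    rw [h0, zero_smul] at e
    exact smul_ne_zero hyv hv e
  exact ⟨(B y (z.1 v))⁻¹ * B y v, by rw [mul_smul, e, smul_smul, inv_mul_cancel₀ hne, one_smul]⟩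

variable {F : Type u} [Field F] (m : ℕ)

theorem psp_lower [Finite F] (P : ℕ)
    (h : ∀ (X : Type u) [MulAction (formIsoms (sympBilin m F)) X] [Finite X]
      [MulAction.IsPretransitive (formIsoms (sympBilin m F)) X], 1 < Nat.card X → P ≤ Nat.card X)
    (H : Subgroup (Cfsg.PSp m F)) (hH : H ≠ ⊤) : P ≤ H.index := by
  let π : formIsoms (sympBilin m F) →* Cfsg.PSp m F :=
    (QuotientGroup.mk' (Subgroup.center (Matrix.symplecticGroup (Fin m) F))).comp
      (spEquiv m F).toMonoidHom
  have hπ : Function.Surjective π :=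
    (QuotientGroup.mk'_surjective _).comp (spEquiv m F).surjective
  rw [← Subgroup.index_comap_of_surjective H hπ]
  have : Finite (formIsoms (sympBilin m F)) := Finite.of_equiv _ (spEquiv m F).symm.toEquiv
  have hne : H.comap π ≠ ⊤ := fun e => hH (by
    rw [← Subgroup.map_comap_eq_self_of_surjective hπ H, e, Subgroup.map_top_of_surjective π hπ])
  have h1 : 1 < (H.comap π).index := Subgroup.one_lt_index_of_ne_top hne
  exact h _ h1

theorem psp_attained (H : Subgroup (formIsoms (sympBilin m F)))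
    (hc : Subgroup.center (formIsoms (sympBilin m F)) ≤ H) :
    ∃ K : Subgroup (Cfsg.PSp m F), K.index = H.index := by
  refine ⟨(H.map (spEquiv m F).toMonoidHom).map
    (QuotientGroup.mk' (Subgroup.center (Matrix.symplecticGroup (Fin m) F))), ?_⟩
  rw [Subgroup.index_map_eq _ (QuotientGroup.mk'_surjective _)]
  · exact Subgroup.index_map_equiv H (spEquiv m F)
  · rw [QuotientGroup.ker_mk']
    intro z hz
    refine ⟨(spEquiv m F).symm z, hc (Subgroup.mem_center_iff.2 fun g => ?_), by simp⟩
    apply (spEquiv m F).injective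
    rw [map_mul, map_mul, MulEquiv.apply_symm_apply]
    exact Subgroup.mem_center_iff.1 hz _

end CfsgLib.Classical.SpIdx
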