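import Cfsg.Agent.Lib.Classical.SpIdxFull

/-!
# Characteristic two: the radical is not everywhere split
-/

set_option autoImplicit false

namespace CfsgLib.Classical.SpIdx

open CfsgLib.Geom Module

variable {F V : Type*} [Field F] [AddCommGroup V] [Module F V] [FiniteDimensional F V]
  {B : V →ₗ[F] V →ₗ[F] F} (R : Frame B) {X : Type*} [MulAction (formIsoms B) X]

namespace Frame

/-- The map `x ↦ x + B(x,w) v + B(x,v) w + c B(x,v) v` in characteristic two. -/
noncomputable def el (v w : V) (c : F) : formIsoms B :=
  altTv R.hA R.hB (v + w) 1 * altTv R.hA R.hB w 1 * altTv R.hA R.hB v (c + 1)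

theorem el_apply (h2 : (2 : F) = 0) {v w : V} (h : B v w = 0) (c : F) (x : V) :
    (R.el v w c).1 x = x + B x w • v + B x v • w + (c * B x v) • v := by
  have h' : B w v = 0 := by rw [R.swap v w, h, neg_zero]
  simp only [el, Subgroup.coe_mul, LinearEquiv.mul_apply, altTv_apply, map_add, map_smul,
    LinearMap.add_apply, LinearMap.smul_apply, smul_eq_mul, R.hA, h, h']
  match_scalars <;> grind

theorem el_conj (g : formIsoms B) (v w : V) (c : F) :
    g * R.el v w c * g⁻¹ = R.el (g.1 v) (g.1 w) c := by
  rw [el, el, ← map_add, ← altTv_conj R.hA R.hB g (v + w), ← altTv_conj R.hA R.hB g w,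
    ← altTv_conj R.hA R.hB g v]
  group

theorem el_zero (v : V) (c : F) (h2 : (2 : F) = 0) : R.el v 0 c = altTv R.hA R.hB v c := by
  refine formIsoms_ext fun x => ?_
  rw [R.el_apply h2 (map_zero _), altTv_apply]
  simp

theorem el_add_smul (h2 : (2 : F) = 0) {v w : V} (h : B v w = 0) (l c : F) :
    R.el v (w + l • v) c = R.el v w c := by
  refine formIsoms_ext fun x => ?_
  rw [R.el_apply h2 h, R.el_apply h2 (by simp [h, R.hA])]
  simp only [map_add, map_smul, smul_eq_mul]
  match_scalars <;> grind

theorem el_mul (h2 : (2 : F) = 0) {v w w' : V} (h : B v w = 0) (h' : B v w' = 0) (c c' : F) :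
    R.el v w c * R.el v w' c' = R.el v (w + w') (c + c' + B w' w) := by
  refine formIsoms_ext fun x => ?_
  have h1 : B w v = 0 := by rw [R.swap v w, h, neg_zero]
  have h1' : B w' v = 0 := by rw [R.swap v w', h', neg_zero]
  rw [Subgroup.coe_mul, LinearEquiv.mul_apply, R.el_apply h2 h', R.el_apply h2 h,
    R.el_apply h2 (by simp [h, h'])]
  simp only [map_add, map_smul, LinearMap.add_apply, LinearMap.smul_apply, smul_eq_mul, R.hA, h,
    h', h1, h1']
  match_scalars <;> grind

include R in
theorem exists_dual {v u : V} (hind : LinearIndependent F ![v, u]) :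
    ∃ z, B v z = 0 ∧ B u z = 1 := by
  obtain ⟨hv, hu⟩ : v ≠ 0 ∧ ∀ a : F, a • v ≠ u :=
    ⟨hind.ne_zero 0, (LinearIndependent.pair_iff' (hind.ne_zero 0)).1 hind⟩
  obtain ⟨y, hy⟩ : ∃ y, B v y ≠ 0 := by
    by_contra hc
    push Not at hc
    exact hv (R.hB v hc)
  by_contra hc
  push Not at hc
  have hker : ∀ z, B v z = 0 → B u z = 0 := fun z hz => by
    by_contra h
    exact hc ((B u z)⁻¹ • z) (by rw [map_smul, hz, smul_zero])
      (by rw [map_smul, smul_eq_mul, inv_mul_cancel₀ h])
  refine hu (B u y / B v y) (sub_eq_zero.1 (R.hB _ fun z => ?_))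
  have h := hker (z - (B v z / B v y) • y) (by
    rw [map_sub, map_smul, smul_eq_mul, div_mul_cancel₀ _ hy, sub_self])
  rw [map_sub, map_smul, smul_eq_mul] at h
  rw [map_sub, map_smul, LinearMap.sub_apply, LinearMap.smul_apply, smul_eq_mul]
  linear_combination -h

include R in
theorem exists_orth {v u : V} (hdim : 5 ≤ finrank F V) :
    ∃ z, B v z = 0 ∧ B u z = 0 ∧ z ∉ Submodule.span F {v, u} := by
  classical
  by_contra hc
  push Not at hc
  have hle : LinearMap.ker (B v) ⊓ LinearMap.ker (B u) ≤ Submodule.span F {v, u} :=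
    fun z hz => hc z hz.1 hz.2
  have h1 := (Submodule.finrank_mono hle).trans (finrank_span_le_card _)
  have h2 := Submodule.finrank_sup_add_finrank_inf_eq (LinearMap.ker (B v)) (LinearMap.ker (B u))
  have h3 := (B v).finrank_range_add_finrank_ker
  have h3' := (B u).finrank_range_add_finrank_ker
  have h4 := Submodule.finrank_le (LinearMap.range (B v))
  have h4' := Submodule.finrank_le (LinearMap.range (B u))
  rw [finrank_self] at h4 h4'
  have h5 := Submodule.finrank_le (LinearMap.ker (B v) ⊔ LinearMap.ker (B u))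
  have h6 : ({v, u} : Set V).toFinset.card ≤ 2 := by simpa using Finset.card_le_two (a := v) (b := u)
  omega

include R in
theorem exists_orth_ne {v u : V} (hdim : 3 ≤ finrank F V) :
    ∃ z, B v z = 0 ∧ B u z = 0 ∧ z ≠ 0 := by
  by_contra hc
  push Not at hc
  have hle : LinearMap.ker (B v) ⊓ LinearMap.ker (B u) ≤ ⊥ := fun z hz => hc z hz.1 hz.2
  have h1 := Submodule.finrank_mono hle
  rw [finrank_bot] at h1
  have h2 := Submodule.finrank_sup_add_finrank_inf_eq (LinearMap.ker (B v)) (LinearMap.ker (B u))
  have h3 := (B v).finrank_range_add_finrank_ker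
  have h3' := (B u).finrank_range_add_finrank_ker
  have h4 := Submodule.finrank_le (LinearMap.range (B v))
  have h4' := Submodule.finrank_le (LinearMap.range (B u))
  rw [finrank_self] at h4 h4'
  have h5 := Submodule.finrank_le (LinearMap.ker (B v) ⊔ LinearMap.ker (B u))
  omega

section Split

variable (h2 : (2 : F) = 0) (hall : ∀ x : X, R.stS x = ⊤)
include h2 hall

theorem exists_el {v w : V} (hv : v ≠ 0) (h : B v w = 0) (x : X) :
    ∃ c, R.el v w c • x = x := by
  obtain ⟨g, hg⟩ := exists_isom_one R.hA R.hB R.e_ne hv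
  obtain ⟨c, hc⟩ : R.pr (g.1.symm w) ∈ R.stS (g⁻¹ • x) := hall _ ▸ AddSubgroup.mem_top _
  refine ⟨c, ?_⟩
  have he : R.el R.e ((R.pr (g.1.symm w) : R.W) : V) c = R.rho (R.pr (g.1.symm w)) c :=
    formIsoms_ext fun y => by rw [R.el_apply h2 (R.e_W _), R.rho_apply]
  have hw : g.1 ((R.pr (g.1.symm w) : R.W) : V) + B (g.1.symm w) R.f • v = w := by
    have h0 : B R.e (g.1.symm w) = 0 := by
      rw [← g.2 R.e (g.1.symm w), hg, g.1.apply_symm_apply, h]
    have hs := congrArg g.1 (R.split (g.1.symm w))
    rw [g.1.apply_symm_apply, h0, zero_smul, add_zero, map_add, map_smul, hg, add_comm] at hs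
    exact hs.symm
  have hor : B v (g.1 ((R.pr (g.1.symm w) : R.W) : V)) = 0 := by rw [← hg, g.2, R.e_W]
  have hconj := R.el_conj g R.e ((R.pr (g.1.symm w) : R.W) : V) c
  rw [hg, he, ← R.el_add_smul h2 hor (B (g.1.symm w) R.f) c, hw] at hconj
  rw [← hconj, mul_smul, mul_smul, hc, smul_inv_smul]

variable [Finite F]

/-- With a full vector everything is full. -/
theorem full_of_full (hdim : 3 ≤ finrank F V) {x : X} {e : V} (he : e ≠ 0) (hf : R.Full x e)
    (v : V) : R.Full x v := by
  have key : ∀ e : V, e ≠ 0 → R.Full x e → ∀ v, B e v = 0 → R.Full x v := by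
    intro e he hf v hev
    by_cases hind : LinearIndependent F ![e, v]
    swap
    · rw [LinearIndependent.pair_iff' he] at hind
      push Not at hind
      obtain ⟨a, rfl⟩ := hind
      exact R.full_smul hf a
    have hv : v ≠ 0 := hind.ne_zero 1
    have hsum : ∀ s : F, R.Full x (e + s • v) := by
      intro s
      by_cases hs : s = 0
      · rw [hs, zero_smul, add_zero]; exact hf
      have hne : LinearIndependent F ![s • v, e] := by
        rw [LinearIndependent.pair_iff] at hind ⊢
        intro a b hab
        have := hind b (a * s) (by rw [mul_smul, add_comm]; exact hab)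
        exact ⟨(mul_eq_zero.1 this.2).resolve_right hs, this.1⟩
      obtain ⟨w, hw1, hw2⟩ := R.exists_dual hne
      obtain ⟨c, hc⟩ := R.exists_el h2 hall (smul_ne_zero hs hv) hw1 x
      have h := R.full_map_fixed hc hf
      rwa [R.el_apply h2 hw1, hw2, map_smul, hev, smul_zero, zero_smul, mul_zero, zero_smul,
        add_zero, add_zero, one_smul] at h
    intro d
    haveI := CharTwo.of_one_ne_zero_of_two_eq_zero (R := F) one_ne_zero h2
    haveI := Fintype.ofFinite F
    obtain ⟨s, rfl⟩ := (FiniteField.isSquare_of_char_two (ringChar.eq F 2) d).exists_mul_self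
    rw [← sq, ← mul_one (s ^ 2), ← altTv_smul]
    obtain ⟨c, hc⟩ := R.exists_el h2 hall he (w := s • v) (by rw [map_smul, hev, smul_zero]) x
    rw [el, mul_smul, mul_smul, hf (c + 1)] at hc
    rwa [eq_comm, ← inv_smul_eq_iff, altTv_neg, hsum s (-1), eq_comm] at hc
  by_cases hv : v = 0
  · subst hv; exact R.full_zero x
  obtain ⟨z, hz1, hz2, hz⟩ := R.exists_orth_ne (v := e) (u := v) hdim
  exact key z hz (key e he hf z hz1) v (by rw [R.swap v z, hz2, neg_zero])

/-- An element at `(u, t e)` with a non-zero parameter determines those at `(e, r u)`. -/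
theorem el_swap {x : X} {e u : V} (heu : B e u = 0) (hind : LinearIndependent F ![e, u]) {t δ : F}
    (hδ : δ ≠ 0) (hfix : R.el u (t • e) δ • x = x) (r : F) : R.el e (r • u) (r * r / δ) • x = x := by
  have he : e ≠ 0 := hind.ne_zero 0
  have hue : B u e = 0 := by rw [R.swap e u, heu, neg_zero]
  obtain ⟨z, hz1, hz2⟩ := R.exists_dual hind
  obtain ⟨w, hwdef⟩ : ∃ w, w = (r / δ) • z := ⟨_, rfl⟩
  have hew : B e w = 0 := by rw [hwdef, map_smul, hz1, smul_zero]
  have huw : B u w = r / δ := by rw [hwdef, map_smul, hz2, smul_eq_mul, mul_one]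
  have hute : B u (t • e) = 0 := by rw [map_smul, hue, smul_zero]
  obtain ⟨c, hc⟩ := R.exists_el h2 hall he hew x
  have h1 : (R.el u (t • e) δ).1 e = e := by
    rw [R.el_apply h2 hute, heu, map_smul, R.hA]; simp
  have h3 : (R.el u (t • e) δ).1 w = w + r • u + (t * B w u) • e := by
    rw [R.el_apply h2 hute, map_smul, R.swap e w, hew, neg_zero, smul_zero, zero_smul, add_zero,
      R.swap u w, huw, mul_neg, mul_div_cancel₀ _ hδ, smul_smul]
    match_scalars <;> grind
  have hconj := R.el_conj (R.el u (t • e) δ) e w c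
  have hew' : B e (w + r • u) = 0 := by rw [map_add, map_smul, hew, heu, smul_zero, add_zero]
  rw [h1, h3, R.el_add_smul h2 hew'] at hconj
  have h4 : R.el e (w + r • u) c • x = x := by
    rw [← hconj, mul_smul, mul_smul, inv_smul_eq_iff.2 hfix.symm, hc, hfix]
  have h5 := R.el_mul h2 hew hew' c c
  have e1 : w + (w + r • u) = r • u := by match_scalars <;> grind
  have e2 : c + c + B (w + r • u) w = r * r / δ := by
    rw [map_add, LinearMap.add_apply, R.hA, map_smul, LinearMap.smul_apply, huw, smul_eq_mul]
    grind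
  rw [e1, e2] at h5
  rw [← h5, mul_smul, h4, hc]

theorem false_of_split {x : X} (hx : R.stA x ≠ ⊤)
    (hq : (4 ≤ finrank F V ∧ 4 ≤ Nat.card F) ∨ (6 ≤ finrank F V ∧ Nat.card F = 2)) : False := by
  classical
  haveI := CharTwo.of_one_ne_zero_of_two_eq_zero (R := F) one_ne_zero h2
  haveI := Fintype.ofFinite F
  have hdim : 4 ≤ finrank F V := by omega
  have hnone : ∀ v : V, v ≠ 0 → ¬ R.Full x v := fun v hv h =>
    hx (R.full_e_iff.1 (R.full_of_full h2 hall (by omega) hv h R.e))
  have hsq : ∀ d : F, ∃ s : F, s * s = d := fun d => by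
    obtain ⟨s, hs⟩ := FiniteField.isSquare_of_char_two (ringChar.eq F 2) d
    exact ⟨s, hs.symm⟩
  have hzero : ∀ e w : V, B e w = 0 → LinearIndependent F ![e, w] → ∀ c,
      R.el e w c • x = x → c = 0 := by
    intro e u heu hind c hc
    by_contra hc0
    have hue : B u e = 0 := by rw [R.swap e u, heu, neg_zero]
    have hind' : LinearIndependent F ![u, e] := LinearIndependent.pair_symm_iff.1 hind
    -- all elements at `(u, r e)` with their parameters
    have hr : ∀ r, R.el u (r • e) (r * r / c) • x = x := fun r =>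
      R.el_swap h2 hall hue hind' hc0 (t := 1) (by rwa [one_smul]) r
    rcases hq with ⟨-, hq⟩ | ⟨hq6, hq⟩
    · have huniq : ∀ t δ t' δ' : F, δ ≠ 0 → δ' ≠ 0 → R.el u (t • e) δ • x = x →
          R.el u (t' • e) δ' • x = x → δ = δ' := by
        intro t δ t' δ' hd hd' hf hf'
        by_contra hne
        refine hnone e (hind.ne_zero 0) fun d => ?_
        have hK : δ⁻¹ + δ'⁻¹ ≠ 0 := fun h => hne (inv_injective (CharTwo.add_eq_zero.1 h))
        obtain ⟨r, hr'⟩ := hsq (d / (δ⁻¹ + δ'⁻¹))
        have h := R.el_mul h2 (v := e) (w := r • u) (w' := r • u) (by simp [heu]) (by simp [heu])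
          (r * r / δ) (r * r / δ')
        have e1 : r • u + r • u = 0 := by rw [← add_smul, CharTwo.add_self_eq_zero, zero_smul]
        have e2 : r * r / δ + r * r / δ' + B (r • u) (r • u) = d := by
          rw [R.hA, add_zero, div_eq_mul_inv, div_eq_mul_inv, ← mul_add, hr',
            div_mul_cancel₀ _ hK]
        rw [e1, e2, R.el_zero e d h2] at h
        rw [← h, mul_smul, R.el_swap h2 hall heu hind hd' hf' r,
          R.el_swap h2 hall heu hind hd hf r]
      obtain ⟨s, hs0, hs1⟩ : ∃ s : F, s ≠ 0 ∧ s ≠ 1 := by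
        by_contra h
        push Not at h
        have : Fintype.card F ≤ ({0, 1} : Finset F).card := Finset.card_le_card fun a _ => by
          rcases eq_or_ne a 0 with ha | ha
          · simp [ha]
          · simp [h a ha]
        rw [← Nat.card_eq_fintype_card] at this
        have := Finset.card_le_two (a := (0 : F)) (b := 1)
        omega
      have h := huniq s (s * s / c) 1 (1 * 1 / c) (div_ne_zero (mul_ne_zero hs0 hs0) hc0)
        (div_ne_zero (by simp) hc0) (hr s) (hr 1)
      rw [div_left_inj' hc0] at h
      rcases mul_self_eq_mul_self_iff.1 h with h | h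
      · exact hs1 h
      · exact hs1 (h.trans (CharTwo.neg_eq 1))
    · have h01 : ∀ a : F, a ≠ 0 → a = 1 := fun a ha => by
        have hu : Fintype.card Fˣ = 1 := by
          rw [Fintype.card_units, ← Nat.card_eq_fintype_card, hq]
        exact congrArg Units.val
          ((Fintype.card_le_one_iff.1 hu.le) (Units.mk0 a ha) 1)
      have hfull : ∀ v : V, v ≠ 0 → altTv R.hA R.hB v 1 • x ≠ x := fun v hv h =>
        hnone v hv fun d => by
          by_cases hd : d = 0
          · rw [hd, altTv_zero, one_smul]
          · rwa [h01 d hd]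
      have hswap : ∀ a b : V, B a b = 0 → LinearIndependent F ![a, b] → R.el a b 1 • x = x →
          (altTv R.hA R.hB b 1 * altTv R.hA R.hB a 1) • x = x := by
        intro a b hab hi hf
        have hba : B b a = 0 := by rw [R.swap a b, hab, neg_zero]
        have h := R.el_swap h2 hall hba (LinearIndependent.pair_symm_iff.1 hi) one_ne_zero
          (t := 1) (by rwa [one_smul]) 1
        rw [one_smul, one_mul, div_one] at h
        have e1 : altTv R.hA R.hB b 1 * altTv R.hA R.hB a 1 = R.el a b 1 * R.el b a 1 :=
          formIsoms_ext fun y => by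
            simp only [Subgroup.coe_mul, LinearEquiv.mul_apply, R.el_apply h2 hab,
              R.el_apply h2 hba, altTv_apply, map_add, map_smul, LinearMap.add_apply,
              LinearMap.smul_apply, smul_eq_mul, R.hA, hab, hba]
            match_scalars <;> grind
        rw [e1, mul_smul, h, hf]
      have hpair : ∀ a v : V, B e a = 0 → B e v = 0 → B a v = 0 → LinearIndependent F ![e, a, v] →
          R.el e a 1 • x = x → R.el e v 1 • x = x → False := by
        intro a v hea hev hav hi hfa hfv
        have hia : LinearIndependent F ![e, a] := by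
          convert hi.comp ![0, 1] (by decide) using 1
          ext i; fin_cases i <;> rfl
        have hiv : LinearIndependent F ![e, v] := by
          convert hi.comp ![0, 2] (by decide) using 1
          ext i; fin_cases i <;> rfl
        have hne : ∀ c1 c2 c3 : F, c3 ≠ 0 → c1 • e + c2 • a + c3 • v ≠ 0 := fun c1 c2 c3 h3 h =>
          h3 (Fintype.linearIndependent_iff.1 hi ![c1, c2, c3]
            (by simpa [Fin.sum_univ_three] using h) 2)
        have hae : B a e = 0 := by rw [R.swap e a, hea, neg_zero]
        have hve : B v e = 0 := by rw [R.swap e v, hev, neg_zero]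
        have hva : B v a = 0 := by rw [R.swap a v, hav, neg_zero]
        have hA1 := hswap e a hea hia hfa
        have hV1 := hswap e v hev hiv hfv
        obtain ⟨c, hcav⟩ := R.exists_el h2 hall (v := a) (w := v) (hia.ne_zero 1) hav x
        have h3 := R.el_mul h2 hea hev (1 : F) 1
        by_cases hc : c = 0
        · refine hfull (a + v) (by simpa using hne 0 1 1 one_ne_zero) ?_
          have e1 : altTv R.hA R.hB (a + v) 1 = R.el a v c *
              ((altTv R.hA R.hB a 1 * altTv R.hA R.hB e 1) *
                (altTv R.hA R.hB v 1 * altTv R.hA R.hB e 1)) := by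
            refine formIsoms_ext fun y => ?_
            simp only [hc, Subgroup.coe_mul, LinearEquiv.mul_apply, R.el_apply h2 hav, altTv_apply,
              map_add, map_smul, LinearMap.add_apply, LinearMap.smul_apply, smul_eq_mul, R.hA, hav,
              hva, hea, hev, hae, hve]
            match_scalars <;> grind
          rw [e1, mul_smul, mul_smul, hV1, hA1, hcav]
        · refine hfull (e + (a + v)) (by simpa [add_assoc] using hne 1 1 1 one_ne_zero) ?_
          have e1 : altTv R.hA R.hB (e + (a + v)) 1 = R.el e (a + v) (1 + 1 + B v a) *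
              (R.el a v 1 * (altTv R.hA R.hB v 1 * altTv R.hA R.hB e 1)) := by
            refine formIsoms_ext fun y => ?_
            simp only [Subgroup.coe_mul, LinearEquiv.mul_apply, R.el_apply h2 hav,
              R.el_apply h2 (show B e (a + v) = 0 by rw [map_add, hea, hev, add_zero]), altTv_apply,
              map_add, map_smul, LinearMap.add_apply, LinearMap.smul_apply, smul_eq_mul, R.hA, hav,
              hva, hea, hev, hae, hve]
            match_scalars <;> grind
          rw [h01 c hc] at hcav
          rw [e1, mul_smul, mul_smul, hV1, hcav, ← h3, mul_smul, hfv, hfa]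
      obtain rfl : c = 1 := h01 c hc0
      obtain ⟨v, hev, huv, hv⟩ := R.exists_orth (v := e) (u := u) (by omega)
      have hi : LinearIndependent F ![e, u, v] := by
        rw [show (![e, u, v] : Fin 3 → V) = Fin.snoc ![e, u] v from by
          ext i; fin_cases i <;> rfl, linearIndependent_finSnoc]
        exact ⟨hind, by simpa [Matrix.range_cons, Set.pair_comm, Set.insert_comm] using hv⟩
      obtain ⟨d, hd⟩ := R.exists_el h2 hall (v := e) (w := v) (hind.ne_zero 0) hev x
      by_cases hd0 : d = 0
      · subst hd0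
        have h3 := R.el_mul h2 heu hev (1 : F) 0
        rw [R.swap u v, huv, neg_zero, add_zero, add_zero] at h3
        have hi' : LinearIndependent F ![e, u, u + v] := by
          refine Fintype.linearIndependent_iff.2 fun g hg => ?_
          have h := Fintype.linearIndependent_iff.1 hi ![g 0, g 1 + g 2, g 2] (by
            simp only [Fin.sum_univ_three, Matrix.cons_val_zero, Matrix.cons_val_one,
              Matrix.cons_val_two, Matrix.tail_cons, Matrix.head_cons] at hg ⊢
            rw [← hg]; module)
          have h0 := h 0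
          have h1 := h 1
          have h2' := h 2
          simp only [Matrix.cons_val_zero, Matrix.cons_val_one, Matrix.cons_val_two,
            Matrix.tail_cons, Matrix.head_cons] at h0 h1 h2'
          intro i
          fin_cases i
          · exact h0
          · simpa [h2'] using h1
          · exact h2'
        exact hpair u (u + v) heu (by rw [map_add, heu, hev, add_zero])
          (by rw [map_add, R.hA, huv, add_zero]) hi' hc (by rw [← h3, mul_smul, hd, hc])
      · exact hpair u v heu hev huv hi hc (h01 d hd0 ▸ hd)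
  obtain ⟨w, hw, hw0⟩ : ∃ w : R.W, True ∧ w ≠ 0 := by
    have h := R.finrank_W
    have : Nontrivial R.W := Module.nontrivial_of_finrank_pos (R := F) (by omega)
    obtain ⟨w, hw⟩ := exists_ne (0 : R.W)
    exact ⟨w, trivial, hw⟩
  obtain ⟨w', hw'⟩ : ∃ w' : R.W, B (w' : V) (w : V) = 1 := by
    by_contra hc
    push Not at hc
    refine hw0 (R.BW_sep w fun z => by_contra fun h => ?_)
    rw [R.BW_apply] at h
    refine hc ((B (z : V) (w : V))⁻¹ • z) ?_
    rw [Submodule.coe_smul, map_smul, LinearMap.smul_apply, smul_eq_mul, inv_mul_cancel₀]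
    rw [R.swap (w : V) (z : V)]; simpa using h
  have hW : ∀ z : R.W, z ≠ 0 → LinearIndependent F ![R.e, (z : V)] := fun z hz => by
    rw [LinearIndependent.pair_iff' R.e_ne]
    intro a ha
    refine hz ?_
    have := congrArg R.pr ha
    rw [R.pr_W, show a • R.e = a • R.e + (0 : F) • R.f by simp, R.pr_plane] at this
    exact this.symm
  have hw'0 : w' ≠ 0 := fun e => by simp [e] at hw'
  have hsum : w + w' ≠ 0 := fun e => by
    rw [add_eq_zero_iff_eq_neg] at e
    simp [e, R.hA] at hw'
  obtain ⟨c, hc⟩ := R.exists_el h2 hall R.e_ne (R.e_W w) x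
  obtain ⟨d, hd⟩ := R.exists_el h2 hall R.e_ne (R.e_W w') x
  obtain rfl := hzero _ _ (R.e_W w) (hW w hw0) c hc
  obtain rfl := hzero _ _ (R.e_W w') (hW w' hw'0) d hd
  have h := R.el_mul h2 (R.e_W w) (R.e_W w') (0 : F) 0
  rw [add_zero, zero_add, hw', ← Submodule.coe_add] at h
  exact one_ne_zero (hzero _ _ (R.e_W (w + w')) (hW _ hsum) 1 (by rw [← h, mul_smul, hd, hc]))

end Split

end Frame

end CfsgLib.Classical.SpIdx
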