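import Cfsg.Agent.Lib.Classical.SpIdxBound
import Cfsg.Agent.Lib.Classical.SpIdxTwoExcl

/-!
# The bound over the field with two elements
-/

set_option autoImplicit false

namespace CfsgLib.Classical.SpIdx

open CfsgLib.Geom Module

theorem card_two_cases {F : Type*} [Field F] (hq : Nat.card F = 2) (a : F) : a = 0 ∨ a = 1 := by
  rcases eq_or_ne a 0 with ha | ha
  · exact Or.inl ha
  obtain ⟨y, -, hy⟩ := (Nat.card_eq_two_iff' (0 : F)).1 hq
  exact Or.inr ((hy a ha).trans (hy 1 one_ne_zero).symm)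

theorem two_eq_zero_of_card {F : Type*} [Field F] (hq : Nat.card F = 2) : (2 : F) = 0 := by
  rcases card_two_cases hq (2 : F) with h | h
  · exact h
  · exact absurd (show (1 : F) = 0 by linear_combination h) one_ne_zero

/-- The sign of an element of the field with two elements. -/
noncomputable def sgn {F : Type*} [Field F] (hq : Nat.card F = 2) : AddChar F ℤ := by
  classical
  exact
  { toFun := fun a => if a = 0 then 1 else -1
    map_zero_eq_one' := if_pos rfl
    map_add_eq_mul' := fun a b => by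
      have h2 := two_eq_zero_of_card hq
      rcases card_two_cases hq a with rfl | rfl <;> rcases card_two_cases hq b with rfl | rfl <;>
        simp [one_add_one_eq_two, h2] }

theorem sgn_zero {F : Type*} [Field F] (hq : Nat.card F = 2) : sgn hq (0 : F) = 1 :=
  AddChar.map_zero_eq_one _

theorem sgn_one {F : Type*} [Field F] (hq : Nat.card F = 2) : sgn hq (1 : F) = -1 := by
  classical
  show (if (1 : F) = 0 then (1 : ℤ) else -1) = -1
  rw [if_neg one_ne_zero]

/-- The sum of the signs of a quadratic function with non-degenerate polar. -/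
theorem sgn_sum_sq {F W : Type*} [Field F] [AddCommGroup W] [Module F W] [Fintype W]
    (hq : Nat.card F = 2) (C : W →ₗ[F] W →ₗ[F] F) (hsep : ∀ u, (∀ w, C u w = 0) → u = 0)
    (φ : W → F) (hφ : ∀ a b, φ (a + b) = φ a + φ b + C a b) :
    (∑ w, sgn hq (φ w)) ^ 2 = Fintype.card W := by
  classical
  set χ := sgn hq with hχ
  have hsq : ∀ a, χ a * χ a = 1 := fun a => by
    rcases card_two_cases hq a with rfl | rfl <;> simp [hχ, sgn_zero, sgn_one]
  have h0 : φ 0 = 0 := by
    have h := hφ 0 0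
    rw [add_zero, map_zero, add_zero] at h
    simpa using h
  have hin : ∀ z, ∑ w, χ (φ w) * χ (φ (w + z)) =
      χ (φ z) * if z = 0 then (Fintype.card W : ℤ) else 0 := by
    intro z
    have e : ∀ w, χ (φ w) * χ (φ (w + z)) = χ (φ z) * χ (C w z) := fun w => by
      rw [hφ, AddChar.map_add_eq_mul, AddChar.map_add_eq_mul, ← mul_assoc, ← mul_assoc, hsq,
        one_mul]
    rw [Finset.sum_congr rfl fun w _ => e w, ← Finset.mul_sum]
    congr 1
    by_cases hz : z = 0
    · simp [hz, AddChar.map_zero_eq_one]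
    rw [if_neg hz]
    obtain ⟨w0, hw0⟩ : ∃ w0, C w0 z = 1 := by
      by_contra hc
      push Not at hc
      refine hz (hsep z fun w => ?_)
      have h1 := hφ w z
      have h2 := hφ z w
      rw [add_comm z w, h1, add_comm (φ z) (φ w), add_right_inj] at h2
      rw [← h2]
      rcases card_two_cases hq (C w z) with h | h
      · exact h
      · exact absurd h (hc w)
    refine (AddChar.sum_eq_zero_of_ne_one (ψ := χ.compAddMonoidHom (C.flip z).toAddMonoidHom) ?_)
    intro h
    have h1 := DFunLike.congr_fun h w0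
    rw [AddChar.one_apply] at h1
    change χ (C w0 z) = 1 at h1
    rw [hw0, hχ, sgn_one] at h1
    norm_num at h1
  calc (∑ w, χ (φ w)) ^ 2 = ∑ w, ∑ z, χ (φ w) * χ (φ (w + z)) := by
        rw [sq, Finset.sum_mul]
        refine Finset.sum_congr rfl fun w _ => ?_
        rw [Finset.mul_sum]
        exact (Fintype.sum_equiv (Equiv.addLeft w) _ _ fun z => rfl).symm
    _ = ∑ z, χ (φ z) * (if z = 0 then (Fintype.card W : ℤ) else 0) := by
        rw [Finset.sum_comm]; exact Finset.sum_congr rfl fun z _ => hin z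
    _ = Fintype.card W := by
        rw [Fintype.sum_eq_single 0 fun z hz => by rw [if_neg hz, mul_zero]]
        rw [if_pos rfl, h0, AddChar.map_zero_eq_one, one_mul]

theorem card_zeros {F W : Type*} [Field F] [Fintype W] (hq : Nat.card F = 2) (φ : W → F) :
    ∑ w, sgn hq (φ w) = 2 * (Nat.card {w // φ w = 0} : ℤ) - Fintype.card W := by
  classical
  have e : ∀ w, sgn hq (φ w) = 2 * (if φ w = 0 then (1 : ℤ) else 0) - 1 := fun w => by
    rcases card_two_cases hq (φ w) with h | h <;> rw [h] <;> simp [sgn_zero, sgn_one]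
  rw [Finset.sum_congr rfl fun w _ => e w, Finset.sum_sub_distrib, ← Finset.mul_sum,
    Finset.sum_boole, Nat.card_eq_fintype_card, Fintype.card_subtype]
  simp

variable {F V : Type*} [Field F] [AddCommGroup V] [Module F V] [FiniteDimensional F V]
  {B : V →ₗ[F] V →ₗ[F] F} (R : Frame B) {X : Type*} [MulAction (formIsoms B) X] [Finite X]

namespace Frame

theorem card_ge_two (hq : Nat.card F = 2) (h6 : 6 ≤ finrank F V)
    [MulAction.IsPretransitive (formIsoms B) X] (hk : 1 < Nat.card X) {r : ℕ}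
    (hr : r * r = Nat.card R.W) : 2 * Nat.card R.W ≤ Nat.card X + r := by
  classical
  haveI : Finite F := Nat.finite_of_card_ne_zero (by omega)
  have : Finite V := Module.finite_of_finite F
  have := Fintype.ofFinite R.W
  have h2 := two_eq_zero_of_card hq
  obtain ⟨ψ, hψ⟩ := exists_psi (F := F)
  obtain ⟨x₀, hx₀⟩ := R.exists_stA_ne_top hk
  by_cases hA : ∃ x : X, R.stA x ≠ ⊤ ∧ R.stS x ≠ ⊤
  · obtain ⟨x, hx, hS⟩ := hA
    have hU := R.perp_ne_bot ψ hψ hS
    have hU1 : 1 < Nat.card (R.perp ψ (R.stS x)) := (AddSubgroup.one_lt_card_iff_ne_bot _).2 hU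
    obtain ⟨d, hd⟩ : ∃ d, Nat.card (R.perp ψ (R.stS x)) = d + 2 := ⟨_, (Nat.sub_add_cancel hU1).symm⟩
    have hY : 1 ≤ Nat.card R.W := Nat.card_pos
    set N := (Nat.card R.W - 1 + d) / (d + 1) with hN
    have hb := R.fam_bound ψ hψ hx N fun g s hs hg => by
      have h1 := (R.cover_count ψ hψ (R.perp_ne_bot_smul ψ hψ hs hg hU)).1
      rw [R.card_perp_smul ψ hψ hs hg, hd, show d + 2 - 1 = d + 1 by omega] at h1
      rw [hN]
      refine Nat.lt_succ_iff.1 ((Nat.div_lt_iff_lt_mul (by omega)).2 ?_)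
      rw [Nat.succ_eq_add_one, add_mul _ 1, one_mul]
      omega
    have hdiv : Nat.card R.W - 1 ≤ N * (d + 1) := by
      have h1 := Nat.lt_mul_div_succ (Nat.card R.W - 1 + d) (show 0 < d + 1 by omega)
      rw [← hN, mul_comm, add_mul, one_mul] at h1
      omega
    have hW2 : 2 ≤ Nat.card R.W := by
      rw [Module.natCard_eq_pow_finrank (K := F) (V := R.W), hq]
      have := R.finrank_W
      exact Nat.le_self_pow (by omega) 2
    have hN1 : 1 ≤ N := by
      rcases Nat.eq_zero_or_pos N with h | h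
      · rw [h, zero_mul] at hdiv; omega
      · exact h
    have hM : 1 ≤ (Prod.snd '' R.fam x).ncard :=
      (Set.ncard_pos (Set.toFinite _)).2 ⟨R.stA ((1 : formIsoms B) • x),
        _, ⟨1, 1, one_ne_zero, ⟨by simp, by simp⟩, rfl⟩, rfl⟩
    have ha : 2 ≤ (R.stA x).index := by
      have h0 : (R.stA x).index ≠ 0 := AddSubgroup.index_ne_zero_of_finite
      have h1 : (R.stA x).index ≠ 1 := fun h => hx (AddSubgroup.index_eq_one.1 h)
      omega
    have h3 : 1 * N * (2 * (d + 2)) ≤ (Prod.snd '' R.fam x).ncard * N *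
        ((R.stA x).index * Nat.card (R.perp ψ (R.stS x))) := by rw [hd]; gcongr
    have h4 : 1 * N * (2 * (d + 2)) = 2 * (N * (d + 1)) + 2 * N := by ring
    omega
  push Not at hA
  by_cases hB : ∀ x : X, R.stS x = ⊤
  · exact (R.false_of_split h2 hB hx₀ (Or.inr ⟨h6, hq⟩)).elim
  push Not at hB
  obtain ⟨z, hz⟩ := hB
  have hzA : R.stA z = ⊤ := by_contra fun h => hz (hA z h)
  -- the points fixed by all transvections at `e`
  have hF : Nat.card R.W ≤ Nat.card {y : X // R.Full y R.e} := by
    have h1 := R.le_card_label ψ hψ z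
    rw [hzA, AddSubgroup.index_top, one_mul] at h1
    exact (R.card_le_famS_mul ψ hψ hz).trans ((Nat.mul_le_mul_left _ h1).trans (R.card_full_ge hzA))
  -- the others give quadratic functions
  have hAbot : ∀ y : X, R.stA y ≠ ⊤ → R.stA y = ⊥ := by
    intro y hy
    refine (AddSubgroup.eq_bot_iff_forall _).2 fun a ha => ?_
    rcases card_two_cases hq a with h | h
    · exact h
    · refine absurd ((AddSubgroup.eq_top_iff' _).2 fun b => ?_) hy
      rcases card_two_cases hq b with h' | h'
      · exact h' ▸ (R.stA y).zero_mem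
      · exact h' ▸ h ▸ ha
  have huniq : ∀ y : X, R.stA y ≠ ⊤ → ∀ w c c', R.rho w c • y = y → R.rho w c' • y = y → c = c' := by
    intro y hy w c c' hc hc'
    have h : c - c' ∈ R.stA y := by
      rw [mem_stA]
      conv_lhs => rw [← hc']
      rw [← mul_smul, R.rho_mul_zero, sub_add_cancel, hc]
    rwa [hAbot y hy, AddSubgroup.mem_bot, sub_eq_zero] at h
  choose φ hφ using fun w : R.W => (hA x₀ hx₀ ▸ AddSubgroup.mem_top w : w ∈ R.stS x₀)
  have hadd : ∀ a b, φ (a + b) = φ a + φ b + R.BW b a := fun a b =>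
    huniq x₀ hx₀ _ _ _ (hφ _) (by rw [R.BW_apply, ← R.rho_mul, mul_smul, hφ, hφ])
  let T : R.W → formIsoms B := fun u => altTv R.hA R.hB (u : V) 1
  have hT : ∀ u, R.Scales (T u) 1 := fun u => ⟨by simp [T, altTv_apply, R.e_W],
    by simp [T, altTv_apply, R.f_W]⟩
  have hfix : ∀ u, φ u = 0 → ∀ v : R.W,
      R.rho v (φ v + R.BW v u) • T u • x₀ = T u • x₀ := by
    intro u hu v
    obtain ⟨l, hl⟩ : ∃ l, l = R.BW v u := ⟨_, rfl⟩
    have hw : (⟨(T u).1 ((v + l • u : R.W) : V), R.scales_W one_ne_zero (hT u) _⟩ : R.W) = v := by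
      refine Subtype.ext ?_
      show (T u).1 ((v : V) + l • (u : V)) = (v : V)
      simp only [T, altTv_apply, map_add, map_smul, LinearMap.add_apply, LinearMap.smul_apply,
        R.hA, smul_eq_mul, hl, R.BW_apply]
      match_scalars <;> grind
    have hval : φ (v + l • u) = φ v + l := by
      rcases card_two_cases hq l with h | h
      · rw [h, zero_smul, add_zero, add_zero]
      · rw [h, one_smul, hadd, hu, add_zero, R.BW_apply, R.swap (v : V) (u : V), ← R.BW_apply, ← hl, h]
        grind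
    have h := R.conj_rho one_ne_zero (hT u) (v + l • u) (φ (v + l • u))
    rw [one_smul, one_mul, one_mul, hw, hval, mul_inv_eq_iff_eq_mul, hl] at h
    rw [← mul_smul, ← h, mul_smul, ← hl, ← hval, hφ]
  have hnot : ∀ (u : R.W) (ε : F), R.stA (R.rho 0 ε • T u • x₀) ≠ ⊤ := fun u ε => by
    rwa [R.stA_rho, R.stA_smul_one (hT u)]
  have hinj : Function.Injective (fun p : {u : R.W // φ u = 0} × F =>
      (⟨R.rho 0 p.2 • T p.1.1 • x₀, fun h => hnot _ _ (R.full_e_iff.1 h)⟩ :
        {y : X // ¬ R.Full y R.e})) := by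
    rintro ⟨u, ε⟩ ⟨u', ε'⟩ e
    have e' := congrArg Subtype.val e
    simp only at e'
    have key : ∀ v, R.BW v u.1 = R.BW v u'.1 := by
      intro v
      have h1 : ∀ w c δ, R.rho w c * R.rho 0 δ = R.rho 0 δ * R.rho w c := fun w c δ => by
        rw [R.rho_mul, R.rho_mul, add_zero, zero_add, ZeroMemClass.coe_zero, map_zero,
          LinearMap.zero_apply, map_zero, add_comm c]
      have a1 : R.rho v (φ v + R.BW v u.1) • R.rho 0 ε • T u.1 • x₀ = R.rho 0 ε • T u.1 • x₀ := by
        rw [← mul_smul, h1, mul_smul, hfix _ u.2]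
      have a2 : R.rho v (φ v + R.BW v u'.1) • R.rho 0 ε • T u.1 • x₀ = R.rho 0 ε • T u.1 • x₀ := by
        rw [e', ← mul_smul, h1, mul_smul, hfix _ u'.2]
      exact add_left_cancel (huniq _ (hnot _ _) v _ _ a1 a2)
    obtain rfl : u = u' := by
      refine Subtype.ext (sub_eq_zero.1 (R.BW_sep _ fun w => ?_))
      have h := key w
      rw [R.BW_apply, R.BW_apply, R.swap (u.1 : V) (w : V), R.swap (u'.1 : V) (w : V), neg_inj] at h
      rw [map_sub, LinearMap.sub_apply, R.BW_apply, R.BW_apply, h, sub_self]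
    have hy : R.stA (T u.1 • x₀) ≠ ⊤ := by rwa [R.stA_smul_one (hT u.1)]
    have h : ε - ε' ∈ R.stA (T u.1 • x₀) := by
      rw [mem_stA, sub_eq_add_neg, add_comm, ← R.rho_mul_zero, mul_smul, e', ← mul_smul,
        R.rho_mul_zero, neg_add_cancel, R.rho_zero, one_smul]
    rw [hAbot _ hy, AddSubgroup.mem_bot, sub_eq_zero] at h
    rw [h]
  have hM := Nat.card_le_card_of_injective _ hinj
  rw [Nat.card_prod, hq] at hM
  have hsum := sgn_sum_sq hq R.BW.flip (fun u h => R.BW_sep u fun w => by
    have h' : R.BW w u = 0 := h w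
    rw [R.BW_apply, R.swap (w : V) (u : V), ← R.BW_apply, h', neg_zero]) φ hadd
  rw [card_zeros, ← Nat.card_eq_fintype_card (α := R.W)] at hsum
  have hz2 : Nat.card R.W ≤ 2 * Nat.card {u : R.W // φ u = 0} + r := by
    have e : (2 * (Nat.card {w // φ w = 0} : ℤ) - Nat.card R.W) ^ 2 = (r : ℤ) ^ 2 := by
      rw [hsum, ← hr]; push_cast; ring
    rcases sq_eq_sq_iff_eq_or_eq_neg.1 e with h | h <;> omega
  have hsplit : Nat.card X = Nat.card {y : X // R.Full y R.e} + Nat.card {y : X // ¬ R.Full y R.e} := by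
    rw [← Nat.card_sum, Nat.card_congr (Equiv.sumCompl _)]
  omega

end Frame

end CfsgLib.Classical.SpIdx
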