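import Cfsg.Agent.Lib.Classical.SpIdxTwo
import Cfsg.Agent.Lib.Classical.SpIdxTransfer

/-!
# The stabiliser of a quadratic form of minus type
-/

set_option autoImplicit false

namespace CfsgLib.Classical.SpIdx

open CfsgLib.Geom Module

variable {F : Type*} [Field F] (m : ℕ)

/-- The standard quadratic function. -/
def quadFn (v : Fin m ⊕ Fin m → F) : F := ∑ i, v (Sum.inl i) * v (Sum.inr i)

/-- A translate of the standard quadratic function. -/
noncomputable def quadAt (a v : Fin m ⊕ Fin m → F) : F := quadFn m v + sympBilin m F v a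

variable {m}

theorem quadFn_add (hq : Nat.card F = 2) (u v : Fin m ⊕ Fin m → F) :
    quadFn m (u + v) = quadFn m u + quadFn m v + sympBilin m F u v := by
  have h2 := two_eq_zero_of_card hq
  rw [sympBilin_apply, sympForm_eq_sum, quadFn, quadFn, quadFn, ← Finset.sum_add_distrib,
    ← Finset.sum_add_distrib]
  refine Finset.sum_congr rfl fun i _ => ?_
  simp only [Pi.add_apply]
  grind

theorem quadAt_add (hq : Nat.card F = 2) (a u v : Fin m ⊕ Fin m → F) :
    quadAt m a (u + v) = quadAt m a u + quadAt m a v + sympBilin m F u v := by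
  rw [quadAt, quadAt, quadAt, quadFn_add hq, map_add, LinearMap.add_apply]; ring

theorem sum_sgn_quadFn [Fintype F] (hq : Nat.card F = 2) :
    ∑ v : Fin m ⊕ Fin m → F, sgn hq (quadFn m v) = 2 ^ m := by
  classical
  rw [← (Equiv.sumArrowEquivProdArrow (Fin m) (Fin m) F).symm.sum_comp, Fintype.sum_prod_type]
  have hin : ∀ x : Fin m → F, ∑ y : Fin m → F, sgn hq (quadFn m
      ((Equiv.sumArrowEquivProdArrow (Fin m) (Fin m) F).symm (x, y))) =
      if x = 0 then (2 : ℤ) ^ m else 0 := by
    intro x
    have e : ∀ y : Fin m → F, quadFn m ((Equiv.sumArrowEquivProdArrow (Fin m) (Fin m) F).symm (x, y))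
        = ∑ i, x i * y i := fun y => by simp [quadFn, Equiv.sumArrowEquivProdArrow]
    rw [Finset.sum_congr rfl fun y _ => by rw [e y]]
    by_cases hx : x = 0
    · subst hx
      simp only [Pi.zero_apply, zero_mul, Finset.sum_const_zero, AddChar.map_zero_eq_one, if_true,
        Finset.sum_const, Finset.card_univ, nsmul_eq_mul, mul_one]
      rw [← Nat.card_eq_fintype_card, Nat.card_fun, hq, Nat.card_fin]
      push_cast
      ring
    rw [if_neg hx]
    obtain ⟨j, hj⟩ := Function.ne_iff.1 hx
    let L : (Fin m → F) →+ F := AddMonoidHom.mk' (fun y => ∑ i, x i * y i) fun a b => by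
      rw [← Finset.sum_add_distrib]
      exact Finset.sum_congr rfl fun i _ => by rw [Pi.add_apply, mul_add]
    refine AddChar.sum_eq_zero_of_ne_one (ψ := (sgn hq).compAddMonoidHom L) fun h => ?_
    have h1 := DFunLike.congr_fun h (Pi.single j 1)
    rw [AddChar.one_apply] at h1
    change sgn hq (∑ i, x i * (Pi.single j (1 : F) : Fin m → F) i) = 1 at h1
    rw [Finset.sum_eq_single j (fun b _ hb => by simp [Pi.single_apply, hb]) (by simp),
      Pi.single_eq_same, mul_one, (card_two_cases hq (x j)).resolve_left hj, sgn_one] at h1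
    norm_num at h1
  rw [Finset.sum_congr rfl fun x _ => hin x, Finset.sum_ite_eq' Finset.univ (0 : Fin m → F),
    if_pos (Finset.mem_univ _)]

theorem sum_sgn_quadAt [Fintype F] (hq : Nat.card F = 2) (a : Fin m ⊕ Fin m → F) :
    ∑ v : Fin m ⊕ Fin m → F, sgn hq (quadAt m a v) = sgn hq (quadFn m a) * 2 ^ m := by
  classical
  have e : ∀ v, quadAt m a v = quadFn m a + quadFn m (v + a) := fun v => by
    have h2 := two_eq_zero_of_card hq
    rw [quadAt, quadFn_add hq]
    linear_combination -quadFn m a * h2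
  rw [Finset.sum_congr rfl fun v _ => by rw [e v, AddChar.map_add_eq_mul], ← Finset.mul_sum]
  congr 1
  rw [← sum_sgn_quadFn hq]
  exact Fintype.sum_equiv (Equiv.addRight a) _ _ fun v => rfl

theorem card_quadFn_one [Fintype F] (hq : Nat.card F = 2) (n : ℕ) :
    Nat.card {a : Fin (n + 1) ⊕ Fin (n + 1) → F // quadFn (n + 1) a = 1} =
      2 ^ n * (2 ^ (n + 1) - 1) := by
  classical
  have h1 := card_zeros hq (quadFn (F := F) (n + 1))
  rw [sum_sgn_quadFn hq, ← Nat.card_eq_fintype_card, Nat.card_fun, hq, Nat.card_sum,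
    Nat.card_fin] at h1
  have h2 : Nat.card {a : Fin (n + 1) ⊕ Fin (n + 1) → F // quadFn (n + 1) a = 0} +
      Nat.card {a : Fin (n + 1) ⊕ Fin (n + 1) → F // quadFn (n + 1) a = 1} =
      2 ^ ((n + 1) + (n + 1)) := by
    rw [← Nat.card_sum]
    have e : {a : Fin (n + 1) ⊕ Fin (n + 1) → F // quadFn (n + 1) a = 0} ≃
        {a : Fin (n + 1) ⊕ Fin (n + 1) → F // ¬ quadFn (n + 1) a = 1} :=
      Equiv.subtypeEquivRight fun a => by
        rcases card_two_cases hq (quadFn (n + 1) a) with h | h <;> simp [h]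
    rw [Nat.card_congr ((e.sumCongr (Equiv.refl _)).trans ((Equiv.sumComm _ _).trans
      (Equiv.sumCompl _))), Nat.card_fun, hq, Nat.card_sum, Nat.card_fin]
  obtain ⟨A, hA⟩ : ∃ A, A = Nat.card {a : Fin (n + 1) ⊕ Fin (n + 1) → F // quadFn (n + 1) a = 0} :=
    ⟨_, rfl⟩
  rw [← hA] at h1 h2
  have h3 : (2 : ℤ) ^ ((n + 1) + (n + 1)) = 4 * (2 ^ n * 2 ^ n) := by ring
  have h4 : (2 : ℤ) ^ (n + 1) = 2 * 2 ^ n := by ring
  have h2' : (A : ℤ) + Nat.card {a : Fin (n + 1) ⊕ Fin (n + 1) → F // quadFn (n + 1) a = 1} =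
      2 ^ ((n + 1) + (n + 1)) := by exact_mod_cast h2
  push_cast at h1
  have hpos : 1 ≤ 2 ^ (n + 1) := Nat.one_le_two_pow
  zify [hpos]
  rw [h3] at h1 h2'
  rw [h4] at h1 ⊢
  linarith

theorem sgn_inj (hq : Nat.card F = 2) {a b : F} (h : sgn hq a = sgn hq b) : a = b := by
  rcases card_two_cases hq a with rfl | rfl <;> rcases card_two_cases hq b with rfl | rfl <;>
    simp_all [sgn_zero, sgn_one]

attribute [local instance] arrowAction in
/-- The stabiliser of a quadratic function of minus type. -/
theorem exists_quad_stabilizer [Fintype F] (hq : Nat.card F = 2) (n : ℕ) :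
    ∃ H : Subgroup (formIsoms (sympBilin (n + 1) F)),
      H.index = 2 ^ n * (2 ^ (n + 1) - 1) ∧
      Subgroup.center (formIsoms (sympBilin (n + 1) F)) ≤ H := by
  classical
  let V := Fin (n + 1) ⊕ Fin (n + 1) → F
  let G := formIsoms (sympBilin (n + 1) F)
  obtain ⟨a₀, ha₀⟩ : ∃ a : V, quadFn (n + 1) a = 1 := by
    by_contra h
    have h1 := card_quadFn_one (F := F) hq n
    have : IsEmpty {a : V // quadFn (n + 1) a = 1} := ⟨fun a => h ⟨a.1, a.2⟩⟩
    rw [Nat.card_of_isEmpty] at h1
    have h2 : 2 ≤ 2 ^ (n + 1) := Nat.le_self_pow (by omega) 2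
    have h3 : 0 < 2 ^ n := pow_pos (by norm_num) _
    rcases Nat.mul_eq_zero.1 h1.symm with h4 | h4 <;> omega
  have h2 := two_eq_zero_of_card hq
  have hinj : ∀ a b : V, quadAt (n + 1) a = quadAt (n + 1) b → a = b := by
    intro a b h
    refine sub_eq_zero.1 (sympBilin_sep _ fun v => ?_)
    have hv := congrFun h v
    rw [quadAt, quadAt, add_right_inj] at hv
    rw [sympBilin_swap, map_sub, hv, sub_self, neg_zero]
  refine ⟨MulAction.stabilizer G (quadAt (n + 1) a₀), ?_, fun z hz => ?_⟩
  · rw [MulAction.index_stabilizer, ← card_quadFn_one (F := F) hq n, ← Nat.card_coe_set_eq]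
    refine (Nat.card_congr (Equiv.ofBijective
      (fun a => (⟨quadAt (n + 1) a.1, ?_⟩ : MulAction.orbit G (quadAt (n + 1) a₀))) ⟨?_, ?_⟩)).symm
    · -- one transvection moves the base point to any other
      obtain ⟨u, hu⟩ : ∃ u, u = a₀ + a.1 := ⟨_, rfl⟩
      refine ⟨altTv sympBilin_self sympBilin_sep u 1, funext fun v => ?_⟩
      change quadAt (n + 1) a₀ (((altTv sympBilin_self sympBilin_sep u 1)⁻¹ : G).1 v) = _
      rw [altTv_neg, altTv_apply]
      have hQ : quadAt (n + 1) a₀ u = 0 := by
        rw [hu, quadAt, quadFn_add hq, ha₀, a.2, map_add, LinearMap.add_apply,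
          sympBilin_self, sympBilin_swap a₀ a.1]
        linear_combination (1 : F) * h2
      obtain ⟨l, hl⟩ : ∃ l, l = sympBilin (n + 1) F v u := ⟨_, rfl⟩
      have hneg : (-1 : F) * l = l := by linear_combination -l * h2
      rw [← hl, hneg]
      have key : quadAt (n + 1) a₀ (v + l • u) = quadAt (n + 1) a₀ v + l := by
        rcases card_two_cases hq l with h | h
        · rw [h, zero_smul, add_zero, add_zero]
        · rw [h, one_smul, quadAt_add hq, hQ, ← hl, h, add_zero]
      rw [key, quadAt, quadAt, hl, hu, map_add]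
      linear_combination sympBilin (n + 1) F v a₀ * h2
    · exact fun a b h => Subtype.ext (hinj _ _ (congrArg Subtype.val h))
    · rintro ⟨φ, g, rfl⟩
      let L : Module.Dual F V :=
        { toFun := fun v => (g • quadAt (n + 1) a₀ : V → F) v + quadFn (n + 1) v
          map_add' := fun x y => by
            change quadAt (n + 1) a₀ ((g⁻¹ : G).1 (x + y)) + quadFn (n + 1) (x + y) =
              quadAt (n + 1) a₀ ((g⁻¹ : G).1 x) + quadFn (n + 1) x +
                (quadAt (n + 1) a₀ ((g⁻¹ : G).1 y) + quadFn (n + 1) y)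
            rw [map_add, quadAt_add hq, quadFn_add hq, (g⁻¹ : G).2 x y]
            linear_combination sympBilin (n + 1) F x y * h2
          map_smul' := fun c x => by
            rcases card_two_cases hq c with rfl | rfl
            · have hz : quadFn (n + 1) (0 : V) = 0 := Finset.sum_eq_zero fun i _ => zero_mul _
              rw [RingHom.id_apply, zero_smul, zero_smul]
              change quadAt (n + 1) a₀ ((g⁻¹ : G).1 0) + quadFn (n + 1) (0 : V) = 0
              rw [map_zero, quadAt, hz, map_zero, LinearMap.zero_apply, add_zero, add_zero]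
            · simp }
      have hbij : Function.Injective (sympBilin (n + 1) F).flip :=
        (injective_iff_map_eq_zero _).2 fun a h => sympBilin_sep a fun v => by
          have h' := LinearMap.congr_fun h v
          rw [LinearMap.flip_apply, LinearMap.zero_apply] at h'
          rw [sympBilin_swap, h', neg_zero]
      obtain ⟨a, ha⟩ := (LinearMap.injective_iff_surjective_of_finrank_eq_finrank
        (Subspace.dual_finrank_eq).symm).1 hbij L
      have hQa : ∀ v, (g • quadAt (n + 1) a₀ : V → F) v = quadAt (n + 1) a v := fun v => by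
        have h := LinearMap.congr_fun ha v
        change sympBilin (n + 1) F v a = (g • quadAt (n + 1) a₀ : V → F) v + quadFn (n + 1) v at h
        rw [quadAt, h]
        linear_combination -quadFn (n + 1) v * h2
      have hs := sum_sgn_quadAt hq a
      rw [← Finset.sum_congr rfl fun v _ => congrArg (sgn hq) (hQa v)] at hs
      have hs' : ∑ v : V, sgn hq ((g • quadAt (n + 1) a₀ : V → F) v) =
          ∑ v : V, sgn hq (quadAt (n + 1) a₀ v) :=
        Fintype.sum_equiv ((g⁻¹ : G).1.toEquiv) _ _ fun v => rfl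
      rw [hs', sum_sgn_quadAt hq a₀] at hs
      have h1 : quadFn (n + 1) a = 1 :=
        (sgn_inj hq (mul_right_cancel₀ (pow_ne_zero _ two_ne_zero) hs)).symm.trans ha₀
      exact ⟨⟨a, h1⟩, Subtype.ext (funext fun v => (hQa v).symm)⟩
  · rw [MulAction.mem_stabilizer_iff]
    funext v
    change quadAt (n + 1) a₀ ((z⁻¹ : G).1 v) = quadAt (n + 1) a₀ v
    obtain ⟨c, hc⟩ := center_scales sympBilin_self sympBilin_sep (inv_mem hz) v
    rcases card_two_cases hq c with rfl | rfl
    · rw [zero_smul] at hc
      have : v = 0 := (z⁻¹ : G).1.injective (hc.trans (map_zero _).symm)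
      rw [this, map_zero]
    · rw [hc, one_smul]

end CfsgLib.Classical.SpIdx
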