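import Cfsg.Agent.Lib.Classical.SpMinDegOrbit
import Cfsg.Agent.Lib.Classical.SLMinDegTools
import Cfsg.Agent.Lib.Classical.SpSimple

/-!
# Minimal degree of `Sp_{2n}(q)`: the Siegel radical, and the bound for even `q`
-/

set_option autoImplicit false

namespace CfsgLib.Classical.SpMinDeg

open Module Matrix CfsgLib.Classical.SLMinDeg
open scoped commutatorElement

variable {F : Type*} [Field F] {n : ℕ}

/-- The symmetric matrices. -/
def symMat (n : ℕ) (F : Type*) [Field F] : AddSubgroup (Matrix (Fin n) (Fin n) F) where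
  carrier := {S | Sᵀ = S}
  add_mem' := fun {a b} (ha : aᵀ = a) (hb : bᵀ = b) => by
    change (a + b)ᵀ = a + b
    rw [transpose_add, ha, hb]
  zero_mem' := transpose_zero
  neg_mem' := fun {a} (ha : aᵀ = a) => by
    change (-a)ᵀ = -a
    rw [transpose_neg, ha]

theorem symMat_transpose (S : symMat n F) : S.1ᵀ = S.1 := S.2

/-- The element `[1 S; 0 1]`. -/
def uElt (S : symMat n F) : Matrix.symplecticGroup (Fin n) F :=
  ⟨fromBlocks 1 S.1 0 1, by
    rw [SymplecticGroup.mem_iff, Matrix.J, fromBlocks_transpose, fromBlocks_multiply,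
      fromBlocks_multiply]
    simp [symMat_transpose]⟩

/-- The Siegel radical. -/
def siegel : AddChar (symMat n F) (Matrix.symplecticGroup (Fin n) F) where
  toFun := uElt
  map_zero_eq_one' := Subtype.ext (by simp [uElt])
  map_add_eq_mul' S T := Subtype.ext (by simp [uElt, fromBlocks_multiply, add_comm])

theorem coe_siegel (S : symMat n F) :
    (siegel S : Matrix (Fin n ⊕ Fin n) (Fin n ⊕ Fin n) F) = fromBlocks 1 S.1 0 1 := rfl

/-- The element `[g 0; 0 (g⁻¹)ᵀ]`. -/
def lElt (g : GL (Fin n) F) : Matrix.symplecticGroup (Fin n) F :=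
  ⟨fromBlocks g.1 0 0 (g⁻¹).1ᵀ, by
    rw [SymplecticGroup.mem_iff, Matrix.J, fromBlocks_transpose, fromBlocks_multiply,
      fromBlocks_multiply]
    simp [← transpose_mul]⟩

/-- The symmetric matrix `g⁻¹ S g⁻ᵀ`. -/
def actSym (g : GL (Fin n) F) (S : symMat n F) : symMat n F :=
  ⟨(g⁻¹).1 * S.1 * (g⁻¹).1ᵀ, by
    change _ᵀ = _
    rw [transpose_mul, transpose_mul, transpose_transpose, symMat_transpose, mul_assoc]⟩

theorem siegel_mul_lElt (g : GL (Fin n) F) (S : symMat n F) :
    siegel S * lElt g = lElt g * siegel (actSym g S) := by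
  apply Subtype.ext
  change fromBlocks 1 S.1 0 1 * fromBlocks g.1 0 0 (g⁻¹).1ᵀ =
    fromBlocks g.1 0 0 (g⁻¹).1ᵀ * fromBlocks 1 (actSym g S).1 0 1
  simp [fromBlocks_multiply, actSym, ← Matrix.mul_assoc]

/-- `c • x xᵀ`. -/
def sqElt (x : Fin n → F) (c : F) : symMat n F :=
  ⟨c • vecMulVec x x, by
    change _ᵀ = _
    rw [transpose_smul, transpose_vecMulVec]⟩

/-- `c • (x yᵀ + y xᵀ)`. -/
def crossElt (x y : Fin n → F) (c : F) : symMat n F :=
  ⟨c • (vecMulVec x y + vecMulVec y x), by
    change _ᵀ = _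
    rw [transpose_smul, transpose_add, transpose_vecMulVec, transpose_vecMulVec, add_comm]⟩

theorem sqElt_add (x : Fin n → F) (a b : F) : sqElt x (a + b) = sqElt x a + sqElt x b :=
  Subtype.ext (by simp [sqElt, add_smul])

theorem sqElt_add_vec (x y : Fin n → F) (c : F) :
    sqElt (x + y) c = sqElt x c + sqElt y c + crossElt x y c :=
  Subtype.ext (by
    simp only [sqElt, crossElt, AddSubgroup.coe_add, add_vecMulVec, vecMulVec_add, smul_add]
    abel)

theorem sqElt_smul (a : F) (x : Fin n → F) (c : F) : sqElt (a • x) c = sqElt x (c * a ^ 2) :=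
  Subtype.ext (by simp [sqElt, smul_vecMulVec, vecMulVec_smul, smul_smul, pow_two])

theorem crossElt_add (x x' y : Fin n → F) (c : F) :
    crossElt (x + x') y c = crossElt x y c + crossElt x' y c :=
  Subtype.ext (by
    simp only [crossElt, AddSubgroup.coe_add, add_vecMulVec, vecMulVec_add, smul_add]
    abel)

theorem crossElt_smul (a : F) (x y : Fin n → F) (c : F) :
    crossElt (a • x) y c = crossElt x y (c * a) :=
  Subtype.ext (by simp [crossElt, smul_vecMulVec, vecMulVec_smul, smul_smul, smul_add, mul_comm])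

theorem actSym_sqElt (g : GL (Fin n) F) (x : Fin n → F) (c : F) :
    actSym g (sqElt x c) = sqElt ((g⁻¹).1 *ᵥ x) c :=
  Subtype.ext (by
    simp [actSym, sqElt, Matrix.mul_vecMulVec, Matrix.vecMulVec_mul,
      Matrix.vecMul_transpose])

/-- A normal subgroup containing a non-trivial element of the Siegel radical is everything. -/
theorem eq_top_of_siegel [Fintype F] (hn : 2 ≤ n) (h : n = 2 → 3 ≤ Fintype.card F)
    (N : Subgroup (Matrix.symplecticGroup (Fin n) F)) [N.Normal] {S : symMat n F} (hS : S ≠ 0)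
    (hSN : siegel S ∈ N) : N = ⊤ := by
  classical
  have hsimp := CfsgLib.Classical.isSimpleGroup_psp (F := F) n hn h
  have hnc : siegel S ∉ Subgroup.center (Matrix.symplecticGroup (Fin n) F) := by
    intro hc
    have e := congrArg Subtype.val
      (Subgroup.mem_center_iff.1 hc ⟨Matrix.J (Fin n) F, SymplecticGroup.J_mem _ _⟩)
    change Matrix.J (Fin n) F * fromBlocks 1 S.1 0 1 = fromBlocks 1 S.1 0 1 * Matrix.J (Fin n) F at e
    rw [Matrix.J, fromBlocks_multiply, fromBlocks_multiply] at e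
    simp [fromBlocks_inj] at e
    exact hS (Subtype.ext e.1.symm)
  set π := QuotientGroup.mk' (Subgroup.center (Matrix.symplecticGroup (Fin n) F))
  have : (N.map π).Normal := Subgroup.Normal.map ‹_› π (QuotientGroup.mk'_surjective _)
  rcases hsimp.eq_bot_or_eq_top_of_normal _ this with e | e
  · exact absurd ((QuotientGroup.eq_one_iff _).1
      ((Subgroup.mem_bot).1 (e ▸ Subgroup.mem_map_of_mem π hSN))) hnc
  have hperf := CfsgLib.Classical.commutator_symplecticGroup (F := F) n (by
    rcases (show n = 2 ∨ 3 ≤ n by omega) with h2 | h3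
    · exact Or.inr (Or.inl ⟨h2, h h2⟩)
    · exact Or.inl h3)
  have hsup : N ⊔ Subgroup.center (Matrix.symplecticGroup (Fin n) F) = ⊤ := by
    rw [← QuotientGroup.ker_mk' (Subgroup.center (Matrix.symplecticGroup (Fin n) F)),
      ← Subgroup.comap_map_eq, e, Subgroup.comap_top]
  rw [eq_top_iff, ← hperf, commutator_def, Subgroup.commutator_le]
  intro a _ b _
  have ha : a ∈ N ⊔ Subgroup.center (Matrix.symplecticGroup (Fin n) F) := by
    rw [hsup]; exact Subgroup.mem_top a
  have hb : b ∈ N ⊔ Subgroup.center (Matrix.symplecticGroup (Fin n) F) := by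
    rw [hsup]; exact Subgroup.mem_top b
  obtain ⟨a₁, ha₁, a₂, ha₂, rfl⟩ := Subgroup.mem_sup_of_normal_right.1 ha
  obtain ⟨b₁, hb₁, b₂, hb₂, rfl⟩ := Subgroup.mem_sup_of_normal_right.1 hb
  have ha' : (↑(a₁ * a₂) : _ ⧸ N) = ↑a₂ := by
    rw [QuotientGroup.mk_mul, (QuotientGroup.eq_one_iff a₁).2 ha₁, one_mul]
  have hb' : (↑(b₁ * b₂) : _ ⧸ N) = ↑b₂ := by
    rw [QuotientGroup.mk_mul, (QuotientGroup.eq_one_iff b₁).2 hb₁, one_mul]
  have key : QuotientGroup.mk' N ⁅a₁ * a₂, b₁ * b₂⁆ = 1 := by
    rw [map_commutatorElement, QuotientGroup.mk'_apply, QuotientGroup.mk'_apply, ha', hb',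
      commutatorElement_eq_one_iff_mul_comm, ← QuotientGroup.mk_mul, ← QuotientGroup.mk_mul,
      Subgroup.mem_center_iff.1 hb₂ a₂]
  exact (QuotientGroup.eq_one_iff _).1 key

variable {V : Type*} [AddCommGroup V] [Module ℂ V]
  (ρ : Representation ℂ (Matrix.symplecticGroup (Fin n) F) V)

/-- The character obtained from `χ` by `g`. -/
def actChar (g : GL (Fin n) F) (χ : AddChar (symMat n F) ℂ) : AddChar (symMat n F) ℂ where
  toFun S := χ (actSym g S)
  map_zero_eq_one' := by
    rw [show actSym g (0 : symMat n F) = 0 from Subtype.ext (by simp [actSym]),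
      AddChar.map_zero_eq_one]
  map_add_eq_mul' S T := by
    rw [show actSym g (S + T) = actSym g S + actSym g T from
      Subtype.ext (by simp [actSym, Matrix.mul_add, Matrix.add_mul]), AddChar.map_add_eq_mul]

theorem eigen_actChar (g : GL (Fin n) F) {χ : AddChar (symMat n F) ℂ} {v : V}
    (hv : v ∈ eigen ρ siegel χ) : ρ (lElt g) v ∈ eigen ρ siegel (actChar g χ) := fun S => by
  rw [← Module.End.mul_apply, ← map_mul, siegel_mul_lElt, map_mul, Module.End.mul_apply, hv,
    map_smul]
  rfl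

variable [Fintype F] [FiniteDimensional ℂ V]

omit [Fintype F] [FiniteDimensional ℂ V] in
theorem actChar_ne_bot (g : GL (Fin n) F) {χ : AddChar (symMat n F) ℂ}
    (h : eigen ρ siegel χ ≠ ⊥) : eigen ρ siegel (actChar g χ) ≠ ⊥ := by
  obtain ⟨v, hv, hv0⟩ := (Submodule.ne_bot_iff _).1 h
  refine fun e => hv0 ((ρ.apply_bijective (lElt g)).1 ?_)
  rw [map_zero]
  exact (Submodule.mem_bot ℂ).1 (e ▸ eigen_actChar ρ g hv)

/-- Every representation of degree at least two of `Sp_{2n}(q)`, `q` even. -/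
theorem min_degree_even [CharP F 2] (hn : 2 ≤ n) (hex : n = 2 → 3 ≤ Fintype.card F)
    (hirr : ρ.IsIrreducible) (hdim : 2 ≤ finrank ℂ V) :
    (Fintype.card F ^ n - 1) * (Fintype.card F ^ n - Fintype.card F) /
      (2 * (Fintype.card F + 1)) ≤ finrank ℂ V := by
  classical
  refine Nat.div_le_of_le_mul ?_
  have := Fintype.ofFinite (symMat n F)
  obtain ⟨ψ, hψ⟩ : ∃ ψ : AddChar F ℂ, ψ.IsPrimitive := by
    obtain ⟨φ, hφ⟩ := AddChar.exists_apply_ne_zero.2 (one_ne_zero (α := F))
    exact ⟨φ, AddChar.IsPrimitive.of_ne_one fun e => hφ (by simp [e])⟩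
  have huniq : ∀ a b : F, (∀ c, ψ (c * a) = ψ (c * b)) → a = b := fun a b h => by
    by_contra hne
    refine hψ (sub_ne_zero.2 hne) (DFunLike.ext _ _ fun c => ?_)
    have h1 : ψ (c * (a - b) + c * b) = ψ (c * b) := by
      rw [← mul_add, sub_add_cancel, h]
    rw [AddChar.map_add_eq_mul] at h1
    have hne0 : ψ (c * b) ≠ 0 := (AddChar.val_isUnit ψ _).ne_zero
    rw [AddChar.mulShift_apply, mul_comm]
    simpa using mul_right_cancel₀ hne0 (h1.trans (one_mul _).symm)
  have hex1 : ∀ (χ : AddChar (symMat n F) ℂ) (f : F → symMat n F),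
      (∀ a b, f (a + b) = f a + f b) → ∃ t, ∀ c, χ (f c) = ψ (c * t) := fun χ f hf => by
    let φ : AddChar F ℂ :=
      { toFun := fun c => χ (f c)
        map_zero_eq_one' := by
          have h0 : f 0 = 0 := by
            have := hf 0 0
            rw [add_zero] at this
            exact left_eq_add.1 this
          rw [h0, AddChar.map_zero_eq_one]
        map_add_eq_mul' := fun a b => by rw [hf, AddChar.map_add_eq_mul] }
    have hinj : Function.Injective ψ.mulShift := fun a b e => huniq a b fun c => by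
      have := DFunLike.congr_fun e c
      simpa [AddChar.mulShift_apply, mul_comm] using this
    obtain ⟨t, ht⟩ := ((Fintype.bijective_iff_injective_and_card _).2
      ⟨hinj, (AddChar.card_eq (α := F)).symm⟩).2 φ
    exact ⟨t, fun c => (DFunLike.congr_fun ht c).symm.trans (by
      rw [AddChar.mulShift_apply, mul_comm])⟩
  choose Qf hQf using fun (χ : AddChar (symMat n F) ℂ) (x : Fin n → F) =>
    hex1 χ (sqElt x) (sqElt_add x)
  have h2 : (2 : F) = 0 := CharP.cast_eq_zero F 2
  have hcross : ∀ χ x y c, χ (crossElt x y c) = ψ (c * pol (Qf χ) x y) := by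
    intro χ x y c
    have e := hQf χ (x + y) c
    rw [sqElt_add_vec, AddChar.map_add_eq_mul, AddChar.map_add_eq_mul, hQf, hQf,
      ← AddChar.map_add_eq_mul] at e
    have e2 : c * pol (Qf χ) x y + (c * Qf χ x + c * Qf χ y) = c * Qf χ (x + y) := by
      rw [pol]; linear_combination (c * Qf χ x + c * Qf χ y) * h2
    refine mul_right_cancel₀ (b := ψ (c * Qf χ x + c * Qf χ y))
      (AddChar.val_isUnit ψ _).ne_zero ?_
    rw [← AddChar.map_add_eq_mul ψ (c * pol (Qf χ) x y), e2, ← e, mul_comm]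
  have hqf : ∀ χ, IsQF (Qf χ) := fun χ => by
    refine ⟨fun a x => huniq _ _ fun c => ?_, fun x x' y => huniq _ _ fun c => ?_,
      fun a x y => huniq _ _ fun c => ?_⟩
    · rw [← hQf, sqElt_smul, hQf, mul_assoc]
    · rw [← hcross, crossElt_add, AddChar.map_add_eq_mul, hcross, hcross, ← AddChar.map_add_eq_mul,
        mul_add]
    · rw [← hcross, crossElt_smul, hcross, mul_assoc]
  set 𝒮 := Finset.univ.filter fun χ : AddChar (symMat n F) ℂ => eigen ρ siegel χ ≠ ⊥ with h𝒮
  set T := 𝒮.image Qf with hT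
  have hTc : Closed T := by
    refine ⟨fun Q hQ => ?_, fun g hg Q hQ => ?_⟩
    · obtain ⟨χ, -, rfl⟩ := Finset.mem_image.1 hQ; exact hqf χ
    · obtain ⟨χ, hχ, rfl⟩ := Finset.mem_image.1 hQ
      have hu : IsUnit (LinearMap.toMatrix' g) := Matrix.mulVec_injective_iff_isUnit.1
        (fun a b e => hg (by simpa [LinearMap.toMatrix'_mulVec] using e))
      refine Finset.mem_image.2 ⟨actChar hu.unit⁻¹ χ,
        Finset.mem_filter.2 ⟨Finset.mem_univ _,
          actChar_ne_bot ρ _ (Finset.mem_filter.1 hχ).2⟩, funext fun x => huniq _ _ fun c => ?_⟩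
      rw [← hQf, ← hQf]
      change χ (actSym hu.unit⁻¹ (sqElt x c)) = _
      rw [actSym_sqElt, inv_inv, IsUnit.unit_spec, LinearMap.toMatrix'_mulVec]
  have hB : ∃ Q ∈ T, ∃ x y, pol Q x y ≠ 0 := by
    by_contra hall
    push Not at hall
    let i : Fin n := ⟨0, by omega⟩
    let j : Fin n := ⟨1, by omega⟩
    set S := crossElt (Pi.single i 1) (Pi.single j 1) (1 : F) with hS
    have hS0 : S ≠ 0 := fun e => by
      have h := congrArg (fun M : symMat n F => M.1 i j) e
      simp [hS, crossElt, vecMulVec_apply, i, j] at h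
    have hker : siegel S ∈ MonoidHom.ker ρ := by
      refine MonoidHom.mem_ker.2 (LinearMap.ext fun v => ?_)
      rw [Module.End.one_apply]
      conv_lhs => rw [eq_sum_proj ρ siegel v, map_sum]
      conv_rhs => rw [eq_sum_proj ρ siegel v]
      refine Finset.sum_congr rfl fun χ _ => ?_
      rw [proj_mem ρ siegel χ v S]
      by_cases hχ : eigen ρ siegel χ = ⊥
      · have h0 : proj ρ siegel χ v = 0 := by simpa [hχ] using proj_mem ρ siegel χ v
        rw [h0, smul_zero]
      · rw [hS, hcross, hall _ (Finset.mem_image_of_mem _ (by simp [h𝒮, hχ])), mul_zero,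
          AddChar.map_zero_eq_one, one_smul]
    have htop := eq_top_of_siegel hn hex (MonoidHom.ker ρ) hS0 hker
    have : Nontrivial V := nontrivial_of_finrank_pos (R := ℂ) (by omega)
    obtain ⟨v, hv⟩ := exists_ne (0 : V)
    let U : Subrepresentation ρ := ⟨ℂ ∙ v, fun g w hw => by
      have hg : g ∈ MonoidHom.ker ρ := htop ▸ Subgroup.mem_top g
      rw [MonoidHom.mem_ker.1 hg]; exact hw⟩
    rcases hirr.eq_bot_or_eq_top U with e | e
    · exact hv ((Submodule.span_singleton_eq_bot).1 (congrArg Subrepresentation.toSubmodule e))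
    · have h1 := finrank_span_singleton (K := ℂ) hv
      rw [show (ℂ ∙ v) = (⊤ : Submodule ℂ V) from congrArg Subrepresentation.toSubmodule e,
        finrank_top] at h1
      omega
  refine (orbit_bound T hTc hB).trans (Nat.mul_le_mul_left _ ?_)
  calc T.card ≤ 𝒮.card := Finset.card_image_le
    _ = ∑ χ ∈ 𝒮, 1 := (Finset.card_eq_sum_ones _)
    _ ≤ ∑ χ ∈ 𝒮, eigDim ρ siegel χ := Finset.sum_le_sum fun χ hχ =>
        Nat.one_le_iff_ne_zero.2 fun e =>
          (Finset.mem_filter.1 hχ).2 (Submodule.finrank_eq_zero.1 e)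
    _ ≤ ∑ χ, eigDim ρ siegel χ := Finset.sum_le_univ_sum_of_nonneg (fun _ => Nat.zero_le _)
    _ = finrank ℂ V := (finrank_eq_sum_eigDim ρ siegel).symm

end CfsgLib.Classical.SpMinDeg
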