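import Mathlib

/-!
# Orbits of non-zero quadratic forms in odd characteristic

A set of quadratic forms on `F^n`, closed under linear substitutions and containing a non-zero
form, has at least `(q^n - 1) / 2` members.
-/

set_option autoImplicit false

namespace CfsgLib.Classical.SpMinDegOdd

open QuadraticMap (polar)

variable {F : Type*} [Field F]

theorem exists_map_single {n : ℕ} {v : Fin (n + 1) → F} (hv : v ≠ 0) :
    ∃ g : (Fin (n + 1) → F) →ₗ[F] (Fin (n + 1) → F),
      Function.Injective g ∧ g (Pi.single 0 1) = v := by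
  classical
  obtain ⟨i, hi⟩ := Function.ne_iff.1 hv
  let L : (Fin (n + 1) → F) →ₗ[F] (Fin (n + 1) → F) :=
    LinearMap.id + (LinearMap.proj i).smulRight (v - Pi.single i 1)
  have hL : Function.Injective L := by
    rw [← LinearMap.ker_eq_bot, LinearMap.ker_eq_bot']
    intro z hz
    have h0 : z i = 0 := by
      have h1 := congrFun hz i
      simp [L, mul_sub] at h1
      exact h1.resolve_right hi
    simpa [L, h0] using hz
  refine ⟨L.comp (LinearEquiv.funCongrLeft F F (Equiv.swap i 0)).toLinearMap,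
    hL.comp (LinearEquiv.funCongrLeft F F (Equiv.swap i 0)).injective, ?_⟩
  have e1 : LinearEquiv.funCongrLeft F F (Equiv.swap i 0) (Pi.single 0 1 : Fin (n + 1) → F) =
      Pi.single i 1 := by
    ext k
    simp [LinearEquiv.funCongrLeft_apply, LinearMap.funLeft_apply, Pi.single_apply,
      Equiv.swap_apply_eq_iff]
  rw [LinearMap.comp_apply, LinearEquiv.coe_coe, e1]
  simp [L]

/-- The first unit vector. -/
def e0 {n : ℕ} : Fin (n + 1) → F := Pi.single 0 1

/-- The embedding of `F^n` as the last coordinates. -/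
def inH {n : ℕ} : (Fin n → F) →ₗ[F] (Fin (n + 1) → F) where
  toFun x := Fin.cons 0 x
  map_add' x y := by ext i; refine Fin.cases ?_ ?_ i <;> simp
  map_smul' c x := by ext i; refine Fin.cases ?_ ?_ i <;> simp

/-- The last coordinates. -/
def outH {n : ℕ} : (Fin (n + 1) → F) →ₗ[F] (Fin n → F) := LinearMap.funLeft F F Fin.succ

theorem split {n : ℕ} (z : Fin (n + 1) → F) : z = z 0 • e0 + inH (outH z) := by
  ext i
  refine Fin.cases ?_ ?_ i <;> simp [e0, inH, outH, LinearMap.funLeft_apply, Fin.succ_ne_zero]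

/-- The substitution `y e₀ + x ↦ (a y + φ x) e₀ + A x`. -/
def block {n : ℕ} (a : F) (φ : (Fin n → F) →ₗ[F] F) (A : (Fin n → F) →ₗ[F] (Fin n → F)) :
    (Fin (n + 1) → F) →ₗ[F] (Fin (n + 1) → F) :=
  (a • LinearMap.proj 0 + φ.comp outH).smulRight e0 + inH.comp (A.comp outH)

theorem block_apply {n : ℕ} (a : F) (φ : (Fin n → F) →ₗ[F] F) (A : (Fin n → F) →ₗ[F] (Fin n → F))
    (z : Fin (n + 1) → F) :
    block a φ A z = (a * z 0 + φ (outH z)) • e0 + inH (A (outH z)) := by
  simp [block]

theorem block_e0 {n : ℕ} (a : F) (φ : (Fin n → F) →ₗ[F] F) (A : (Fin n → F) →ₗ[F] (Fin n → F)) :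
    block a φ A e0 = a • e0 := by
  have h : outH (e0 : Fin (n + 1) → F) = 0 := by
    ext i; simp [outH, e0, LinearMap.funLeft_apply, Fin.succ_ne_zero]
  rw [block_apply, h, map_zero, map_zero, map_zero]
  simp [e0]

theorem block_inH {n : ℕ} (a : F) (φ : (Fin n → F) →ₗ[F] F) (A : (Fin n → F) →ₗ[F] (Fin n → F))
    (x : Fin n → F) : block a φ A (inH x) = φ x • e0 + inH (A x) := by
  have h : outH (inH x : Fin (n + 1) → F) = x := by
    ext i; simp [outH, inH, LinearMap.funLeft_apply]
  rw [block_apply, h]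
  simp [inH]

theorem block_injective {n : ℕ} {a : F} (ha : a ≠ 0) (φ : (Fin n → F) →ₗ[F] F)
    {A : (Fin n → F) →ₗ[F] (Fin n → F)} (hA : Function.Injective A) :
    Function.Injective (block a φ A) := by
  rw [← LinearMap.ker_eq_bot, LinearMap.ker_eq_bot']
  intro z hz
  have h1 : outH z = 0 := by
    refine hA ?_
    rw [map_zero]
    have h := congrArg outH hz
    rw [block_apply, map_add, map_smul, map_zero] at h
    ext i
    simpa [outH, inH, e0, LinearMap.funLeft_apply, Fin.succ_ne_zero] using congrFun h i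
  have h3 : z 0 = 0 := by
    have h := congrFun hz 0
    rw [block_apply, h1] at h
    simpa [e0, inH, ha] using h
  rw [split z, h1, h3, zero_smul, map_zero, add_zero]

/-- The linear form `x ↦ B(e₀, x)`. -/
noncomputable def beta {n : ℕ} (Q : QuadraticForm F (Fin (n + 1) → F)) : (Fin n → F) →ₗ[F] F :=
  (QuadraticMap.polarBilin Q e0).comp inH

theorem beta_apply {n : ℕ} (Q : QuadraticForm F (Fin (n + 1) → F)) (x : Fin n → F) :
    beta Q x = polar Q e0 (inH x) := rfl

/-- The hypothesis on a set of forms. -/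
structure Closed {n : ℕ} (T : Set (QuadraticForm F (Fin n → F))) : Prop where
  comp : ∀ g : (Fin n → F) →ₗ[F] (Fin n → F), Function.Injective g → ∀ Q ∈ T, Q.comp g ∈ T

variable [Fintype F]

theorem shift_eq_zero (h2 : (2 : F) ≠ 0) {D : F} (h : ∀ u : F, ∃ s, u * u + D = s * s) : D = 0 := by
  classical
  set σ := Finset.univ.image fun u : F => u * u with hσ
  have hmem : ∀ x, x ∈ σ ↔ ∃ u : F, u * u = x := fun x => by simp [hσ]
  have himg : σ.image (· + D) = σ := by
    refine Finset.eq_of_subset_of_card_le (fun x hx => ?_) ?_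
    · obtain ⟨y, hy, rfl⟩ := Finset.mem_image.1 hx
      obtain ⟨u, rfl⟩ := (hmem y).1 hy
      obtain ⟨s, hs⟩ := h u
      exact (hmem _).2 ⟨s, hs.symm⟩
    · rw [Finset.card_image_of_injective _ (add_left_injective D)]
  have hsum : ∑ x ∈ σ, x = ∑ x ∈ σ, x + (σ.card : F) * D := by
    conv_lhs => rw [← himg]
    rw [Finset.sum_image (fun _ _ _ _ e => add_left_injective D e), Finset.sum_add_distrib,
      Finset.sum_const, nsmul_eq_mul]
  have hfib : ∀ x ∈ σ, x ≠ 0 → (Finset.univ.filter fun u : F => u * u = x).card = 2 := by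
    intro x hx hx0
    obtain ⟨u, rfl⟩ := (hmem x).1 hx
    have hu : u ≠ 0 := fun e => hx0 (by rw [e, mul_zero])
    rw [show (Finset.univ.filter fun v : F => v * v = u * u) = {u, -u} by
      ext v; simp [mul_self_eq_mul_self_iff]]
    refine Finset.card_pair fun e => hu ((mul_eq_zero.1 ?_).resolve_left h2)
    rw [two_mul]; exact eq_neg_iff_add_eq_zero.1 e
  have h0σ : (0 : F) ∈ σ := (hmem 0).2 ⟨0, mul_zero 0⟩
  have hcard : Fintype.card F + 1 = 2 * σ.card := by
    have e := Finset.card_eq_sum_card_fiberwise (f := fun u : F => u * u) (s := Finset.univ) (t := σ)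
      fun u _ => (hmem _).2 ⟨u, rfl⟩
    rw [← Finset.add_sum_erase _ _ h0σ,
      Finset.sum_congr rfl (fun x hx => hfib x (Finset.mem_of_mem_erase hx) (Finset.ne_of_mem_erase hx)),
      Finset.sum_const, Finset.card_erase_of_mem h0σ, smul_eq_mul,
      show (Finset.univ.filter fun u : F => u * u = 0) = {0} by ext v; simp,
      Finset.card_singleton, Finset.card_univ] at e
    have := Finset.card_pos.2 ⟨0, h0σ⟩
    omega
  have hc : (2 : F) * (σ.card : F) = 1 := by
    have e := congrArg (Nat.cast : ℕ → F) hcard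
    push_cast [FiniteField.cast_card_eq_zero] at e
    rw [← e, zero_add]
  have h0 : (σ.card : F) * D = 0 := left_eq_add.1 hsum
  calc D = ((2 : F) * (σ.card : F)) * D := by rw [hc, one_mul]
    _ = 0 := by rw [mul_assoc, h0, mul_zero]

/-- A form in at least two variables takes values of two classes or has a singular vector. -/
theorem singular_or_two_classes (h2 : (2 : F) ≠ 0) {n : ℕ}
    (Q : QuadraticForm F (Fin (n + 2) → F)) {c : F} (hc : c ≠ 0)
    (hone : ∀ z, ∃ s : F, Q z = c * (s * s)) : ∃ z, z ≠ 0 ∧ Q z = 0 := by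
  classical
  let x : Fin (n + 2) → F := Pi.single 0 1
  let y : Fin (n + 2) → F := Pi.single 1 1
  obtain ⟨s, hs⟩ := hone x
  by_cases hs0 : s = 0
  · exact ⟨x, by simp [x], by rw [hs, hs0]; ring⟩
  obtain ⟨b, hb⟩ : ∃ b, b = polar Q x y := ⟨_, rfl⟩
  let w : F → (Fin (n + 2) → F) := fun u => ((u - b / (2 * c * s)) / s) • x + y
  have hw : ∀ u, Q (w u) = c * (u * u) + (Q y - b * b / (4 * c * (s * s))) := fun u => by
    simp only [w, QuadraticMap.map_add (Q : QuadraticMap F (Fin (n + 2) → F) F),
      QuadraticMap.map_smul, hs, QuadraticMap.polar_smul_left, ← hb, smul_eq_mul]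
    have h4 : (4 : F) ≠ 0 := by
      rw [show (4 : F) = 2 * 2 by norm_num]; exact mul_ne_zero h2 h2
    field_simp
    ring
  have hD : (Q y - b * b / (4 * c * (s * s))) / c = 0 := shift_eq_zero h2 fun u => by
    obtain ⟨t, ht⟩ := hone (w u)
    refine ⟨t, mul_left_cancel₀ hc ?_⟩
    rw [mul_add, mul_div_cancel₀ _ hc, ← hw, ht]
  refine ⟨w 0, fun e => ?_, ?_⟩
  · simpa [w, x, y] using congrFun e 1
  · rw [hw, (div_eq_zero_iff.1 hD).resolve_right hc]; ring

open _root_.Classical in
/-- The orbit bound. -/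
theorem orbit_bound (h2 : (2 : F) ≠ 0) : ∀ (n : ℕ) (T : Finset (QuadraticForm F (Fin n → F))),
    Closed (T : Set (QuadraticForm F (Fin n → F))) → (∃ Q ∈ T, Q ≠ 0) →
    Fintype.card F ^ n - 1 ≤ 2 * T.card := by
  intro n
  induction n with
  | zero => intro T _ _; simp
  | succ n ih =>
    intro T hT hne
    set q := Fintype.card F with hq
    -- the forms with a given non-zero value at `e₀`
    have hval : ∀ Q ∈ T, ∀ z, Q z ≠ 0 → ∀ φ : (Fin n → F) →ₗ[F] F,
        ∃ Q' ∈ T, Q' e0 = Q z ∧ beta Q' = φ := by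
      intro Q hQ z hz φ
      have hz0 : z ≠ 0 := fun e => hz (by rw [e, QuadraticMap.map_zero])
      obtain ⟨g, hg, hgz⟩ := exists_map_single hz0
      have hQ1 : Q.comp g ∈ T := hT.comp g hg Q hQ
      have hv : (Q.comp g) e0 = Q z := by rw [QuadraticMap.comp_apply, e0, hgz]
      let w : (Fin n → F) →ₗ[F] F := (2 * Q z)⁻¹ • (φ - beta (Q.comp g))
      refine ⟨(Q.comp g).comp (block 1 w LinearMap.id),
        hT.comp _ (block_injective one_ne_zero w Function.injective_id) _ hQ1,
        by rw [QuadraticMap.comp_apply, block_e0, one_smul, hv], LinearMap.ext fun x => ?_⟩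
      rw [beta_apply, show polar ((Q.comp g).comp (block 1 w LinearMap.id)) e0 (inH x) =
        polar (Q.comp g) (block 1 w LinearMap.id e0) (block 1 w LinearMap.id (inH x)) by
          simp [QuadraticMap.polar, map_add]]
      rw [block_e0, block_inH, one_smul, QuadraticMap.polar_add_right, QuadraticMap.polar_smul_right,
        QuadraticMap.polar_self, hv, LinearMap.id_apply, ← beta_apply]
      simp only [w, LinearMap.smul_apply, LinearMap.sub_apply, smul_eq_mul]
      field_simp
      ring
    obtain ⟨Q₀, hQ₀, z₀, hz₀⟩ : ∃ Q ∈ T, ∃ z, Q z ≠ 0 := by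
      obtain ⟨Q, hQ, hQ0⟩ := hne
      refine ⟨Q, hQ, ?_⟩
      by_contra hall
      push Not at hall
      exact hQ0 (QuadraticMap.ext fun z => by simp [hall z])
    set c := Q₀ z₀ with hc
    -- the values reached
    set Cs := (Finset.univ.filter fun d : F => d ≠ 0 ∧ ∃ Q ∈ T, ∃ z, Q z = d) with hCs
    have hsq : q - 1 ≤ 2 * Cs.card := by
      have h1 := Finset.card_le_mul_card_image (Finset.univ.filter fun a : F => a ≠ 0) 2
        (f := fun a => a * a * c) fun d hd => by
          by_contra hcon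
          obtain ⟨x, hx, y, hy, z, hz, hxy, hxz, hyz⟩ := Finset.two_lt_card.1 (Nat.lt_of_not_le hcon)
          simp only [Finset.mem_filter, Finset.mem_univ, true_and] at hx hy hz
          have e1 := mul_right_cancel₀ hz₀ (hx.2.trans hy.2.symm)
          have e2 := mul_right_cancel₀ hz₀ (hx.2.trans hz.2.symm)
          rcases mul_self_eq_mul_self_iff.1 e1 with e | e
          · exact hxy e
          rcases mul_self_eq_mul_self_iff.1 e2 with e' | e'
          · exact hxz e'
          · exact hyz (neg_injective (e.symm.trans e'))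
      rw [Finset.filter_ne', Finset.card_erase_of_mem (Finset.mem_univ _), Finset.card_univ] at h1
      refine h1.trans (Nat.mul_le_mul_left _ (Finset.card_le_card fun d hd => ?_))
      obtain ⟨a, ha, rfl⟩ := Finset.mem_image.1 hd
      refine Finset.mem_filter.2 ⟨Finset.mem_univ _,
        mul_ne_zero (mul_ne_zero (Finset.ne_of_mem_erase ha) (Finset.ne_of_mem_erase ha)) hz₀,
        Q₀, hQ₀, a • z₀, ?_⟩
      rw [QuadraticMap.map_smul, smul_eq_mul, ← hc]
    have hpos : ∀ d ∈ Cs, q ^ n ≤ (T.filter fun Q => Q e0 = d).card := by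
      intro d hd
      obtain ⟨-, hd0, Q, hQ, z, hz⟩ := Finset.mem_filter.1 hd
      have hcard : Nat.card ((Fin n → F) →ₗ[F] F) = q ^ n := by
        rw [← Nat.card_congr ((Pi.basisFun F (Fin n)).constr F).toEquiv, Nat.card_fun, Nat.card_fin,
          Nat.card_eq_fintype_card]
      have : Finite ((Fin n → F) →ₗ[F] F) :=
        Nat.finite_of_card_ne_zero (by rw [hcard]; exact (pow_pos Fintype.card_pos n).ne')
      have := Fintype.ofFinite ((Fin n → F) →ₗ[F] F)
      rw [← hcard, Nat.card_eq_fintype_card]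
      refine le_trans ?_ (Finset.card_image_le (f := beta))
      rw [← Finset.card_univ]
      refine Finset.card_le_card fun φ _ => ?_
      obtain ⟨Q', hQ', hv, hb⟩ := hval Q hQ z (hz.symm ▸ hd0) φ
      exact Finset.mem_image.2 ⟨Q', Finset.mem_filter.2 ⟨hQ', hv.trans hz⟩, hb⟩
    have hsum : Cs.card * q ^ n + (T.filter fun Q => Q e0 = 0).card ≤ T.card := by
      rw [Finset.card_eq_sum_card_fiberwise (f := fun Q => Q e0) (s := T) (t := Finset.univ)
        (fun _ _ => Finset.mem_univ _)]
      have h0 : (0 : F) ∉ Cs := fun h => (Finset.mem_filter.1 h).2.1 rfl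
      refine le_trans ?_ (Finset.sum_le_sum_of_subset (Finset.subset_univ (insert 0 Cs)))
      rw [Finset.sum_insert h0, add_comm]
      refine Nat.add_le_add_left ?_ _
      rw [← smul_eq_mul, ← Finset.sum_const]
      exact Finset.sum_le_sum hpos
    have hqn : 1 ≤ q ^ n := Nat.one_le_pow _ _ Fintype.card_pos
    have hqn1 : q ^ (n + 1) = (q - 1) * q ^ n + q ^ n := by
      rw [pow_succ', ← Nat.succ_mul, Nat.succ_eq_add_one, Nat.sub_add_cancel Fintype.card_pos]
    -- all values, or a singular vector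
    by_cases hall : ∀ d : F, d ≠ 0 → d ∈ Cs
    · have : q - 1 ≤ Cs.card := by
        rw [hq, ← Finset.card_univ, ← Finset.card_erase_of_mem (Finset.mem_univ (0 : F))]
        exact Finset.card_le_card fun d hd => hall d (Finset.ne_of_mem_erase hd)
      have h3 : 3 ≤ q := by
        rw [hq]
        have h := Finset.card_le_univ ({0, 1, -1} : Finset F)
        rwa [Finset.card_eq_three.2 ⟨0, 1, -1, zero_ne_one, (neg_ne_zero.2 one_ne_zero).symm,
          fun e => h2 (by rw [← one_add_one_eq_two]; exact eq_neg_iff_add_eq_zero.1 e), rfl⟩] at h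
      have h4 : q ^ n ≤ Cs.card * q ^ n := Nat.le_mul_of_pos_left _ (by omega)
      have h5 : (q - 1) * q ^ n ≤ Cs.card * q ^ n := Nat.mul_le_mul_right _ this
      omega
    rcases Nat.eq_zero_or_pos n with rfl | hn
    · simp only [pow_zero, mul_one] at hsum
      have h1 : q ^ (0 + 1) = q := pow_one q
      omega
    push Not at hall
    obtain ⟨d, hd0, hd⟩ := hall
    obtain ⟨m, rfl⟩ : ∃ m, n = m + 1 := ⟨n - 1, by omega⟩
    have hone : ∀ z, ∃ s : F, Q₀ z = c * (s * s) := by
      intro z
      by_contra hns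
      push Not at hns
      refine hd ?_
      -- non-squares: two classes only
      have hQz : Q₀ z ≠ 0 := fun e => hns 0 (by rw [e]; ring)
      have hnsq : ¬ IsSquare (Q₀ z / c) := fun ⟨s, hs⟩ => hns s (by rw [← hs, mul_div_cancel₀ _ hz₀])
      by_cases hdc : IsSquare (d / c)
      · obtain ⟨s, hs⟩ := hdc
        refine Finset.mem_filter.2 ⟨Finset.mem_univ _, hd0, Q₀, hQ₀, s • z₀, ?_⟩
        rw [QuadraticMap.map_smul, smul_eq_mul, ← hs, ← hc, div_mul_cancel₀ _ hz₀]
      · obtain ⟨s, hs⟩ : IsSquare ((d / c) / (Q₀ z / c)) := by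
          have h1 := (quadraticChar_neg_one_iff_not_isSquare (F := F)).2 hdc
          have h3 := (quadraticChar_neg_one_iff_not_isSquare (F := F)).2 hnsq
          have hne : (d / c) / (Q₀ z / c) ≠ 0 :=
            div_ne_zero (div_ne_zero hd0 hz₀) (div_ne_zero hQz hz₀)
          rw [← quadraticChar_one_iff_isSquare hne]
          have h5 : quadraticChar F (d / c) =
              quadraticChar F ((d / c) / (Q₀ z / c)) * quadraticChar F (Q₀ z / c) := by
            rw [← map_mul, div_mul_cancel₀ _ (div_ne_zero hQz hz₀)]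
          rw [h1, h3] at h5
          linarith
        refine Finset.mem_filter.2 ⟨Finset.mem_univ _, hd0, Q₀, hQ₀, s • z, ?_⟩
        rw [QuadraticMap.map_smul, smul_eq_mul, ← hs]
        field_simp
    obtain ⟨z, hz0, hz⟩ := singular_or_two_classes h2 Q₀ hz₀ hone
    obtain ⟨g, hg, hgz⟩ := exists_map_single hz0
    set Q₁ := Q₀.comp g with hQ₁
    have hQ₁T : Q₁ ∈ T := hT.comp g hg Q₀ hQ₀
    have hQ₁0 : Q₁ e0 = 0 := by rw [hQ₁, QuadraticMap.comp_apply, e0, hgz, hz]
    set T₀ := (T.filter fun Q => Q e0 = 0).image fun Q => Q.comp inH with hT₀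
    have hT₀c : Closed (T₀ : Set (QuadraticForm F (Fin (m + 1) → F))) := ⟨fun A hA Q hQ => by
      obtain ⟨R, hR, rfl⟩ := Finset.mem_image.1 (Finset.mem_coe.1 hQ)
      obtain ⟨hRT, hR0⟩ := Finset.mem_filter.1 hR
      refine Finset.mem_coe.2 (Finset.mem_image.2 ⟨R.comp (block 1 0 A), Finset.mem_filter.2
        ⟨hT.comp _ (block_injective one_ne_zero 0 hA) R hRT, ?_⟩, QuadraticMap.ext fun x => ?_⟩)
      · rw [QuadraticMap.comp_apply, block_e0, one_smul, hR0]
      · simp [QuadraticMap.comp_apply, block_inH]⟩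
    have hT₀ne : ∃ Q ∈ T₀, Q ≠ 0 := by
      by_cases hr : Q₁.comp inH = 0
      swap
      · exact ⟨_, Finset.mem_image_of_mem _ (Finset.mem_filter.2 ⟨hQ₁T, hQ₁0⟩), hr⟩
      have hbne : beta Q₁ ≠ 0 := by
        intro hb
        obtain ⟨y, hy⟩ : ∃ y, g y = z₀ := (LinearMap.injective_iff_surjective.1 hg) z₀
        refine hz₀ ?_
        rw [hc, ← hy, show Q₀ (g y) = Q₁ y from rfl, split y,
          QuadraticMap.map_add (Q₁ : QuadraticMap F (Fin (m + 2) → F) F), QuadraticMap.map_smul,
          hQ₁0, QuadraticMap.polar_smul_left, ← beta_apply, hb,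
          show Q₁ (inH (outH y)) = (Q₁.comp inH) (outH y) from rfl, hr]
        simp
      obtain ⟨x, hx⟩ : ∃ x, beta Q₁ x ≠ 0 := by
        by_contra h
        push Not at h
        exact hbne (LinearMap.ext h)
      refine ⟨(Q₁.comp (block 1 (beta Q₁) LinearMap.id)).comp inH, Finset.mem_image_of_mem _
        (Finset.mem_filter.2 ⟨hT.comp _ (block_injective one_ne_zero _ Function.injective_id) _ hQ₁T,
          by rw [QuadraticMap.comp_apply, block_e0, one_smul, hQ₁0]⟩), fun e => ?_⟩
      have h := QuadraticMap.congr_fun e x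
      rw [QuadraticMap.comp_apply, QuadraticMap.comp_apply, block_inH,
        QuadraticMap.map_add (Q₁ : QuadraticMap F (Fin (m + 2) → F) F), QuadraticMap.map_smul,
        hQ₁0, QuadraticMap.polar_smul_left, LinearMap.id_apply, ← beta_apply,
        show Q₁ (inH x) = (Q₁.comp inH) x from rfl, hr] at h
      simp at h
      exact hx h
    have hih := ih T₀ hT₀c hT₀ne
    have hle : T₀.card ≤ (T.filter fun Q => Q e0 = 0).card := Finset.card_image_le
    have hh : (q - 1) * q ^ (m + 1) ≤ 2 * (Cs.card * q ^ (m + 1)) := by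
      rw [← mul_assoc]; exact Nat.mul_le_mul_right _ hsq
    omega

end CfsgLib.Classical.SpMinDegOdd
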