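import Cfsg.Agent.Lib.Classical.SpMinDegEven
import Cfsg.Agent.Lib.Classical.SpMinDegOddOrbit

/-!
# Minimal degree of `Sp_{2n}(q)`, `q` odd: the bound
-/

set_option autoImplicit false

namespace CfsgLib.Classical.SpMinDegOdd

open Module Matrix CfsgLib.Classical.SLMinDeg CfsgLib.Classical.SpMinDeg
open QuadraticMap (polar)

variable {F : Type*} [Field F] [Fintype F] {n : ℕ}
  {V : Type*} [AddCommGroup V] [Module ℂ V] [FiniteDimensional ℂ V]
  (ρ : Representation ℂ (Matrix.symplecticGroup (Fin n) F) V)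

/-- The degree bound. -/
theorem min_degree_odd (h2 : (2 : F) ≠ 0) (hn : 2 ≤ n) (hirr : ρ.IsIrreducible)
    (hdim : 2 ≤ finrank ℂ V) : (Fintype.card F ^ n - 1) / 2 ≤ finrank ℂ V := by
  classical
  refine Nat.div_le_of_le_mul ?_
  have hex : n = 2 → 3 ≤ Fintype.card F := fun _ => by
    have h := Finset.card_le_univ ({0, 1, -1} : Finset F)
    rwa [Finset.card_eq_three.2 ⟨0, 1, -1, zero_ne_one, (neg_ne_zero.2 one_ne_zero).symm,
      fun e => h2 (by rw [← one_add_one_eq_two]; exact eq_neg_iff_add_eq_zero.1 e), rfl⟩] at h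
  have := Fintype.ofFinite (symMat n F)
  obtain ⟨ψ, hψ⟩ : ∃ ψ : AddChar F ℂ, ψ.IsPrimitive := by
    obtain ⟨φ, hφ⟩ := AddChar.exists_apply_ne_zero.2 (one_ne_zero (α := F))
    exact ⟨φ, AddChar.IsPrimitive.of_ne_one fun e => hφ (by simp [e])⟩
  have hinj : Function.Injective ψ.mulShift := AddChar.to_mulShift_inj_of_isPrimitive hψ
  have huniq : ∀ a b : F, (∀ c, ψ (c * a) = ψ (c * b)) → a = b := fun a b h => hinj
    (DFunLike.ext _ _ fun c => by rw [AddChar.mulShift_apply, AddChar.mulShift_apply, mul_comm, h, mul_comm])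
  have hex1 : ∀ (χ : AddChar (symMat n F) ℂ) (f : F → symMat n F),
      (∀ a b, f (a + b) = f a + f b) → ∃ t, ∀ c, χ (f c) = ψ (c * t) := fun χ f hf => by
    let φ : AddChar F ℂ :=
      { toFun := fun c => χ (f c)
        map_zero_eq_one' := by
          have h0 : f 0 = 0 := by
            have := hf 0 0
            rw [add_zero] at this
            exact left_eq_add.1 this
          rw [h0, AddChar.map_zero_eq_one]
        map_add_eq_mul' := fun a b => by rw [hf, AddChar.map_add_eq_mul] }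
    obtain ⟨t, ht⟩ := ((Fintype.bijective_iff_injective_and_card _).2
      ⟨hinj, (AddChar.card_eq (α := F)).symm⟩).2 φ
    exact ⟨t, fun c => (DFunLike.congr_fun ht c).symm.trans (by
      rw [AddChar.mulShift_apply, mul_comm])⟩
  choose f hf using fun (χ : AddChar (symMat n F) ℂ) (x : Fin n → F) =>
    hex1 χ (sqElt x) (sqElt_add x)
  have hcross : ∀ χ x y c, χ (crossElt x y c) = ψ (c * polar (f χ) x y) := by
    intro χ x y c
    have e := hf χ (x + y) c
    rw [sqElt_add_vec, AddChar.map_add_eq_mul, AddChar.map_add_eq_mul, hf, hf,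
      ← AddChar.map_add_eq_mul] at e
    refine mul_left_cancel₀ (a := ψ (c * f χ x + c * f χ y)) (AddChar.val_isUnit ψ _).ne_zero ?_
    rw [e, ← AddChar.map_add_eq_mul]
    congr 1
    simp only [QuadraticMap.polar]; ring
  let Qf : AddChar (symMat n F) ℂ → QuadraticForm F (Fin n → F) := fun χ =>
    QuadraticMap.ofPolar (f χ)
      (fun a x => huniq _ _ fun c => by
        rw [← hf, sqElt_smul, hf, smul_eq_mul, mul_assoc, sq])
      (fun x x' y => huniq _ _ fun c => by
        rw [← hcross, crossElt_add, AddChar.map_add_eq_mul, hcross, hcross, ← AddChar.map_add_eq_mul,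
          mul_add])
      (fun a x y => huniq _ _ fun c => by
        rw [← hcross, crossElt_smul, hcross, smul_eq_mul, mul_assoc])
  have hQf : ∀ χ x, Qf χ x = f χ x := fun χ x => rfl
  set 𝒮 := Finset.univ.filter fun χ : AddChar (symMat n F) ℂ => eigen ρ siegel χ ≠ ⊥ with h𝒮
  set T := 𝒮.image Qf with hT
  have hTc : Closed (T : Set (QuadraticForm F (Fin n → F))) := ⟨fun g hg Q hQ => by
    obtain ⟨χ, hχ, rfl⟩ := Finset.mem_image.1 (Finset.mem_coe.1 hQ)
    have hu : IsUnit (LinearMap.toMatrix' g) := Matrix.mulVec_injective_iff_isUnit.1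
      (fun a b e => hg (by simpa [LinearMap.toMatrix'_mulVec] using e))
    refine Finset.mem_coe.2 (Finset.mem_image.2 ⟨actChar hu.unit⁻¹ χ,
      Finset.mem_filter.2 ⟨Finset.mem_univ _, actChar_ne_bot ρ _ (Finset.mem_filter.1 hχ).2⟩,
      QuadraticMap.ext fun x => huniq _ _ fun c => ?_⟩)
    rw [QuadraticMap.comp_apply, hQf, hQf, ← hf, ← hf]
    change χ (actSym hu.unit⁻¹ (sqElt x c)) = _
    rw [actSym_sqElt, inv_inv, IsUnit.unit_spec, LinearMap.toMatrix'_mulVec]⟩
  have hB : ∃ Q ∈ T, Q ≠ 0 := by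
    by_contra hall
    push Not at hall
    let i : Fin n := ⟨0, by omega⟩
    set S := sqElt (Pi.single i 1) (1 : F) with hS
    have hS0 : S ≠ 0 := fun e => by
      have h := congrArg (fun M : symMat n F => M.1 i i) e
      simp [hS, sqElt, vecMulVec_apply, i] at h
    have hker : siegel S ∈ MonoidHom.ker ρ := by
      refine MonoidHom.mem_ker.2 (LinearMap.ext fun v => ?_)
      rw [Module.End.one_apply]
      conv_lhs => rw [eq_sum_proj ρ siegel v, map_sum]
      conv_rhs => rw [eq_sum_proj ρ siegel v]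
      refine Finset.sum_congr rfl fun χ _ => ?_
      rw [proj_mem ρ siegel χ v S]
      by_cases hχ : eigen ρ siegel χ = ⊥
      · have h0 : proj ρ siegel χ v = 0 := by simpa [hχ] using proj_mem ρ siegel χ v
        rw [h0, smul_zero]
      · rw [hS, hf, ← hQf, hall _ (Finset.mem_image_of_mem _ (by simp [h𝒮, hχ])),
          _root_.zero_apply, mul_zero, AddChar.map_zero_eq_one, one_smul]
    have htop := eq_top_of_siegel hn hex (MonoidHom.ker ρ) hS0 hker
    have : Nontrivial V := nontrivial_of_finrank_pos (R := ℂ) (by omega)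
    obtain ⟨v, hv⟩ := exists_ne (0 : V)
    let U : Subrepresentation ρ := ⟨ℂ ∙ v, fun g w hw => by
      have hg : g ∈ MonoidHom.ker ρ := htop ▸ Subgroup.mem_top g
      rw [MonoidHom.mem_ker.1 hg]; exact hw⟩
    rcases hirr.eq_bot_or_eq_top U with e | e
    · exact hv ((Submodule.span_singleton_eq_bot).1 (congrArg Subrepresentation.toSubmodule e))
    · have h1 := finrank_span_singleton (K := ℂ) hv
      rw [show (ℂ ∙ v) = (⊤ : Submodule ℂ V) from congrArg Subrepresentation.toSubmodule e,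
        finrank_top] at h1
      omega
  refine (orbit_bound h2 n T hTc hB).trans (Nat.mul_le_mul_left _ ?_)
  calc T.card ≤ 𝒮.card := Finset.card_image_le
    _ = ∑ χ ∈ 𝒮, 1 := (Finset.card_eq_sum_ones _)
    _ ≤ ∑ χ ∈ 𝒮, eigDim ρ siegel χ := Finset.sum_le_sum fun χ hχ =>
        Nat.one_le_iff_ne_zero.2 fun e =>
          (Finset.mem_filter.1 hχ).2 (Submodule.finrank_eq_zero.1 e)
    _ ≤ ∑ χ, eigDim ρ siegel χ := Finset.sum_le_univ_sum_of_nonneg (fun _ => Nat.zero_le _)
    _ = finrank ℂ V := (finrank_eq_sum_eigDim ρ siegel).symm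

end CfsgLib.Classical.SpMinDegOdd
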