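import Mathlib

/-!
# Orbits of quadratic forms in characteristic two with non-zero polar form

A set of quadratic forms on `F^n`, closed under linear substitutions, containing a form with
non-zero polar form has at least `(q^n - 1)(q^n - q) / (2 (q + 1))` members.
-/

set_option autoImplicit false

namespace CfsgLib.Classical.SpMinDeg

variable {F : Type*} [Field F]

/-- The polar of a function. -/
def pol {V : Type*} [Add V] (Q : V → F) (x y : V) : F := Q (x + y) + Q x + Q y

/-- `Q` is a quadratic form (characteristic two). -/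
structure IsQF {V : Type*} [AddCommGroup V] [Module F V] (Q : V → F) : Prop where
  smul : ∀ (c : F) x, Q (c • x) = c ^ 2 * Q x
  add_left : ∀ x y z, pol Q (x + y) z = pol Q x z + pol Q y z
  smul_left : ∀ (c : F) x y, pol Q (c • x) y = c * pol Q x y

theorem pol_comm {V : Type*} [AddCommGroup V] (Q : V → F) (x y : V) : pol Q x y = pol Q y x := by
  rw [pol, pol, add_comm x y]; ring

theorem exists_equiv_map {n : ℕ} {v w : Fin n → F} (hv : v ≠ 0) (hw : w ≠ 0) :
    ∃ e : (Fin n → F) ≃ₗ[F] (Fin n → F), e v = w := by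
  classical
  have key : ∀ u : Fin n → F, u ≠ 0 → ∀ j : Fin n,
      ∃ e : (Fin n → F) ≃ₗ[F] (Fin n → F), e (Pi.single j 1) = u := by
    intro u hu j
    obtain ⟨i, hi⟩ := Function.ne_iff.1 hu
    let L : (Fin n → F) →ₗ[F] (Fin n → F) :=
      LinearMap.id + (LinearMap.proj i).smulRight (u - Pi.single i 1)
    have hL : Function.Injective L := by
      rw [← LinearMap.ker_eq_bot, LinearMap.ker_eq_bot']
      intro z hz
      have h0 : z i = 0 := by
        have h1 := congrFun hz i
        simp [L, mul_sub] at h1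
        exact h1.resolve_right hi
      simpa [L, h0] using hz
    refine ⟨(LinearEquiv.funCongrLeft F F (Equiv.swap i j)).trans
      (LinearEquiv.ofInjectiveEndo L hL), ?_⟩
    have e1 : LinearEquiv.funCongrLeft F F (Equiv.swap i j) (Pi.single j 1 : Fin n → F) =
        Pi.single i 1 := by
      ext k
      simp [LinearEquiv.funCongrLeft_apply, LinearMap.funLeft_apply, Pi.single_apply,
        Equiv.swap_apply_eq_iff]
    rw [LinearEquiv.trans_apply, e1]
    change L (Pi.single i 1) = u
    simp [L]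
  obtain ⟨i, -⟩ := Function.ne_iff.1 hv
  obtain ⟨e, he⟩ := key v hv i
  obtain ⟨e', he'⟩ := key w hw i
  exact ⟨e.symm.trans e', by rw [LinearEquiv.trans_apply, ← he, e.symm_apply_apply, he']⟩

variable [CharP F 2]

theorem IsQF.apply_add {V : Type*} [AddCommGroup V] [Module F V] {Q : V → F} (_ : IsQF Q)
    (x y : V) : Q (x + y) = Q x + Q y + pol Q x y := by
  have h : (2 : F) = 0 := CharP.cast_eq_zero F 2
  rw [pol]; linear_combination -(Q x + Q y) * h

omit [CharP F 2] in
theorem IsQF.apply_zero {V : Type*} [AddCommGroup V] [Module F V] {Q : V → F} (hQ : IsQF Q) :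
    Q 0 = 0 := by
  simpa using hQ.smul 0 0

theorem IsQF.pol_self {V : Type*} [AddCommGroup V] [Module F V] {Q : V → F} (hQ : IsQF Q) (x : V) :
    pol Q x x = 0 := by
  have h : (2 : F) = 0 := CharP.cast_eq_zero F 2
  rw [pol, ← two_smul F x, hQ.smul, h]
  linear_combination Q x * h

omit [CharP F 2] in
theorem IsQF.pol_smul_smul {V : Type*} [AddCommGroup V] [Module F V] {Q : V → F} (hQ : IsQF Q)
    (a b : F) (x y : V) : pol Q (a • x) (b • y) = a * b * pol Q x y := by
  rw [hQ.smul_left, pol_comm, hQ.smul_left, pol_comm Q y x]; ring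

/-- The first unit vector. -/
def e0 {n : ℕ} : Fin (n + 1) → F := Pi.single 0 1

/-- The embedding of `F^n` as the last coordinates. -/
def inH {n : ℕ} : (Fin n → F) →ₗ[F] (Fin (n + 1) → F) where
  toFun x := Fin.cons 0 x
  map_add' x y := by ext i; refine Fin.cases ?_ ?_ i <;> simp
  map_smul' c x := by ext i; refine Fin.cases ?_ ?_ i <;> simp

omit [CharP F 2] in
theorem eq_smul_e0_add {n : ℕ} (z : Fin (n + 1) → F) :
    z = z 0 • e0 + inH (fun i => z i.succ) := by
  ext i
  refine Fin.cases ?_ ?_ i <;> simp [e0, inH, Fin.succ_ne_zero]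

/-- The map `y e₀ + x ↦ (a y + w ⬝ x) e₀ + A x`. -/
def blockMap {n : ℕ} (a : F) (w : Fin n → F) (A : (Fin n → F) →ₗ[F] (Fin n → F)) :
    (Fin (n + 1) → F) →ₗ[F] (Fin (n + 1) → F) where
  toFun z := (a * z 0 + w ⬝ᵥ fun i => z i.succ) • e0 + inH (A fun i => z i.succ)
  map_add' z z' := by
    have e : (fun i : Fin n => (z + z') i.succ) = (fun i => z i.succ) + fun i => z' i.succ := rfl
    rw [e, dotProduct_add, map_add, map_add, Pi.add_apply]
    module
  map_smul' c z := by
    have e : (fun i : Fin n => (c • z) i.succ) = c • fun i => z i.succ := rfl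
    rw [e, dotProduct_smul, map_smul, map_smul, Pi.smul_apply, smul_eq_mul, smul_eq_mul,
      RingHom.id_apply, smul_add, smul_smul]
    module

omit [CharP F 2] in
theorem blockMap_apply {n : ℕ} (a : F) (w : Fin n → F) (A : (Fin n → F) →ₗ[F] (Fin n → F))
    (y : F) (x : Fin n → F) :
    blockMap a w A (y • e0 + inH x) = (a * y + w ⬝ᵥ x) • e0 + inH (A x) := by
  have e1 : (y • (e0 : Fin (n + 1) → F) + inH x) 0 = y := by simp [e0, inH]
  have e2 : (fun i : Fin n => (y • (e0 : Fin (n + 1) → F) + inH x) i.succ) = x := by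
    ext i; simp [e0, inH, Fin.succ_ne_zero]
  change (a * _ + w ⬝ᵥ _) • e0 + inH (A _) = _
  rw [e1, e2]

omit [CharP F 2] in
theorem blockMap_injective {n : ℕ} {a : F} (ha : a ≠ 0) (w : Fin n → F)
    {A : (Fin n → F) →ₗ[F] (Fin n → F)} (hA : Function.Injective A) :
    Function.Injective (blockMap a w A) := by
  rw [← LinearMap.ker_eq_bot, LinearMap.ker_eq_bot']
  intro z hz
  rw [eq_smul_e0_add z, blockMap_apply] at hz
  have h1 : ∀ i : Fin n, A (fun j : Fin n => z j.succ) i = 0 := fun i => by
    simpa [e0, inH, Fin.succ_ne_zero] using congrFun hz i.succ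
  have h2 : (fun j : Fin n => z j.succ) = 0 := hA (by rw [map_zero]; exact funext h1)
  rw [h2, dotProduct_zero, add_zero, map_zero] at hz
  have h3 : z 0 = 0 := by simpa [e0, inH, ha] using congrFun hz 0
  rw [eq_smul_e0_add z, h2, h3, zero_smul, map_zero, add_zero]

variable [Fintype F]

/-- The hypothesis on a set of forms. -/
structure Closed {n : ℕ} (T : Finset ((Fin n → F) → F)) : Prop where
  qf : ∀ Q ∈ T, IsQF Q
  comp : ∀ g : (Fin n → F) →ₗ[F] (Fin n → F), Function.Injective g → ∀ Q ∈ T, (fun x => Q (g x)) ∈ T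

omit [Fintype F] [CharP F 2] in
theorem pol_comp {n : ℕ} (Q : (Fin n → F) → F) (g : (Fin n → F) →ₗ[F] (Fin n → F))
    (x y : Fin n → F) : pol (fun z => Q (g z)) x y = pol Q (g x) (g y) := by
  simp only [pol, map_add]

omit [Fintype F] [CharP F 2] in
theorem exists_dot_ne {n : ℕ} {w : Fin n → F} (hw : w ≠ 0) : ∃ x, w ⬝ᵥ x ≠ 0 := by
  classical
  obtain ⟨i, hi⟩ := Function.ne_iff.1 hw
  exact ⟨Pi.single i 1, by simpa using hi⟩

/-- The linear functional `x ↦ B(e₀, x)` as a vector. -/
noncomputable def betaVec {n : ℕ} (Q : (Fin (n + 1) → F) → F) : Fin n → F :=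
  fun i => pol Q e0 (inH (Pi.single i 1))

omit [CharP F 2] [Fintype F] in
theorem pol_e0 {n : ℕ} {Q : (Fin (n + 1) → F) → F} (hQ : IsQF Q) (x : Fin n → F) :
    pol Q e0 (inH x) = betaVec Q ⬝ᵥ x := by
  classical
  let L : (Fin n → F) →ₗ[F] F :=
    { toFun := fun z => pol Q e0 (inH z)
      map_add' := fun a b => by
        rw [map_add, pol_comm, hQ.add_left, pol_comm Q (inH a), pol_comm Q (inH b)]
      map_smul' := fun c a => by
        rw [map_smul, pol_comm, hQ.smul_left, pol_comm Q (inH a)]; rfl }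
  change L x = _
  rw [show x = ∑ i, x i • Pi.single i (1 : F) by
    ext j; simp [Pi.single_apply, Finset.sum_apply], map_sum]
  simp only [map_smul, smul_eq_mul, dotProduct, Finset.sum_apply, Pi.smul_apply, Pi.single_apply]
  refine Finset.sum_congr rfl fun i _ => ?_
  simp [L, betaVec, mul_comm]

omit [Fintype F] in
/-- The action of a block map on a form. -/
theorem apply_blockMap {n : ℕ} {Q : (Fin (n + 1) → F) → F} (hQ : IsQF Q) (a : F) (w : Fin n → F)
    (A : (Fin n → F) →ₗ[F] (Fin n → F)) (y : F) (x : Fin n → F) :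
    Q (blockMap a w A (y • e0 + inH x)) = (a * y + w ⬝ᵥ x) ^ 2 * Q e0 + Q (inH (A x))
      + (a * y + w ⬝ᵥ x) * (betaVec Q ⬝ᵥ A x) := by
  rw [blockMap_apply, hQ.apply_add, hQ.smul, hQ.smul_left, pol_e0 hQ]

omit [Fintype F] in
/-- Invariants of the image of a form under `y e₀ + x ↦ (y + w ⬝ x) e₀ + x`. -/
theorem shift_invariants {n : ℕ} {Q : (Fin (n + 1) → F) → F} (hQ : IsQF Q) (w : Fin n → F) :
    Q (blockMap 1 w LinearMap.id e0) = Q e0 ∧
      betaVec (fun z => Q (blockMap 1 w LinearMap.id z)) = betaVec Q := by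
  have e : blockMap (1 : F) w LinearMap.id e0 = e0 := by
    have h := blockMap_apply (1 : F) w LinearMap.id 1 0
    simpa using h
  refine ⟨by rw [e], funext fun i => ?_⟩
  rw [betaVec, pol_comp, e, betaVec]
  have h := blockMap_apply (1 : F) w LinearMap.id 0 (Pi.single i 1)
  rw [mul_zero, zero_add, zero_smul, zero_add, LinearMap.id_apply] at h
  rw [h, pol_comm, hQ.add_left, hQ.smul_left, hQ.pol_self, mul_zero, zero_add, pol_comm]

omit [CharP F 2] [Fintype F] in
theorem exists_injective_linearMap {n : ℕ} {β β' : Fin n → F} (hβ : β ≠ 0) (hβ' : β' ≠ 0) :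
    ∃ A : (Fin n → F) →ₗ[F] (Fin n → F), Function.Injective A ∧ ∀ x, β ⬝ᵥ A x = β' ⬝ᵥ x := by
  classical
  obtain ⟨e, he⟩ := exists_equiv_map hβ hβ'
  let M : Matrix (Fin n) (Fin n) F := LinearMap.toMatrix' (e : (Fin n → F) →ₗ[F] (Fin n → F))
  refine ⟨Matrix.toLin' M.transpose, ?_, fun x => ?_⟩
  · have hM : IsUnit M := by
      rw [Matrix.isUnit_iff_isUnit_det, LinearMap.det_toMatrix']
      exact LinearEquiv.isUnit_det' e
    exact Matrix.mulVec_injective_iff_isUnit.2 (Matrix.isUnit_transpose M |>.2 hM)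
  · rw [Matrix.toLin'_apply, Matrix.dotProduct_mulVec, Matrix.vecMul_transpose]
    have : M.mulVec β = β' := by
      rw [← Matrix.toLin'_apply, Matrix.toLin'_toMatrix']; exact he
    rw [this]

variable {n : ℕ} {T : Finset ((Fin (n + 1) → F) → F)}

omit [Fintype F] in
/-- A form with given invariants. -/
theorem Closed.reach (hT : Closed T) {Q : (Fin (n + 1) → F) → F} (hQ : Q ∈ T)
    (hβ : betaVec Q ≠ 0) {a : F} (ha : a ≠ 0) {β' : Fin n → F} (hβ' : β' ≠ 0) :
    ∃ Q' ∈ T, Q' e0 = a ^ 2 * Q e0 ∧ betaVec Q' = β' := by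
  classical
  obtain ⟨A, hA, hAd⟩ := exists_injective_linearMap hβ (smul_ne_zero (inv_ne_zero ha) hβ')
  refine ⟨_, hT.comp _ (blockMap_injective ha 0 hA) Q hQ, ?_, funext fun i => ?_⟩
  · have h := apply_blockMap (hT.qf Q hQ) a 0 A 1 0
    simpa [(hT.qf Q hQ).apply_zero] using h
  · have e : blockMap a 0 A (e0 : Fin (n + 1) → F) = a • e0 := by
      simpa using blockMap_apply a 0 A 1 0
    have e' : blockMap a 0 A (inH (Pi.single i 1)) = inH (A (Pi.single i 1)) := by
      simpa using blockMap_apply a 0 A 0 (Pi.single i 1)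
    rw [betaVec, pol_comp, e, e', (hT.qf Q hQ).smul_left, pol_e0 (hT.qf Q hQ), hAd,
      smul_dotProduct, smul_eq_mul, ← mul_assoc, mul_inv_cancel₀ ha, one_mul, dotProduct_single,
      mul_one]

/-- The part of `T` with given value and polar at `e₀`. -/
noncomputable def fiber (T : Finset ((Fin (n + 1) → F) → F)) (c : F) (β : Fin n → F) :
    Finset ((Fin (n + 1) → F) → F) := by
  classical
  exact T.filter fun Q => Q e0 = c ∧ betaVec Q = β

omit [Fintype F] [CharP F 2] in
theorem mem_fiber {c : F} {β : Fin n → F} {Q : (Fin (n + 1) → F) → F} :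
    Q ∈ fiber T c β ↔ Q ∈ T ∧ Q e0 = c ∧ betaVec Q = β := by
  simp [fiber]

open _root_.Classical in
/-- Lower bound for a fibre. -/
theorem Closed.fiber_card (hT : Closed T) {c : F} {β : Fin n → F} (hβ : β ≠ 0)
    (hne : (fiber T c β).Nonempty) :
    Fintype.card F ^ n ≤ (if c = 0 then 1 else 2) * (fiber T c β).card := by
  classical
  obtain ⟨Q, hQ⟩ := hne
  obtain ⟨hQT, hc, hb⟩ := mem_fiber.1 hQ
  have hq := hT.qf Q hQT
  let S : (Fin n → F) → ((Fin (n + 1) → F) → F) := fun w z => Q (blockMap 1 w LinearMap.id z)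
  have hker : ∀ w w', S w = S w' → w = w' ∨ (c ≠ 0 ∧ c • (w + w') = β) := by
    intro w w' e
    rcases eq_or_ne w w' with h | h
    · exact .inl h
    right
    set u := w + w' with hu
    have hu0 : u ≠ 0 := fun h0 => h (by
      funext i
      have := congrFun h0 i
      exact CharTwo.add_eq_zero.1 (by simpa [hu] using this))
    have key : ∀ x, (u ⬝ᵥ x) * (c * (u ⬝ᵥ x) + β ⬝ᵥ x) = 0 := by
      intro x
      have h1 := congrFun e ((0 : F) • e0 + inH x)
      simp only [S, apply_blockMap hq, mul_zero, zero_add, hb, hc, LinearMap.id_apply] at h1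
      rw [hu, add_dotProduct]
      have h2 : (2 : F) = 0 := CharP.cast_eq_zero F 2
      linear_combination h1 + (c * (w' ⬝ᵥ x) ^ 2 + c * (w ⬝ᵥ x) * (w' ⬝ᵥ x) +
        (w' ⬝ᵥ x) * (β ⬝ᵥ x)) * h2
    have hlin : ∀ x, c * (u ⬝ᵥ x) + β ⬝ᵥ x = 0 := by
      obtain ⟨x₀, hx₀⟩ := exists_dot_ne hu0
      have k0 := (mul_eq_zero.1 (key x₀)).resolve_left hx₀
      intro x
      by_cases hx : u ⬝ᵥ x = 0
      · have hne' : u ⬝ᵥ (x + x₀) ≠ 0 := by rwa [dotProduct_add, hx, zero_add]
        have k1 := (mul_eq_zero.1 (key (x + x₀))).resolve_left hne'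
        rw [dotProduct_add, dotProduct_add] at k1
        linear_combination k1 - k0
      · exact (mul_eq_zero.1 (key x)).resolve_left hx
    have hcu : c • u = β := funext fun i => by
      have := hlin (Pi.single i 1)
      rw [dotProduct_single, dotProduct_single, mul_one, mul_one] at this
      exact CharTwo.add_eq_zero.1 this
    exact ⟨fun h0 => hβ (by rw [← hcu, h0, zero_smul]), hcu⟩
  have hsub : Finset.univ.image S ⊆ fiber T c β := by
    intro R hR
    obtain ⟨w, -, rfl⟩ := Finset.mem_image.1 hR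
    refine mem_fiber.2 ⟨hT.comp _ (blockMap_injective one_ne_zero w Function.injective_id) Q hQT,
      ?_, ?_⟩
    · rw [← hc]; exact (shift_invariants hq w).1
    · rw [← hb]; exact (shift_invariants hq w).2
  have h := Finset.card_le_mul_card_image (f := S) (s := (Finset.univ : Finset (Fin n → F)))
    (if c = 0 then 1 else 2) (fun R hR => ?_)
  · rw [Finset.card_univ, Fintype.card_fun, Fintype.card_fin] at h
    exact h.trans (Nat.mul_le_mul_left _ (Finset.card_le_card hsub))
  obtain ⟨w, -, rfl⟩ := Finset.mem_image.1 hR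
  split_ifs with h0
  · refine Finset.card_le_one.2 fun x hx y hy => ?_
    rw [Finset.mem_filter] at hx hy
    exact ((hker x y (hx.2.trans hy.2.symm)).resolve_right fun h => h.1 h0)
  · refine (Finset.card_le_card (t := {w, w + c⁻¹ • β}) fun x hx => ?_).trans Finset.card_le_two
    rw [Finset.mem_filter] at hx
    rcases hker x w hx.2 with h | ⟨-, h⟩
    · simp [h]
    · refine Finset.mem_insert_of_mem (Finset.mem_singleton.2 ?_)
      rw [← h, smul_smul, inv_mul_cancel₀ h0, one_smul]
      funext i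
      simp only [Pi.add_apply]
      linear_combination -(w i) * (CharP.cast_eq_zero F 2 : (2 : F) = 0)

omit [Fintype F] in
/-- There is a form with `Q(e₀) ≠ 0` and `B(e₀, ·) ≠ 0`. -/
theorem Closed.exists_good (hT : Closed T) {Q : (Fin (n + 1) → F) → F} (hQ : Q ∈ T)
    (hB : ∃ x y, pol Q x y ≠ 0) : ∃ Q' ∈ T, Q' e0 ≠ 0 ∧ betaVec Q' ≠ 0 := by
  classical
  have hq := hT.qf Q hQ
  obtain ⟨x, y, hxy⟩ := hB
  obtain ⟨v, v', hv, hv0⟩ : ∃ v v', pol Q v v' ≠ 0 ∧ Q v ≠ 0 := by
    by_cases hx : Q x = 0
    · by_cases hy : Q y = 0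
      · refine ⟨x + y, y, ?_, ?_⟩
        · rw [hq.add_left, hq.pol_self, add_zero]; exact hxy
        · rw [hq.apply_add, hx, hy, zero_add, zero_add]; exact hxy
      · exact ⟨y, x, by rwa [pol_comm], hy⟩
    · exact ⟨x, y, hxy, hx⟩
  have hv' : v ≠ 0 := fun e => hv0 (by rw [e, hq.apply_zero])
  have he : (e0 : Fin (n + 1) → F) ≠ 0 := by simp [e0]
  obtain ⟨g, hg⟩ := exists_equiv_map he hv'
  refine ⟨_, hT.comp g.toLinearMap g.injective Q hQ, ?_, fun h => hv ?_⟩
  · change Q (g e0) ≠ 0; rwa [hg]
  · set Q' : (Fin (n + 1) → F) → F := fun z => Q (g z) with hQ'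
    have hq' : IsQF Q' := hT.qf _ (hT.comp g.toLinearMap g.injective Q hQ)
    have e : pol Q v v' = pol Q' e0 (g.symm v') := by
      rw [hQ']
      simp only [pol, map_add, hg, g.apply_symm_apply]
    rw [e, eq_smul_e0_add (g.symm v'), pol_comm, hq'.add_left, hq'.smul_left, hq'.pol_self,
      mul_zero, zero_add, pol_comm, pol_e0 hq']
    rw [show betaVec Q' = 0 from h, zero_dotProduct]

theorem bound_arith (q n T N : ℕ) (hq : 2 ≤ q)
    (h : (q - 1) * (q ^ n - 1) * q ^ n + 2 * N ≤ 2 * T)
    (hN : (q ^ n - 1) * (q ^ n - q) ≤ 2 * (q + 1) * N ∨ (q ^ n - 1) * q ^ n ≤ N) :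
    (q ^ (n + 1) - 1) * (q ^ (n + 1) - q) ≤ 2 * (q + 1) * T := by
  have hP : 1 ≤ q ^ n := Nat.one_le_pow _ _ (by omega)
  rw [pow_succ]
  generalize hPdef : q ^ n = P at *
  have e1 : P * q - q = q * (P - 1) := by rw [Nat.mul_sub, mul_one, mul_comm]
  rw [e1]
  obtain ⟨p, rfl⟩ : ∃ p, P = p + 1 := ⟨P - 1, by omega⟩
  obtain ⟨r, rfl⟩ : ∃ r, q = r + 2 := ⟨q - 2, by omega⟩
  simp only [Nat.add_sub_cancel, show r + 2 - 1 = r + 1 by omega] at h hN ⊢
  have e2 : (p + 1) * (r + 2) - 1 = p * (r + 2) + (r + 1) := by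
    rw [add_mul, one_mul]; omega
  rw [e2]
  rcases Nat.lt_or_ge (p + 1) (r + 2) with hc | hc
  · obtain rfl : p = 0 := by
      by_contra h0
      rcases Nat.eq_zero_or_pos n with rfl | hn
      · simp at hPdef; omega
      · have := Nat.le_self_pow (Nat.pos_iff_ne_zero.1 hn) (r + 2); omega
    simp
  · obtain ⟨s, hs⟩ : ∃ s, p + 1 = r + 2 + s := ⟨p + 1 - (r + 2), by omega⟩
    obtain rfl : p = r + 1 + s := by omega
    rw [hs, Nat.add_sub_cancel_left] at hN
    rw [hs] at h
    have h' := Nat.mul_le_mul_left (r + 2 + 1) h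
    rcases hN with hN | hN
    · ring_nf at hN h' ⊢
      linarith
    · have hN' := Nat.mul_le_mul_left (2 * (r + 2 + 1)) hN
      ring_nf at hN' h' ⊢
      nlinarith

/-- The orbit bound. -/
theorem orbit_bound : ∀ {n : ℕ} (T : Finset ((Fin n → F) → F)), Closed T →
    (∃ Q ∈ T, ∃ x y, pol Q x y ≠ 0) →
    (Fintype.card F ^ n - 1) * (Fintype.card F ^ n - Fintype.card F) ≤
      2 * (Fintype.card F + 1) * T.card := by
  classical
  intro n
  induction n with
  | zero => intro T _ _; simp
  | succ n ih =>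
    intro T hT ⟨Q₀, hQ₀, hB⟩
    obtain ⟨Q, hQ, hQe, hQb⟩ := hT.exists_good hQ₀ hB
    set q := Fintype.card F with hqdef
    have hsq : ∀ c : F, ∃ a, a ^ 2 = c := fun c => by
      obtain ⟨a, ha⟩ := FiniteField.isSquare_of_char_two (ringChar.eq F 2) c
      exact ⟨a, by rw [ha, sq]⟩
    have hreach : ∀ c : F, c ≠ 0 → ∀ β : Fin n → F, β ≠ 0 → (fiber T c β).Nonempty := by
      intro c hc β hβ
      obtain ⟨a, ha⟩ := hsq (c / Q e0)
      have ha0 : a ≠ 0 := fun e => by
        rw [e, zero_pow two_ne_zero, eq_comm, div_eq_zero_iff] at ha; tauto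
      obtain ⟨Q', h1, h2, h3⟩ := hT.reach hQ hQb ha0 hβ
      exact ⟨Q', mem_fiber.2 ⟨h1, by rw [h2, ha, div_mul_cancel₀ c hQe], h3⟩⟩
    set Tc := T.filter fun R => R e0 ≠ 0 ∧ betaVec R ≠ 0 with hTc
    set T0 := T.filter fun R => R e0 = 0 ∧ betaVec R ≠ 0 with hT0
    set TR := T.filter fun R => R e0 = 0 ∧ betaVec R = 0 with hTR
    have hdisj : Tc.card + T0.card + TR.card ≤ T.card := by
      rw [← Finset.card_union_of_disjoint, ← Finset.card_union_of_disjoint]
      · exact Finset.card_le_card (by simp [hTc, hT0, hTR, Finset.union_subset_iff])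
      · rw [Finset.disjoint_left]
        intro a ha hb
        simp only [hTc, hT0, hTR, Finset.mem_union, Finset.mem_filter] at ha hb
        tauto
      · rw [Finset.disjoint_left]
        simp +contextual [hTc, hT0]
    have hTcge : (q - 1) * (q ^ n - 1) * q ^ n ≤ 2 * Tc.card := by
      rw [Finset.card_eq_sum_card_fiberwise (s := Tc) (f := fun R => (R e0, betaVec R))
        (t := (Finset.univ.erase (0 : F)) ×ˢ (Finset.univ.erase (0 : Fin n → F))) (fun R hR => by
          simp only [hTc, Finset.coe_filter, Set.mem_ofPred_eq] at hR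
          simp [hR.2.1, hR.2.2]), Finset.mul_sum]
      refine le_trans ?_ (Finset.card_nsmul_le_sum _ _ (q ^ n) fun p hp => ?_)
      · simp [hqdef, Finset.card_erase_of_mem]
      · simp only [Finset.mem_product, Finset.mem_erase] at hp
        have h := hT.fiber_card hp.2.1 (hreach _ hp.1.1 _ hp.2.1)
        rw [if_neg hp.1.1] at h
        refine h.trans (Nat.mul_le_mul_left _ (Finset.card_le_card fun R hR => ?_))
        obtain ⟨h1, h2, h3⟩ := mem_fiber.1 hR
        simp [hTc, h1, h2, h3, hp.1.1, hp.2.1]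
    by_cases h0 : T0.Nonempty
    · refine bound_arith q n T.card T0.card Fintype.one_lt_card (by omega) (.inr ?_)
      obtain ⟨R, hR⟩ := h0
      obtain ⟨hR1, hR2, hR3⟩ := Finset.mem_filter.1 hR
      rw [Finset.card_eq_sum_card_fiberwise (s := T0) (f := betaVec)
        (t := Finset.univ.erase (0 : Fin n → F)) (fun S hS => by
          simp only [hT0, Finset.coe_filter, Set.mem_ofPred_eq] at hS
          simp [hS.2.2])]
      refine le_trans ?_ (Finset.card_nsmul_le_sum _ _ (q ^ n) fun β hβ => ?_)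
      · simp [hqdef, Finset.card_erase_of_mem]
      · have hβ0 := (Finset.mem_erase.1 hβ).1
        obtain ⟨R', r1, r2, r3⟩ := hT.reach hR1 hR3 one_ne_zero hβ0
        have h := hT.fiber_card hβ0 (c := 0) ⟨R', mem_fiber.2 ⟨r1, by rw [r2, hR2, mul_zero], r3⟩⟩
        rw [if_pos rfl, one_mul] at h
        refine h.trans (Finset.card_le_card fun S hS => ?_)
        obtain ⟨h1, h2, h3⟩ := mem_fiber.1 hS
        simp [hT0, h1, h2, h3, hβ0]
    · refine bound_arith q n T.card TR.card Fintype.one_lt_card (by omega) (.inl ?_)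
      rcases Nat.lt_or_ge n 2 with hn | hn
      · have hle : q ^ n ≤ q := by
          interval_cases n
          · simp [hqdef, Nat.one_le_iff_ne_zero]
          · simp
        rw [Nat.sub_eq_zero_of_le hle]
        simp
      -- a singular vector
      have hq := hT.qf Q hQ
      obtain ⟨k, hk0, hkβ⟩ : ∃ k : Fin n → F, k ≠ 0 ∧ betaVec Q ⬝ᵥ k = 0 := by
        let L : (Fin n → F) →ₗ[F] F :=
          { toFun := fun z => betaVec Q ⬝ᵥ z
            map_add' := fun a b => dotProduct_add _ a b
            map_smul' := fun a b => dotProduct_smul a _ b }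
        obtain ⟨k, hk, hk0⟩ := (Submodule.ne_bot_iff _).1 (show LinearMap.ker L ≠ ⊥ from fun e => by
          have h := LinearMap.finrank_le_finrank_of_injective (LinearMap.ker_eq_bot.1 e)
          rw [Module.finrank_fin_fun, Module.finrank_self] at h
          omega)
        exact ⟨k, hk0, hk⟩
      obtain ⟨a, ha⟩ := hsq (Q (inH k) / Q e0)
      set x : Fin (n + 1) → F := a • e0 + inH k with hx
      have hQx : Q x = 0 := by
        rw [hx, hq.apply_add, hq.smul, hq.smul_left, pol_e0 hq, hkβ, ha, div_mul_cancel₀ _ hQe,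
          mul_zero, add_zero, CharTwo.add_self_eq_zero]
      have hx0 : x ≠ 0 := fun e => hk0 (funext fun i => by
        simpa [hx, e0, inH, Fin.succ_ne_zero] using congrFun e i.succ)
      have he : (e0 : Fin (n + 1) → F) ≠ 0 := by simp [e0]
      obtain ⟨g, hg⟩ := exists_equiv_map he hx0
      set R : (Fin (n + 1) → F) → F := fun z => Q (g z) with hR
      have hRT : R ∈ T := hT.comp g.toLinearMap g.injective Q hQ
      have hRe : R e0 = 0 := by simp only [hR, hg, hQx]
      have hRb : betaVec R = 0 := by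
        by_contra hb
        exact h0 ⟨R, Finset.mem_filter.2 ⟨hRT, hRe, hb⟩⟩
      have hRq := hT.qf R hRT
      set U := TR.image fun S => fun z : Fin n → F => S (inH z) with hU
      have hUc : Closed U := by
        refine ⟨fun S hS => ?_, fun A hA S hS => ?_⟩
        · obtain ⟨S', hS', rfl⟩ := Finset.mem_image.1 hS
          have hs := hT.qf S' (Finset.mem_filter.1 hS').1
          exact ⟨fun c z => by rw [map_smul, hs.smul], fun u v w => by
              simpa [pol, map_add] using hs.add_left (inH u) (inH v) (inH w),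
            fun c u v => by simpa [pol, map_add, map_smul] using hs.smul_left c (inH u) (inH v)⟩
        · obtain ⟨S', hS', rfl⟩ := Finset.mem_image.1 hS
          obtain ⟨hS1, hS2, hS3⟩ := Finset.mem_filter.1 hS'
          have hs := hT.qf S' hS1
          refine Finset.mem_image.2 ⟨fun z => S' (blockMap 1 0 A z), Finset.mem_filter.2
            ⟨hT.comp _ (blockMap_injective one_ne_zero 0 hA) S' hS1, ?_, funext fun i => ?_⟩,
            funext fun z => ?_⟩
          · have := apply_blockMap hs 1 0 A 1 0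
            simpa [hS2, hs.apply_zero] using this
          · have e : blockMap 1 0 A (e0 : Fin (n + 1) → F) = e0 := by
              simpa using blockMap_apply 1 0 A 1 0
            have e' : blockMap 1 0 A (inH (Pi.single i (1 : F))) = inH (A (Pi.single i 1)) := by
              simpa using blockMap_apply 1 0 A 0 (Pi.single i (1 : F))
            rw [betaVec, pol_comp, e, e', pol_e0 hs, hS3, zero_dotProduct]
            rfl
          · change S' (blockMap 1 0 A (inH z)) = S' (inH (A z))
            congr 1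
            simpa using blockMap_apply 1 0 A 0 z
      have hUB : ∃ S ∈ U, ∃ u v, pol S u v ≠ 0 := by
        refine ⟨_, Finset.mem_image_of_mem _ (Finset.mem_filter.2 ⟨hRT, hRe, hRb⟩), ?_⟩
        obtain ⟨i, hi⟩ := Function.ne_iff.1 hQb
        by_contra hall
        push Not at hall
        refine hi ?_
        have e : betaVec Q i = pol R (g.symm e0) (g.symm (inH (Pi.single i 1))) := by
          simp only [betaVec, hR, pol, map_add, g.apply_symm_apply]
        have key : ∀ u v, pol R u v = 0 := fun u v => by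
          have h1 : ∀ (y : F) (s : Fin n → F) (z : Fin n → F), pol R (y • e0 + inH s) (inH z) = 0 := by
            intro y s z
            rw [hRq.add_left, hRq.smul_left, pol_e0 hRq, hRb, zero_dotProduct, mul_zero, zero_add]
            have := hall s z
            simpa [pol, map_add] using this
          have k1 : ∀ w, pol R e0 w = 0 := fun w => by
            rw [eq_smul_e0_add w, pol_comm, hRq.add_left, hRq.smul_left, hRq.pol_self,
              pol_comm R (inH _), pol_e0 hRq, hRb, zero_dotProduct, mul_zero, add_zero]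
          rw [eq_smul_e0_add v, pol_comm, hRq.add_left, hRq.smul_left, k1, pol_comm R (inH _) u,
            eq_smul_e0_add u, h1]
          simp
        rw [e, key]
        rfl
      exact (ih U hUc hUB).trans (Nat.mul_le_mul_left _ Finset.card_image_le)

end CfsgLib.Classical.SpMinDeg
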