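import Mathlib

/-!
# The Heisenberg operators on functions on `F^n`, and intertwiners for symplectic substitutions
-/

set_option autoImplicit false

namespace CfsgLib.Classical.SpWeil

open Matrix Module

variable {F : Type*} [Field F] {n : ℕ}

/-- The space acted on. -/
abbrev Fn (n : ℕ) (F : Type*) := (Fin n → F) → ℂ

/-- The first half. -/
def bp (v : Fin n ⊕ Fin n → F) : Fin n → F := fun i => v (Sum.inl i)

/-- The second half. -/
def ap (v : Fin n ⊕ Fin n → F) : Fin n → F := fun i => v (Sum.inr i)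

theorem bp_add (v w : Fin n ⊕ Fin n → F) : bp (v + w) = bp v + bp w := rfl
theorem ap_add (v w : Fin n ⊕ Fin n → F) : ap (v + w) = ap v + ap w := rfl
theorem bp_neg (v : Fin n ⊕ Fin n → F) : bp (-v) = -bp v := rfl
theorem ap_neg (v : Fin n ⊕ Fin n → F) : ap (-v) = -ap v := rfl
theorem bp_zero : bp (0 : Fin n ⊕ Fin n → F) = 0 := rfl
theorem ap_zero : ap (0 : Fin n ⊕ Fin n → F) = 0 := rfl

/-- The alternating form. -/
def om (v w : Fin n ⊕ Fin n → F) : F := v ⬝ᵥ (Matrix.J (Fin n) F *ᵥ w)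

theorem om_eq (v w : Fin n ⊕ Fin n → F) : om v w = ap v ⬝ᵥ bp w - bp v ⬝ᵥ ap w := by
  have e : Matrix.J (Fin n) F *ᵥ w = Sum.elim (-ap w) (bp w) := by
    rw [Matrix.J, fromBlocks_mulVec]
    simp [ap, bp, Matrix.neg_mulVec, Matrix.one_mulVec, Function.comp_def]
    ext (i | i) <;> simp [ap, bp]
  rw [om, e]
  simp [dotProduct, Fintype.sum_sum_type, ap, bp]
  ring

theorem om_map (g : Matrix.symplecticGroup (Fin n) F) (v w : Fin n ⊕ Fin n → F) :
    om (g.1 *ᵥ v) (g.1 *ᵥ w) = om v w := by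
  have h := SymplecticGroup.mem_iff'.1 g.2
  rw [om, om]
  conv_rhs => rw [← h]
  rw [← Matrix.mulVec_mulVec, ← Matrix.mulVec_mulVec, Matrix.dotProduct_mulVec v g.1ᵀ,
    Matrix.vecMul_transpose]

variable (ψ : AddChar F ℂ)

/-- The Heisenberg operators. -/
noncomputable def W (v : Fin n ⊕ Fin n → F) : Module.End ℂ (Fn n F) where
  toFun f x := ψ (bp v ⬝ᵥ x + (2 : F)⁻¹ * (ap v ⬝ᵥ bp v)) * f (x + ap v)
  map_add' f g := by ext x; simp [mul_add]
  map_smul' c f := by ext x; simp [mul_left_comm]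

theorem W_apply (v : Fin n ⊕ Fin n → F) (f : Fn n F) (x : Fin n → F) :
    W ψ v f x = ψ (bp v ⬝ᵥ x + (2 : F)⁻¹ * (ap v ⬝ᵥ bp v)) * f (x + ap v) := rfl

theorem W_zero : W (n := n) ψ 0 = 1 := by
  refine LinearMap.ext fun f => funext fun x => ?_
  simp [W_apply, bp_zero, ap_zero]

variable (h2 : (2 : F) ≠ 0)
include h2

theorem W_mul (v w : Fin n ⊕ Fin n → F) :
    W ψ v * W ψ w = ψ ((2 : F)⁻¹ * om v w) • W ψ (v + w) := by
  refine LinearMap.ext fun f => funext fun x => ?_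
  rw [Module.End.mul_apply, W_apply, W_apply, LinearMap.smul_apply, Pi.smul_apply, W_apply,
    smul_eq_mul, ← mul_assoc, ← mul_assoc, ← AddChar.map_add_eq_mul, ← AddChar.map_add_eq_mul,
    bp_add, ap_add, add_assoc x]
  congr 2
  rw [om_eq]
  simp only [dotProduct_add, add_dotProduct]
  rw [dotProduct_comm (bp w) (ap v), dotProduct_comm (bp v) (ap w)]
  field_simp
  ring

omit h2 in
/-- The parity operator. -/
def P : Module.End ℂ (Fn n F) where
  toFun f x := f (-x)
  map_add' _ _ := rfl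
  map_smul' _ _ := rfl

omit h2 in
theorem P_apply (f : Fn n F) (x : Fin n → F) : P f x = f (-x) := rfl

omit h2 in
theorem P_mul_P : P (n := n) (F := F) * P = 1 :=
  LinearMap.ext fun f => funext fun x => by simp [P_apply]

omit h2 in
theorem P_mul_W (v : Fin n ⊕ Fin n → F) : P * W ψ v = W ψ (-v) * P := by
  refine LinearMap.ext fun f => funext fun x => ?_
  simp [P_apply, W_apply, bp_neg, ap_neg, neg_dotProduct, dotProduct_neg, add_comm]

variable [Fintype F] (hψ : ψ.IsPrimitive)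
include hψ

omit h2 in
theorem sum_char [DecidableEq F] (d : Fin n → F) :
    ∑ x : Fin n → F, ψ (d ⬝ᵥ x) = if d = 0 then (Fintype.card (Fin n → F) : ℂ) else 0 := by
  let L : (Fin n → F) →+ F :=
    { toFun := fun x => d ⬝ᵥ x, map_zero' := dotProduct_zero d, map_add' := dotProduct_add d }
  split_ifs with hd
  · simp [hd]
  change ∑ x, ψ.compAddMonoidHom L x = 0
  refine AddChar.sum_eq_zero_of_ne_one fun e => ?_
  obtain ⟨i, hi⟩ := Function.ne_iff.1 hd
  refine hψ hi (DFunLike.ext _ _ fun r => ?_)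
  have h := DFunLike.congr_fun e (Pi.single i r)
  rw [AddChar.compAddMonoidHom_apply, AddChar.one_apply] at h
  rw [AddChar.mulShift_apply, AddChar.one_apply, ← h]
  simp [L, dotProduct_single]

omit h2 in
theorem sum_W_proj [DecidableEq F] (z : Fin n → F) (f : Fn n F) :
    ∑ b : Fin n → F, ψ (-(b ⬝ᵥ z)) • W ψ (Sum.elim b 0) f =
      (Fintype.card (Fin n → F) : ℂ) • (f z • (Pi.single z 1 : Fn n F)) := by
  funext x
  have e1 : ∀ b : Fin n → F, bp (Sum.elim b (0 : Fin n → F)) = b := fun _ => rfl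
  have e2 : ∀ b : Fin n → F, ap (Sum.elim b (0 : Fin n → F)) = 0 := fun _ => rfl
  simp only [Finset.sum_apply, Pi.smul_apply, smul_eq_mul, W_apply, e1, e2, zero_dotProduct,
    mul_zero, add_zero, ← mul_assoc, ← AddChar.map_add_eq_mul]
  have e : ∀ b : Fin n → F, -(b ⬝ᵥ z) + b ⬝ᵥ x = (x - z) ⬝ᵥ b := by
    intro b
    rw [sub_dotProduct, dotProduct_comm x, dotProduct_comm z]
    ring
  simp only [e, ← Finset.sum_mul]
  rw [sum_char ψ hψ]
  by_cases hx : x = z
  · subst hx; simp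
  · simp [hx, sub_eq_zero]

omit h2 in
/-- An invariant subspace is trivial. -/
theorem eq_bot_or_top (U : Submodule ℂ (Fn n F)) (hU : ∀ v, ∀ f ∈ U, W ψ v f ∈ U) :
    U = ⊥ ∨ U = ⊤ := by
  classical
  by_cases h : U = ⊥
  · exact Or.inl h
  right
  obtain ⟨f, hf, hf0⟩ := (Submodule.ne_bot_iff _).1 h
  obtain ⟨z, hz⟩ := Function.ne_iff.1 hf0
  have h1 : (Pi.single z 1 : Fn n F) ∈ U := by
    have h2 : (Fintype.card (Fin n → F) : ℂ) • (f z • (Pi.single z 1 : Fn n F)) ∈ U := by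
      rw [← sum_W_proj ψ hψ z f]
      exact U.sum_mem fun b _ => U.smul_mem _ (hU _ _ hf)
    rwa [smul_smul, U.smul_mem_iff (mul_ne_zero (Nat.cast_ne_zero.2 Fintype.card_ne_zero) hz)] at h2
  have h3 : ∀ y, (Pi.single y 1 : Fn n F) ∈ U := fun y => by
    have h4 := hU (Sum.elim 0 (z - y)) _ h1
    have e : W ψ (Sum.elim 0 (z - y)) (Pi.single z 1) = (Pi.single y 1 : Fn n F) := by
      funext x
      rw [W_apply]
      have e1 : bp (Sum.elim (0 : Fin n → F) (z - y)) = 0 := rfl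
      have e2 : ap (Sum.elim (0 : Fin n → F) (z - y)) = z - y := rfl
      rw [e1, e2]
      by_cases hx : x = y
      · subst hx; simp
      · have : x + (z - y) ≠ z := fun e => hx (by linear_combination (norm := abel) e)
        simp [hx, this]
    rwa [e] at h4
  refine Submodule.eq_top_iff'.2 fun g => ?_
  rw [pi_eq_sum_univ' g]
  exact U.sum_mem fun y _ => U.smul_mem _ (h3 y)

omit h2 in
/-- An operator commuting with all Heisenberg operators is a scalar. -/
theorem scalar_of_commute (T : Module.End ℂ (Fn n F)) (hT : ∀ v, T * W ψ v = W ψ v * T) :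
    ∃ c : ℂ, T = c • 1 := by
  obtain ⟨c, hc⟩ := Module.End.exists_eigenvalue T
  refine ⟨c, ?_⟩
  rcases eq_bot_or_top ψ hψ (T.eigenspace c) fun v f hf => by
    rw [Module.End.mem_eigenspace_iff] at hf ⊢
    rw [← Module.End.mul_apply, hT, Module.End.mul_apply, hf, map_smul] with e | e
  · exact absurd e (Module.End.hasEigenvalue_iff.1 hc)
  · refine LinearMap.ext fun f => ?_
    rw [Module.End.mem_eigenspace_iff.1 (e ▸ Submodule.mem_top : f ∈ T.eigenspace c)]
    rfl

omit h2 in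
theorem linearIndependent_W (c : (Fin n ⊕ Fin n → F) → ℂ) (h : ∑ v, c v • W ψ v = 0)
    (v₀ : Fin n ⊕ Fin n → F) : c v₀ = 0 := by
  classical
  set a₀ := ap v₀ with ha₀
  set b₀ := bp v₀ with hb₀
  have key : ∀ x : Fin n → F,
      ∑ b : Fin n → F, c (Sum.elim b a₀) * ψ (b ⬝ᵥ x + (2 : F)⁻¹ * (a₀ ⬝ᵥ b)) = 0 := by
    intro x
    have h1 := congrFun (LinearMap.congr_fun h (Pi.single (x + a₀) 1 : Fn n F)) x
    simp only [LinearMap.sum_apply, LinearMap.smul_apply, Finset.sum_apply, Pi.smul_apply,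
      smul_eq_mul, W_apply, LinearMap.zero_apply, Pi.zero_apply] at h1
    rw [← Equiv.sum_comp (Equiv.sumArrowEquivProdArrow (Fin n) (Fin n) F).symm,
      Fintype.sum_prod_type] at h1
    refine Eq.trans (Finset.sum_congr rfl fun b _ => ?_) h1
    rw [Finset.sum_eq_single a₀]
    · have e1 : bp (Sum.elim b a₀) = b := rfl
      have e2 : ap (Sum.elim b a₀) = a₀ := rfl
      change _ = c (Sum.elim b a₀) * (ψ (bp (Sum.elim b a₀) ⬝ᵥ x +
        (2 : F)⁻¹ * (ap (Sum.elim b a₀) ⬝ᵥ bp (Sum.elim b a₀))) *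
          (Pi.single (x + a₀) 1 : Fn n F) (x + ap (Sum.elim b a₀)))
      rw [e1, e2, Pi.single_eq_same, mul_one]
    · intro a _ ha
      change c (Sum.elim b a) * (_ * (Pi.single (x + a₀) 1 : Fn n F) (x + ap (Sum.elim b a))) = 0
      rw [show ap (Sum.elim b a) = a from rfl,
        Pi.single_eq_of_ne (fun e => ha (add_left_cancel e)), mul_zero, mul_zero]
    · exact fun h => absurd (Finset.mem_univ _) h
  have h2 : ∑ x : Fin n → F, ∑ b : Fin n → F,
      c (Sum.elim b a₀) * ψ (b ⬝ᵥ x + (2 : F)⁻¹ * (a₀ ⬝ᵥ b)) * ψ (-(b₀ ⬝ᵥ x)) = 0 :=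
    Finset.sum_eq_zero fun x _ => by rw [← Finset.sum_mul, key, zero_mul]
  rw [Finset.sum_comm, Finset.sum_eq_single b₀] at h2
  · have e : ∀ x : Fin n → F, c (Sum.elim b₀ a₀) * ψ (b₀ ⬝ᵥ x + (2 : F)⁻¹ * (a₀ ⬝ᵥ b₀)) *
        ψ (-(b₀ ⬝ᵥ x)) = c (Sum.elim b₀ a₀) * ψ ((2 : F)⁻¹ * (a₀ ⬝ᵥ b₀)) := fun x => by
      rw [mul_assoc, ← AddChar.map_add_eq_mul]; congr 2; ring
    simp only [e, Finset.sum_const, Finset.card_univ, nsmul_eq_mul, mul_eq_zero, Nat.cast_eq_zero,
      Fintype.card_ne_zero, (AddChar.val_isUnit ψ _).ne_zero, false_or, or_false] at h2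
    rwa [show Sum.elim b₀ a₀ = v₀ by ext (i | i) <;> rfl] at h2
  · intro b _ hb
    have e : ∀ x : Fin n → F, c (Sum.elim b a₀) * ψ (b ⬝ᵥ x + (2 : F)⁻¹ * (a₀ ⬝ᵥ b)) *
        ψ (-(b₀ ⬝ᵥ x)) = c (Sum.elim b a₀) * ψ ((2 : F)⁻¹ * (a₀ ⬝ᵥ b)) * ψ ((b - b₀) ⬝ᵥ x) :=
      fun x => by
        rw [mul_assoc, mul_assoc, ← AddChar.map_add_eq_mul, ← AddChar.map_add_eq_mul]
        congr 2
        rw [sub_dotProduct]; ring
    simp only [e, ← Finset.mul_sum, sum_char ψ hψ, sub_eq_zero, if_neg hb, mul_zero]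
  · exact fun h => absurd (Finset.mem_univ _) h

/-- `T` carries the operator of `v` to that of `g v`. -/
def Intertwines (g : Matrix.symplecticGroup (Fin n) F) (T : Module.End ℂ (Fn n F)) : Prop :=
  ∀ v, T * W ψ v = W ψ (g.1 *ᵥ v) * T

theorem exists_intertwiner (g : Matrix.symplecticGroup (Fin n) F) :
    ∃ T : Module.End ℂ (Fn n F), Intertwines ψ g T ∧ Function.Injective T := by
  classical
  let avg : Module.End ℂ (Fn n F) → Module.End ℂ (Fn n F) := fun A =>
    ∑ v, W ψ (g.1 *ᵥ v) * A * W ψ (-v)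
  have havg : ∀ A, Intertwines ψ g (avg A) := by
    intro A u
    simp only [avg, Finset.sum_mul, Finset.mul_sum]
    rw [← Equiv.sum_comp (Equiv.addLeft u) (fun v => W ψ (g.1 *ᵥ v) * A * W ψ (-v) * W ψ u)]
    refine Finset.sum_congr rfl fun w _ => ?_
    rw [Equiv.coe_addLeft, mul_assoc, W_mul ψ h2, mul_smul_comm, ← mul_assoc (W ψ (g.1 *ᵥ u)),
      ← mul_assoc (W ψ (g.1 *ᵥ u)), W_mul ψ h2, smul_mul_assoc, smul_mul_assoc, om_map,
      ← Matrix.mulVec_add, show -(u + w) + u = -w by abel]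
    congr 2
    congr 1
    rw [om_eq, om_eq]
    simp only [bp_neg, ap_neg, bp_add, ap_add, neg_dotProduct, add_dotProduct, dotProduct_neg]
    rw [dotProduct_comm (bp u) (ap u), dotProduct_comm (bp w) (ap u),
      dotProduct_comm (bp u) (ap w)]
    ring
  obtain ⟨A, hA⟩ : ∃ A, avg A ≠ 0 := by
    by_contra hall
    push Not at hall
    let c : (Fin n ⊕ Fin n → F) → ℂ := fun v => W ψ (-v) (Pi.single 0 1 : Fn n F) 0
    have hsum : ∑ v, c v • W ψ (g.1 *ᵥ v) = 0 := by
      refine LinearMap.ext fun w => ?_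
      have h := LinearMap.congr_fun
        (hall ((LinearMap.proj (0 : Fin n → F)).smulRight w)) (Pi.single 0 1 : Fn n F)
      simpa [avg, c, LinearMap.sum_apply, map_smul] using h
    have hbij : Function.Bijective (fun v : Fin n ⊕ Fin n → F => g.1 *ᵥ v) :=
      Finite.injective_iff_bijective.1 (Matrix.mulVec_injective_iff_isUnit.2
        ((Matrix.isUnit_iff_isUnit_det _).2 (SymplecticGroup.symplectic_det g.2)))
    let e := Equiv.ofBijective _ hbij
    have hsum' : ∑ v, c (e.symm v) • W ψ v = 0 := by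
      rw [← Equiv.sum_comp e]
      simpa [e, Equiv.ofBijective_apply_symm_apply] using hsum
    have h0 := linearIndependent_W ψ hψ _ hsum' 0
    have e0 : e.symm 0 = 0 := e.symm_apply_eq.2 (by simp [e])
    simp only [c, e0, neg_zero, W_zero, Module.End.one_apply, Pi.single_eq_same, one_ne_zero] at h0
  refine ⟨avg A, havg A, ?_⟩
  rw [← LinearMap.ker_eq_bot]
  rcases eq_bot_or_top ψ hψ (LinearMap.ker (avg A)) fun v f hf => by
    rw [LinearMap.mem_ker] at hf ⊢
    rw [← Module.End.mul_apply, havg A v, Module.End.mul_apply, hf, map_zero] with e | e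
  · exact e
  · exact absurd (LinearMap.ker_eq_top.1 e) hA

omit h2 in
theorem intertwiner_unique {g : Matrix.symplecticGroup (Fin n) F} {U T : Module.End ℂ (Fn n F)}
    (hU : Intertwines ψ g U) (hUinj : Function.Injective U) (hT : Intertwines ψ g T) :
    ∃ c : ℂ, T = c • U := by
  let e := LinearEquiv.ofInjectiveEndo U hUinj
  obtain ⟨c, hc⟩ := scalar_of_commute ψ hψ ((e.symm : Module.End ℂ (Fn n F)) * T) fun v => by
    refine LinearMap.ext fun f => e.injective ?_
    simp only [Module.End.mul_apply, LinearEquiv.coe_coe, LinearEquiv.apply_symm_apply]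
    rw [show e (W ψ v (e.symm (T f))) = (U * W ψ v) (e.symm (T f)) from rfl, hU v,
      Module.End.mul_apply, show U (e.symm (T f)) = T f from e.apply_symm_apply _,
      ← Module.End.mul_apply, hT v, Module.End.mul_apply]
  refine ⟨c, LinearMap.ext fun f => ?_⟩
  have h := congrArg e (LinearMap.congr_fun hc f)
  rw [Module.End.mul_apply, LinearEquiv.coe_coe, LinearEquiv.apply_symm_apply,
    LinearMap.smul_apply, Module.End.one_apply, map_smul] at h
  exact h

end CfsgLib.Classical.SpWeil
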