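import Cfsg.Agent.Lib.Classical.SpMinDegOdd
import Cfsg.Agent.Lib.Classical.SpWeilHeis

/-!
# The smaller Weil representation of `Sp_{2n}(q)`, `q` odd
-/

set_option autoImplicit false

namespace CfsgLib.Classical.SpWeil

open Matrix Module CfsgLib.Classical.SpMinDeg

theorem det_restrict_mul {E : Type*} [AddCommGroup E] [Module ℂ E] [FiniteDimensional ℂ E]
    (p : Submodule ℂ E) {A B C : Module.End ℂ E} {α : ℂ} (h : A * B = α • C)
    (hA : ∀ x ∈ p, A x ∈ p) (hB : ∀ x ∈ p, B x ∈ p) (hC : ∀ x ∈ p, C x ∈ p) :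
    LinearMap.det (A.restrict hA) * LinearMap.det (B.restrict hB) =
      α ^ finrank ℂ p * LinearMap.det (C.restrict hC) := by
  rw [← map_mul, ← LinearMap.det_smul]
  congr 1
  exact LinearMap.ext fun x => Subtype.ext (LinearMap.congr_fun h (x : E))

theorem det_ne_zero_of_injective {E : Type*} [AddCommGroup E] [Module ℂ E] [FiniteDimensional ℂ E]
    {f : Module.End ℂ E} (hf : Function.Injective f) : LinearMap.det f ≠ 0 := fun h => by
  rw [LinearMap.det_eq_zero_iff_ker_ne_bot, LinearMap.ker_eq_bot.2 hf] at h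
  exact h rfl

theorem two_le_of_moved {G : Type*} [Group G] {M : Type*} [AddCommGroup M] [Module ℂ M]
    [FiniteDimensional ℂ M] (σ : Representation ℂ G M) (hperf : ∀ φ : G →* ℂˣ, φ = 1) {g : G}
    {x : M} (hx : σ g x ≠ x) : 2 ≤ finrank ℂ M := by
  by_contra hlt
  have hx0 : x ≠ 0 := fun e => hx (by rw [e, map_zero])
  have : Nontrivial M := ⟨⟨x, 0, hx0⟩⟩
  have h1 : finrank ℂ M = 1 := by
    have : 0 < finrank ℂ M := finrank_pos
    omega
  obtain ⟨c, hc⟩ := exists_smul_eq_of_finrank_eq_one h1 hx0 (σ g x)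
  have hid : σ g = c • LinearMap.id := LinearMap.ext fun y => by
    obtain ⟨a, rfl⟩ := exists_smul_eq_of_finrank_eq_one h1 hx0 y
    rw [map_smul, ← hc, LinearMap.smul_apply, LinearMap.id_apply, smul_comm]
  have h := DFunLike.congr_fun (hperf (MonoidHom.toHomUnits (LinearMap.det.comp σ))) g
  have h' : LinearMap.det (σ g) = 1 := congrArg Units.val h
  rw [hid, LinearMap.det_smul, h1, pow_one, LinearMap.det_id, mul_one] at h'
  exact hx (by rw [← hc, h', one_smul])

theorem exists_fin_irreducible {G : Type*} [Group G] {M : Type*} [AddCommGroup M] [Module ℂ M]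
    [FiniteDimensional ℂ M] (σ : Representation ℂ G M) (hσ : σ.IsIrreducible) {d : ℕ}
    (hd : finrank ℂ M = d) : ∃ τ : Representation ℂ G (Fin d → ℂ), τ.IsIrreducible := by
  haveI := hσ
  exact ⟨CfsgLib.Char.mapRep (Module.finBasisOfFinrankEq ℂ M hd).equivFun σ,
    CfsgLib.Char.isIrreducible_of_equiv (CfsgLib.Char.mapRepEquiv _ σ)⟩

variable {F : Type*} [Field F] {n : ℕ}

/-- The even functions. -/
def evenFn (n : ℕ) (F : Type*) [Field F] : Submodule ℂ (Fn n F) where
  carrier := {f | P f = f}
  add_mem' := fun {a b} (ha : P a = a) (hb : P b = b) => by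
    change P (a + b) = a + b
    rw [map_add, ha, hb]
  zero_mem' := map_zero _
  smul_mem' := fun c f (hf : P f = f) => by
    change P (c • f) = c • f
    rw [map_smul, hf]

/-- The odd functions. -/
def oddFn (n : ℕ) (F : Type*) [Field F] : Submodule ℂ (Fn n F) where
  carrier := {f | P f = -f}
  add_mem' := fun {a b} (ha : P a = -a) (hb : P b = -b) => by
    change P (a + b) = -(a + b)
    rw [map_add, ha, hb, neg_add]
  zero_mem' := by simp
  smul_mem' := fun c f (hf : P f = -f) => by
    change P (c • f) = -(c • f)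
    rw [map_smul, hf, smul_neg]

theorem mem_evenFn {f : Fn n F} : f ∈ evenFn n F ↔ P f = f := Iff.rfl
theorem mem_oddFn {f : Fn n F} : f ∈ oddFn n F ↔ P f = -f := Iff.rfl

theorem restrict_even {U : Module.End ℂ (Fn n F)} (h : U * P = P * U) :
    ∀ x ∈ evenFn n F, U x ∈ evenFn n F := fun x hx => by
  rw [mem_evenFn, ← Module.End.mul_apply, ← h, Module.End.mul_apply, mem_evenFn.1 hx]

theorem restrict_odd {U : Module.End ℂ (Fn n F)} (h : U * P = P * U) :
    ∀ x ∈ oddFn n F, U x ∈ oddFn n F := fun x hx => by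
  rw [mem_oddFn, ← Module.End.mul_apply, ← h, Module.End.mul_apply, mem_oddFn.1 hx, map_neg]

variable [Fintype F]

theorem finrank_parts (h2 : (2 : F) ≠ 0) :
    finrank ℂ (evenFn n F) = finrank ℂ (oddFn n F) + 1 ∧
      finrank ℂ (evenFn n F) + finrank ℂ (oddFn n F) = Fintype.card F ^ n := by
  classical
  have hPP : ∀ f : Fn n F, P (P f) = f := fun f => LinearMap.congr_fun P_mul_P f
  have he : LinearMap.IsProj (evenFn n F) ((2 : ℂ)⁻¹ • (1 + P)) := by
    constructor
    · intro f
      rw [mem_evenFn, LinearMap.smul_apply, LinearMap.add_apply, Module.End.one_apply, map_smul,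
        map_add, hPP, add_comm]
    · intro f hf
      rw [LinearMap.smul_apply, LinearMap.add_apply, Module.End.one_apply, mem_evenFn.1 hf]
      module
  have ho : LinearMap.IsProj (oddFn n F) ((2 : ℂ)⁻¹ • (1 - P)) := by
    constructor
    · intro f
      rw [mem_oddFn, LinearMap.smul_apply, LinearMap.sub_apply, Module.End.one_apply, map_smul,
        map_sub, hPP, ← smul_neg, neg_sub]
    · intro f hf
      rw [LinearMap.smul_apply, LinearMap.sub_apply, Module.End.one_apply, mem_oddFn.1 hf]
      module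
  have hone : LinearMap.trace ℂ (Fn n F) 1 = ((Fintype.card F ^ n : ℕ) : ℂ) := by
    rw [LinearMap.trace_one, Module.finrank_fintype_fun_eq_card, Fintype.card_fun, Fintype.card_fin]
  have hP : LinearMap.trace ℂ (Fn n F) P = 1 := by
    rw [LinearMap.trace_eq_matrix_trace ℂ (Pi.basisFun ℂ (Fin n → F)), Matrix.trace,
      Finset.sum_eq_single (0 : Fin n → F)]
    · simp [LinearMap.toMatrix_apply, P_apply]
    · intro x _ hx
      have : -x ≠ x := fun e => hx (by
        funext i
        have h := congrFun e i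
        rw [Pi.neg_apply] at h
        exact (mul_eq_zero.1 (show (2 : F) * x i = 0 by linear_combination -h)).resolve_left h2)
      simp [LinearMap.toMatrix_apply, P_apply, this]
    · exact fun h => absurd (Finset.mem_univ _) h
  have te := he.trace
  have to' := ho.trace
  rw [map_smul, map_add, hone, hP, smul_eq_mul] at te
  rw [map_smul, map_sub, hone, hP, smul_eq_mul] at to'
  constructor
  · have : (finrank ℂ (evenFn n F) : ℂ) = ((finrank ℂ (oddFn n F) + 1 : ℕ) : ℂ) := by
      rw [Nat.cast_add, ← te, ← to', Nat.cast_one]; ring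
    exact_mod_cast this
  · have : ((finrank ℂ (evenFn n F) + finrank ℂ (oddFn n F) : ℕ) : ℂ) =
        ((Fintype.card F ^ n : ℕ) : ℂ) := by
      rw [Nat.cast_add, ← te, ← to']; ring
    exact_mod_cast this

variable {ψ : AddChar F ℂ}

/-- The smaller Weil representation. -/
theorem exists_weil (h2 : (2 : F) ≠ 0) (hn : 2 ≤ n) (hψ : ψ.IsPrimitive) :
    ∃ ρ : Representation ℂ (Matrix.symplecticGroup (Fin n) F) (oddFn n F), ∃ g x, ρ g x ≠ x := by
  classical
  have hfin : FiniteDimensional ℂ (Fn n F) := inferInstance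
  choose U hU hUinj using exists_intertwiner (n := n) ψ h2 hψ
  have hcomp : ∀ g h : Matrix.symplecticGroup (Fin n) F, ∃ α : ℂ, α ≠ 0 ∧
      U g * U h = α • U (g * h) := by
    intro g h
    have hgh : Intertwines ψ (g * h) (U g * U h) := fun v => by
      rw [mul_assoc, hU h v, ← mul_assoc, hU g, mul_assoc, Matrix.mulVec_mulVec]
      rfl
    obtain ⟨α, hα⟩ := intertwiner_unique ψ hψ (hU _) (hUinj _) hgh
    refine ⟨α, fun e => ?_, hα⟩
    rw [e, zero_smul] at hα
    have h1 : (Pi.single 0 1 : Fn n F) = 0 := by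
      refine hUinj h (hUinj g ?_)
      rw [← Module.End.mul_apply, hα, map_zero, map_zero]
      rfl
    simpa using congrFun h1 0
  -- the intertwiners commute with parity
  have hperf := CfsgLib.Classical.commutator_symplecticGroup (F := F) n (by
    rcases (show n = 2 ∨ 3 ≤ n by omega) with h | h
    · refine Or.inr (Or.inl ⟨h, ?_⟩)
      have h3 := Finset.card_le_univ ({0, 1, -1} : Finset F)
      rwa [Finset.card_eq_three.2 ⟨0, 1, -1, zero_ne_one, (neg_ne_zero.2 one_ne_zero).symm,
        fun e => h2 (by rw [← one_add_one_eq_two]; exact eq_neg_iff_add_eq_zero.1 e), rfl⟩] at h3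
    · exact Or.inl h)
  have hhom : ∀ φ : Matrix.symplecticGroup (Fin n) F →* ℂˣ, φ = 1 := fun φ => MonoidHom.ext fun g =>
    MonoidHom.mem_ker.1 (Abelianization.commutator_subset_ker φ (hperf.symm ▸ Subgroup.mem_top g))
  have hP : ∀ g, U g * P = P * U g := by
    have hl : ∀ g, ∃ l : ℂ, P * U g * P = l • U g := fun g => by
      refine intertwiner_unique ψ hψ (hU g) (hUinj g) fun v => ?_
      rw [mul_assoc, P_mul_W, ← mul_assoc, mul_assoc P, hU g, Matrix.mulVec_neg, ← mul_assoc,
        P_mul_W, neg_neg, mul_assoc, mul_assoc, mul_assoc]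
    choose l hl using hl
    have hne : ∀ {T : Module.End ℂ (Fn n F)}, Function.Injective T → T ≠ 0 := fun {T} hT e => by
      have h1 : (Pi.single 0 1 : Fn n F) = 0 := hT (by rw [e]; rfl)
      simpa using congrFun h1 0
    have hmul : ∀ g h, l g * l h = l (g * h) := by
      intro g h
      obtain ⟨α, hα0, hα⟩ := hcomp g h
      have e : (l g * l h) • (U g * U h) = l (g * h) • (U g * U h) := by
        have e1 : (P * U g * P) * (P * U h * P) = P * (U g * U h) * P := by
          rw [mul_assoc (P * U g), ← mul_assoc P (P * U h), ← mul_assoc P P, P_mul_P, one_mul]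
          simp only [mul_assoc]
        rw [hl, hl, smul_mul_smul_comm, hα, mul_smul_comm, smul_mul_assoc, hl] at e1
        rw [hα]
        exact e1.trans (smul_comm _ _ _)
      exact smul_left_injective ℂ (hne (T := U g * U h) fun a b e => hUinj h (hUinj g e)) e
    have hsq : ∀ g, l g * l g = 1 := fun g => by
      refine smul_left_injective ℂ (hne (hUinj g)) ?_
      simp only [one_smul]
      rw [← smul_smul, ← hl g, ← smul_mul_assoc, ← mul_smul_comm, ← hl g]
      simp only [← mul_assoc, P_mul_P, one_mul]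
      rw [mul_assoc, P_mul_P, mul_one]
    let φ : Matrix.symplecticGroup (Fin n) F →* ℂˣ := MonoidHom.mk'
      (fun g => Units.mk0 (l g) fun e => by simpa [e] using hsq g)
      fun g h => Units.ext (hmul g h).symm
    intro g
    have h1 : l g = 1 := congrArg Units.val (DFunLike.congr_fun (hhom φ) g)
    have h := hl g
    rw [h1, one_smul] at h
    conv_lhs => rw [← h]
    rw [mul_assoc, P_mul_P, mul_one]
  have he : ∀ g, ∀ x ∈ evenFn n F, U g x ∈ evenFn n F := fun g => restrict_even (hP g)
  have ho : ∀ g, ∀ x ∈ oddFn n F, U g x ∈ oddFn n F := fun g => restrict_odd (hP g)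
  let Ae : Matrix.symplecticGroup (Fin n) F → Module.End ℂ (evenFn n F) := fun g => (U g).restrict (he g)
  let Ao : Matrix.symplecticGroup (Fin n) F → Module.End ℂ (oddFn n F) := fun g => (U g).restrict (ho g)
  have hde : ∀ g, LinearMap.det (Ae g) ≠ 0 := fun g => det_ne_zero_of_injective fun x y e =>
    Subtype.ext (hUinj g (congrArg Subtype.val e))
  have hdo : ∀ g, LinearMap.det (Ao g) ≠ 0 := fun g => det_ne_zero_of_injective fun x y e =>
    Subtype.ext (hUinj g (congrArg Subtype.val e))
  let s : Matrix.symplecticGroup (Fin n) F → ℂ := fun g => LinearMap.det (Ae g) / LinearMap.det (Ao g)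
  have hs0 : ∀ g, s g ≠ 0 := fun g => div_ne_zero (hde g) (hdo g)
  have hd := (finrank_parts (n := n) h2).1
  have hρ : ∀ g h, ((s g)⁻¹ • Ao g) * ((s h)⁻¹ • Ao h) = (s (g * h))⁻¹ • Ao (g * h) := by
    intro g h
    obtain ⟨α, hα0, hα⟩ := hcomp g h
    have h1 : LinearMap.det (Ae g) * LinearMap.det (Ae h) =
        α ^ finrank ℂ (evenFn n F) * LinearMap.det (Ae (g * h)) :=
      det_restrict_mul (evenFn n F) hα (he g) (he h) (he _)
    have h3 : LinearMap.det (Ao g) * LinearMap.det (Ao h) =
        α ^ finrank ℂ (oddFn n F) * LinearMap.det (Ao (g * h)) :=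
      det_restrict_mul (oddFn n F) hα (ho g) (ho h) (ho _)
    have hmul : Ao g * Ao h = α • Ao (g * h) :=
      LinearMap.ext fun x => Subtype.ext (LinearMap.congr_fun hα (x : Fn n F))
    have hs : s g * s h = α * s (g * h) := by
      simp only [s]
      rw [div_mul_div_comm, h1, h3, hd, pow_succ]
      have := hdo (g * h)
      have := pow_ne_zero (finrank ℂ (oddFn n F)) hα0
      field_simp
    rw [smul_mul_smul_comm, hmul, smul_smul]
    congr 1
    rw [← mul_inv, hs, mul_inv]
    field_simp
  have hone : (s 1)⁻¹ • Ao 1 = 1 := by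
    have hinj : Function.Injective ((s 1)⁻¹ • Ao 1 : Module.End ℂ (oddFn n F)) := fun x y e =>
      Subtype.ext (hUinj 1 (congrArg Subtype.val (smul_right_injective _ (inv_ne_zero (hs0 1)) e)))
    refine LinearMap.ext fun x => hinj ?_
    rw [Module.End.one_apply, ← Module.End.mul_apply, hρ, one_mul]
  let ρ : Representation ℂ (Matrix.symplecticGroup (Fin n) F) (oddFn n F) :=
    { toFun := fun g => (s g)⁻¹ • Ao g
      map_one' := hone
      map_mul' := fun g h => (hρ g h).symm }
  refine ⟨ρ, ?_⟩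
  by_contra hall
  push Not at hall
  -- multiplication by a quadratic phase
  obtain ⟨r, hr⟩ : ∃ r : F, ψ r ≠ 1 := by
    by_contra h
    push Not at h
    exact hψ (one_ne_zero (α := F)) (DFunLike.ext _ _ fun x => by simp [h])
  let i : Fin n := ⟨0, by omega⟩
  let j : Fin n := ⟨1, by omega⟩
  have hji : j ≠ i := by simp [i, j, Fin.ext_iff]
  let S := sqElt (Pi.single i (1 : F)) (-(2 * r))
  let M : Module.End ℂ (Fn n F) :=
    { toFun := fun f x => ψ (-((2 : F)⁻¹ * (x ⬝ᵥ (S.1 *ᵥ x)))) * f x
      map_add' := fun f g => by ext x; simp [mul_add]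
      map_smul' := fun c f => by ext x; simp [mul_left_comm] }
  have hg : ∀ v : Fin n ⊕ Fin n → F, bp ((siegel S).1 *ᵥ v) = bp v + S.1 *ᵥ ap v ∧
      ap ((siegel S).1 *ᵥ v) = ap v := by
    intro v
    rw [coe_siegel, fromBlocks_mulVec]
    refine ⟨?_, ?_⟩ <;> funext k <;>
      simp [bp, ap, Function.comp_def, Matrix.mulVec, dotProduct]
  have hM : Intertwines ψ (siegel S) M := by
    intro v
    refine LinearMap.ext fun f => funext fun x => ?_
    change ψ _ * W ψ v f x = W ψ _ (fun y => ψ _ * f y) x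
    rw [W_apply, W_apply, (hg v).1, (hg v).2, ← mul_assoc, ← mul_assoc, ← AddChar.map_add_eq_mul,
      ← AddChar.map_add_eq_mul]
    congr 2
    simp only [dotProduct_add, add_dotProduct, Matrix.mulVec_add]
    have e1 : ∀ a b : Fin n → F, (S.1 *ᵥ a) ⬝ᵥ b = a ⬝ᵥ (S.1 *ᵥ b) := fun a b => by
      rw [Matrix.dotProduct_mulVec, ← Matrix.mulVec_transpose, symMat_transpose]
    rw [e1, ← e1 x (ap v), dotProduct_comm (S.1 *ᵥ x) (ap v)]
    field_simp
    ring
  obtain ⟨μ, hμ⟩ := intertwiner_unique ψ hψ (hU _) (hUinj _) hM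
  have hsc : ∀ f ∈ oddFn n F, M f = (μ * s (siegel S)) • f := by
    intro f hf
    have h := congrArg Subtype.val (hall (siegel S) ⟨f, hf⟩)
    change (s (siegel S))⁻¹ • U (siegel S) f = f at h
    rw [hμ, LinearMap.smul_apply, ← smul_smul]
    congr 1
    rw [← h, smul_smul, mul_inv_cancel₀ (hs0 _), one_smul]
    rw [h]
  have hval : ∀ a : Fin n → F, a ≠ 0 →
      ψ (-((2 : F)⁻¹ * (a ⬝ᵥ (S.1 *ᵥ a)))) = μ * s (siegel S) := by
    intro a ha
    have hna : a ≠ -a := fun e => ha (by
      funext k
      have h := congrFun e k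
      rw [Pi.neg_apply] at h
      exact (mul_eq_zero.1 (show (2 : F) * a k = 0 by linear_combination h)).resolve_left h2)
    have hmem : ((Pi.single a 1 : Fn n F) - Pi.single (-a) 1) ∈ oddFn n F := by
      rw [mem_oddFn]
      funext x
      simp [P_apply, Pi.single_apply, neg_eq_iff_eq_neg]
    have h := congrFun (hsc _ hmem) a
    change ψ _ * ((Pi.single a 1 : Fn n F) - Pi.single (-a) 1 : Fn n F) a = _ at h
    simpa [hna] using h
  have hSi : ∀ a : Fin n → F, a ⬝ᵥ (S.1 *ᵥ a) = -(2 * r) * (a i * a i) := fun a => by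
    rw [show S.1 = (-(2 * r)) • vecMulVec (Pi.single i (1 : F)) (Pi.single i (1 : F)) from rfl,
      Matrix.smul_mulVec, Matrix.vecMulVec_mulVec]
    simp [dotProduct_single]
  have h1 := hval (Pi.single i 1) (by simp)
  rw [← hval (Pi.single j 1) (by simp), hSi, hSi] at h1
  refine hr ?_
  simp [hji.symm] at h1
  rwa [← mul_assoc, inv_mul_cancel₀ h2, one_mul] at h1

/-- An irreducible representation of degree `(qⁿ - 1) / 2`. -/
theorem exists_irreducible_weil (h2 : (2 : F) ≠ 0) (hn : 2 ≤ n) :
    ∃ ρ : Representation ℂ (Matrix.symplecticGroup (Fin n) F)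
      (Fin ((Fintype.card F ^ n - 1) / 2) → ℂ), ρ.IsIrreducible := by
  classical
  obtain ⟨φ, hφ⟩ := AddChar.exists_apply_ne_zero.2 (one_ne_zero (α := F))
  obtain ⟨ρ, g, x, hx⟩ := exists_weil (n := n) h2 hn
    (AddChar.IsPrimitive.of_ne_one fun e => hφ (by simp [e]) : φ.IsPrimitive)
  obtain ⟨p, hp, w, hw, hgw⟩ : ∃ p : Subrepresentation ρ,
      Representation.IsIrreducible (V := ↥p.toSubmodule) p.toRepresentation ∧
      ∃ w ∈ p.toSubmodule, ρ g w ≠ w := by
    by_contra hnone
    push Not at hnone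
    have h0 := CfsgLib.Char.eq_zero_of_forall_irreducible ρ (ρ g - 1) fun p hp w hw => by
      rw [LinearMap.sub_apply, Module.End.one_apply, hnone p hp w hw, sub_self]
    have h1 := LinearMap.congr_fun h0 x
    rw [LinearMap.sub_apply, Module.End.one_apply, LinearMap.zero_apply, sub_eq_zero] at h1
    exact hx h1
  have hperf := CfsgLib.Classical.commutator_symplecticGroup (F := F) n (by
    rcases (show n = 2 ∨ 3 ≤ n by omega) with h | h
    · refine Or.inr (Or.inl ⟨h, ?_⟩)
      have h3 := Finset.card_le_univ ({0, 1, -1} : Finset F)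
      rwa [Finset.card_eq_three.2 ⟨0, 1, -1, zero_ne_one, (neg_ne_zero.2 one_ne_zero).symm,
        fun e => h2 (by rw [← one_add_one_eq_two]; exact eq_neg_iff_add_eq_zero.1 e), rfl⟩] at h3
    · exact Or.inl h)
  have hd2 : 2 ≤ finrank ℂ p.toSubmodule := two_le_of_moved (M := ↥p.toSubmodule) p.toRepresentation
    (fun φ => MonoidHom.ext fun g =>
      MonoidHom.mem_ker.1 (Abelianization.commutator_subset_ker φ (hperf.symm ▸ Subgroup.mem_top g)))
    (g := g) (x := ⟨w, hw⟩) fun e => hgw (congrArg Subtype.val e)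
  have hle := SpMinDegOdd.min_degree_odd (V := ↥p.toSubmodule) p.toRepresentation h2 hn hp hd2
  have hge := Submodule.finrank_le p.toSubmodule
  obtain ⟨ha, hb⟩ := finrank_parts (n := n) (F := F) h2
  have hd : finrank ℂ p.toSubmodule = (Fintype.card F ^ n - 1) / 2 := by omega
  exact exists_fin_irreducible (M := ↥p.toSubmodule) p.toRepresentation hp hd

end CfsgLib.Classical.SpWeil
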