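import Mathlib
import Cfsg.Agent.Lib.Classical.SemiSympExists
import Cfsg.Agent.Lib.Classical.SemiUnitary

/-!
The centraliser in `Sp_2m(q)` of a fixed-point-free element of order three, `q ≡ 2 (mod 3)`, is `GU_m(q)`.
-/

set_option autoImplicit false

namespace CfsgLib.Classical.SympCentThree

open Matrix Polynomial CfsgLib.Classical
open scoped Polynomial

/-- A monic polynomial whose only irreducible monic factor is `P` is a power of `P`. -/
theorem eq_pow_of_factors {F : Type*} [Field F] {P : F[X]} (_hP : Irreducible P) (_hPm : P.Monic) :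
    ∀ (n : ℕ) {f : F[X]}, f.Monic → f.natDegree = n → (∀ Q : F[X], Q.Monic → Irreducible Q → Q ∣ f → Q = P) →
      ∃ k, f = P ^ k := by
  intro n
  induction n using Nat.strong_induction_on with
  | _ n ih =>
    intro f hf hn h
    rcases Nat.eq_zero_or_pos n with rfl | hpos
    · exact ⟨0, by rw [pow_zero, hf.natDegree_eq_zero.mp hn]⟩
    · obtain ⟨Q, hQm, hQ, R, hR⟩ := exists_monic_irreducible_factor f (fun hu => by
        have := natDegree_eq_zero_of_isUnit hu; omega)
      have hQP := h Q hQm hQ ⟨R, hR⟩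
      have hRm : R.Monic := hQm.of_mul_monic_left (hR ▸ hf)
      have hd := congrArg natDegree hR
      rw [hQm.natDegree_mul hRm, hn] at hd
      have := hQ.natDegree_pos
      obtain ⟨k, hk⟩ := ih R.natDegree (by omega) hRm rfl fun S hS hSi hSd =>
        h S hS hSi (hR ▸ Dvd.dvd.mul_left hSd Q)
      exact ⟨k + 1, by rw [hR, hk, hQP, pow_succ']⟩

variable {F : Type*} [Field F] [Fintype F] {q : ℕ}

/-- `X² + X + 1`. -/
noncomputable def triPoly (F : Type*) [Field F] : F[X] := X ^ 2 + X + 1

omit [Fintype F] in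
theorem eval₂_triPoly {R : Type*} [CommSemiring R] (f : F →+* R) (r : R) :
    (triPoly F).eval₂ f r = r ^ 2 + r + 1 := by
  simp [triPoly]

omit [Fintype F] in
theorem triPoly_facts : (triPoly F).Monic ∧ (triPoly F).natDegree = 2 := by
  constructor
  · unfold triPoly; monicity!
  · unfold triPoly; compute_degree!

theorem triPoly_irreducible (hF : Fintype.card F = q) (hq : q % 3 = 2) : Irreducible (triPoly F) := by
  classical
  obtain ⟨hm, hd⟩ := triPoly_facts (F := F)
  refine (Polynomial.irreducible_iff_roots_eq_zero_of_degree_le_three (by omega) (by omega)).2 ?_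
  by_contra hne
  obtain ⟨a, ha⟩ := Multiset.exists_mem_of_ne_zero hne
  rw [mem_roots hm.ne_zero, IsRoot, triPoly] at ha
  simp only [eval_add, eval_pow, eval_X, eval_one] at ha
  have h3 : a ^ 3 = 1 := by linear_combination (a - 1) * ha
  have ha0 : a ≠ 0 := fun h => by rw [h] at ha; simp at ha
  obtain ⟨u, hu⟩ : ∃ u : Fˣ, (u : F) = a := ⟨Units.mk0 a ha0, rfl⟩
  have h1 : orderOf u ∣ 3 := orderOf_dvd_of_pow_eq_one (Units.ext (by rw [Units.val_pow_eq_pow_val, hu, h3]; rfl))
  have h2 : orderOf u ∣ q - 1 := by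
    rw [← hF, ← Fintype.card_units]; exact orderOf_dvd_card
  rcases (Nat.dvd_prime Nat.prime_three).1 h1 with h | h
  · rw [orderOf_eq_one_iff] at h
    rw [h, Units.val_one] at hu
    rw [← hu] at ha
    have h30 : (3 : F) = 0 := by linear_combination ha
    obtain ⟨p, hp⟩ := CharP.exists F
    have := hp
    obtain ⟨k, hpp, hk⟩ := FiniteField.card F p
    have h3p : (p : ℕ) ∣ 3 := (CharP.cast_eq_zero_iff F p 3).1 (by exact_mod_cast h30)
    rcases (Nat.dvd_prime Nat.prime_three).1 h3p with h' | h'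
    · exact hpp.ne_one h'
    · rw [hF, h'] at hk
      have : 3 ∣ q := hk ▸ dvd_pow_self 3 k.ne_zero
      omega
  · rw [h] at h2
    omega

section Model

variable {K : Type*} [Field K] [Fintype K] [Algebra F K] (hK : Fintype.card K = q ^ 2) (ω : K) {m : ℕ}

local notation "M2" => Matrix (Fin m ⊕ Fin m) (Fin m ⊕ Fin m) F

/-- The standard fixed-point-free element of order three. -/
def stdThree (F : Type*) [Field F] (m : ℕ) : Matrix (Fin m ⊕ Fin m) (Fin m ⊕ Fin m) F :=
  fromBlocks 0 (-1) 1 (-1)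

omit [Fintype F] in
theorem stdThree_mem : stdThree F m ∈ symplecticGroup (Fin m) F := by
  rw [SymplecticGroup.mem_iff, stdThree, J, fromBlocks_transpose, fromBlocks_multiply, fromBlocks_multiply]
  simp

omit [Fintype F] in
theorem commute_stdThree_iff (M : M2) :
    Commute M (stdThree F m) ↔
      ∃ a c : Matrix (Fin m) (Fin m) F, M = fromBlocks a (-c) c (a - c) := by
  rw [← fromBlocks_toBlocks M, stdThree, commute_iff_eq, fromBlocks_multiply, fromBlocks_multiply]
  simp only [Matrix.mul_zero, Matrix.mul_one, Matrix.mul_neg, Matrix.zero_mul, Matrix.one_mul, Matrix.neg_mul,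
    zero_add, fromBlocks_inj]
  constructor
  · rintro ⟨h1, h2, h3, h4⟩
    refine ⟨M.toBlocks₁₁, M.toBlocks₂₁, rfl, h1, rfl, ?_⟩
    rw [h3]; abel
  · rintro ⟨a, c, h1, h2, h3, h4⟩
    rw [h1, h2, h3, h4]
    refine ⟨rfl, ?_, ?_, ?_⟩ <;> abel

/-- `a + ω c` as a matrix over `K`. -/
noncomputable def comb (a c : Matrix (Fin m) (Fin m) F) : Matrix (Fin m) (Fin m) K :=
  a.map (algebraMap F K) + ω • c.map (algebraMap F K)

omit [Fintype F] in
theorem unitary_iff_symplectic (hω : ω ^ 2 + ω + 1 = 0)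
    (hind : ∀ x y : F, algebraMap F K x + ω * algebraMap F K y = 0 → x = 0 ∧ y = 0)
    (hσF : ∀ x : F, qFrob hK (algebraMap F K x) = algebraMap F K x) (hσω : qFrob hK ω = -1 - ω)
    (a c : Matrix (Fin m) (Fin m) F) :
    fromBlocks a (-c) c (a - c) ∈ symplecticGroup (Fin m) F ↔
      (comb ω a c)ᵀ * (comb ω a c).map (qFrob hK) = 1 := by
  obtain ⟨P, hP⟩ : ∃ P, P = aᵀ * a + cᵀ * c - aᵀ * c := ⟨_, rfl⟩
  obtain ⟨R, hR⟩ : ∃ R, R = cᵀ * a - aᵀ * c := ⟨_, rfl⟩
  have h1 : (comb ω a c)ᵀ * (comb ω a c).map (qFrob hK) = comb ω P R := by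
    have hm : (comb ω a c).map (qFrob hK) = a.map (algebraMap F K) + (-1 - ω) • c.map (algebraMap F K) := by
      ext i j; simp [comb, hσF, hσω]
    have hc : ω * (-1 - ω) = 1 := by linear_combination -hω
    rw [hm, comb, comb, hP, hR, transpose_add, transpose_smul, add_mul, mul_add, mul_add,
      Matrix.map_sub _ (map_sub (algebraMap F K)), Matrix.map_sub _ (map_sub (algebraMap F K)),
      Matrix.map_add _ (map_add (algebraMap F K)), Matrix.map_mul, Matrix.map_mul, Matrix.map_mul,
      Matrix.map_mul, transpose_map, transpose_map, Matrix.mul_smul, Matrix.mul_smul, Matrix.smul_mul,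
      Matrix.smul_mul, smul_smul, mul_comm (-1 - ω) ω, hc, one_smul, sub_smul, neg_smul, one_smul, smul_sub]
    abel
  have h2 : comb (K := K) ω P R = 1 ↔ P = 1 ∧ R = 0 := by
    constructor
    · intro h
      have hi : ∀ i j, P i j - (1 : Matrix (Fin m) (Fin m) F) i j = 0 ∧ R i j = 0 := fun i j => by
        refine hind _ _ ?_
        have := congrFun (congrFun h i) j
        simp only [comb, Matrix.add_apply, Matrix.map_apply, Matrix.smul_apply, smul_eq_mul] at this
        rw [map_sub]
        rcases eq_or_ne i j with rfl | hij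
        · rw [one_apply_eq, map_one]; rw [one_apply_eq] at this; linear_combination this
        · rw [one_apply_ne hij, map_zero]; rw [one_apply_ne hij] at this; linear_combination this
      exact ⟨Matrix.ext fun i j => sub_eq_zero.1 (hi i j).1, Matrix.ext fun i j => (hi i j).2⟩
    · rintro ⟨rfl, rfl⟩
      simp [comb]
  rw [h1, h2, SymplecticGroup.mem_iff', J, fromBlocks_transpose, fromBlocks_multiply, fromBlocks_multiply]
  simp only [Matrix.mul_zero, Matrix.mul_one, Matrix.mul_neg, Matrix.neg_mul, zero_add, add_zero,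
    fromBlocks_inj, transpose_neg, transpose_sub]
  constructor
  · rintro ⟨e1, -, e3, -⟩
    refine ⟨?_, ?_⟩
    · have e1' := congrArg Matrix.transpose e3
      simp only [transpose_add, transpose_neg, transpose_mul, transpose_sub, transpose_transpose, transpose_one,
        Matrix.sub_mul] at e1'
      rw [hP]; linear_combination (norm := abel) e1'
    · rw [hR]; linear_combination (norm := abel) e1
  · rintro ⟨hP1, hR0⟩
    rw [hP] at hP1
    rw [hR] at hR0
    have hP2 : aᵀ * a + cᵀ * c - cᵀ * a = 1 := by linear_combination (norm := abel) hP1 - hR0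
    refine ⟨?_, ?_, ?_, ?_⟩ <;> (try simp only [Matrix.sub_mul, Matrix.mul_sub])
    · linear_combination (norm := abel) hR0
    · linear_combination (norm := abel) -hP1
    · linear_combination (norm := abel) hP2
    · linear_combination (norm := abel) hR0

omit [Fintype F] in
include hK in
/-- The centraliser of the standard element is `GU_m(q)`. -/
theorem natCard_centralizer_std (hω : ω ^ 2 + ω + 1 = 0)
    (hind : ∀ x y : F, algebraMap F K x + ω * algebraMap F K y = 0 → x = 0 ∧ y = 0)
    (hspan : ∀ z : K, ∃ x y : F, algebraMap F K x + ω * algebraMap F K y = z)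
    (hσF : ∀ x : F, qFrob hK (algebraMap F K x) = algebraMap F K x) (hσω : qFrob hK ω = -1 - ω) :
    Nat.card ↥(Subgroup.centralizer ({(⟨stdThree F m, stdThree_mem⟩ : symplecticGroup (Fin m) F)} :
      Set (symplecticGroup (Fin m) F))) = Nat.card ↥(Cfsg.GU m K q) := by
  have key : ∀ g : symplecticGroup (Fin m) F,
      g ∈ Subgroup.centralizer ({(⟨stdThree F m, stdThree_mem⟩ : symplecticGroup (Fin m) F)} : Set _) ↔
        Commute (g : M2) (stdThree F m) := fun g => by
    rw [Subgroup.mem_centralizer_singleton_iff, commute_iff_eq, Subtype.ext_iff]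
    exact ⟨fun h => h, fun h => h⟩
  have hinj : ∀ a c a' c' : Matrix (Fin m) (Fin m) F, comb (K := K) ω a c = comb ω a' c' → a = a' ∧ c = c' := by
    intro a c a' c' h
    have hi : ∀ i j, a i j - a' i j = 0 ∧ c i j - c' i j = 0 := fun i j => by
      refine hind _ _ ?_
      have := congrFun (congrFun h i) j
      simp only [comb, Matrix.add_apply, Matrix.map_apply, Matrix.smul_apply, smul_eq_mul] at this
      rw [map_sub, map_sub]; linear_combination this
    exact ⟨Matrix.ext fun i j => sub_eq_zero.1 (hi i j).1, Matrix.ext fun i j => sub_eq_zero.1 (hi i j).2⟩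
  have hunit : ∀ a c, fromBlocks a (-c) c (a - c) ∈ symplecticGroup (Fin m) F →
      (comb (K := K) ω a c).det ≠ 0 := fun a c h h0 => by
    have := congrArg Matrix.det ((unitary_iff_symplectic hK ω hω hind hσF hσω a c).1 h)
    rw [det_mul, det_transpose, h0, zero_mul, det_one] at this
    exact zero_ne_one this
  refine Nat.card_congr (Equiv.ofBijective (fun g => ?_) ⟨?_, ?_⟩)
  · refine ⟨GeneralLinearGroup.mkOfDetNeZero (comb (K := K) ω (g.1 : M2).toBlocks₁₁ (g.1 : M2).toBlocks₂₁) ?_, ?_⟩
    · obtain ⟨a, c, hg⟩ := (commute_stdThree_iff _).1 ((key g.1).1 g.2)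
      rw [hg, toBlocks_fromBlocks₁₁, toBlocks_fromBlocks₂₁]
      exact hunit a c (hg ▸ g.1.2)
    · obtain ⟨a, c, hg⟩ := (commute_stdThree_iff _).1 ((key g.1).1 g.2)
      rw [SemiUnitary.mem_gu_iff hK]
      show (comb (K := K) ω _ _)ᵀ * (comb (K := K) ω _ _).map _ = 1
      rw [hg, toBlocks_fromBlocks₁₁, toBlocks_fromBlocks₂₁]
      exact (unitary_iff_symplectic hK ω hω hind hσF hσω a c).1 (hg ▸ g.1.2)
  · rintro ⟨g, hg⟩ ⟨h, hh⟩ e
    have e' : comb (K := K) ω (g : M2).toBlocks₁₁ (g : M2).toBlocks₂₁ =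
        comb ω (h : M2).toBlocks₁₁ (h : M2).toBlocks₂₁ := congrArg Units.val (congrArg Subtype.val e)
    obtain ⟨a, c, hgac⟩ := (commute_stdThree_iff _).1 ((key g).1 hg)
    obtain ⟨a', c', hhac⟩ := (commute_stdThree_iff _).1 ((key h).1 hh)
    rw [hgac, hhac] at e'
    simp only [toBlocks_fromBlocks₁₁, toBlocks_fromBlocks₂₁] at e'
    obtain ⟨rfl, rfl⟩ := hinj _ _ _ _ e'
    exact Subtype.ext (Subtype.ext (hgac.trans hhac.symm))
  · rintro ⟨G, hG⟩
    choose fx fy hfxy using hspan
    have hcomb : comb (K := K) ω ((G : Matrix (Fin m) (Fin m) K).map fx) ((G : Matrix (Fin m) (Fin m) K).map fy) =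
        (G : Matrix (Fin m) (Fin m) K) := by
      ext i j; simp [comb, hfxy]
    rw [SemiUnitary.mem_gu_iff hK, ← hcomb] at hG
    refine ⟨⟨⟨_, (unitary_iff_symplectic hK ω hω hind hσF hσω _ _).2 hG⟩,
      (key _).2 ((commute_stdThree_iff _).2 ⟨_, _, rfl⟩)⟩, Subtype.ext (Units.ext ?_)⟩
    show comb (K := K) ω (fromBlocks _ _ _ _).toBlocks₁₁ (fromBlocks _ _ _ _).toBlocks₂₁ = _
    rw [toBlocks_fromBlocks₁₁, toBlocks_fromBlocks₂₁, hcomb]

end Model

/-- The centraliser of a fixed-point-free element of order three in `Sp_2m(q)`, `q ≡ 2 (mod 3)`. -/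
theorem natCard_centralizer (hF : Fintype.card F = q) (hq : q % 3 = 2) {m : ℕ}
    (x : symplecticGroup (Fin m) F) (hx3 : x ^ 3 = 1)
    (hfpf : IsUnit ((x : Matrix (Fin m ⊕ Fin m) (Fin m ⊕ Fin m) F) - 1)) :
    Nat.card ↥(Subgroup.centralizer ({x} : Set (symplecticGroup (Fin m) F))) =
      q ^ (m * (m - 1) / 2) * ∏ i ∈ Finset.range m, (if Even i then q ^ (i + 1) + 1 else q ^ (i + 1) - 1) := by
  obtain ⟨p, hchar⟩ := CharP.exists F
  have := hchar
  obtain ⟨N, hp, hN⟩ := FiniteField.card F p
  have := Fact.mk hp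
  have hp3 : p ≠ 3 := fun h => by
    rw [hF, h] at hN
    have : 3 ∣ q := hN ▸ dvd_pow_self 3 N.ne_zero
    omega
  obtain ⟨hPm, hPd⟩ := triPoly_facts (F := F)
  have hPi := triPoly_irreducible hF hq
  have : Fact (Irreducible (triPoly F)) := ⟨hPi⟩
  have : Module.Finite F (AdjoinRoot (triPoly F)) := (AdjoinRoot.powerBasis' hPm).finite
  have : Finite (AdjoinRoot (triPoly F)) := Module.finite_of_finite F
  let _ := Fintype.ofFinite (AdjoinRoot (triPoly F))
  have hK : Fintype.card (AdjoinRoot (triPoly F)) = q ^ 2 := by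
    rw [← Nat.card_eq_fintype_card, Module.natCard_eq_pow_finrank (K := F), (AdjoinRoot.powerBasis' hPm).finrank,
      AdjoinRoot.powerBasis'_dim, hPd, Nat.card_eq_fintype_card, hF]
  obtain ⟨ω, hωdef⟩ : ∃ ω, ω = AdjoinRoot.root (triPoly F) := ⟨_, rfl⟩
  have hω : ω ^ 2 + ω + 1 = 0 := by
    have h := AdjoinRoot.eval₂_root (triPoly F)
    rw [eval₂_triPoly] at h
    rw [hωdef]; exact h
  have hind : ∀ a b : F, algebraMap F _ a + ω * algebraMap F _ b = 0 → a = 0 ∧ b = 0 := by
    intro a b h
    rw [hωdef, AdjoinRoot.algebraMap_eq, ← AdjoinRoot.mk_X, ← AdjoinRoot.mk_C, ← AdjoinRoot.mk_C, ← map_mul,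
      ← map_add, AdjoinRoot.mk_eq_zero] at h
    have h0 := eq_zero_of_dvd_of_natDegree_lt h (by
      rw [hPd]; exact lt_of_le_of_lt (by compute_degree!) one_lt_two)
    exact ⟨by simpa using congrArg (fun f => coeff f 0) h0, by simpa using congrArg (fun f => coeff f 1) h0⟩
  have hspan : ∀ z : AdjoinRoot (triPoly F), ∃ a b : F, algebraMap F _ a + ω * algebraMap F _ b = z := by
    have h := (Nat.bijective_iff_injective_and_card
      (fun ab : F × F => algebraMap F (AdjoinRoot (triPoly F)) ab.1 + ω * algebraMap F _ ab.2)).2 ⟨?_, ?_⟩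
    · intro z
      obtain ⟨ab, hab⟩ := h.2 z
      exact ⟨ab.1, ab.2, hab⟩
    · intro u v huv
      obtain ⟨h1, h2⟩ := hind (u.1 - v.1) (u.2 - v.2) (by rw [map_sub, map_sub]; linear_combination huv)
      exact Prod.ext (sub_eq_zero.1 h1) (sub_eq_zero.1 h2)
    · rw [Nat.card_prod, Nat.card_eq_fintype_card, Nat.card_eq_fintype_card, hK, hF, sq]
  have hσF : ∀ a : F, qFrob hK (algebraMap F _ a) = algebraMap F _ a := fun a => by
    rw [qFrob_apply, ← map_pow, ← hF, FiniteField.pow_card]
  have hσω : qFrob hK ω = -1 - ω := by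
    have h3 : ω ^ 3 = 1 := by linear_combination (ω - 1) * hω
    rw [qFrob_apply, show q = 3 * (q / 3) + 2 by omega, pow_add, pow_mul, h3, one_pow, one_mul]
    linear_combination hω
  rw [← card_gu hK m, ← natCard_centralizer_std hK ω hω hind hspan hσF hσω]
  -- `x` is conjugate to the standard element
  let M2 := Matrix (Fin m ⊕ Fin m) (Fin m ⊕ Fin m) F
  have hchp : ∀ y : M2, y ^ 2 + y + 1 = 0 → y.charpoly = triPoly F ^ m := fun y hy => by
    have hmin : minpoly F y ∣ triPoly F := minpoly.dvd F y (by simp [triPoly, hy])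
    obtain ⟨k, hk⟩ := eq_pow_of_factors hPi hPm _ y.charpoly_monic rfl fun Q hQm hQ hQd => by
      let e := Fintype.equivFinOfCardEq (show Fintype.card (Fin m ⊕ Fin m) = m + m by simp)
      have hdiv : Q ∣ minpoly F y := by
        have h1 := CfsgLib.KnownC.irreducible_dvd_minpoly_of_dvd_charpoly (Matrix.reindex e e y) hQ
          (by rwa [charpoly_reindex])
        rwa [show Matrix.reindex e e y = Matrix.reindexAlgEquiv F F e y from rfl, minpoly.algEquiv_eq] at h1
      exact eq_of_monic_of_associated hQm hPm (hQ.associated_of_dvd hPi (hdiv.trans hmin))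
    have hd := congrArg natDegree hk
    rw [charpoly_natDegree_eq_dim, hPm.natDegree_pow, hPd, Fintype.card_sum, Fintype.card_fin] at hd
    rw [hk, show k = m by omega]
  have hx : (x : M2) ^ 2 + (x : M2) + 1 = 0 := by
    have h3 : ((x : M2) - 1) * ((x : M2) ^ 2 + (x : M2) + 1) = 0 := by
      have hx' : (x : M2) ^ 3 = 1 := by
        have := congrArg (fun g : symplecticGroup (Fin m) F => (g : M2)) hx3
        exact this
      rw [show ((x : M2) - 1) * ((x : M2) ^ 2 + (x : M2) + 1) = (x : M2) ^ 3 - 1 by noncomm_ring, hx', sub_self]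
    exact hfpf.mul_right_eq_zero.1 h3
  have hs : (stdThree F m) ^ 2 + stdThree F m + 1 = 0 := by
    rw [sq, stdThree, fromBlocks_multiply, ← fromBlocks_one, fromBlocks_add, fromBlocks_add, ← fromBlocks_zero]
    simp
  obtain ⟨S, hS⟩ : ∃ S : symplecticGroup (Fin m) F, (S : M2) = stdThree F m := ⟨⟨_, stdThree_mem⟩, rfl⟩
  have hSc : (⟨stdThree F m, stdThree_mem⟩ : symplecticGroup (Fin m) F) = S := Subtype.ext hS.symm
  rw [hSc]
  have hord : (orderOf x).Coprime p := by
    refine Nat.Coprime.coprime_dvd_left (orderOf_dvd_of_pow_eq_one hx3) ?_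
    exact (Nat.coprime_primes Nat.prime_three hp).2 (Ne.symm hp3)
  have hcl : IsConj x S := by
    refine SemiSymp.isConj_of_linear x S hord ?_
    let e := Fintype.equivFinOfCardEq (show Fintype.card (Fin m ⊕ Fin m) = m + m by simp)
    let re := Matrix.reindexAlgEquiv F F e
    let φ : symplecticGroup (Fin m) F →* GL (Fin (m + m)) F :=
      MonoidHom.toHomUnits (re.toMonoidHom.comp (symplecticGroup (Fin m) F).subtype)
    have hφ : Function.Injective φ := fun a b hab => Subtype.ext (re.injective (congrArg Units.val hab))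
    have hS3 : S ^ 3 = 1 := Subtype.ext (by
      show (S : M2) ^ 3 = 1
      rw [hS, ← sub_eq_zero, show stdThree F m ^ 3 - 1 = (stdThree F m - 1) * (stdThree F m ^ 2 + stdThree F m + 1) by
        noncomm_ring, hs, mul_zero])
    obtain ⟨z, hz⟩ := CfsgLib.KnownB.SSClass.gl_isConj_of_charpoly p (g := φ x) (h := φ S)
      (by rwa [orderOf_injective φ hφ])
      (by rw [orderOf_injective φ hφ]; exact Nat.Coprime.coprime_dvd_left (orderOf_dvd_of_pow_eq_one hS3)
            ((Nat.coprime_primes Nat.prime_three hp).2 (Ne.symm hp3)))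
      (by
        show (Matrix.reindex e e (x : M2)).charpoly = (Matrix.reindex e e (S : M2)).charpoly
        rw [charpoly_reindex, charpoly_reindex, hchp _ hx, hchp _ (hS ▸ hs)])
    have h1 := MonoidHom.map_isConj (re.symm.toMonoidHom.comp (Units.coeHom _)) (⟨z, hz⟩ : IsConj (φ x) (φ S))
    simpa [φ] using h1
  obtain ⟨z, hz⟩ := isConj_iff.1 hcl
  refine Nat.card_congr ((MulAut.conj z).toEquiv.subtypeEquiv fun g => ?_)
  simp only [Subgroup.mem_centralizer_singleton_iff, MulEquiv.toEquiv_eq_coe, MulEquiv.coe_toEquiv]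
  rw [← hz, show z * x * z⁻¹ = MulAut.conj z x from rfl, ← map_mul, ← map_mul, (MulAut.conj z).injective.eq_iff]

end CfsgLib.Classical.SympCentThree
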