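import Mathlib
import Cfsg.Agent.Lib.Classical.PalinCount
import Cfsg.Agent.Lib.Classical.SemiSympExists

/-!
Classes of elements of odd prime order `r ≠ p` in `Sp_2m(q)`.
-/

set_option autoImplicit false

namespace CfsgLib.Classical.SympOrderR

open Polynomial CfsgLib.Classical UniqueFactorizationMonoid Matrix
open scoped Polynomial

variable {F : Type*} [Field F]

/-- `f*`, the monic reciprocal. -/
noncomputable def star (f : F[X]) : F[X] := SemiPalin.tilde (RingHom.id F) f

theorem star_eq (f : F[X]) : star f = C (f.coeff 0)⁻¹ * f.reverse := by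
  rw [star, SemiPalin.tilde, SemiPalin.srev, Polynomial.map_id, RingHom.id_apply]

theorem star_mul (f g : F[X]) : star (f * g) = star f * star g := SemiPalin.tilde_mul _ f g

/-- An involution without fixed points on a finite set has a set of representatives. -/
theorem exists_half {α : Type*} (s : Finset α) (σ : α → α) (hm : ∀ a ∈ s, σ a ∈ s)
    (hinv : ∀ a ∈ s, σ (σ a) = a) (hne : ∀ a ∈ s, σ a ≠ a) :
    ∃ S, S ⊆ s ∧ 2 * S.card = s.card ∧ ∀ a ∈ s, (a ∈ S ↔ σ a ∉ S) := by
  classical
  let : LinearOrder α := IsWellOrder.linearOrder WellOrderingRel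
  have key : ∀ a ∈ s, (a < σ a ↔ ¬ σ a < σ (σ a)) := fun a ha => by
    rw [hinv a ha]
    exact ⟨fun h => not_lt.2 h.le, fun h => lt_of_le_of_ne (not_lt.1 h) (Ne.symm (hne a ha))⟩
  refine ⟨s.filter fun a => a < σ a, Finset.filter_subset _ _, ?_, fun a ha => ?_⟩
  · have h : (s.filter fun a => a < σ a).card = (s.filter fun a => ¬ a < σ a).card := by
      refine Finset.card_bij' (fun a _ => σ a) (fun a _ => σ a) (fun a ha => ?_) (fun a ha => ?_)
        (fun a ha => hinv a (Finset.mem_filter.1 ha).1) (fun a ha => hinv a (Finset.mem_filter.1 ha).1)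
      · obtain ⟨h1, h2⟩ := Finset.mem_filter.1 ha
        exact Finset.mem_filter.2 ⟨hm a h1, (key a h1).1 h2⟩
      · obtain ⟨h1, h2⟩ := Finset.mem_filter.1 ha
        refine Finset.mem_filter.2 ⟨hm a h1, ?_⟩
        by_contra h3
        exact h2 ((key a h1).2 h3)
    rw [← s.card_filter_add_card_filter_not (fun a => a < σ a), ← h, two_mul]
  · simp only [Finset.mem_filter, ha, hm a ha, true_and]
    exact key a ha

theorem reverse_eq_of_star {f : F[X]} (h0 : f.coeff 0 = 1) (h : star f = f) : f.reverse = f := by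
  rw [star_eq, h0, inv_one, map_one, one_mul] at h; exact h

theorem star_of_reverse {f : F[X]} (hm : f.Monic) (h : f.reverse = f) : star f = f := by
  rw [star_eq, SemiPalin.coeff_zero_of_rev h hm, inv_one, map_one, one_mul, h]

variable [Fintype F] {p : ℕ} [Fact p.Prime] [CharP F p] {q r i : ℕ}

/-- The monic irreducible factors of `X ^ r - 1` other than `X - 1`. -/
noncomputable def factors (F : Type*) [Field F] (r : ℕ) : Finset F[X] := by
  classical exact (normalizedFactors (cyclotomic r F)).toFinset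

section Setup

variable (hF : Fintype.card F = q) (hr : r.Prime) (hrp : r ≠ p) (hi : i = orderOf (q : ZMod r))

include hr

omit [Fintype F] [Fact p.Prime] [CharP F p] hr in
theorem mem_factors {g : F[X]} : g ∈ factors F r ↔ g.Monic ∧ Irreducible g ∧ g ∣ cyclotomic r F := by
  classical
  rw [factors, Multiset.mem_toFinset]
  constructor
  · intro h
    refine ⟨?_, irreducible_of_normalized_factor g h, dvd_of_mem_normalizedFactors h⟩
    have h1 := normalize_normalized_factor g h
    rw [← h1]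
    exact Polynomial.monic_normalize (ne_zero_of_dvd_ne_zero (cyclotomic_ne_zero r F) (dvd_of_mem_normalizedFactors h))
  · rintro ⟨hm, hi', hd⟩
    obtain ⟨Q, hQ, hQg⟩ := exists_mem_normalizedFactors_of_dvd (cyclotomic_ne_zero r F) hi' hd
    have hQm : Q.Monic := by
      rw [← normalize_normalized_factor Q hQ]
      exact Polynomial.monic_normalize (irreducible_of_normalized_factor Q hQ).ne_zero
    rwa [eq_of_monic_of_associated hm hQm hQg]

omit [Fintype F] [Fact p.Prime] [CharP F p] in
theorem cyclo_mul : cyclotomic r F * (X - 1) = X ^ r - 1 := by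
  have : Fact r.Prime := ⟨hr⟩
  exact cyclotomic_prime_mul_X_sub_one F r

include hrp

omit [Fintype F] in
theorem r_ne_zero : (r : F) ≠ 0 := fun h => by
  rw [CharP.cast_eq_zero_iff F p] at h
  exact hrp ((Nat.prime_dvd_prime_iff_eq (Fact.out : p.Prime) hr).1 h).symm

omit [Fintype F] in
theorem eval_one_cyclo : (cyclotomic r F).eval 1 ≠ 0 := by
  have : Fact r.Prime := ⟨hr⟩
  rw [eval_one_cyclotomic_prime]
  exact r_ne_zero hr hrp

omit [Fintype F] in
theorem facts {g : F[X]} (hg : g ∈ factors F r) :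
    g ≠ X - C 1 ∧ g ∣ X ^ r - 1 ∧ g.coeff 0 ≠ 0 := by
  obtain ⟨hm, hi', hd⟩ := (mem_factors).1 hg
  refine ⟨?_, (hd.trans (dvd_mul_right _ _)).trans (cyclo_mul hr).dvd, fun h => ?_⟩
  · rintro rfl
    exact eval_one_cyclo (F := F) hr hrp (dvd_iff_isRoot.1 hd)
  · have h1 : (X : F[X]) ∣ X ^ r - 1 :=
      (X_dvd_iff.2 h).trans ((hd.trans (dvd_mul_right _ _)).trans (cyclo_mul hr).dvd)
    rw [X_dvd_iff] at h1
    simp [coeff_X_pow, hr.ne_zero.symm] at h1

omit [Fintype F] in
theorem star_mem {g : F[X]} (hg : g ∈ factors F r) : star g ∈ factors F r ∧ star (star g) = g := by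
  obtain ⟨hm, hi', -⟩ := (mem_factors).1 hg
  obtain ⟨hne, ⟨c, hc⟩, h0⟩ := facts hr hrp hg
  have hss : star (star g) = g := SemiPalin.tilde_tilde _ (fun _ => rfl) hm h0
  have hirr := SemiPalin.tilde_irreducible (RingHom.id F) (fun _ => rfl) hm h0 hi'
  refine ⟨(mem_factors).2 ⟨(SemiPalin.tilde_facts _ hm h0).1, hirr, ?_⟩, hss⟩
  have hrev : (X ^ r - 1 : F[X]).reverse = -(X ^ r - 1) := by
    rw [← map_one C, reverse, natDegree_X_pow_sub_C, reflect_sub, reflect_C,
      show reflect r ((X : F[X]) ^ r) = 1 by rw [reflect_monomial, revAt_le le_rfl, Nat.sub_self, pow_zero]]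
    simp
  have h2 : star g ∣ X ^ r - 1 := by
    rw [hc, reverse_mul_of_domain] at hrev
    have h1 : g.reverse ∣ X ^ r - 1 := by rw [← dvd_neg, hc, ← hrev]; exact dvd_mul_right _ _
    rw [star_eq]
    exact (associated_unit_mul_left _ _ ((isUnit_C.2 (isUnit_iff_ne_zero.2 (inv_ne_zero h0))))).dvd.trans h1
  rw [← cyclo_mul hr] at h2
  refine (hirr.prime.dvd_or_dvd h2).resolve_right fun h3 => ?_
  have h4 : star g = X - C 1 := eq_of_monic_of_associated (SemiPalin.tilde_facts _ hm h0).1 (monic_X_sub_C 1)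
    (hirr.associated_of_dvd (irreducible_X_sub_C 1) (by rwa [map_one]))
  rw [h4, star_eq, PalinCount.reverse_X_sub_one] at hss
  exact hne (by rw [← hss]; simp)

omit [Fintype F] in
theorem reverse_of_star {g : F[X]} (hg : g ∈ factors F r) (h : star g = g) : g.reverse = g := by
  obtain ⟨hm, hi', -⟩ := (mem_factors).1 hg
  obtain ⟨hne, -, h0⟩ := facts hr hrp hg
  -- the constant term of `g*` is `(g 0)⁻¹`
  have h4 : (g.coeff 0)⁻¹ = g.coeff 0 := by
    conv_rhs => rw [← h]
    exact ((SemiPalin.tilde_facts (RingHom.id F) hm h0).2.2).symm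
  have hsq : g.coeff 0 * g.coeff 0 = 1 := by
    conv_lhs => arg 1; rw [← h4]
    exact inv_mul_cancel₀ h0
  have hrev : g.reverse = C (g.coeff 0) * g := by
    conv_rhs => arg 2; rw [← h, star_eq]
    rw [← mul_assoc, ← C_mul, mul_inv_cancel₀ h0, map_one, one_mul]
  by_cases hc : g.coeff 0 = 1
  · rw [hrev, hc, map_one, one_mul]
  · have hc' : g.coeff 0 = -1 := (mul_self_eq_one_iff.1 hsq).resolve_left hc
    exfalso
    have hev : g.reverse.eval 1 = g.eval 1 := by
      rw [eval, eval]
      let : Invertible (1 : F) := invertibleOne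
      have := eval₂_reverse_mul_pow (RingHom.id F) (1 : F) g
      rwa [one_pow, mul_one, invOf_one] at this
    rw [hrev, eval_mul, eval_C, hc'] at hev
    have h11 : (2 : F) * g.eval 1 = 0 := by linear_combination -hev
    rcases mul_eq_zero.1 h11 with h20 | h11
    · exact hc (by rw [hc']; linear_combination -h20)
    · exact hne (eq_of_monic_of_associated hm (monic_X_sub_C 1)
        ((irreducible_X_sub_C 1).associated_of_dvd hi' (dvd_iff_isRoot.2 h11)).symm)

include hF hi

omit [Field F] [Fintype F] [Fact p.Prime] [CharP F p] hF hr hrp in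
theorem orderOf_unit {f : ℕ} (hn : p.Coprime r) (hq : q = p ^ f) :
    orderOf (ZMod.unitOfCoprime _ (hn.pow_left f)) = i := by
  rw [hi, hq, ← orderOf_units, ZMod.coe_unitOfCoprime]

theorem natDegree_factor {g : F[X]} (hg : g ∈ factors F r) : g.natDegree = i := by
  obtain ⟨f, hp, hf⟩ := FiniteField.card F p
  have hn : p.Coprime r := (Nat.coprime_primes (Fact.out : p.Prime) hr).2 (Ne.symm hrp)
  rw [Polynomial.natDegree_of_dvd_cyclotomic_of_irreducible (f := (f : ℕ)) hf hn ((mem_factors).1 hg).2.2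
    ((mem_factors).1 hg).2.1]
  exact orderOf_unit hi hn (hF ▸ hf)

theorem card_factors : (factors F r).card = (r - 1) / i := by
  classical
  obtain ⟨f, hp, hf⟩ := FiniteField.card F p
  have hn : p.Coprime r := (Nat.coprime_primes (Fact.out : p.Prime) hr).2 (Ne.symm hrp)
  have h := Polynomial.normalizedFactors_cyclotomic_card (K := F) (f := (f : ℕ)) hf hn
  rw [Nat.totient_prime hr, orderOf_unit hi hn (hF ▸ hf)] at h
  rw [factors]
  convert h

theorem i_pos : 0 < i := by
  obtain ⟨f, hp, hf⟩ := FiniteField.card F p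
  have hn : p.Coprime r := (Nat.coprime_primes (Fact.out : p.Prime) hr).2 (Ne.symm hrp)
  have : Fact r.Prime := ⟨hr⟩
  rw [← orderOf_unit (f := (f : ℕ)) hi hn (hF ▸ hf)]
  exact orderOf_pos _

variable (hr2 : r ≠ 2)
include hr2

theorem star_eq_iff {g : F[X]} (hg : g ∈ factors F r) : star g = g ↔ Even i := by
  obtain ⟨hm, hi', hd⟩ := (mem_factors).1 hg
  obtain ⟨hne, hgx, h0⟩ := facts hr hrp hg
  have hdeg := natDegree_factor hF hr hrp hi hg
  have hodd : Odd r := hr.odd_of_ne_two hr2
  constructor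
  · intro h
    have hne1 : g.eval (-1) ≠ 0 := by
      intro h1
      have h2 := eval_eq_zero_of_dvd_of_eval_eq_zero hgx h1
      rw [eval_sub, eval_pow, eval_X, eval_one, hodd.neg_one_pow] at h2
      have h20 : (2 : F) = 0 := by linear_combination -h2
      apply hne
      have h11 : g.eval 1 = 0 := by
        rw [show (1 : F) = -1 by linear_combination h20]; exact h1
      exact eq_of_monic_of_associated hm (monic_X_sub_C 1)
        ((irreducible_X_sub_C 1).associated_of_dvd hi' (dvd_iff_isRoot.2 h11)).symm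
    rw [← hdeg]
    exact SemiPalin.even_natDegree_of_eval_ne_zero (reverse_of_star hr hrp hg h) hne1
  · intro hev
    have : Fact r.Prime := ⟨hr⟩
    have : Fact (Irreducible g) := ⟨hi'⟩
    have hipos := i_pos hF hr hrp hi
    obtain ⟨k, hk⟩ := hev
    have hq1 : ((q : ZMod r)) ^ k = -1 := by
      have h1 : ((q : ZMod r) ^ k) * ((q : ZMod r) ^ k) = 1 := by
        rw [← pow_add, ← hk, hi]; exact pow_orderOf_eq_one _
      refine (mul_self_eq_one_iff.1 h1).resolve_left fun h => ?_
      have := orderOf_le_of_pow_eq_one (by omega) h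
      omega
    obtain ⟨c, hc⟩ : r ∣ q ^ k + 1 := by
      rw [← ZMod.natCast_eq_zero_iff, Nat.cast_add, Nat.cast_pow, Nat.cast_one, hq1, neg_add_cancel]
    obtain ⟨ω, hω⟩ : ∃ ω, ω = AdjoinRoot.root g := ⟨_, rfl⟩
    have hroot : aeval ω g = 0 := by rw [hω, AdjoinRoot.aeval_eq, AdjoinRoot.mk_self]
    have hωr : ω ^ r = 1 := by
      have := aeval_eq_zero_of_dvd_aeval_eq_zero hgx hroot
      rw [map_sub, map_pow, aeval_X, map_one, sub_eq_zero] at this
      exact this
    have hω0 : ω ≠ 0 := fun h => by rw [h, zero_pow hr.ne_zero] at hωr; exact zero_ne_one hωr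
    let : Invertible ω := invertibleOfNonzero hω0
    have hinv : ⅟ω = ω ^ q ^ k := by
      rw [invOf_eq_inv]
      refine inv_eq_of_mul_eq_one_right ?_
      rw [← pow_succ', hc, pow_mul, hωr, one_pow]
    have hpow : ∀ j : ℕ, aeval (ω ^ q ^ j) g = 0 := fun j => by
      induction j with
      | zero => rw [pow_zero, pow_one, hroot]
      | succ j ih =>
        rw [pow_succ, pow_mul]
        have h := congrArg (fun f => aeval (ω ^ q ^ j) f) (FiniteField.expand_card g)
        simp only [expand_aeval, map_pow, hF, ih] at h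
        rw [h, zero_pow (by rw [← hF]; exact Fintype.card_ne_zero)]
    have hsr : aeval ω (star g) = 0 := by
      rw [star_eq, map_mul, aeval_def, aeval_def, ← eval₂_mul]
      rw [eval₂_mul]
      have h5 := (eval₂_reverse_eq_zero_iff (algebraMap F (AdjoinRoot g)) (⅟ω) g).2
      have h6 : eval₂ (algebraMap F (AdjoinRoot g)) ω g.reverse = 0 := by
        have h7 := h5 (by rw [← aeval_def, hinv, hpow])
        simpa using h7
      rw [h6, mul_zero]
    have hs := star_mem hr hrp hg
    obtain ⟨hsm, hsi, -⟩ := (mem_factors).1 hs.1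
    refine eq_of_monic_of_associated hsm hm (hi'.associated_of_dvd hsi ?_).symm
    have hmin : minpoly F ω = g := by
      rw [hω, AdjoinRoot.minpoly_root hm.ne_zero, hm.leadingCoeff, inv_one, map_one, mul_one]
    have := minpoly.dvd F ω hsr
    rwa [hmin] at this

omit hr2 in
omit [Fintype F] hF hi in
theorem star_dvd {f g : F[X]} (hf : f.reverse = f) (hg : g ∈ factors F r) (h : g ∣ f) : star g ∣ f := by
  obtain ⟨-, -, h0⟩ := facts hr hrp hg
  obtain ⟨c, hc⟩ := h
  rw [star_eq]
  refine (associated_unit_mul_left _ _ ((isUnit_C.2 (isUnit_iff_ne_zero.2 (inv_ne_zero h0))))).dvd.trans ?_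
  exact ⟨c.reverse, by rw [← hf, hc, reverse_mul_of_domain]⟩

omit hr2 in
omit [Fintype F] [Fact p.Prime] [CharP F p] hF hrp hi in
theorem mem_factors_of_cover {Q : F[X]} (hQm : Q.Monic) (hQi : Irreducible Q) (hd : Q ∣ X ^ r - 1)
    (h1 : Q ≠ X - C 1) : Q ∈ factors F r := by
  refine mem_factors.2 ⟨hQm, hQi, ?_⟩
  rw [← cyclo_mul hr] at hd
  refine (hQi.prime.dvd_or_dvd hd).resolve_right fun h => h1 ?_
  exact eq_of_monic_of_associated hQm (monic_X_sub_C 1)
    (hQi.associated_of_dvd (irreducible_X_sub_C 1) (by rwa [map_one]))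

omit hr2 in
omit [Fintype F] hF hi in
theorem not_dvd_X_sub_one {g : F[X]} (hg : g ∈ factors F r) : ¬ g ∣ X - C 1 := fun h =>
  (facts hr hrp hg).1 (eq_of_monic_of_associated (mem_factors.1 hg).1 (monic_X_sub_C 1)
    ((mem_factors.1 hg).2.1.associated_of_dvd (irreducible_X_sub_C 1) h))

omit [Fintype F] hF hr hrp hi hr2 in
theorem eq_of_dvd {g h : F[X]} (hg : g ∈ factors F r) (hh : h ∈ factors F r) (hd : g ∣ h) : g = h :=
  eq_of_monic_of_associated (mem_factors.1 hg).1 (mem_factors.1 hh).1
    ((mem_factors.1 hg).2.1.associated_of_dvd (mem_factors.1 hh).2.1 hd)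

theorem blocks_even (hev : Even i) : Nonempty (PalinCount.Blocks F i ((r - 1) / i) r) := by
  classical
  let e := ((factors F r).equivFinOfCardEq (card_factors hF hr hrp hi)).symm
  have hstar : ∀ j, star (e j).1 = (e j).1 := fun j => (star_eq_iff hF hr hrp hi hr2 (e j).2).2 hev
  exact ⟨{
    B := fun j => (e j).1
    P := fun j => (e j).1
    monic := fun j => (mem_factors.1 (e j).2).1
    deg := fun j => natDegree_factor hF hr hrp hi (e j).2
    dpos := i_pos hF hr hrp hi
    rev := fun j => reverse_of_star hr hrp (e j).2 (hstar j)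
    prime := fun j => (mem_factors.1 (e j).2).2.1.prime
    dvd := fun j => dvd_rfl
    sep := fun j l h => e.injective (Subtype.ext (eq_of_dvd (e j).2 (e l).2 h))
    ne_one := fun j => not_dvd_X_sub_one hr hrp (e j).2
    allowed := fun j Q _ h => h.trans (facts hr hrp (e j).2).2.1
    cover := fun f _ Q hQm hQi hQf hQx hQ1 => ⟨e.symm ⟨Q, mem_factors_of_cover hr hQm hQi hQx hQ1⟩, by
      rw [e.apply_symm_apply]; exact hQf⟩ }⟩

theorem blocks_odd (hodd : Odd i) : Nonempty (PalinCount.Blocks F (2 * i) ((r - 1) / i / 2) r) := by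
  classical
  have hne : ∀ g ∈ factors F r, star g ≠ g := fun g hg h =>
    Nat.not_even_iff_odd.2 hodd ((star_eq_iff hF hr hrp hi hr2 hg).1 h)
  obtain ⟨S, hS, hcard, hmem⟩ := exists_half (factors F r) star (fun g hg => (star_mem hr hrp hg).1)
    (fun g hg => (star_mem hr hrp hg).2) hne
  rw [card_factors hF hr hrp hi] at hcard
  let e := (S.equivFinOfCardEq (show S.card = (r - 1) / i / 2 by omega)).symm
  have hf : ∀ j, (e j).1 ∈ factors F r := fun j => hS (e j).2
  have hs : ∀ j, star (e j).1 ∈ factors F r := fun j => (star_mem hr hrp (hf j)).1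
  have hB : ∀ j, ((e j).1 * star (e j).1).Monic := fun j =>
    (mem_factors.1 (hf j)).1.mul (mem_factors.1 (hs j)).1
  exact ⟨{
    B := fun j => (e j).1 * star (e j).1
    P := fun j => (e j).1
    monic := hB
    deg := fun j => by
      rw [(mem_factors.1 (hf j)).1.natDegree_mul (mem_factors.1 (hs j)).1, natDegree_factor hF hr hrp hi (hf j),
        natDegree_factor hF hr hrp hi (hs j), two_mul]
    dpos := by have := i_pos hF hr hrp hi; omega
    rev := fun j => by
      refine reverse_eq_of_star ?_ ?_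
      · obtain ⟨hm, -, -⟩ := mem_factors.1 (hf j)
        obtain ⟨-, -, h0⟩ := facts hr hrp (hf j)
        rw [mul_coeff_zero, show (star (e j).1).coeff 0 = _ from (SemiPalin.tilde_facts _ hm h0).2.2,
          RingHom.id_apply, mul_inv_cancel₀ h0]
      · rw [star_mul, (star_mem hr hrp (hf j)).2, mul_comm]
    prime := fun j => (mem_factors.1 (hf j)).2.1.prime
    dvd := fun j => dvd_mul_right _ _
    sep := fun j l h => by
      rcases (mem_factors.1 (hf j)).2.1.prime.dvd_or_dvd h with h | h
      · exact e.injective (Subtype.ext (eq_of_dvd (hf j) (hf l) h))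
      · have h2 := eq_of_dvd (hf j) (hs l) h
        exact absurd (h2 ▸ (e j).2) ((hmem _ (hf l)).1 (e l).2)
    ne_one := fun j => not_dvd_X_sub_one hr hrp (hf j)
    allowed := fun j Q hQ h => (hQ.prime.dvd_or_dvd h).elim
      (fun h => h.trans (facts hr hrp (hf j)).2.1) (fun h => h.trans (facts hr hrp (hs j)).2.1)
    cover := fun f hfr Q hQm hQi hQf hQx hQ1 => by
      have hQ := mem_factors_of_cover hr hQm hQi hQx hQ1
      have hQs := (star_mem hr hrp hQ).1
      have hdvd : Q * star Q ∣ f := by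
        refine IsCoprime.mul_dvd ?_ hQf (star_dvd hr hrp hfr hQ hQf)
        exact hQi.coprime_iff_not_dvd.2 fun h => hne Q hQ (eq_of_dvd hQ hQs h).symm
      by_cases hQS : Q ∈ S
      · exact ⟨e.symm ⟨Q, hQS⟩, by rw [e.apply_symm_apply]; exact hdvd⟩
      · have hsS : star Q ∈ S := by
          by_contra h
          exact hQS ((hmem Q hQ).2 h)
        refine ⟨e.symm ⟨star Q, hsS⟩, ?_⟩
        rw [e.apply_symm_apply, (star_mem hr hrp hQ).2, mul_comm]
        exact hdvd }⟩

/-- The count of the possible characteristic polynomials. -/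
theorem natCard_polys {t : ℕ} (ht : t * i = r - 1) (m : ℕ) :
    Nat.card {f : F[X] // f.Monic ∧ f.reverse = f ∧ f.natDegree = 2 * m ∧
      ∀ Q : F[X], Q.Monic → Irreducible Q → Q ∣ f → Q ∣ X ^ r - 1} =
      if Odd i then (m / i + t / 2).choose (t / 2) else (2 * m / i + t).choose t := by
  have hi0 := i_pos hF hr hrp hi
  have htt : (r - 1) / i = t := by rw [← ht, Nat.mul_div_cancel _ hi0]
  split_ifs with h
  · obtain ⟨D⟩ := blocks_odd hF hr hrp hi hr2 h
    rw [D.natCard (even_two_mul i), htt, Nat.mul_div_mul_left _ _ two_pos]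
  · rw [Nat.not_odd_iff_even] at h
    obtain ⟨D⟩ := blocks_even hF hr hrp hi hr2 h
    rw [D.natCard h, htt]

end Setup

omit [Fintype F] in
theorem dvd_pow_of_factors {G : F[X]} : ∀ (n : ℕ) {f : F[X]}, f.Monic → f.natDegree = n →
    (∀ Q : F[X], Q.Monic → Irreducible Q → Q ∣ f → Q ∣ G) → f ∣ G ^ n := by
  intro n
  induction n using Nat.strong_induction_on with
  | _ n ih =>
    intro f hf hn h
    rcases Nat.eq_zero_or_pos n with rfl | hpos
    · rw [hf.natDegree_eq_zero.mp hn]; exact one_dvd _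
    · obtain ⟨Q, hQm, hQ, R, hR⟩ := exists_monic_irreducible_factor f (fun hu => by
        have := natDegree_eq_zero_of_isUnit hu; omega)
      have hRm : R.Monic := hQm.of_mul_monic_left (hR ▸ hf)
      have hd := congrArg natDegree hR
      rw [hQm.natDegree_mul hRm, hn] at hd
      have := hQ.natDegree_pos
      have h1 := ih R.natDegree (by omega) hRm rfl fun S hS hSi hSd => h S hS hSi (hR ▸ Dvd.dvd.mul_left hSd Q)
      rw [hR]
      refine (mul_dvd_mul (h Q hQm hQ ⟨R, hR⟩) h1).trans ?_
      rw [← pow_succ']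
      exact pow_dvd_pow G (by omega)

section Classes

variable {n : ℕ}

local notation "M2" => Matrix (Fin n ⊕ Fin n) (Fin n ⊕ Fin n) F

omit [Fintype F] [Fact p.Prime] [CharP F p] in
theorem factors_of_pow_eq_one (g : symplecticGroup (Fin n) F) (hg : g ^ r = 1) (Q : F[X]) (hQi : Irreducible Q)
    (hQ : Q ∣ (g : M2).charpoly) : Q ∣ X ^ r - 1 := by
  let e := Fintype.equivFinOfCardEq (show Fintype.card (Fin n ⊕ Fin n) = n + n by simp)
  have h1 := CfsgLib.KnownC.irreducible_dvd_minpoly_of_dvd_charpoly (Matrix.reindex e e (g : M2)) hQi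
    (by rwa [Matrix.charpoly_reindex])
  rw [show Matrix.reindex e e (g : M2) = Matrix.reindexAlgEquiv F F e (g : M2) from rfl, minpoly.algEquiv_eq] at h1
  refine h1.trans (minpoly.dvd F _ ?_)
  have h2 : (g : M2) ^ r = 1 := by
    have := congrArg Subtype.val hg
    rwa [SubmonoidClass.coe_pow, OneMemClass.coe_one] at this
  rw [map_sub, map_pow, aeval_X, map_one, h2, sub_self]

theorem isConj_of_charpoly (g h : symplecticGroup (Fin n) F) (hg : (orderOf g).Coprime p)
    (hh : (orderOf h).Coprime p) (hpq : (g : M2).charpoly = (h : M2).charpoly) : IsConj g h := by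
  refine SemiSymp.isConj_of_linear g h hg ?_
  let e := Fintype.equivFinOfCardEq (show Fintype.card (Fin n ⊕ Fin n) = n + n by simp)
  let re := Matrix.reindexAlgEquiv F F e
  let φ : symplecticGroup (Fin n) F →* GL (Fin (n + n)) F :=
    MonoidHom.toHomUnits (re.toMonoidHom.comp (symplecticGroup (Fin n) F).subtype)
  have hφ : Function.Injective φ := fun a b hab => Subtype.ext (re.injective (congrArg Units.val hab))
  obtain ⟨x, hx⟩ := CfsgLib.KnownB.SSClass.gl_isConj_of_charpoly p (g := φ g) (h := φ h)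
    (by rwa [orderOf_injective φ hφ]) (by rwa [orderOf_injective φ hφ])
    (by
      show (Matrix.reindex e e (g : M2)).charpoly = (Matrix.reindex e e (h : M2)).charpoly
      rw [Matrix.charpoly_reindex, Matrix.charpoly_reindex, hpq])
  have h1 := MonoidHom.map_isConj (re.symm.toMonoidHom.comp (Units.coeHom _)) (⟨x, hx⟩ : IsConj (φ g) (φ h))
  simpa [φ] using h1

omit [Fintype F] in
theorem pow_eq_one_of_factors (A : symplecticGroup (Fin n) F) (hA : (orderOf A).Coprime p)
    (h : ∀ Q : F[X], Q.Monic → Irreducible Q → Q ∣ (A : M2).charpoly → Q ∣ X ^ r - 1) : A ^ r = 1 := by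
  have h1 := dvd_pow_of_factors _ (Matrix.charpoly_monic (A : M2)) rfl h
  obtain ⟨k, hk⟩ : ∃ k, (A : M2).charpoly.natDegree ≤ p ^ k :=
    ⟨_, (Nat.lt_pow_self (Fact.out : p.Prime).one_lt).le⟩
  have h2 : (A : M2).charpoly ∣ X ^ (r * p ^ k) - 1 := by
    have h3 := h1.trans (pow_dvd_pow _ hk)
    rwa [sub_pow_char_pow, one_pow, ← pow_mul] at h3
  have h4 := aeval_eq_zero_of_dvd_aeval_eq_zero h2 (Matrix.aeval_self_charpoly (A : M2))
  rw [map_sub, map_pow, aeval_X, map_one, sub_eq_zero] at h4
  have h5 : A ^ (r * p ^ k) = 1 := Subtype.ext (by rw [SubmonoidClass.coe_pow, OneMemClass.coe_one, h4])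
  exact orderOf_dvd_iff_pow_eq_one.1 ((hA.pow_right k).dvd_of_dvd_mul_right (orderOf_dvd_of_pow_eq_one h5))

theorem natCard_pow_eq_one (hr : r.Prime) (hrp : r ≠ p) :
    Nat.card {c : ConjClasses (symplecticGroup (Fin n) F) //
      ∃ g : symplecticGroup (Fin n) F, ConjClasses.mk g = c ∧ g ^ r = 1} =
    Nat.card {f : F[X] // f.Monic ∧ f.reverse = f ∧ f.natDegree = 2 * n ∧
      ∀ Q : F[X], Q.Monic → Irreducible Q → Q ∣ f → Q ∣ X ^ r - 1} := by
  classical
  let cp : ConjClasses (symplecticGroup (Fin n) F) → F[X] :=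
    Quotient.lift (fun g : symplecticGroup (Fin n) F => (g : M2).charpoly) fun a b h => by
      obtain ⟨x, hx⟩ := MonoidHom.map_isConj (symplecticGroup (Fin n) F).subtype h
      show (a : M2).charpoly = (b : M2).charpoly
      have hx' : (x : M2) * (a : M2) * ((x⁻¹ : M2ˣ) : M2) = (b : M2) := by
        rw [show (x : M2) * (a : M2) = (b : M2) * (x : M2) from hx, mul_assoc, Units.mul_inv, mul_one]
      rw [← hx', Matrix.coe_units_inv, Matrix.charpoly_units_conj]
  have hcp : ∀ g : symplecticGroup (Fin n) F, cp (ConjClasses.mk g) = (g : M2).charpoly := fun g => rfl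
  have hco : ∀ g : symplecticGroup (Fin n) F, g ^ r = 1 → (orderOf g).Coprime p := fun g hg =>
    Nat.Coprime.coprime_dvd_left (orderOf_dvd_of_pow_eq_one hg)
      ((Nat.coprime_primes hr (Fact.out : p.Prime)).2 hrp)
  refine Nat.card_congr (Equiv.ofBijective (fun c => ⟨cp c.1, ?_⟩) ⟨?_, ?_⟩)
  · obtain ⟨g, hg, hgr⟩ := c.2
    rw [← hg, hcp]
    exact ⟨Matrix.charpoly_monic _, SemiSympExists.charpoly_symp g,
      by rw [Matrix.charpoly_natDegree_eq_dim, Fintype.card_sum, Fintype.card_fin, two_mul],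
      fun Q _ hQi hQ => factors_of_pow_eq_one g hgr Q hQi hQ⟩
  · rintro ⟨_, g, rfl, hg⟩ ⟨_, h, rfl, hh⟩ he
    have hpq := congrArg Subtype.val he
    simp only [hcp] at hpq
    exact Subtype.ext (ConjClasses.mk_eq_mk_iff_isConj.mpr
      (isConj_of_charpoly g h (hco g hg) (hco h hh) hpq))
  · rintro ⟨f, hf, hrev, hd, hall⟩
    obtain ⟨A, hA, hAf⟩ := SemiSympExists.exists_symp p f hf hrev hd
    exact ⟨⟨ConjClasses.mk A, A, rfl, pow_eq_one_of_factors A hA (hAf ▸ hall)⟩, Subtype.ext hAf⟩

omit [Fintype F] in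
/-- Classes of elements of order exactly `r`: one less. -/
theorem natCard_orderOf_eq (hr : r.Prime) :
    Nat.card {c : ConjClasses (symplecticGroup (Fin n) F) //
      ∃ g : symplecticGroup (Fin n) F, ConjClasses.mk g = c ∧ orderOf g = r} =
    Nat.card {c : ConjClasses (symplecticGroup (Fin n) F) //
      ∃ g : symplecticGroup (Fin n) F, ConjClasses.mk g = c ∧ g ^ r = 1} - 1 := by
  have : Fact r.Prime := ⟨hr⟩
  have hset : {c : ConjClasses (symplecticGroup (Fin n) F) | ∃ g, ConjClasses.mk g = c ∧ orderOf g = r} =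
      {c | ∃ g, ConjClasses.mk g = c ∧ g ^ r = 1} \ {ConjClasses.mk 1} := by
    ext c
    simp only [Set.mem_ofPred_eq, Set.mem_sdiff, Set.mem_singleton_iff]
    constructor
    · rintro ⟨g, rfl, hg⟩
      refine ⟨⟨g, rfl, hg ▸ pow_orderOf_eq_one g⟩, fun h => ?_⟩
      rw [ConjClasses.mk_eq_mk_iff_isConj] at h
      rw [isConj_one_left.1 h, orderOf_one] at hg
      exact hr.one_lt.ne hg
    · rintro ⟨⟨g, rfl, hg⟩, h⟩
      exact ⟨g, rfl, orderOf_eq_prime hg fun h1 => h (by rw [h1])⟩
  have h : ∀ P : ConjClasses (symplecticGroup (Fin n) F) → Prop, Nat.card {c // P c} = {c | P c}.ncard :=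
    fun P => Nat.card_coe_set_eq {c | P c}
  rw [h, h, hset, Set.ncard_sdiff_singleton_of_mem]
  exact ⟨1, rfl, one_pow r⟩

end Classes

end CfsgLib.Classical.SympOrderR
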