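import Mathlib
import Cfsg.Prelude
import Cfsg.Agent.Lib.BlockA.SylowSquares

/-!
Normal elementary abelian subgroups in monomial Sylow 2-subgroups of classical groups.
-/

set_option autoImplicit false
set_option linter.unusedSectionVars false

namespace CfsgLib.Classical.TwoRank

open Matrix CfsgLib.BlockA.SqComm CfsgLib.BlockA.SylowSquares

/-- A normal elementary abelian subgroup of a model of the Sylow group gives one in every Sylow group. -/
theorem exists_normal_of_embedding {A G : Type*} [Group A] [Group G] [Finite G] (f : A →* G)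
    (hf : Function.Injective f) (hA : Nat.card A = 2 ^ (Nat.card G).factorization 2)
    (Z : Subgroup A) (hZn : Z.Normal) (hZ : Cfsg.IsElementaryAbelian 2 Z) (S : Sylow 2 G) :
    ∃ E : Subgroup ↥(S : Subgroup G), E.Normal ∧ Cfsg.IsElementaryAbelian 2 E ∧
      Nat.card E = Nat.card Z := by
  haveI := Fact.mk Nat.prime_two
  have e0 : A ≃* f.range := MonoidHom.ofInjective hf
  let T : Sylow 2 G := Sylow.ofCard f.range (by rw [← Nat.card_congr e0.toEquiv, hA])
  obtain ⟨g, hg⟩ := MulAction.exists_smul_eq G T S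
  have e1 : (S : Subgroup G) = f.range.map (MulAut.conj g : G →* G) := by
    rw [← hg, Sylow.smul_def, Sylow.pointwise_smul_def]
    rfl
  let e : A ≃* ↥(S : Subgroup G) :=
    (e0.trans (f.range.equivMapOfInjective (MulAut.conj g : G →* G) (MulAut.conj g).injective)).trans
      (MulEquiv.subgroupCongr e1.symm)
  refine ⟨Z.map e.toMonoidHom, Subgroup.Normal.map hZn _ e.surjective, ⟨?_, ?_⟩,
    (Nat.card_congr (Z.equivMapOfInjective _ e.injective).toEquiv).symm⟩
  · refine isMulCommutative_iff.2 ?_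
    rintro ⟨_, a, ha, rfl⟩ ⟨_, b, hb, rfl⟩
    have := congrArg Subtype.val (isMulCommutative_iff.1 hZ.1 ⟨a, ha⟩ ⟨b, hb⟩)
    exact Subtype.ext (by
      show e a * e b = e b * e a
      rw [← map_mul, ← map_mul, show a * b = b * a from this])
  · rintro _ ⟨a, ha, rfl⟩
    rw [← map_pow, hZ.2 a ha, map_one]

universe u

variable {F : Type u} [Field F] [Fintype F] {m r : ℕ}

local notation "G2" => GL (Fin 2) F
local notation "Blk" => Matrix (Fin 2 × Fin m) (Fin 2 × Fin m) F

/-- The model: monomial blocks and `r` diagonal entries. -/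
def blockHom : Wr m G2 × (Fin r → Fˣ) →* GL ((Fin 2 × Fin m) ⊕ Fin r) F :=
  MonoidHom.toHomUnits
    { toFun := fun x => Matrix.fromBlocks ((monHom x.1 : GL (Fin 2 × Fin m) F) : Blk) 0 0
        (Matrix.diagonal fun i => (x.2 i : F))
      map_one' := by simp [Matrix.fromBlocks_one]
      map_mul' := fun x y => by simp [Matrix.fromBlocks_multiply, Matrix.diagonal_mul_diagonal] }

theorem blockHom_injective : Function.Injective (blockHom (F := F) (m := m) (r := r)) := fun x y h => by
  obtain ⟨h1, -, -, h2⟩ := Matrix.fromBlocks_inj.1 (congrArg Units.val h)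
  exact Prod.ext (monHom_injective (Units.ext h1))
    (funext fun i => Units.ext (congrFun (Matrix.diagonal_injective h2) i))

theorem sub_normal {D : Type*} [Group D] (R : Subgroup (Equiv.Perm (Fin m))) (E Z : Subgroup D)
    (hn : ∀ e ∈ E, ∀ z ∈ Z, e * z * e⁻¹ ∈ Z) :
    ((sub (m := m) (⊥ : Subgroup (Equiv.Perm (Fin m))) Z).subgroupOf (sub R E)).Normal := by
  refine ⟨fun x hx y => ?_⟩
  rw [Subgroup.mem_subgroupOf] at hx ⊢
  obtain ⟨hx1, hx2⟩ := hx
  rw [Subgroup.mem_bot] at hx1
  refine ⟨?_, fun i => ?_⟩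
  · simp [hx1]
  · have key : ∀ a b : Wr m D, b.right = 1 →
        (a * b * a⁻¹).left i = a.left i * b.left (a.right.symm i) * (a.left i)⁻¹ := by
      intro a b hb
      simp [hb, permAut, mul_assoc, Equiv.Perm.inv_def, show (1 : Equiv.Perm (Fin m)).symm = 1 from rfl]
    show ((y : Wr m D) * (x : Wr m D) * (y : Wr m D)⁻¹).left i ∈ Z
    rw [key _ _ hx1]
    exact hn _ (y.2.2 i) _ (hx2 _)

theorem sub_elemAb {D : Type*} [Group D] (R : Subgroup (Equiv.Perm (Fin m))) (E Z : Subgroup D)
    (hZ : Cfsg.IsElementaryAbelian 2 Z) :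
    Cfsg.IsElementaryAbelian 2
      ((sub (m := m) (⊥ : Subgroup (Equiv.Perm (Fin m))) Z).subgroupOf (sub R E)) := by
  have hmul : ∀ a b : Wr m D, a.right = 1 → ∀ i, (a * b).left i = a.left i * b.left i := by
    intro a b ha i
    simp [ha]
  refine ⟨isMulCommutative_iff.2 ?_, ?_⟩
  · rintro ⟨⟨a, _⟩, ha1, ha2⟩ ⟨⟨b, _⟩, hb1, hb2⟩
    refine Subtype.ext (Subtype.ext (SemidirectProduct.ext (funext fun i => ?_) ?_))
    · show (a * b).left i = (b * a).left i
      rw [hmul a b ha1, hmul b a hb1]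
      exact congrArg Subtype.val (isMulCommutative_iff.1 hZ.1 ⟨_, ha2 i⟩ ⟨_, hb2 i⟩)
    · show (a * b).right = (b * a).right
      rw [SemidirectProduct.mul_right, SemidirectProduct.mul_right,
        show a.right = 1 from ha1, show b.right = 1 from hb1]
  · rintro ⟨a, ha⟩ ⟨ha1, ha2⟩
    refine Subtype.ext (SemidirectProduct.ext (funext fun i => ?_) ?_)
    · show (a ^ 2).left i = 1
      rw [sq, hmul a a ha1, ← sq]
      exact hZ.2 _ (ha2 i)
    · show (a ^ 2).right = 1
      rw [sq, SemidirectProduct.mul_right, show a.right = 1 from ha1, one_mul]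

theorem card_sub_bot {D : Type*} [Group D] {R : Subgroup (Equiv.Perm (Fin m))} {E Z : Subgroup D}
    (hZE : Z ≤ E) :
    Nat.card ((sub (m := m) (⊥ : Subgroup (Equiv.Perm (Fin m))) Z).subgroupOf (sub R E)) =
      Nat.card Z ^ m := by
  rw [Nat.card_congr (Subgroup.subgroupOfEquivOfLe
    (show sub (⊥ : Subgroup (Equiv.Perm (Fin m))) Z ≤ sub R E from
      fun x hx => ⟨(bot_le : ⊥ ≤ R) hx.1, fun i => hZE (hx.2 i)⟩)).toEquiv, card_sub,
    Subgroup.card_bot, mul_one]

/-- The general linear case from data in `GL₂`. -/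
theorem gl_lower_of_local (hodd : Odd (Fintype.card F)) {D Z : Subgroup G2} (hZD : Z ≤ D)
    (hD : Nat.card D = 2 ^ (padicValNat 2 (Fintype.card F - 1) + padicValNat 2 (Fintype.card F ^ 2 - 1)))
    (hn : ∀ e ∈ D, ∀ z ∈ Z, e * z * e⁻¹ ∈ Z) (hZ : Cfsg.IsElementaryAbelian 2 Z)
    {n : ℕ} (hnr : n = 2 * m + r) (hr : r ≤ 1) (S : Sylow 2 (GL (Fin n) F)) :
    ∃ E : Subgroup ↥(S : Subgroup (GL (Fin n) F)), E.Normal ∧ Cfsg.IsElementaryAbelian 2 E ∧
      Nat.card E = Nat.card Z ^ m * 2 ^ r := by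
  classical
  haveI := Fact.mk Nat.prime_two
  set c := padicValNat 2 (Fintype.card F - 1) with hc
  obtain ⟨R⟩ : Nonempty (Sylow 2 (Equiv.Perm (Fin m))) := inferInstance
  set T : Subgroup Fˣ := (powMonoidHom (2 ^ c)).ker with hT
  have hTc : Nat.card T = 2 ^ c := by
    rw [hT, IsCyclic.card_powMonoidHom_ker, Nat.card_units, Nat.card_eq_fintype_card (α := F),
      Nat.gcd_eq_right (by rw [hc]; exact pow_padicValNat_dvd)]
  have hc0 : 1 ≤ c := by
    have := hodd.not_two_dvd_nat
    have : 1 < Fintype.card F := Fintype.one_lt_card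
    exact one_le_padicValNat_of_dvd (by omega) (by omega)
  set U := sub (R : Subgroup (Equiv.Perm (Fin m))) D with hU
  let e : (Fin 2 × Fin m) ⊕ Fin r ≃ Fin n :=
    ((Equiv.sumCongr finProdFinEquiv (Equiv.refl _)).trans finSumFinEquiv).trans (finCongr hnr.symm)
  let f : U × (Fin r → T) →* GL (Fin n) F :=
    (Units.map (Matrix.reindexAlgEquiv F F e).toMonoidHom).comp ((blockHom).comp
      (U.subtype.prodMap (MonoidHom.piMap fun _ => T.subtype)))
  have hf : Function.Injective f := fun a b h => by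
    have h1 := blockHom_injective (Units.ext ((Matrix.reindexAlgEquiv F F e).injective (congrArg Units.val h)))
    exact Prod.ext (Subtype.ext (congrArg Prod.fst h1))
      (funext fun i => Subtype.ext (congrFun (congrArg Prod.snd h1) i))
  haveI : (((sub (m := m) (⊥ : Subgroup (Equiv.Perm (Fin m))) Z).subgroupOf U)).Normal :=
    sub_normal _ _ _ hn
  set W : Subgroup (Fin r → T) := (powMonoidHom 2).ker with hW
  have hWc : Nat.card W = 2 ^ r := by
    have hT2 : Nat.card (powMonoidHom (α := T) 2).ker = 2 := by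
      rw [IsCyclic.card_powMonoidHom_ker, hTc]
      exact Nat.gcd_eq_right (dvd_pow_self 2 (by omega))
    have e : W ≃ (Fin r → (powMonoidHom (α := T) 2).ker) :=
      { toFun := fun w i => ⟨w.1 i, congrFun w.2 i⟩
        invFun := fun w => ⟨fun i => (w i).1, funext fun i => (w i).2⟩
        left_inv := fun w => rfl
        right_inv := fun w => rfl }
    rw [Nat.card_congr e, Nat.card_fun, hT2, Nat.card_fin]
  set Y : Subgroup (U × (Fin r → T)) :=
    ((sub (m := m) (⊥ : Subgroup (Equiv.Perm (Fin m))) Z).subgroupOf U).prod W with hY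
  have hZU := sub_elemAb (R : Subgroup (Equiv.Perm (Fin m))) D Z hZ
  have hcard : Nat.card (U × (Fin r → T)) = 2 ^ (Nat.card (GL (Fin n) F)).factorization 2 := by
    rw [Nat.card_prod, hU, card_sub, card_sylow_perm, hD, Nat.card_fun, hTc, Nat.card_fin,
      val_card_gl hodd, ← pow_mul, ← pow_mul, ← pow_add, ← pow_add,
      show n / 2 = m by omega, show n - m = m + r by omega, ← hc]
    ring_nf
  have hY1 : IsMulCommutative Y := by
    refine isMulCommutative_iff.2 ?_
    rintro ⟨⟨a1, a2⟩, ha⟩ ⟨⟨b1, b2⟩, hb⟩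
    exact Subtype.ext (Prod.ext
      (congrArg Subtype.val (isMulCommutative_iff.1 hZU.1 ⟨a1, ha.1⟩ ⟨b1, hb.1⟩)) (mul_comm a2 b2))
  have hY2 : ∀ a ∈ Y, a ^ 2 = 1 := by
    rintro ⟨a1, a2⟩ ha
    exact Prod.ext (hZU.2 a1 ha.1) ha.2
  obtain ⟨E, hE1, hE2, hE3⟩ :=
    exists_normal_of_embedding f hf hcard Y (Subgroup.prod_normal _ _) ⟨hY1, hY2⟩ S
  refine ⟨E, hE1, hE2, hE3.trans ?_⟩
  rw [hY, Nat.card_congr (Subgroup.prodEquiv _ _).toEquiv, Nat.card_prod, card_sub_bot hZD, hWc]

theorem elemAb_zpowers_neg_one {G : Type*} [Group G] [HasDistribNeg G] :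
    Cfsg.IsElementaryAbelian 2 (Subgroup.zpowers (-1 : G)) := by
  refine ⟨inferInstance, ?_⟩
  rintro _ ⟨k, rfl⟩
  rw [← _root_.zpow_natCast, ← _root_.zpow_mul, mul_comm, _root_.zpow_mul, _root_.zpow_natCast]
  simp

theorem card_zpowers_neg_one (hodd : Odd (Fintype.card F)) :
    Nat.card (Subgroup.zpowers (-1 : G2)) = 2 := by
  rw [Nat.card_zpowers]
  refine orderOf_eq_prime (by simp) fun h => ?_
  have h2 : (2 : F) ≠ 0 := Ring.two_ne_zero fun h' => by
    have := FiniteField.even_card_iff_char_two.1 h'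
    have := Nat.odd_iff.1 hodd
    omega
  have := congrArg (fun g : G2 => (g : Matrix (Fin 2) (Fin 2) F) 0 0) h
  simp at this
  exact h2 (by linear_combination -this)

/-- `q ≡ 3 (mod 4)`. -/
theorem gl_lower_three (hodd : Odd (Fintype.card F)) {n : ℕ} (S : Sylow 2 (GL (Fin n) F)) :
    ∃ E : Subgroup ↥(S : Subgroup (GL (Fin n) F)), E.Normal ∧ Cfsg.IsElementaryAbelian 2 E ∧
      2 ^ ((n + 1) / 2) ≤ Nat.card E := by
  haveI := Fact.mk Nat.prime_two
  have hp : IsPGroup 2 (Subgroup.zpowers (-1 : G2)) :=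
    IsPGroup.of_card (n := 1) (by rw [card_zpowers_neg_one hodd, pow_one])
  obtain ⟨D, hD⟩ := hp.exists_le_sylow
  obtain ⟨E, h1, h2, h3⟩ := gl_lower_of_local (m := n / 2) (r := n % 2) hodd hD
    (by rw [D.card_eq_multiplicity, val_card_gl hodd]; congr 1; simp)
    (fun e _ z hz => by
      obtain ⟨k, rfl⟩ := hz
      have : Commute e ((-1 : G2) ^ k) := (Commute.neg_one_right e).zpow_right k
      rw [show e * (-1 : G2) ^ k * e⁻¹ = (-1 : G2) ^ k by rw [this.eq, mul_inv_cancel_right]]
      exact ⟨k, rfl⟩)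
    elemAb_zpowers_neg_one (by omega) (by omega) S
  refine ⟨E, h1, h2, le_of_eq ?_⟩
  rw [h3, card_zpowers_neg_one hodd, ← pow_add]
  congr 1
  omega

/-- `q ≡ 1 (mod 4)`. -/
theorem gl_lower_one (hq : Fintype.card F % 4 = 1) {n : ℕ} (S : Sylow 2 (GL (Fin n) F)) :
    ∃ E : Subgroup ↥(S : Subgroup (GL (Fin n) F)), E.Normal ∧ Cfsg.IsElementaryAbelian 2 E ∧
      2 ^ n ≤ Nat.card E := by
  classical
  haveI := Fact.mk Nat.prime_two
  have hodd : Odd (Fintype.card F) := Nat.odd_iff.2 (by omega)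
  have h1q : 1 < Fintype.card F := Fintype.one_lt_card
  set c := padicValNat 2 (Fintype.card F - 1) with hc
  have hv : padicValNat 2 (Fintype.card F ^ 2 - 1) = c + 1 := by
    rw [show Fintype.card F ^ 2 - 1 = (Fintype.card F - 1) * (Fintype.card F + 1) by
      rw [mul_comm, ← Nat.sq_sub_sq, one_pow], padicValNat.mul (by omega) (by omega), ← hc]
    congr 1
    have e : Fintype.card F + 1 = 2 * (2 * (Fintype.card F / 4) + 1) := by omega
    rw [e, padicValNat.mul (by omega) (by omega), padicValNat.self one_lt_two,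
      padicValNat.eq_zero_of_not_dvd (by omega)]
  have h2 : (2 : F) ≠ 0 := Ring.two_ne_zero fun h' => by
    have := FiniteField.even_card_iff_char_two.1 h'
    omega
  set s : Subgroup Fˣ := Subgroup.zpowers (-1 : Fˣ) with hs
  have hsc : Nat.card s = 2 := by
    rw [hs, Nat.card_zpowers]
    refine orderOf_eq_prime (by simp) fun h => h2 ?_
    have := congrArg Units.val h
    simp at this
    linear_combination -this
  set d : Fˣ × Fˣ →* G2 := CfsgLib.Invol.diag2 with hd
  have hdi : Function.Injective d := CfsgLib.Invol.diag2_injective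
  set Z : Subgroup G2 := (s.prod s).map d with hZdef
  set R1 : Subgroup G2 := d.range with hR1
  let w : G2 := GeneralLinearGroup.mkOfDetNeZero !![0, 1; 1, 0] (by simp [Matrix.det_fin_two])
  have hwd : ∀ x : Fˣ × Fˣ, w * d x * w⁻¹ = d (x.2, x.1) := fun x => by
    rw [mul_inv_eq_iff_eq_mul]
    refine Units.ext ?_
    simp only [Units.val_mul, hd, CfsgLib.Invol.diag2_coe]
    show (!![0, 1; 1, 0] : Matrix (Fin 2) (Fin 2) F) * _ = _ * !![0, 1; 1, 0]
    simp
  have hww : w * w = 1 := Units.ext (by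
    show (!![0, 1; 1, 0] : Matrix (Fin 2) (Fin 2) F) * !![0, 1; 1, 0] = 1
    simp [Matrix.one_fin_two])
  have hwn : ∀ H : Subgroup (Fˣ × Fˣ), (∀ x ∈ H, (x.2, x.1) ∈ H) → w ∈ Subgroup.normalizer ((H.map d : Subgroup G2) : Set G2) := by
    intro H hH
    have hsw : ∀ x ∈ H.map d, w * x * w⁻¹ ∈ H.map d := by
      rintro _ ⟨x, hx, rfl⟩
      exact ⟨_, hH x hx, (hwd x).symm⟩
    have hwi : w⁻¹ = w := inv_eq_of_mul_eq_one_right hww
    refine Subgroup.mem_normalizer_iff.2 fun x => ⟨hsw x, fun hx => ?_⟩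
    have := hsw _ hx
    rwa [hwi, show w * (w * x * w) * w = (w * w) * x * (w * w) by group, hww, one_mul, mul_one] at this
  set K : Subgroup G2 := Subgroup.normalizer (R1 : Set G2) ⊓ Subgroup.normalizer (Z : Set G2) with hK
  have hwK : w ∈ K := ⟨by rw [hR1, MonoidHom.range_eq_map]; exact hwn ⊤ fun x _ => trivial,
    hwn _ fun x hx => ⟨hx.2, hx.1⟩⟩
  have hRK : R1 ≤ K := by
    refine le_inf Subgroup.le_normalizer ?_
    rintro _ ⟨x, rfl⟩
    refine Subgroup.mem_normalizer_iff.2 fun y => ?_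
    constructor
    · rintro ⟨z, hz, rfl⟩
      exact ⟨z, hz, by rw [← map_inv, ← map_mul, ← map_mul, mul_comm x z, mul_inv_cancel_right]⟩
    · rintro ⟨z, hz, hzy⟩
      refine ⟨z, hz, ?_⟩
      have : y = (d x)⁻¹ * d z * d x := by rw [hzy]; group
      rw [this, ← map_inv, ← map_mul, ← map_mul, mul_comm x⁻¹ z, inv_mul_cancel_right]
  haveI hRn : (R1.subgroupOf K).Normal :=
    Subgroup.normal_subgroupOf_iff_le_normalizer hRK |>.2 inf_le_left
  have hwR : (⟨w, hwK⟩ : K) ∉ R1.subgroupOf K := by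
    rintro ⟨x, hx⟩
    have := congrArg (fun g : G2 => (g : Matrix (Fin 2) (Fin 2) F) 0 1) hx
    simp [hd, CfsgLib.Invol.diag2_coe, w] at this
  have hdvd : 2 ^ (2 * c + 1) ∣ Nat.card K := by
    rw [← (R1.subgroupOf K).index_mul_card,
      Nat.card_congr (Subgroup.subgroupOfEquivOfLe hRK).toEquiv, mul_comm (R1.subgroupOf K).index, pow_succ]
    refine Nat.mul_dvd_mul ?_ ?_
    · rw [hR1, ← Nat.card_congr (MonoidHom.ofInjective hdi).toEquiv, Nat.card_prod, Nat.card_units,
        Nat.card_eq_fintype_card (α := F), two_mul, pow_add]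
      exact Nat.mul_dvd_mul pow_padicValNat_dvd pow_padicValNat_dvd
    · have ho : orderOf (QuotientGroup.mk ⟨w, hwK⟩ : K ⧸ R1.subgroupOf K) = 2 := by
        refine orderOf_eq_prime ?_ fun h => hwR ((QuotientGroup.eq_one_iff _).1 h)
        rw [← QuotientGroup.mk_pow, show (⟨w, hwK⟩ : K) ^ 2 = 1 from Subtype.ext (by rw [sq]; exact hww)]
        rfl
      have := orderOf_dvd_natCard (QuotientGroup.mk ⟨w, hwK⟩ : K ⧸ R1.subgroupOf K)
      rw [ho] at this
      exact this
  obtain ⟨D0, hD0⟩ := Sylow.exists_subgroup_card_pow_prime 2 hdvd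
  set D : Subgroup G2 := D0.map K.subtype with hDdef
  have hDc : Nat.card D = 2 ^ (2 * c + 1) := by
    rw [← hD0]; exact (Nat.card_congr (D0.equivMapOfInjective _ K.subtype_injective).toEquiv).symm
  have hDn : D ≤ Subgroup.normalizer (Z : Set G2) := by
    rintro _ ⟨x, -, rfl⟩; exact x.2.2
  have hZc : Nat.card Z = 4 := by
    rw [hZdef, ← Nat.card_congr ((s.prod s).equivMapOfInjective d hdi).toEquiv,
      Nat.card_congr (Subgroup.prodEquiv s s).toEquiv, Nat.card_prod, hsc]
  have hmult : (Nat.card G2).factorization 2 = 2 * c + 1 := by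
    rw [val_card_gl hodd, hv, ← hc]; simp; omega
  have hZD : Z ≤ D := by
    have hp : IsPGroup 2 (D ⊔ Z : Subgroup G2) :=
      IsPGroup.to_sup_of_normal_right' (IsPGroup.of_card hDc) (IsPGroup.of_card (n := 2) (by rw [hZc]; rfl)) hDn
    let DS : Sylow 2 G2 := Sylow.ofCard D (by rw [hDc, hmult])
    have := DS.3 hp le_sup_left
    rw [← show D ⊔ Z = D from this]
    exact le_sup_right
  have hZe : Cfsg.IsElementaryAbelian 2 Z := by
    refine ⟨inferInstance, ?_⟩
    rintro _ ⟨⟨a, b⟩, ⟨ha, hb⟩, rfl⟩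
    have hh : ∀ a ∈ s, a ^ 2 = 1 := (elemAb_zpowers_neg_one (G := Fˣ)).2
    rw [← map_pow, show ((a, b) : Fˣ × Fˣ) ^ 2 = 1 from Prod.ext (hh a ha) (hh b hb), map_one]
  obtain ⟨E, h1, h2, h3⟩ := gl_lower_of_local (m := n / 2) (r := n % 2) hodd hZD
    (by rw [hDc, hv]; congr 1; omega)
    (fun e he z hz => (Subgroup.mem_normalizer_iff.1 (hDn he) z).1 hz) hZe (by omega) (by omega) S
  refine ⟨E, h1, h2, le_of_eq ?_⟩
  rw [h3, hZc, show (4 : ℕ) = 2 ^ 2 from rfl, ← pow_mul, ← pow_add]
  congr 1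
  omega

/-- The symplectic case. -/
theorem sp_lower (hodd : Odd (Fintype.card F)) (P : Sylow 2 (Matrix.symplecticGroup (Fin m) F)) :
    ∃ E : Subgroup ↥(P : Subgroup (Matrix.symplecticGroup (Fin m) F)), E.Normal ∧
      Cfsg.IsElementaryAbelian 2 E ∧ 2 ^ m ≤ Nat.card E := by
  classical
  haveI := Fact.mk Nat.prime_two
  obtain ⟨D, h, z, -, -, -, -, -, -, -, hQc⟩ := exists_local (F := F) hodd
  set Z : Subgroup G2 := Subgroup.zpowers (-1 : G2) with hZdef
  set E0 := D ⊓ GeneralLinearGroup.det.ker with hE0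
  -- adjoin the centre
  set E := E0 ⊔ Z with hE
  have hcomm : ∀ g : G2, ∀ x ∈ Z, g * x = x * g := by
    rintro g _ ⟨k, rfl⟩
    exact ((Commute.neg_one_right g).zpow_right k).eq
  have hdet : E ≤ (GeneralLinearGroup.det : G2 →* Fˣ).ker := by
    refine sup_le inf_le_right (Subgroup.zpowers_le.2 (Units.ext ?_))
    simp [Matrix.det_neg]
  have hEc : Nat.card E = 2 ^ padicValNat 2 (Fintype.card F ^ 2 - 1) := by
    have hp : IsPGroup 2 E := IsPGroup.to_sup_of_normal_right' (IsPGroup.of_card hQc)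
      (IsPGroup.of_card (n := 1) (by rw [card_zpowers_neg_one hodd, pow_one]))
      fun g _ => Subgroup.mem_normalizer_iff.2 fun x => by
        constructor
        · intro hx; rwa [hcomm g x hx, mul_inv_cancel_right]
        · intro hx
          have e : g * x * g⁻¹ = x := by
            have := hcomm g⁻¹ _ hx
            rw [show g⁻¹ * (g * x * g⁻¹) = x * g⁻¹ by group] at this
            exact (mul_right_cancel this).symm
          rwa [e] at hx
    obtain ⟨k, hk⟩ := hp.exists_card_eq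
    have hle : E ≤ (Matrix.SpecialLinearGroup.toGL :
        Matrix.SpecialLinearGroup (Fin 2) F →* G2).range := fun x hx =>
      ⟨⟨(x : Matrix (Fin 2) (Fin 2) F), by simpa using congrArg Units.val (hdet hx)⟩, Units.ext rfl⟩
    have hd1 : Nat.card E ∣ Nat.card (Matrix.SpecialLinearGroup (Fin 2) F) := by
      rw [← card_comap (Matrix.SpecialLinearGroup.toGL_injective (n := Fin 2) (R := F)) hle]
      exact Subgroup.card_subgroup_dvd_card _
    rw [hk, Nat.Prime.pow_dvd_iff_le_factorization Nat.prime_two Nat.card_pos.ne'] at hd1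
    have h1 : (Nat.card (Matrix.SpecialLinearGroup (Fin 2) F)).factorization 2 +
        padicValNat 2 (Fintype.card F - 1) = (Nat.card (GL (Fin 2) F)).factorization 2 := val_card_sl 1
    rw [val_card_gl hodd, show 2 / 2 = 1 from rfl, show 2 - 1 = 1 from rfl, Nat.factorial_one,
      padicValNat.one] at h1
    have h2 : Nat.card E0 ∣ Nat.card E := Subgroup.card_dvd_of_le le_sup_left
    rw [hQc, hk, Nat.pow_dvd_pow_iff_le_right one_lt_two] at h2
    rw [hk]; congr 1; omega
  obtain ⟨R⟩ : Nonempty (Sylow 2 (Equiv.Perm (Fin m))) := inferInstance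
  set U := sub (R : Subgroup (Equiv.Perm (Fin m))) E with hU
  let e : Fin 2 × Fin m ≃ Fin m ⊕ Fin m :=
    ((Equiv.prodCongrLeft fun _ => finTwoEquiv).trans (Equiv.boolProdEquivSum _))
  let J2 : Matrix (Fin 2) (Fin 2) F := !![0, -1; 1, 0]
  have hJ : Matrix.reindex e e (Matrix.blockDiagonal fun _ : Fin m => J2) = Matrix.J (Fin m) F := by
    ext r c
    rcases r with i | i <;> rcases c with j | j <;>
      simp [e, J2, Matrix.J, Matrix.blockDiagonal_apply, Matrix.one_apply, Equiv.boolProdEquivSum,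
        finTwoEquiv, apply_ite Neg.neg] <;> split_ifs <;> simp
  have hmem : ∀ x ∈ U, Matrix.reindex e e ((monHom x : GL (Fin 2 × Fin m) F) :
      Matrix (Fin 2 × Fin m) (Fin 2 × Fin m) F) ∈ Matrix.symplecticGroup (Fin m) F := by
    intro x hx
    rw [SymplecticGroup.mem_iff, ← hJ]
    simp only [Matrix.reindex_apply, Matrix.transpose_submatrix, Matrix.submatrix_mul_equiv]
    congr 1
    rw [monHom_apply, Units.val_mul, coe_permHom, coe_diagHom, Matrix.transpose_mul]
    have hP : (pmat x.right : Blk) * Matrix.blockDiagonal (fun _ : Fin m => J2) *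
        (pmat x.right)ᵀ = Matrix.blockDiagonal fun _ : Fin m => J2 := by
      have h1 : ((pmat x.right)ᵀ : Blk) = pmat x.right⁻¹ := by
        ext r c
        simp only [Matrix.transpose_apply, pmat, Matrix.of_apply]
        refine if_congr ?_ rfl rfl
        rw [Prod.ext_iff, Prod.ext_iff]
        constructor
        · rintro ⟨h1, h2⟩; exact ⟨h1.symm, by rw [h2]; simp⟩
        · rintro ⟨h1, h2⟩; exact ⟨h1.symm, by rw [h2]; simp⟩
      rw [h1]
      ext r c
      rw [mul_pmat_apply, pmat_mul_apply, Matrix.blockDiagonal_apply, Matrix.blockDiagonal_apply]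
      simp
    rw [mul_assoc, mul_assoc, ← mul_assoc (pmat x.right), ← mul_assoc (pmat x.right * _), hP,
      Matrix.blockDiagonal_transpose, ← Matrix.blockDiagonal_mul, ← Matrix.blockDiagonal_mul]
    congr 1
    funext i
    have hd : ((x.left i : G2) : Matrix (Fin 2) (Fin 2) F).det = 1 := by
      simpa using congrArg Units.val (hdet (hx.2 i))
    rw [Matrix.det_fin_two] at hd
    rw [Matrix.eta_fin_two ((x.left i : G2) : Matrix (Fin 2) (Fin 2) F)]
    ext a b
    fin_cases a <;> fin_cases b <;>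
      simp [J2, Matrix.mul_apply, Fin.sum_univ_two, Matrix.vecMul, dotProduct] <;>
      first
      | linear_combination hd
      | linear_combination -hd
      | linear_combination 2 * hd
      | linear_combination -2 * hd
      | ring
  let f : U →* Matrix.symplecticGroup (Fin m) F :=
    MonoidHom.codRestrict ((Matrix.reindexAlgEquiv F F e).toMonoidHom.comp
      ((Units.coeHom _).comp (monHom.comp U.subtype))) _ fun x => hmem x x.2
  have hf : Function.Injective f := fun a b hab => by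
    have h1 : Matrix.reindexAlgEquiv F F e ((monHom (a : Wr m G2) : GL (Fin 2 × Fin m) F) :
        Matrix (Fin 2 × Fin m) (Fin 2 × Fin m) F) =
        Matrix.reindexAlgEquiv F F e (monHom (b : Wr m G2) : GL (Fin 2 × Fin m) F) :=
      congrArg Subtype.val hab
    exact Subtype.ext (monHom_injective (Units.ext ((Matrix.reindexAlgEquiv F F e).injective h1)))
  have hn : ∀ e ∈ E, ∀ x ∈ Z, e * x * e⁻¹ ∈ Z := fun e _ x hx => by
    rwa [hcomm e x hx, mul_inv_cancel_right]
  obtain ⟨Y, hY1, hY2, hY3⟩ := exists_normal_of_embedding f hf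
    (by rw [hU, card_sub, hEc, card_sylow_perm, ← pow_mul, ← pow_add, val_sp hodd, mul_comm]) _
    (sub_normal _ _ _ hn) (sub_elemAb _ _ _ elemAb_zpowers_neg_one) P
  refine ⟨Y, hY1, hY2, le_of_eq ?_⟩
  rw [hY3, card_sub_bot le_sup_right, card_zpowers_neg_one hodd]

end CfsgLib.Classical.TwoRank
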