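import Mathlib
import Cfsg.Agent.Lib.Geom.IsoStab
import Cfsg.Agent.Lib.BlockA.SylowSquares

/-!
Elementary abelian 2-groups of linear maps in odd characteristic: joint eigenspaces, and the bound
on those normalised by a Sylow 2-subgroup when `q ≡ 3 (mod 4)`.
-/

set_option autoImplicit false

namespace CfsgLib.Classical.TwoRank

open Module

variable {F : Type*} [Field F] {V : Type*} [AddCommGroup V] [Module F V]
variable {E : Type*} [Group E]

/-- The sign attached to a Boolean. -/
def sgn (F : Type*) [Field F] (b : Bool) : F := if b then -1 else 1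

/-- The joint eigenspace for a choice of signs. -/
def eig (ρ : E →* (V ≃ₗ[F] V)) (f : E → Bool) : Submodule F V :=
  ⨅ a, Module.End.eigenspace (ρ a : V →ₗ[F] V) (sgn F (f a))

theorem mem_eig {ρ : E →* (V ≃ₗ[F] V)} {f : E → Bool} {v : V} :
    v ∈ eig ρ f ↔ ∀ a, ρ a v = sgn F (f a) • v := by
  simp [eig, Submodule.mem_iInf]

theorem sgn_injective (h2 : (2 : F) ≠ 0) : Function.Injective (sgn F) := by
  have h : (-1 : F) ≠ 1 := fun h => h2 (by linear_combination -h)
  intro a b hab
  cases a <;> cases b <;> simp_all [sgn, eq_comm]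

theorem eig_indep (h2 : (2 : F) ≠ 0) (ρ : E →* (V ≃ₗ[F] V)) (hc : ∀ a b : E, Commute a b) :
    iSupIndep (eig ρ) := by
  have h := (Module.End.independent_iInf_maxGenEigenspace_of_forall_mapsTo
    (fun a : E => (ρ a : V →ₗ[F] V)) (fun i j φ => Module.End.mapsTo_maxGenEigenspace_of_comm
      (show Commute (ρ j : V →ₗ[F] V) (ρ i : V →ₗ[F] V) from LinearMap.ext fun v => by
        have := congrArg (fun g : V ≃ₗ[F] V => g v) ((hc j i).map ρ).eq
        simpa using this) φ)).comp
    (f := fun f : E → Bool => fun a => sgn F (f a))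
    (fun f g hfg => funext fun a => sgn_injective h2 (congrFun hfg a))
  exact h.mono fun f => iInf_mono fun a => Module.End.eigenspace_le_maxGenEigenspace

theorem eig_top [Finite E] (h2 : (2 : F) ≠ 0) (ρ : E →* (V ≃ₗ[F] V))
    (hc : ∀ a b : E, Commute a b) (hi : ∀ a : E, a ^ 2 = 1) : ⨆ f, eig ρ f = ⊤ := by
  classical
  cases nonempty_fintype E
  have key : ∀ s : Finset E, ∀ x : V, x ∈ ⨆ f : E → Bool, ⨅ a ∈ s,
      Module.End.eigenspace (ρ a : V →ₗ[F] V) (sgn F (f a)) := by
    intro s
    induction s using Finset.induction_on with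
    | empty =>
      intro x
      exact Submodule.mem_iSup_of_mem (fun _ => false) (by simp)
    | insert a s ha ih =>
      intro x
      refine Submodule.iSup_induction
        (p := fun f : E → Bool => ⨅ b ∈ s, Module.End.eigenspace (ρ b : V →ₗ[F] V) (sgn F (f b)))
        (motive := fun y => y ∈ ⨆ f : E → Bool, ⨅ b ∈ insert a s,
          Module.End.eigenspace (ρ b : V →ₗ[F] V) (sgn F (f b)))
        (ih x) (fun f y hy => ?_) (Submodule.zero_mem _) (fun y z hy hz => Submodule.add_mem _ hy hz)
      simp only [Submodule.mem_iInf, Module.End.mem_eigenspace_iff, LinearEquiv.coe_coe] at hy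
      have haa : ρ a (ρ a y) = y := by
        rw [← LinearEquiv.mul_apply, ← map_mul, ← sq, hi, map_one]
        rfl
      have hy' : y = (2 : F)⁻¹ • (y + ρ a y) + (2 : F)⁻¹ • (y - ρ a y) := by
        rw [← smul_add, add_add_sub_cancel, ← two_smul F, smul_smul, inv_mul_cancel₀ h2, one_smul]
      rw [hy']
      have hb : ∀ b ∈ s, ρ b (ρ a y) = sgn F (f b) • ρ a y := fun b hb => by
        rw [← LinearEquiv.mul_apply, ← map_mul, (hc b a).eq, map_mul, LinearEquiv.mul_apply,
          hy b hb, map_smul]
      refine Submodule.add_mem _ (Submodule.mem_iSup_of_mem (Function.update f a false) ?_)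
        (Submodule.mem_iSup_of_mem (Function.update f a true) ?_)
      all_goals
        simp only [Submodule.mem_iInf, Module.End.mem_eigenspace_iff, LinearEquiv.coe_coe]
        intro b hbm
        rcases Finset.mem_insert.1 hbm with rfl | hbm
        · simp [sgn, haa, smul_add, smul_sub, add_comm]
          try abel
        · have hne : b ≠ a := fun e => ha (e ▸ hbm)
          simp [Function.update_of_ne hne, hy b hbm, hb b hbm, smul_add, smul_sub, smul_smul,
            mul_comm]
  refine eq_top_iff.2 fun x _ => ?_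
  simpa [eig] using key Finset.univ x

/-- An exponent two group of maps embeds in the sign functions of its nonzero eigenspaces. -/
theorem card_le_two_pow [Finite E] (h2 : (2 : F) ≠ 0) (ρ : E →* (V ≃ₗ[F] V))
    (hρ : Function.Injective ρ) (hc : ∀ a b : E, Commute a b) (hi : ∀ a : E, a ^ 2 = 1) :
    Nat.card E ≤ 2 ^ Nat.card {f : E → Bool // eig ρ f ≠ ⊥} := by
  classical
  cases nonempty_fintype E
  rw [show (2 : ℕ) = Nat.card Bool by simp, ← Nat.card_fun]
  refine Nat.card_le_card_of_injective (fun a f => f.1 a) fun a b hab => hρ ?_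
  refine LinearEquiv.ext fun x => ?_
  refine Submodule.iSup_induction (p := eig ρ) (motive := fun y => ρ a y = ρ b y)
    (by rw [eig_top h2 ρ hc hi]; trivial) (fun f y hy => ?_) (by simp) (fun y z hy hz => by
      simp [hy, hz])
  by_cases hf : eig ρ f = ⊥
  · rw [hf, Submodule.mem_bot] at hy
    simp [hy]
  · have : f a = f b := congrFun hab ⟨f, hf⟩
    rw [mem_eig.1 hy a, mem_eig.1 hy b, this]

theorem finrank_iSup [FiniteDimensional F V] {ι : Type*} [Fintype ι] (p : ι → Submodule F V)
    (hi : iSupIndep p) : finrank F ↥(⨆ i, p i) = ∑ i, finrank F (p i) := by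
  classical
  have hinj : Function.Injective (DirectSum.coeLinearMap p) := hi.dfinsupp_lsum_injective
  rw [← DirectSum.range_coeLinearMap, LinearMap.finrank_range_of_inj hinj,
    Module.finrank_directSum]

/-- For a form without degenerate lines every nonzero eigenspace has dimension at least two. -/
theorem two_le_finrank_eig [FiniteDimensional F V] [Finite E] (h2 : (2 : F) ≠ 0)
    (ρ : E →* (V ≃ₗ[F] V)) (hc : ∀ a b : E, Commute a b) (hi : ∀ a : E, a ^ 2 = 1)
    (B : V →ₗ[F] V →ₗ[F] F) (halt : ∀ v, B v v = 0) (hsep : ∀ x, (∀ y, B x y = 0) → x = 0)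
    (hB : ∀ a u v, B (ρ a u) (ρ a v) = B u v) {f : E → Bool} (hf : eig ρ f ≠ ⊥) :
    2 ≤ finrank F (eig ρ f) := by
  by_contra hlt
  obtain ⟨x, hx, hx0⟩ := Submodule.exists_mem_ne_zero_of_ne_bot hf
  have h1 : finrank F (eig ρ f) ≤ 1 := by omega
  refine hx0 (hsep x fun y => ?_)
  refine Submodule.iSup_induction (p := eig ρ) (motive := fun y => B x y = 0)
    (by rw [eig_top h2 ρ hc hi]; trivial) (fun g y hy => ?_) (map_zero _) (fun y z hy hz => by
      rw [map_add, hy, hz, add_zero])
  by_cases hg : g = f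
  · subst hg
    obtain ⟨c, hcy⟩ := (finrank_le_one_iff.1 h1)
    obtain ⟨c1, e1⟩ := hcy ⟨x, hx⟩
    obtain ⟨c2, e2⟩ := hcy ⟨y, hy⟩
    have e1' : c1 • (c : V) = x := congrArg Subtype.val e1
    have e2' : c2 • (c : V) = y := congrArg Subtype.val e2
    rw [← e1', ← e2']
    simp [halt]
  · obtain ⟨a, ha⟩ := Function.ne_iff.1 hg
    have e := hB a x y
    rw [mem_eig.1 hx a, mem_eig.1 hy a] at e
    simp only [map_smul, LinearMap.smul_apply, smul_eq_mul] at e
    have hs : sgn F (g a) * sgn F (f a) = -1 := by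
      cases hfa : f a <;> cases hga : g a <;> simp_all [sgn]
    have e' : B x y * 2 = 0 := by
      linear_combination -e + B x y * hs
    exact (mul_eq_zero.1 e').resolve_right h2

section Odd

variable [Fintype F] [FiniteDimensional F V]

theorem val_card_linearEquiv (hodd : Odd (Fintype.card F)) {W : Type*} [AddCommGroup W]
    [Module F W] [FiniteDimensional F W] {k : ℕ} (hk : finrank F W = k) :
    (Nat.card (W ≃ₗ[F] W)).factorization 2 =
      (k - k / 2) * padicValNat 2 (Fintype.card F - 1) +
        (k / 2 * padicValNat 2 (Fintype.card F ^ 2 - 1) + padicValNat 2 (k / 2).factorial) := by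
  rw [CfsgLib.Geom.card_linearEquiv hk, ← Matrix.card_GL_field k]
  exact CfsgLib.BlockA.SylowSquares.val_card_gl hodd k

/-- A linear automorphism of a stable subspace. -/
def restr (g : V ≃ₗ[F] V) (U : Submodule F V)
    (h : U.map (g : V →ₗ[F] V) = U) : U ≃ₗ[F] U :=
  LinearEquiv.ofSubmodules g U U h

theorem card_odd_le_one {ι : Type*} [Fintype ι] (p : ι → Submodule F V) (hind : iSupIndep p)
    (htop : ⨆ i, p i = ⊤) (hq : Fintype.card F % 4 = 3)
    (P : Subgroup (V ≃ₗ[F] V))
    (hP : Nat.card P = 2 ^ (Nat.card (V ≃ₗ[F] V)).factorization 2)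
    (hperm : ∀ s ∈ P, ∀ i, p i ≠ ⊥ → ∃ j, (p i).map (s : V →ₗ[F] V) = p j) :
    Nat.card {i // Odd (finrank F (p i))} ≤ 1 := by
  classical
  haveI := Fact.mk Nat.prime_two
  have hodd : Odd (Fintype.card F) := Nat.odd_iff.2 (by omega)
  haveI : Finite (V ≃ₗ[F] V) := by
    haveI := Module.finite_of_finite F (M := V)
    exact Finite.of_injective (fun g => (g : V → V)) DFunLike.coe_injective
  set I := {i // Odd (finrank F (p i))} with hI
  let O := {U : Submodule F V // ∃ i, Odd (finrank F (p i)) ∧ p i = U}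
  have hne : ∀ {i}, Odd (finrank F (p i)) → p i ≠ ⊥ := fun hi h => by
    rw [h, finrank_bot] at hi
    exact absurd hi (by simp)
  let toO : I → O := fun i => ⟨p i.1, i.1, i.2, rfl⟩
  have htoO : Function.Bijective toO := by
    refine ⟨fun i j hij => Subtype.ext ?_, fun ⟨U, i, hi, e⟩ => ⟨⟨i, hi⟩, Subtype.ext e⟩⟩
    by_contra hc
    have e : p i.1 = p j.1 := congrArg Subtype.val hij
    exact hne i.2 (disjoint_self.1 (by have := hind.pairwiseDisjoint hc; rw [Function.onFun, ← e] at this; exact this))
  haveI : Finite O := Finite.of_surjective toO htoO.2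
  have hO : Nat.card O = Nat.card I := (Nat.card_eq_of_bijective toO htoO).symm
  have hmapO : ∀ s ∈ P, ∀ U : O, ∃ i, Odd (finrank F (p i)) ∧ p i = U.1.map (s : V →ₗ[F] V) := by
    rintro s hs ⟨U, i, hi, rfl⟩
    obtain ⟨j, hj⟩ := hperm s hs i (hne hi)
    refine ⟨j, ?_, hj.symm⟩
    rw [← hj, LinearEquiv.finrank_map_eq]
    exact hi
  letI : MulAction P O :=
    { smul := fun s U => ⟨U.1.map (s.1 : V →ₗ[F] V), hmapO s.1 s.2 U⟩
      one_smul := fun U => Subtype.ext (Submodule.map_id U.1)
      mul_smul := fun s t U => Subtype.ext (Submodule.map_comp (t.1 : V →ₗ[F] V) (s.1 : V →ₗ[F] V) U.1) }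
  set σ := MulAction.toPermHom P O with hσ
  set We : Submodule F V := ⨆ i : {i // ¬ Odd (finrank F (p i))}, p i.1 with hWe
  have hWe_map : ∀ s ∈ P, We.map (s : V →ₗ[F] V) = We := by
    intro s hs
    refine Submodule.eq_of_le_of_finrank_eq ?_ (LinearEquiv.finrank_map_eq _ _)
    rw [hWe, Submodule.map_iSup]
    refine iSup_le fun i => ?_
    by_cases hi : p i.1 = ⊥
    · simp [hi]
    obtain ⟨j, hj⟩ := hperm s hs i.1 hi
    have hje : finrank F (p j) = finrank F (p i.1) := by rw [← hj, LinearEquiv.finrank_map_eq]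
    rw [hj]
    exact le_iSup (fun i : {i // ¬ Odd (finrank F (p i))} => p i.1) ⟨j, hje ▸ i.2⟩
  have hker : ∀ s : σ.ker, ∀ i : I, (p i.1).map (s.1.1 : V →ₗ[F] V) = p i.1 := fun s i =>
    congrArg Subtype.val (Equiv.Perm.ext_iff.1 s.2 (toO i))
  let φ : σ.ker →* ((i : I) → (p i.1 ≃ₗ[F] p i.1)) × (We ≃ₗ[F] We) :=
    { toFun := fun s => (fun i => restr s.1.1 (p i.1) (hker s i), restr s.1.1 We (hWe_map _ s.1.2))
      map_one' := rfl
      map_mul' := fun s t => rfl }
  have hφ : Function.Injective φ := by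
    intro s t hst
    refine Subtype.ext (Subtype.ext (LinearEquiv.ext fun x => ?_))
    refine Submodule.iSup_induction (p := p) (motive := fun y => s.1.1 y = t.1.1 y)
      (by rw [htop]; trivial) (fun i y hy => ?_) (by simp) (fun y z hy hz => by simp [hy, hz])
    by_cases hi : Odd (finrank F (p i))
    · exact congrArg Subtype.val (LinearEquiv.congr_fun (congrFun (congrArg Prod.fst hst) ⟨i, hi⟩) ⟨y, hy⟩)
    · exact congrArg Subtype.val (LinearEquiv.congr_fun (congrArg Prod.snd hst)
        ⟨y, (le_iSup (fun i : {i // ¬ Odd (finrank F (p i))} => p i.1) ⟨i, hi⟩) hy⟩)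
  haveI : ∀ W : Submodule F V, Finite (W ≃ₗ[F] W) := fun W => by
    haveI := Module.finite_of_finite F (M := W)
    exact Finite.of_injective (fun g => (g : W → W)) DFunLike.coe_injective
  -- the 2-part of the order
  have hdvd : Nat.card P ∣ (Nat.card I).factorial *
      (((∏ i : I, Nat.card (p i.1 ≃ₗ[F] p i.1))) * Nat.card (We ≃ₗ[F] We)) := by
    rw [← σ.ker.index_mul_card, Subgroup.index_ker]
    refine Nat.mul_dvd_mul ?_ ?_
    · have := Subgroup.card_subgroup_dvd_card σ.range
      rwa [Nat.card_perm, hO] at this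
    · have := Subgroup.card_dvd_of_injective φ hφ
      rwa [Nat.card_prod, Nat.card_pi] at this
  have hprod : (∏ i : I, Nat.card (p i.1 ≃ₗ[F] p i.1)) ≠ 0 :=
    Finset.prod_ne_zero_iff.2 fun i _ => Nat.card_pos.ne'
  rw [hP, Nat.Prime.pow_dvd_iff_le_factorization Nat.prime_two
      (mul_ne_zero (Nat.factorial_ne_zero _) (mul_ne_zero hprod Nat.card_pos.ne')),
    Nat.factorization_mul (Nat.factorial_ne_zero _) (mul_ne_zero hprod Nat.card_pos.ne'),
    Nat.factorization_mul hprod Nat.card_pos.ne', Finsupp.add_apply, Finsupp.add_apply,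
    Nat.factorization_prod_apply (fun i _ => Nat.card_pos.ne'), val_card_linearEquiv hodd rfl,
    val_card_linearEquiv hodd rfl, Finset.sum_congr rfl fun (i : I) _ =>
      val_card_linearEquiv hodd (W := p i.1) rfl, Nat.factorization_def _ Nat.prime_two] at hdvd
  -- dimensions
  set v := padicValNat 2 (Fintype.card F ^ 2 - 1) with hv
  have hc1 : padicValNat 2 (Fintype.card F - 1) = 1 := by
    refine le_antisymm ?_ (one_le_padicValNat_of_dvd (by omega) (by omega))
    by_contra hlt
    have := dvd_trans (Nat.pow_dvd_pow 2 (show 2 ≤ padicValNat 2 (Fintype.card F - 1) by omega))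
      (pow_padicValNat_dvd (p := 2) (n := Fintype.card F - 1))
    omega
  have hv3 : 3 ≤ v := by
    obtain ⟨k, hk⟩ : ∃ k, Fintype.card F = 4 * k + 3 := ⟨Fintype.card F / 4, by omega⟩
    rw [hv, ← padicValNat_dvd_iff_le (Nat.sub_pos_of_lt (Nat.one_lt_pow two_ne_zero (by omega))).ne']
    refine ⟨(2 * k + 1) * (k + 1), ?_⟩
    rw [hk, Nat.sub_eq_iff_eq_add (Nat.one_le_pow _ _ (by omega))]
    ring
  set e := finrank F We / 2 with he
  have hWe_sum : finrank F We = ∑ i : {i // ¬ Odd (finrank F (p i))}, finrank F (p i.1) :=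
    finrank_iSup _ (hind.comp Subtype.val_injective)
  have hev : finrank F We = 2 * e := by
    have : Even (finrank F We) := by
      rw [hWe_sum]
      exact even_iff_two_dvd.2 (Finset.dvd_sum fun i _ => even_iff_two_dvd.1 (Nat.not_odd_iff_even.1 i.2))
    rw [he, Nat.two_mul_div_two_of_even this]
  set A := ∑ i : I, finrank F (p i.1) / 2 with hA
  set j := Nat.card I with hj
  have hjc : j = ∑ _i : I, 1 := by simp [hj, Nat.card_eq_fintype_card]
  have hn : finrank F V = 2 * A + j + 2 * e := by
    rw [← hev, hWe_sum, ← finrank_top F V, ← htop, finrank_iSup p hind,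
      ← Fintype.sum_subtype_add_sum_subtype (fun i => Odd (finrank F (p i))) (fun i => finrank F (p i)),
      hA, hjc, Finset.mul_sum, ← Finset.sum_add_distrib]
    congr 1
    exact Finset.sum_congr rfl fun i _ => (Nat.two_mul_div_two_add_one_of_odd i.2).symm
  have hterm : ∀ i : I, finrank F (p i.1) - finrank F (p i.1) / 2 = finrank F (p i.1) / 2 + 1 := fun i => by
    have := Nat.two_mul_div_two_add_one_of_odd i.2
    omega
  simp only [hc1, mul_one, hterm, Finset.sum_add_distrib, ← Finset.sum_mul, ← hA, ← hjc] at hdvd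
  rw [hev, show 2 * e - e = e by omega] at hdvd
  -- compare
  by_contra hgt
  obtain ⟨h, r, hr, hjr⟩ : ∃ h r, r < 2 ∧ j = 2 * h + r := ⟨j / 2, j % 2, Nat.mod_lt _ two_pos, by omega⟩
  rw [show finrank F V / 2 = A + h + e by omega, show finrank F V - (A + h + e) = A + h + e + r by omega,
    hjr, padicValNat_factorial_mul_add h hr, padicValNat_factorial_mul] at hdvd
  have hS : (∑ i : I, padicValNat 2 (finrank F (p i.1) / 2).factorial) + padicValNat 2 h.factorial +
      padicValNat 2 e.factorial ≤ padicValNat 2 (A + h + e).factorial := by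
    have d1 : (∏ i : I, (finrank F (p i.1) / 2).factorial) * h.factorial * e.factorial ∣
        (A + h + e).factorial :=
      (Nat.mul_dvd_mul_right ((Nat.mul_dvd_mul_right (Nat.prod_factorial_dvd_factorial_sum _ _) _).trans
        (Nat.factorial_mul_factorial_dvd_factorial_add _ _)) _).trans
        (Nat.factorial_mul_factorial_dvd_factorial_add _ _)
    have h0 : (∏ i : I, (finrank F (p i.1) / 2).factorial) ≠ 0 :=
      Finset.prod_ne_zero_iff.2 fun i _ => Nat.factorial_ne_zero _
    have d2 := (Nat.factorization_le_iff_dvd (mul_ne_zero (mul_ne_zero h0 (Nat.factorial_ne_zero _))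
      (Nat.factorial_ne_zero _)) (Nat.factorial_ne_zero _)).2 d1 2
    rwa [Nat.factorization_mul (mul_ne_zero h0 (Nat.factorial_ne_zero _)) (Nat.factorial_ne_zero _),
      Nat.factorization_mul h0 (Nat.factorial_ne_zero _), Finsupp.add_apply, Finsupp.add_apply,
      Nat.factorization_prod_apply (fun i _ => Nat.factorial_ne_zero _),
      Nat.factorization_def _ Nat.prime_two, Nat.factorization_def _ Nat.prime_two,
      Nat.factorization_def _ Nat.prime_two, Finset.sum_congr rfl
        fun i _ => Nat.factorization_def _ Nat.prime_two] at d2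
  have hh : 3 * h ≤ h * v := by rw [mul_comm h v]; exact Nat.mul_le_mul_right h hv3
  simp only [Nat.add_mul, Nat.mul_one] at hdvd
  omega

end Odd

end CfsgLib.Classical.TwoRank

namespace CfsgLib.Classical.TwoRank

open Module

variable {F : Type*} [Field F] {V : Type*} [AddCommGroup V] [Module F V]
variable {E : Type*} [Group E]

theorem map_eig (ρ : E →* (V ≃ₗ[F] V)) (g : V ≃ₗ[F] V) (c : E ≃ E)
    (hg : ∀ a v, g (ρ a v) = ρ (c a) (g v)) (f : E → Bool) :
    (eig ρ f).map (g : V →ₗ[F] V) = eig ρ (f ∘ c.symm) := by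
  ext v
  rw [Submodule.mem_map_equiv, mem_eig, mem_eig, ← c.forall_congr_right
    (q := fun a => ρ a v = sgn F ((f ∘ c.symm) a) • v)]
  refine forall_congr' fun a => ?_
  constructor
  · intro h
    have := congrArg g h
    rw [hg, map_smul, g.apply_symm_apply] at this
    simpa using this
  · intro h
    apply g.injective
    rw [hg, map_smul, g.apply_symm_apply]
    simpa using h

end CfsgLib.Classical.TwoRank
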