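import Cfsg.Agent.Lib.Classical.SpMinDegOrbit

/-!
# Orbits of Hermitian forms under the special linear group

A set of non-zero Hermitian forms on `F^m` closed under substitutions of determinant one (and
under all substitutions when `m = 1`) has at least `(q^{2m} - 1) / (q + 1)` members.
-/

set_option autoImplicit false

namespace CfsgLib.Classical.UMinDeg

open CfsgLib.Classical.SpMinDeg

variable {F : Type*} [Field F]

/-- A Hermitian form for the involution `σ`. -/
structure IsHerm {V : Type*} [AddCommGroup V] [Module F V] (σ : F →+* F) (B : V → V → F) : Prop where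
  add_left : ∀ x y z, B (x + y) z = B x z + B y z
  smul_left : ∀ (c : F) x y, B (c • x) y = c * B x y
  symm : ∀ x y, B y x = σ (B x y)

theorem IsHerm.add_right {V : Type*} [AddCommGroup V] [Module F V] {σ : F →+* F} {B : V → V → F}
    (hB : IsHerm σ B) (x y z : V) : B x (y + z) = B x y + B x z := by
  rw [hB.symm (y + z), hB.symm y, hB.symm z, hB.add_left, map_add]

theorem IsHerm.smul_right {V : Type*} [AddCommGroup V] [Module F V] {σ : F →+* F} {B : V → V → F}
    (hB : IsHerm σ B) (c : F) (x y : V) : B x (c • y) = σ c * B x y := by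
  rw [hB.symm (c • y), hB.symm y, hB.smul_left, map_mul]

theorem IsHerm.zero_left {V : Type*} [AddCommGroup V] [Module F V] {σ : F →+* F} {B : V → V → F}
    (hB : IsHerm σ B) (x : V) : B 0 x = 0 := by
  simpa using hB.smul_left 0 0 x

theorem IsHerm.zero_right {V : Type*} [AddCommGroup V] [Module F V] {σ : F →+* F} {B : V → V → F}
    (hB : IsHerm σ B) (x : V) : B x 0 = 0 := by
  rw [hB.symm 0, hB.zero_left, map_zero]

/-- Closure under substitutions of determinant one. -/
structure Closed {n : ℕ} (σ : F →+* F) (T : Finset ((Fin n → F) → (Fin n → F) → F)) : Prop where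
  herm : ∀ B ∈ T, IsHerm σ B
  comp : ∀ g : (Fin n → F) →ₗ[F] (Fin n → F), LinearMap.det g = 1 →
    ∀ B ∈ T, (fun x y => B (g x) (g y)) ∈ T

theorem det_blockMap {n : ℕ} (a : F) (w : Fin n → F) (A : (Fin n → F) →ₗ[F] (Fin n → F)) :
    LinearMap.det (blockMap a w A) = a * LinearMap.det A := by
  classical
  rw [← LinearMap.det_toMatrix', ← LinearMap.det_toMatrix', Matrix.det_succ_column_zero,
    Fin.sum_univ_succ]
  have hcol : blockMap a w A (Pi.single 0 1) = a • e0 := by
    simpa [e0] using blockMap_apply a w A 1 0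
  have hsub : (LinearMap.toMatrix' (blockMap a w A)).submatrix Fin.succ Fin.succ =
      LinearMap.toMatrix' A := by
    ext i j
    have h1 : inH (Pi.single j (1 : F)) = (Pi.single j.succ 1 : Fin (n + 1) → F) := by
      ext k; refine Fin.cases ?_ ?_ k <;> simp [inH, Pi.single_apply, Fin.succ_inj, (Fin.succ_ne_zero _).symm]
    have h2 := blockMap_apply a w A 0 (Pi.single j 1)
    rw [zero_smul, zero_add, h1] at h2
    simp [LinearMap.toMatrix'_apply, h2, e0, inH, Fin.succ_ne_zero]
  simp [LinearMap.toMatrix'_apply, hcol, e0, Fin.succ_ne_zero, hsub]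

theorem bijective_of_det {n : ℕ} {f : (Fin n → F) →ₗ[F] (Fin n → F)}
    (h : IsUnit (LinearMap.det f)) : Function.Bijective f := by
  have := (LinearMap.equivOfIsUnitDet h).bijective
  rwa [show ⇑(LinearMap.equivOfIsUnitDet h) = ⇑f from
    funext (LinearMap.equivOfIsUnitDet_apply h)] at this

/-- Scaling the first coordinate. -/
def scaleFst {n : ℕ} (a : F) : (Fin (n + 1) → F) →ₗ[F] (Fin (n + 1) → F) :=
  blockMap a 0 LinearMap.id

theorem det_scaleFst {n : ℕ} (a : F) : LinearMap.det (scaleFst (n := n) a) = a := by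
  rw [scaleFst, det_blockMap, LinearMap.det_id, mul_one]

theorem exists_det_one_map {n : ℕ} {x : Fin (n + 1 + 1) → F} (hx : x ≠ 0) :
    ∃ g : (Fin (n + 1 + 1) → F) →ₗ[F] (Fin (n + 1 + 1) → F), LinearMap.det g = 1 ∧ g e0 = x := by
  obtain ⟨e, he⟩ := exists_equiv_map (v := (e0 : Fin (n + 1 + 1) → F)) (by simp [e0]) hx
  refine ⟨e.toLinearMap ∘ₗ blockMap 1 0 (scaleFst (LinearMap.det e.toLinearMap)⁻¹), ?_, ?_⟩
  · rw [LinearMap.det_comp, det_blockMap, one_mul, det_scaleFst,
      mul_inv_cancel₀ (LinearEquiv.isUnit_det' e).ne_zero]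
  · have h := blockMap_apply (1 : F) 0 (scaleFst (n := n) (LinearMap.det e.toLinearMap)⁻¹) 1 0
    simp only [one_smul, map_zero, add_zero, mul_one, dotProduct_zero] at h
    rw [LinearMap.comp_apply, h]
    exact he

variable {σ : F →+* F}

/-- The functional `x ↦ B(x, e₀)` as a vector. -/
noncomputable def hBeta {n : ℕ} (B : (Fin (n + 1) → F) → (Fin (n + 1) → F) → F) : Fin n → F :=
  fun i => B (inH (Pi.single i 1)) e0

theorem inH_apply_e0 {n : ℕ} {B : (Fin (n + 1) → F) → (Fin (n + 1) → F) → F} (hB : IsHerm σ B)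
    (x : Fin n → F) : B (inH x) e0 = hBeta B ⬝ᵥ x := by
  classical
  let L : (Fin n → F) →ₗ[F] F :=
    { toFun := fun z => B (inH z) e0
      map_add' := fun a b => by rw [map_add, hB.add_left]
      map_smul' := fun c a => by rw [map_smul, hB.smul_left]; rfl }
  change L x = _
  rw [show x = ∑ i, x i • Pi.single i (1 : F) by
    ext j; simp [Pi.single_apply, Finset.sum_apply], map_sum]
  simp only [map_smul, smul_eq_mul, dotProduct, Finset.sum_apply, Pi.smul_apply, Pi.single_apply]
  refine Finset.sum_congr rfl fun i _ => ?_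
  simp [L, hBeta, mul_comm]

theorem blockMap_e0 {n : ℕ} (a : F) (w : Fin n → F) (A : (Fin n → F) →ₗ[F] (Fin n → F)) :
    blockMap a w A e0 = a • e0 := by
  simpa using blockMap_apply a w A 1 0

theorem blockMap_inH {n : ℕ} (a : F) (w : Fin n → F) (A : (Fin n → F) →ₗ[F] (Fin n → F))
    (x : Fin n → F) : blockMap a w A (inH x) = (w ⬝ᵥ x) • e0 + inH (A x) := by
  simpa using blockMap_apply a w A 0 x

/-- The invariants of a substituted form. -/
theorem invariants_comp {n : ℕ} {B : (Fin (n + 1) → F) → (Fin (n + 1) → F) → F} (hB : IsHerm σ B)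
    (a : F) (w : Fin n → F) (A : (Fin n → F) →ₗ[F] (Fin n → F)) :
    B (blockMap a w A e0) (blockMap a w A e0) = a * σ a * B e0 e0 ∧
      ∀ x, hBeta (fun u v => B (blockMap a w A u) (blockMap a w A v)) ⬝ᵥ x =
        σ a * ((w ⬝ᵥ x) * B e0 e0 + hBeta B ⬝ᵥ A x) := by
  refine ⟨by rw [blockMap_e0, hB.smul_left, hB.smul_right]; ring, fun x => ?_⟩
  have hh : IsHerm σ (fun u v => B (blockMap a w A u) (blockMap a w A v)) :=
    ⟨fun u v z => by rw [map_add, hB.add_left], fun c u v => by rw [map_smul, hB.smul_left],
      fun u v => hB.symm _ _⟩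
  rw [← inH_apply_e0 hh, blockMap_e0, blockMap_inH, hB.add_left, hB.smul_left, hB.smul_right,
    hB.smul_right, inH_apply_e0 hB]
  ring

variable [Fintype F] {q : ℕ}

/-- The lower bound. -/
theorem orbit_bound (hnorm : ∀ c, σ c = c → ∃ a, a * σ a = c)
    (hfix : Nat.card {c : F // σ c = c} = q) (hF : Fintype.card F = q ^ 2) :
    ∀ (m : ℕ) (T : Finset ((Fin m → F) → (Fin m → F) → F)), Closed σ T →
      (m = 1 → ∀ g : (Fin m → F) →ₗ[F] (Fin m → F), Function.Injective g →
        ∀ B ∈ T, (fun x y => B (g x) (g y)) ∈ T) →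
      (∃ B ∈ T, ∃ x y, B x y ≠ 0) → (∀ d, d ≠ 0 → ∃ e, e * d + σ (e * d) ≠ 0) →
      q ^ (2 * m) - 1 ≤ (q + 1) * T.card := by
  classical
  intro m
  induction m with
  | zero => intro T _ _ _ _; simp
  | succ n ih =>
    intro T hT hone hex htr
    obtain ⟨B₀, hB₀, x₀, y₀, hxy⟩ := hex
    have hK : (Finset.univ.filter fun c : F => σ c = c ∧ c ≠ 0).card = q - 1 := by
      rw [← hfix, Nat.card_eq_fintype_card, Fintype.card_subtype,
        ← Finset.card_erase_of_mem (a := (0 : F)) (by simp)]
      congr 1
      ext c; simp [and_comm]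
    -- a form with non-zero value at `e₀`
    have hd := hT.herm B₀ hB₀
    obtain ⟨v, hv⟩ : ∃ v, B₀ v v ≠ 0 := by
      by_contra hall
      push Not at hall
      obtain ⟨e, he⟩ := htr _ hxy
      refine he ?_
      have h1 := hall (e • x₀ + y₀)
      rw [hd.add_left, hd.add_right, hd.add_right, hall, hall, zero_add, add_zero,
        hd.smul_left, hd.smul_right, hd.symm x₀ y₀] at h1
      rw [map_mul]; exact h1
    have hv0 : v ≠ 0 := fun e => hv (by rw [e, hd.zero_left])
    have hmove : ∀ x : Fin (n + 1) → F, x ≠ 0 → ∀ B ∈ T,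
        ∃ B' ∈ T, B' e0 e0 = B x x ∧ ((∃ u w, B u w ≠ 0) → ∃ u w, B' u w ≠ 0) := by
      intro x hx B hB
      obtain ⟨g, hg, hge, hinj⟩ : ∃ g : (Fin (n + 1) → F) →ₗ[F] (Fin (n + 1) → F),
          ((fun u w => B (g u) (g w)) ∈ T) ∧ g e0 = x ∧ Function.Surjective g := by
        rcases Nat.eq_zero_or_pos n with rfl | hn
        · obtain ⟨e, he⟩ := exists_equiv_map (v := (e0 : Fin (0 + 1) → F)) (by simp [e0]) hx
          exact ⟨e.toLinearMap, hone rfl _ e.injective B hB, he, e.surjective⟩
        · obtain ⟨l, rfl⟩ : ∃ l, n = l + 1 := ⟨n - 1, by omega⟩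
          obtain ⟨g, hg1, hg2⟩ := exists_det_one_map hx
          refine ⟨g, hT.comp g hg1 B hB, hg2, ?_⟩
          have hu : IsUnit (LinearMap.det g) := by rw [hg1]; exact isUnit_one
          exact (bijective_of_det hu).2
      refine ⟨_, hg, by simp only [hge], fun ⟨u, w, huw⟩ => ?_⟩
      obtain ⟨u', rfl⟩ := hinj u
      obtain ⟨w', rfl⟩ := hinj w
      exact ⟨u', w', huw⟩
    obtain ⟨B, hBT, hBe, hBne⟩ := hmove v hv0 B₀ hB₀
    have hBe0 : B e0 e0 ≠ 0 := by rw [hBe]; exact hv
    have hB := hT.herm B hBT
    -- substitutions of the required shape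
    have hsub : ∀ (a : F) (w : Fin n → F) (A : (Fin n → F) →ₗ[F] (Fin n → F)),
        (a * LinearMap.det A = 1 ∨ (n = 0 ∧ a ≠ 0)) → ∀ C ∈ T,
          (fun u v => C (blockMap a w A u) (blockMap a w A v)) ∈ T := by
      intro a w A h C hC
      rcases h with h | ⟨h1, h2⟩
      · exact hT.comp _ (by rw [det_blockMap, h]) C hC
      · subst h1
        refine hone rfl _ (blockMap_injective h2 w ?_) C hC
        intro p q _; exact Subsingleton.elim p q
    set T1 := T.filter fun C => C e0 e0 ≠ 0 with hT1
    set T0 := T.filter fun C => C e0 e0 = 0 ∧ ∃ u w, C u w ≠ 0 with hT0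
    have hdisj : T1.card + T0.card ≤ T.card := by
      rw [← Finset.card_union_of_disjoint]
      · exact Finset.card_le_card (by simp [hT1, hT0, Finset.union_subset_iff])
      · rw [Finset.disjoint_left]; simp +contextual [hT1, hT0]
    have h1 : (q - 1) * q ^ (2 * n) ≤ T1.card := by
      rw [Finset.card_eq_sum_card_fiberwise (s := T1) (f := fun C => C e0 e0)
        (t := Finset.univ.filter fun c : F => σ c = c ∧ c ≠ 0) (fun C hC => by
          simp only [hT1, Finset.coe_filter, Set.mem_ofPred_eq] at hC
          simpa [hC.2] using ((hT.herm C hC.1).symm e0 e0).symm)]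
      refine le_trans ?_ (Finset.card_nsmul_le_sum _ _ (q ^ (2 * n)) fun c hc => ?_)
      · rw [hK, smul_eq_mul]
      obtain ⟨hcσ, hc0⟩ := (Finset.mem_filter.1 hc).2
      have hBσ : σ (B e0 e0) = B e0 e0 := (hB.symm e0 e0).symm
      obtain ⟨a, ha⟩ := hnorm (c / B e0 e0) (by rw [map_div₀, hcσ, hBσ])
      have ha0 : a ≠ 0 := fun e => by
        rw [e, zero_mul, eq_comm, div_eq_zero_iff] at ha; tauto
      obtain ⟨A, hA⟩ : ∃ A : (Fin n → F) →ₗ[F] (Fin n → F),
          a * LinearMap.det A = 1 ∨ (n = 0 ∧ a ≠ 0) := by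
        rcases Nat.eq_zero_or_pos n with rfl | hn
        · exact ⟨LinearMap.id, .inr ⟨rfl, ha0⟩⟩
        · obtain ⟨l, rfl⟩ : ∃ l, n = l + 1 := ⟨n - 1, by omega⟩
          exact ⟨scaleFst a⁻¹, .inl (by rw [det_scaleFst, mul_inv_cancel₀ ha0])⟩
      set C := fun u v => B (blockMap a 0 A u) (blockMap a 0 A v) with hC
      have hCT : C ∈ T := hsub a 0 A hA B hBT
      have hCe : C e0 e0 = c := by
        rw [hC]
        exact (invariants_comp hB a 0 A).1.trans (by rw [ha, div_mul_cancel₀ c hBe0])
      let S : (Fin n → F) → ((Fin (n + 1) → F) → (Fin (n + 1) → F) → F) := fun w u v =>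
        C (blockMap 1 w LinearMap.id u) (blockMap 1 w LinearMap.id v)
      have hS : Function.Injective S := by
        intro w w' e
        funext i
        have h1 := (invariants_comp (hT.herm C hCT) 1 w LinearMap.id).2 (Pi.single i 1)
        have h2 := (invariants_comp (hT.herm C hCT) 1 w' LinearMap.id).2 (Pi.single i 1)
        have e' := congrArg (fun D => hBeta D ⬝ᵥ Pi.single i 1) e
        simp only [S] at e'
        rw [h1, h2, hCe, map_one] at e'
        simp only [dotProduct_single, mul_one, one_mul, add_left_inj] at e'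
        exact mul_right_cancel₀ hc0 e'
      calc q ^ (2 * n) = (Finset.univ.image S).card := by
            rw [Finset.card_image_of_injective _ hS, Finset.card_univ, Fintype.card_fun,
              Fintype.card_fin, hF, ← pow_mul]
        _ ≤ _ := Finset.card_le_card fun D hD => by
            obtain ⟨w, -, rfl⟩ := Finset.mem_image.1 hD
            have e : S w e0 e0 = c := by
              refine ((invariants_comp (hT.herm C hCT) 1 w LinearMap.id).1).trans ?_
              rw [map_one, one_mul, one_mul, hCe]
            refine Finset.mem_filter.2 ⟨Finset.mem_filter.2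
              ⟨hsub 1 w LinearMap.id (.inl (by simp)) C hCT, ?_⟩, e⟩
            rw [e]; exact hc0
    have hgoal : q ^ (2 * n) - 1 ≤ (q + 1) * T0.card := by
      rcases Nat.eq_zero_or_pos n with rfl | hn
      · simp
      obtain ⟨k, hk0, hk⟩ : ∃ k : Fin n → F, k ≠ 0 ∧ (n = 1 ∨ hBeta B ⬝ᵥ k = 0) := by
        rcases eq_or_ne n 1 with h | h
        · exact ⟨Pi.single ⟨0, hn⟩ 1, by simp, .inl h⟩
        let L : (Fin n → F) →ₗ[F] F :=
          { toFun := fun z => hBeta B ⬝ᵥ z
            map_add' := fun a b => dotProduct_add _ a b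
            map_smul' := fun a b => dotProduct_smul a _ b }
        obtain ⟨k, hk, hk0⟩ := (Submodule.ne_bot_iff _).1 (show LinearMap.ker L ≠ ⊥ from fun e => by
          have h1 := LinearMap.finrank_le_finrank_of_injective (LinearMap.ker_eq_bot.1 e)
          rw [Module.finrank_fin_fun, Module.finrank_self] at h1
          omega)
        exact ⟨k, hk0, .inr hk⟩
      -- a vector orthogonal to `e₀`, then a singular one
      obtain ⟨p, hp⟩ : ∃ p : Fin (n + 1) → F, p = (-(hBeta B ⬝ᵥ k) / B e0 e0) • e0 + inH k := ⟨_, rfl⟩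
      have hpe : B p e0 = 0 := by
        rw [hp, hB.add_left, hB.smul_left, inH_apply_e0 hB, div_mul_cancel₀ _ hBe0, neg_add_cancel]
      have hep : B e0 p = 0 := by rw [hB.symm p e0, hpe, map_zero]
      have hpσ : σ (B p p) = B p p := (hB.symm p p).symm
      have hBσ : σ (B e0 e0) = B e0 e0 := (hB.symm e0 e0).symm
      obtain ⟨a, ha⟩ := hnorm (-(B p p) / B e0 e0) (by rw [map_div₀, map_neg, hpσ, hBσ])
      obtain ⟨x, hx⟩ : ∃ x : Fin (n + 1) → F, x = a • e0 + p := ⟨_, rfl⟩
      have hxx : B x x = 0 := by
        rw [hx, hB.add_left, hB.add_right, hB.add_right, hB.smul_left, hB.smul_right,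
          hB.smul_left, hB.smul_right, hep, hpe, ← mul_assoc, ha, div_mul_cancel₀ _ hBe0]
        ring
      have hx0 : x ≠ 0 := fun e => hk0 (funext fun i => by
        simpa [hx, hp, e0, inH, Fin.succ_ne_zero] using congrFun e i.succ)
      obtain ⟨R, hRT, hRe, hRne⟩ := hmove x hx0 B hBT
      rw [hxx] at hRe
      have hRn := hRne ⟨e0, e0, hBe0⟩
      have hR := hT.herm R hRT
      by_cases hb : ∃ C ∈ T0, hBeta C ≠ 0
      · obtain ⟨C, hC, hCb⟩ := hb
        obtain ⟨hCT, hCe, -⟩ := Finset.mem_filter.1 hC
        have hCh := hT.herm C hCT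
        have hmem : ∀ D : (Fin (n + 1) → F) → (Fin (n + 1) → F) → F, D ∈ T → D e0 e0 = 0 →
            hBeta D ≠ 0 → D ∈ T0 := fun D hD hDe hDb => by
          obtain ⟨i, hi⟩ := Function.ne_iff.1 hDb
          exact Finset.mem_filter.2 ⟨hD, hDe, _, _, hi⟩
        rcases Nat.lt_or_ge n 2 with hn2 | hn2
        · obtain rfl : n = 1 := by omega
          let f : F → ((Fin (1 + 1) → F) → (Fin (1 + 1) → F) → F) := fun s u v =>
            C (blockMap s⁻¹ 0 (scaleFst s) u) (blockMap s⁻¹ 0 (scaleFst s) v)
          have hval : ∀ s, hBeta (f s) 0 = σ s⁻¹ * (hBeta C 0 * s) := fun s => by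
            have h := (invariants_comp hCh s⁻¹ 0 (scaleFst s)).2 (Pi.single 0 1)
            rw [dotProduct_single, mul_one, zero_dotProduct, zero_mul, zero_add] at h
            rw [show hBeta (f s) 0 = _ from h]
            congr 1
            simp [dotProduct, scaleFst, blockMap, e0, inH, Matrix.vecHead, mul_comm]
          have hC0 : hBeta C 0 ≠ 0 := fun e => hCb (funext fun i => by
            rw [Fin.eq_zero i]; exact e)
          have hc := Finset.card_le_mul_card_image (f := f)
            (s := (Finset.univ.erase (0 : F))) (q - 1) (fun D hD => by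
            obtain ⟨s, hs, rfl⟩ := Finset.mem_image.1 hD
            have hs0 := (Finset.mem_erase.1 hs).1
            rw [← hK]
            refine Finset.card_le_card_of_injOn (fun t => t / s) (fun t ht => ?_) ?_
            · rw [Finset.mem_coe, Finset.mem_filter] at ht
              have ht0 := (Finset.mem_erase.1 ht.1).1
              have e := congrArg (fun D => hBeta D 0) ht.2
              rw [hval, hval] at e
              have hst : σ (t / s) = t / s := by
                have hσt : σ t ≠ 0 := (map_ne_zero σ).2 ht0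
                have hσs : σ s ≠ 0 := (map_ne_zero σ).2 hs0
                rw [map_inv₀, map_inv₀] at e
                rw [map_div₀]
                field_simp at e ⊢
                linear_combination -e
              simp [hst, ht0, hs0]
            · intro t _ t' _ e
              simpa [div_left_inj' hs0] using e)
          have himg : (Finset.univ.erase (0 : F)).image f ⊆ T0 := fun D hD => by
            obtain ⟨s, hs, rfl⟩ := Finset.mem_image.1 hD
            have hs0 := (Finset.mem_erase.1 hs).1
            refine hmem _ (hsub _ 0 _ (.inl (by rw [det_scaleFst, inv_mul_cancel₀ hs0])) C hCT) ?_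
              fun e => ?_
            · exact (invariants_comp hCh s⁻¹ 0 (scaleFst s)).1.trans (by rw [hCe, mul_zero])
            · have := congrFun e 0
              rw [hval] at this
              simp [hs0, hC0] at this
          have h5 := hc.trans (Nat.mul_le_mul_left _ (Finset.card_le_card himg))
          rw [Finset.card_erase_of_mem (Finset.mem_univ _), Finset.card_univ, hF] at h5
          exact h5.trans (Nat.mul_le_mul_right _ (by omega))
        refine le_trans ?_ (Nat.le_mul_of_pos_left _ (Nat.succ_pos q))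
        have himg : Finset.univ.erase (0 : Fin n → F) ⊆ T0.image hBeta := by
          intro β hβ
          have hβ0 := (Finset.mem_erase.1 hβ).1
          obtain ⟨l, rfl⟩ : ∃ l, n = l + 1 + 1 := ⟨n - 2, by omega⟩
          obtain ⟨g₁, h11, h12⟩ := exists_det_one_map (F := F) hCb
          obtain ⟨g₂, h21, h22⟩ := exists_det_one_map (F := F) hβ0
          let e₁ := LinearEquiv.ofBijective g₁ (bijective_of_det (by rw [h11]; exact isUnit_one))
          let M : Matrix _ _ F := LinearMap.toMatrix' (g₂ ∘ₗ e₁.symm.toLinearMap)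
          have he1 : e₁ e0 = hBeta C := h12
          have hMb : M.mulVec (hBeta C) = β := by
            rw [← Matrix.toLin'_apply, Matrix.toLin'_toMatrix', LinearMap.comp_apply,
              LinearEquiv.coe_coe, ← he1, LinearEquiv.symm_apply_apply, h22]
          have hMdet : LinearMap.det (Matrix.toLin' M.transpose) = 1 := by
            rw [LinearMap.det_toLin', Matrix.det_transpose, LinearMap.det_toMatrix',
              LinearMap.det_comp, h21, one_mul]
            have h := LinearEquiv.det_mul_det_symm e₁
            rwa [show LinearMap.det e₁.toLinearMap = 1 from h11, one_mul] at h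
          have hDb : hBeta (fun u v => C (blockMap 1 0 (Matrix.toLin' M.transpose) u)
              (blockMap 1 0 (Matrix.toLin' M.transpose) v)) = β := funext fun i => by
            have h := (invariants_comp hCh 1 0 (Matrix.toLin' M.transpose)).2 (Pi.single i 1)
            rw [dotProduct_single, mul_one, zero_dotProduct, zero_mul, zero_add, map_one, one_mul,
              Matrix.toLin'_apply, Matrix.dotProduct_mulVec, Matrix.vecMul_transpose, hMb,
              dotProduct_single, mul_one] at h
            exact h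
          refine Finset.mem_image.2 ⟨_, hmem _ (hsub 1 0 _ (.inl (by rw [one_mul, hMdet])) C hCT) ?_
            (by rw [hDb]; exact hβ0), hDb⟩
          exact (invariants_comp hCh 1 0 _).1.trans (by rw [hCe, mul_zero])
        have hc := (Finset.card_le_card himg).trans Finset.card_image_le
        rw [Finset.card_erase_of_mem (Finset.mem_univ _), Finset.card_univ, Fintype.card_fun,
          Fintype.card_fin, hF, ← pow_mul] at hc
        exact hc
      · push Not at hb
        set U := T0.image fun C => fun u v : Fin n → F => C (inH u) (inH v) with hU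
        have hUh : ∀ D ∈ U, IsHerm σ D := fun D hD => by
          obtain ⟨C, hC, rfl⟩ := Finset.mem_image.1 hD
          have hc := hT.herm C (Finset.mem_filter.1 hC).1
          exact ⟨fun u v w => by simp only [map_add, hc.add_left], fun c u v => by
            simp only [map_smul, hc.smul_left], fun u v => hc.symm _ _⟩
        have hUc : ∀ A : (Fin n → F) →ₗ[F] (Fin n → F), Function.Injective A → ∀ D ∈ U,
            (fun u v => D (A u) (A v)) ∈ U := by
          intro A hA D hD
          obtain ⟨C, hC, rfl⟩ := Finset.mem_image.1 hD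
          obtain ⟨hCT, hCe, hCn⟩ := Finset.mem_filter.1 hC
          have hd : LinearMap.det A ≠ 0 := fun e => by
            have := LinearMap.det_eq_zero_iff_ker_ne_bot.1 e
            exact this (LinearMap.ker_eq_bot.2 hA)
          set a := (LinearMap.det A)⁻¹
          refine Finset.mem_image.2 ⟨fun u v => C (blockMap a 0 A u) (blockMap a 0 A v),
            Finset.mem_filter.2 ⟨hsub a 0 A (.inl (inv_mul_cancel₀ hd)) C hCT, ?_, ?_⟩,
            funext fun u => funext fun v => ?_⟩
          · exact (invariants_comp (hT.herm C hCT) a 0 A).1.trans (by rw [hCe, mul_zero])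
          · obtain ⟨u, w, huw⟩ := hCn
            have hu' : IsUnit (LinearMap.det (blockMap a 0 A)) := by
              rw [det_blockMap, inv_mul_cancel₀ hd]; exact isUnit_one
            obtain ⟨u', rfl⟩ := (bijective_of_det hu').2 u
            obtain ⟨w', rfl⟩ := (bijective_of_det hu').2 w
            exact ⟨u', w', huw⟩
          · simp [blockMap_inH]
        have hRU : ∃ D ∈ U, ∃ u w, D u w ≠ 0 := by
          have hR0 : R ∈ T0 := Finset.mem_filter.2 ⟨hRT, hRe, hRn⟩
          refine ⟨_, Finset.mem_image_of_mem _ hR0, ?_⟩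
          by_contra hall
          push Not at hall
          obtain ⟨u, w, huw⟩ := hRn
          refine huw ?_
          have k1 : ∀ z, R (inH z) e0 = 0 := fun z => by
            rw [inH_apply_e0 hR, hb R hR0, zero_dotProduct]
          rw [eq_smul_e0_add u, eq_smul_e0_add w]
          simp only [hR.add_left, hR.add_right, hR.smul_left, hR.smul_right, hRe, k1,
            hR.symm (inH _) e0, map_zero, mul_zero, zero_add, add_zero]
          exact hall _ _
        refine (ih U ⟨hUh, fun g hg D hD => hUc g ?_ D hD⟩ (fun _ => hUc) hRU htr).trans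
          (Nat.mul_le_mul_left _ Finset.card_image_le)
        exact (bijective_of_det (by rw [hg]; exact isUnit_one)).1
    have hq1 : 1 ≤ q := by
      rcases Nat.eq_zero_or_pos q with rfl | h
      · simp at hF
      · exact h
    obtain ⟨r, rfl⟩ : ∃ r, q = r + 1 := ⟨q - 1, by omega⟩
    have hP : 1 ≤ (r + 1) ^ (2 * n) := Nat.one_le_pow _ _ (Nat.succ_pos r)
    have e : (r + 1) ^ (2 * (n + 1)) = (r + 1) ^ (2 * n) * ((r + 1 + 1) * r + 1) := by
      rw [show 2 * (n + 1) = 2 * n + 2 by ring, pow_add]; ring
    rw [e, mul_add, mul_one]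
    simp only [Nat.add_sub_cancel] at h1
    have h2 : (r + 1 + 1) * (r * (r + 1) ^ (2 * n)) ≤ (r + 1 + 1) * T1.card := Nat.mul_le_mul_left _ h1
    have h3 : (r + 1 + 1) * (T1.card + T0.card) ≤ (r + 1 + 1) * T.card :=
      Nat.mul_le_mul_left _ hdisj
    rw [mul_add] at h3
    have h4 : (r + 1) ^ (2 * n) * ((r + 1 + 1) * r) = (r + 1 + 1) * (r * (r + 1) ^ (2 * n)) := by ring
    omega

end CfsgLib.Classical.UMinDeg
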