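import Cfsg.Agent.Lib.Classical.UMinDegMain

/-!
# A Witt decomposition of the standard Hermitian space, and the degree bounds for `SU_n(q)`
-/

set_option autoImplicit false

namespace CfsgLib.Classical.UMinDeg

open Module Matrix

variable {F : Type*} [Field F] {q n m : ℕ} {σ : F →+* F}

/-- Columns supported on the pairs `2j`, `2j+1`. -/
def pairMat (n m : ℕ) (a b : F) : Matrix (Fin n) (Fin m) F :=
  Matrix.of fun k j => if (k : ℕ) = 2 * j then a else if (k : ℕ) = 2 * j + 1 then b else 0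

theorem ct_pairMat_mul (hnm : 2 * m ≤ n) (a b c d : F) :
    ct σ (pairMat n m a b) * pairMat n m c d = (σ a * c + σ b * d) • (1 : Matrix (Fin m) (Fin m) F) := by
  ext i j
  have hi : 2 * (i : ℕ) + 1 < n := by omega
  rw [Matrix.mul_apply, Finset.sum_eq_add (⟨2 * i, by omega⟩ : Fin n) (⟨2 * i + 1, hi⟩ : Fin n)]
  · rcases eq_or_ne i j with rfl | h
    · simp [ct, pairMat]
    · have h' : (i : ℕ) ≠ j := fun e => h (Fin.ext e)
      have h1 : ¬ (2 * (i : ℕ) = 2 * j + 1) := by omega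
      have h2 : ¬ (2 * (i : ℕ) + 1 = 2 * j) := by omega
      simp [ct, pairMat, h, h', h1, h2]
  · simp [Fin.ext_iff]
  · intro k _ hk
    have h1 : ¬ ((k : ℕ) = 2 * i) := fun e => hk.1 (Fin.ext e)
    have h2 : ¬ ((k : ℕ) = 2 * i + 1) := fun e => hk.2 (Fin.ext e)
    simp [ct, pairMat, h1, h2]
  · simp
  · simp

variable [Fintype F]

theorem exists_witt (hF : Fintype.card F = q ^ 2) (hσq : ∀ x, σ x = x ^ q) (hnm : 2 * m ≤ n) :
    ∃ W : Witt σ n m, n = 2 * m + 1 → Nonempty W.Extra := by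
  have hq0 : q ≠ 0 := fun h => by
    rw [h] at hF
    exact absurd hF (by simp)
  have hone : (-1 : F) ^ q = -1 := by rw [← hσq, map_neg, map_one]
  have hcard := CfsgLib.Classical.card_norm_fibre hF (neg_ne_zero.2 one_ne_zero) hone
  have : Nontrivial {x : F // x ^ (q + 1) = -1} := by
    rw [← Finite.one_lt_card_iff_nontrivial]
    omega
  obtain ⟨⟨ζ, hζ⟩, ⟨ζ', hζ'⟩, hne⟩ := exists_pair_ne {x : F // x ^ (q + 1) = -1}
  have hz : ∀ z : F, z ^ (q + 1) = -1 → σ z * z = -1 := fun z h => by rw [hσq, ← pow_succ, h]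
  have hσ : ∀ x, σ (σ x) = x := fun x => by
    rw [hσq, hσq, ← pow_mul, ← sq, ← hF, FiniteField.pow_card]
  have hd : 1 + σ ζ * ζ' ≠ 0 := fun e => hne (Subtype.ext (by
    have hζ0 : σ ζ ≠ 0 := fun h0 => by
      have := hz ζ hζ
      simp [h0] at this
    have h : σ ζ * ζ' = σ ζ * ζ := by rw [hz ζ hζ]; linear_combination e
    exact (mul_left_cancel₀ hζ0 h).symm))
  set κ := (1 + σ ζ * ζ')⁻¹ with hκ
  have hEG : ct σ (pairMat n m 1 ζ) * pairMat n m κ (κ * ζ') = 1 := by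
    rw [ct_pairMat_mul hnm, map_one, one_mul,
      show κ + σ ζ * (κ * ζ') = κ * (1 + σ ζ * ζ') by ring, hκ, inv_mul_cancel₀ hd, one_smul]
  have hEE : ct σ (pairMat n m (1 : F) ζ) * pairMat n m 1 ζ = 0 := by
    rw [ct_pairMat_mul hnm, map_one, one_mul, hz ζ hζ, add_neg_cancel, zero_smul]
  have hGG : ct σ (pairMat n m κ (κ * ζ')) * pairMat n m κ (κ * ζ') = 0 := by
    rw [ct_pairMat_mul hnm, map_mul,
      show σ κ * κ + σ κ * σ ζ' * (κ * ζ') = σ κ * κ * (1 + σ ζ' * ζ') by ring, hz ζ' hζ',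
      add_neg_cancel, mul_zero, zero_smul]
  refine ⟨⟨_, _, hEE, hGG, hEG, by
    have h := congrArg (ct σ) hEG
    rwa [ct_mul, ct_ct hσ, ct_one] at h⟩, fun hn => ?_⟩
  subst hn
  let z : Matrix (Fin (2 * m + 1)) (Fin 1) F :=
    Matrix.of fun k _ => if (k : ℕ) = 2 * m then 1 else 0
  have key : ∀ a b : F, ct σ z * pairMat (2 * m + 1) m a b = 0 := fun a b => by
    ext i j
    rw [Matrix.mul_apply, Finset.sum_eq_single (⟨2 * m, by omega⟩ : Fin (2 * m + 1))]
    · have h1 : ¬ (2 * m = 2 * (j : ℕ)) := by omega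
      have h2 : ¬ (2 * m = 2 * (j : ℕ) + 1) := by omega
      simp [ct, z, pairMat, h1, h2]
    · intro k _ hk
      have : ¬ ((k : ℕ) = 2 * m) := fun e => hk (Fin.ext e)
      simp [ct, z, this]
    · simp
  have key' : ∀ a b : F, ct σ (pairMat (2 * m + 1) m a b) * z = 0 := fun a b => by
    have h := congrArg (ct σ) (key a b)
    rwa [ct_mul, ct_ct hσ, ct_zero] at h
  refine ⟨⟨z, ?_, key' _ _, key' _ _, key _ _, key _ _⟩⟩
  ext i j
  rw [Matrix.mul_apply, Finset.sum_eq_single (⟨2 * m, by omega⟩ : Fin (2 * m + 1))]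
  · simp [ct, z, Matrix.one_apply, Subsingleton.elim i j]
  · intro k _ hk
    have : ¬ ((k : ℕ) = 2 * m) := fun e => hk (Fin.ext e)
    simp [ct, z, this]
  · simp

variable {V : Type*} [AddCommGroup V] [Module ℂ V] [FiniteDimensional ℂ V]

theorem min_degree_su_even (hF : Fintype.card F = q ^ 2) (hn : 4 ≤ n) (heven : Even n)
    (ρ : Representation ℂ (Cfsg.SU n F q) V) (hirr : ρ.IsIrreducible) (hdim : 2 ≤ finrank ℂ V) :
    q ^ n - 1 ≤ (q + 1) * finrank ℂ V := by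
  obtain ⟨m, rfl⟩ := heven
  obtain ⟨W, -⟩ := exists_witt (σ := CfsgLib.Classical.qFrob hF) (n := m + m) (m := m) hF
    (CfsgLib.Classical.qFrob_apply hF) (by omega)
  rw [← two_mul]
  exact (min_degree_su hF (by omega) (fun h => by omega)
    (CfsgLib.Classical.qFrob_apply hF) W (.inl (by omega)) ρ hirr hdim).1

theorem min_degree_su_odd (hF : Fintype.card F = q ^ 2) (hn : 3 ≤ n) (hodd : Odd n)
    (h32 : ¬ (n = 3 ∧ q = 2))
    (ρ : Representation ℂ (Cfsg.SU n F q) V) (hirr : ρ.IsIrreducible) (hdim : 2 ≤ finrank ℂ V) :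
    q ^ n - q ≤ (q + 1) * finrank ℂ V := by
  obtain ⟨m, rfl⟩ := hodd
  obtain ⟨W, hX⟩ := exists_witt (σ := CfsgLib.Classical.qFrob hF) (n := 2 * m + 1) (m := m) hF
    (CfsgLib.Classical.qFrob_apply hF) (by omega)
  have h := (min_degree_su hF hn h32 (CfsgLib.Classical.qFrob_apply hF) W
    (.inr ⟨by omega, hX rfl⟩) ρ hirr hdim).2 (hX rfl)
  rwa [Nat.mul_sub, mul_one, ← pow_succ'] at h

end CfsgLib.Classical.UMinDeg
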