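import Mathlib
import Cfsg.Prelude.Def_Classical

/-! Field isomorphisms induce isomorphisms of the unitary groups. -/

set_option autoImplicit false

namespace CfsgLib.Classical

variable {F K : Type*} [Field F] [Field K] (e : F ≃+* K) (n q : ℕ)

theorem su_map_mem {A : Matrix.SpecialLinearGroup (Fin n) F} (hA : A ∈ Cfsg.SU n F q) :
    Matrix.SpecialLinearGroup.map (e : F →+* K) A ∈ Cfsg.SU n K q := by
  intro u v
  have h := hA (fun i => e.symm (u i)) (fun i => e.symm (v i))
  have hm : ∀ w : Fin n → K,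
      ((A.1 : Matrix (Fin n) (Fin n) F).map e).mulVec w =
        fun i => e ((A.1 : Matrix (Fin n) (Fin n) F).mulVec (fun j => e.symm (w j)) i) := by
    intro w
    funext i
    simp [Matrix.mulVec, dotProduct, map_sum]
  have hh : ∀ x y : Fin n → F, e (Cfsg.hermForm n F q x y) =
      Cfsg.hermForm n K q (fun i => e (x i)) (fun i => e (y i)) := by
    intro x y
    simp [Cfsg.hermForm, map_sum]
  show Cfsg.hermForm n K q (((A.1 : Matrix (Fin n) (Fin n) F).map e).mulVec u)
    (((A.1 : Matrix (Fin n) (Fin n) F).map e).mulVec v) = Cfsg.hermForm n K q u v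
  rw [hm, hm, ← hh]
  refine (congrArg e h).trans ?_
  rw [hh]
  simp

/-- `SU n F q` over isomorphic fields. -/
noncomputable def suFieldEquiv (e : F ≃+* K) (n q : ℕ) : Cfsg.SU n F q ≃* Cfsg.SU n K q where
  toFun A := ⟨Matrix.SpecialLinearGroup.map (e : F →+* K) A.1, su_map_mem e n q A.2⟩
  invFun A := ⟨Matrix.SpecialLinearGroup.map (e.symm : K →+* F) A.1, su_map_mem e.symm n q A.2⟩
  left_inv A := by
    refine Subtype.ext (Subtype.ext ?_)
    ext i j
    exact e.symm_apply_apply _
  right_inv A := by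
    refine Subtype.ext (Subtype.ext ?_)
    ext i j
    exact e.apply_symm_apply _
  map_mul' A B := Subtype.ext (map_mul _ _ _)

theorem nonempty_psu_fieldEquiv (e : F ≃+* K) (n q : ℕ) : Nonempty (Cfsg.PSU n F q ≃* Cfsg.PSU n K q) :=
  ⟨QuotientGroup.congr _ _ (suFieldEquiv e n q) (by
    ext x
    simp only [Subgroup.mem_map, Subgroup.mem_center_iff]
    constructor
    · rintro ⟨y, hy, rfl⟩ g
      obtain ⟨g, rfl⟩ := (suFieldEquiv e n q).surjective g
      exact (map_mul _ g y).symm.trans ((congrArg _ (hy g)).trans (map_mul _ y g))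
    · intro hx
      obtain ⟨y, rfl⟩ := (suFieldEquiv e n q).surjective x
      exact ⟨y, fun g => (suFieldEquiv e n q).injective (by rw [map_mul, map_mul, hx]), rfl⟩)⟩

end CfsgLib.Classical
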